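import Mathlib

/-!
Sizes of conjugacy classes.
-/

namespace Cfsg.Agent.Helper24

universe u

variable {G : Type u} [Group G]

theorem index_centralizer_eq_card_conj (h : G) :
    (Subgroup.centralizer ({h} : Set G)).index = Nat.card {x : G // IsConj h x} := by
  have h1 : (Subgroup.centralizer ({h} : Set G)).index
      = (MulAction.stabilizer (ConjAct G) h).index := by
    have := Subgroup.index_comap_of_surjective (MulAction.stabilizer (ConjAct G) h)
      (f := (ConjAct.toConjAct (G := G)).toMonoidHom) (ConjAct.toConjAct (G := G)).surjective
    rw [← this]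
    congr 1
    exact Subgroup.centralizer_eq_comap_stabilizer h
  rw [h1, MulAction.index_stabilizer, ← Nat.card_coe_set_eq]
  refine Nat.card_congr (Equiv.subtypeEquivRight ?_)
  intro x
  rw [ConjAct.mem_orbit_conjAct, isConj_comm]

theorem card_conj_mul_card_centralizer (h : G) :
    Nat.card {x : G // IsConj h x} * Nat.card (Subgroup.centralizer ({h} : Set G)) = Nat.card G := by
  rw [← index_centralizer_eq_card_conj]
  exact Subgroup.index_mul_card _

theorem card_conj_eq_of_isConj {g h : G} (hc : IsConj g h) :
    Nat.card {x : G // IsConj g x} = Nat.card {x : G // IsConj h x} := by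
  refine Nat.card_congr (Equiv.subtypeEquivRight ?_)
  intro x
  constructor
  · intro hx; exact hc.symm.trans hx
  · intro hx; exact hc.trans hx

theorem card_centralizer_eq_of_isConj [Finite G] {g h : G} (hc : IsConj g h) :
    Nat.card (Subgroup.centralizer ({g} : Set G)) = Nat.card (Subgroup.centralizer ({h} : Set G)) := by
  have h1 := card_conj_mul_card_centralizer g
  have h2 := card_conj_mul_card_centralizer h
  rw [card_conj_eq_of_isConj hc, ← h2] at h1
  have hpos : 0 < Nat.card {x : G // IsConj h x} := by
    haveI : Nonempty {x : G // IsConj h x} := ⟨⟨h, IsConj.refl h⟩⟩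
    exact Nat.card_pos
  exact Nat.eq_of_mul_eq_mul_left hpos h1

theorem index_centralizer_eq_of_isConj {g h : G} (hc : IsConj g h) :
    (Subgroup.centralizer ({g} : Set G)).index = (Subgroup.centralizer ({h} : Set G)).index := by
  rw [index_centralizer_eq_card_conj, index_centralizer_eq_card_conj, card_conj_eq_of_isConj hc]

/-- Summing a function over a conjugacy class, in filter form. -/
theorem card_filter_isConj [Fintype G] [DecidableEq G] (h : G) [DecidablePred (fun x => IsConj h x)] :
    (Finset.univ.filter (fun x => IsConj h x)).card = Nat.card {x : G // IsConj h x} := by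
  rw [Nat.card_eq_fintype_card, Fintype.card_subtype]

end Cfsg.Agent.Helper24
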