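import Mathlib

/-!
Endomorphisms of finite order of a finite-dimensional complex vector space:
diagonalisability and consequences for traces.
-/

namespace Cfsg.Agent.Helper24

open Module

universe v

variable {V : Type v} [AddCommGroup V] [Module ℂ V] [FiniteDimensional ℂ V]

/-- The finite set of eigenvalues (those with nonzero eigenspace). -/
noncomputable def eigenFinset (f : Module.End ℂ V) : Finset ℂ :=
  (WellFoundedGT.finite_ne_bot_of_iSupIndep f.eigenspaces_iSupIndep).toFinset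

theorem mem_eigenFinset {f : Module.End ℂ V} {μ : ℂ} :
    μ ∈ eigenFinset f ↔ f.eigenspace μ ≠ ⊥ := by
  simp [eigenFinset]

/-- If `V` is the sum of the eigenspaces of `f` and `h` acts on the `μ`-eigenspace of `f` as the
scalar `φ μ`, then the trace of `h` is `∑ φ μ * dim (eigenspace f μ)`. -/
theorem trace_eq_sum_of_eigen (f h : Module.End ℂ V) (hf : ⨆ μ, f.eigenspace μ = ⊤) (φ : ℂ → ℂ)
    (hh : ∀ μ, ∀ v ∈ f.eigenspace μ, h v = φ μ • v) :
    LinearMap.trace ℂ V h =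
      ∑ μ ∈ eigenFinset f, φ μ * (Module.finrank ℂ (f.eigenspace μ) : ℂ) := by
  classical
  have hint : DirectSum.IsInternal f.eigenspace :=
    DirectSum.isInternal_submodule_of_iSupIndep_of_iSup_eq_top f.eigenspaces_iSupIndep hf
  have hmaps : ∀ μ, Set.MapsTo h (f.eigenspace μ) (f.eigenspace μ) := by
    intro μ v hv
    have : h v = φ μ • v := hh μ v hv
    simp only [SetLike.mem_coe] at hv ⊢
    rw [this]
    exact Submodule.smul_mem _ _ hv
  rw [LinearMap.trace_eq_sum_trace_restrict' hint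
    (WellFoundedGT.finite_ne_bot_of_iSupIndep f.eigenspaces_iSupIndep) hmaps]
  refine Finset.sum_congr rfl ?_
  intro μ _
  have : h.restrict (hmaps μ) = φ μ • (LinearMap.id : f.eigenspace μ →ₗ[ℂ] f.eigenspace μ) := by
    ext ⟨v, hv⟩
    show h v = φ μ • v
    exact hh μ v hv
  rw [this, map_smul, LinearMap.trace_id, smul_eq_mul]

theorem sum_finrank_eigenspace (f : Module.End ℂ V) (hf : ⨆ μ, f.eigenspace μ = ⊤) :
    (Module.finrank ℂ V : ℂ) = ∑ μ ∈ eigenFinset f, (Module.finrank ℂ (f.eigenspace μ) : ℂ) := by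
  have := trace_eq_sum_of_eigen f LinearMap.id hf (fun _ => 1) (by intro μ v _; simp)
  rw [LinearMap.trace_id] at this
  simpa using this

/-- An endomorphism with `f ^ n = 1`, `0 < n`, is diagonalisable. -/
theorem iSup_eigenspace_eq_top_of_pow_eq_one (f : Module.End ℂ V) {n : ℕ} (hn : 0 < n)
    (hfn : f ^ n = 1) : ⨆ μ, f.eigenspace μ = ⊤ := by
  have hsep : (Polynomial.X ^ n - Polynomial.C (1 : ℂ)).Separable :=
    Polynomial.separable_X_pow_sub_C 1 (by exact_mod_cast hn.ne') one_ne_zero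
  have hss : f.IsSemisimple := by
    refine Module.End.isSemisimple_of_squarefree_aeval_eq_zero hsep.squarefree ?_
    simp [hfn]
  exact hss.iSup_eigenspace_eq_top

omit [FiniteDimensional ℂ V] in
theorem eigenvalue_pow_eq_one (f : Module.End ℂ V) {n : ℕ} (hfn : f ^ n = 1) {μ : ℂ}
    (hμ : f.eigenspace μ ≠ ⊥) : μ ^ n = 1 := by
  obtain ⟨v, hv, hv0⟩ := Submodule.exists_mem_ne_zero_of_ne_bot hμ
  rw [Module.End.mem_eigenspace_iff] at hv
  have h1 : (f ^ n) v = μ ^ n • v := by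
    clear hfn
    induction n with
    | zero => simp
    | succ k ih => rw [pow_succ', Module.End.mul_apply, ih, map_smul, hv, smul_smul, pow_succ]
  rw [hfn, Module.End.one_apply] at h1
  have : (μ ^ n - 1) • v = 0 := by rw [sub_smul, one_smul, ← h1, sub_self]
  rcases smul_eq_zero.mp this with h | h
  · exact sub_eq_zero.mp h
  · exact absurd h hv0

theorem norm_eq_one_of_pow_eq_one {μ : ℂ} {n : ℕ} (hn : 0 < n) (h : μ ^ n = 1) : ‖μ‖ = 1 :=
  Complex.norm_eq_one_of_pow_eq_one h hn.ne'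

theorem inv_eq_conj_of_norm_eq_one {μ : ℂ} (h : ‖μ‖ = 1) : μ⁻¹ = (starRingEnd ℂ) μ :=
  Complex.inv_eq_conj h

/-- Equality case of the triangle inequality for a weighted sum of unit complex numbers. -/
theorem eq_of_norm_sum_eq (S : Finset ℂ) (d : ℂ → ℕ) (hd : ∀ μ ∈ S, 0 < d μ)
    (hS : ∀ μ ∈ S, ‖μ‖ = 1)
    (h : ‖∑ μ ∈ S, μ * (d μ : ℂ)‖ = ∑ μ ∈ S, (d μ : ℝ)) :
    ∀ μ ∈ S, ∀ ν ∈ S, μ = ν := by
  set z := ∑ μ ∈ S, μ * (d μ : ℂ) with hz
  by_cases hS0 : S = ∅
  · intro μ hμ; simp [hS0] at hμ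
  have hpos : 0 < ∑ μ ∈ S, (d μ : ℝ) := by
    obtain ⟨μ₀, hμ₀⟩ := Finset.nonempty_iff_ne_empty.mpr hS0
    refine Finset.sum_pos ?_ ⟨μ₀, hμ₀⟩
    intro μ hμ
    exact_mod_cast hd μ hμ
  have hz0 : ‖z‖ ≠ 0 := by rw [h]; exact hpos.ne'
  have hzne : z ≠ 0 := by
    intro h0; rw [h0, norm_zero] at hz0; exact hz0 rfl
  set u : ℂ := z / (‖z‖ : ℂ) with hu
  have hunorm : ‖u‖ = 1 := by
    rw [hu, norm_div, Complex.norm_real, norm_norm, div_self hz0]
  -- key: each μ ∈ S equals u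
  suffices key : ∀ μ ∈ S, μ = u by
    intro μ hμ ν hν
    rw [key μ hμ, key ν hν]
  have hre_le : ∀ μ ∈ S, ((starRingEnd ℂ) u * μ).re ≤ 1 := by
    intro μ hμ
    calc ((starRingEnd ℂ) u * μ).re ≤ ‖(starRingEnd ℂ) u * μ‖ := Complex.re_le_norm _
      _ = 1 := by rw [norm_mul, Complex.norm_conj, hunorm, hS μ hμ, one_mul]
  have hsum : ∑ μ ∈ S, (d μ : ℝ) * ((starRingEnd ℂ) u * μ).re = ∑ μ ∈ S, (d μ : ℝ) := by
    have h1 : ∑ μ ∈ S, (d μ : ℝ) * ((starRingEnd ℂ) u * μ).re = ((starRingEnd ℂ) u * z).re := by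
      rw [hz, Finset.mul_sum, Complex.re_sum]
      refine Finset.sum_congr rfl ?_
      intro μ _
      have : (starRingEnd ℂ) u * (μ * (d μ : ℂ)) = ((d μ : ℝ) : ℂ) * ((starRingEnd ℂ) u * μ) := by
        push_cast; ring
      rw [this, Complex.re_ofReal_mul]
    rw [h1, ← h]
    have : (starRingEnd ℂ) u * z = ((‖z‖ : ℝ) : ℂ) := by
      rw [hu, map_div₀, Complex.conj_ofReal, div_mul_eq_mul_div, Complex.conj_mul',
        div_eq_iff (by exact_mod_cast hz0)]
      ring
    rw [this, Complex.ofReal_re]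
  intro μ hμ
  have hterm : (d μ : ℝ) * (1 - ((starRingEnd ℂ) u * μ).re) = 0 := by
    have hnonneg : ∀ ν ∈ S, 0 ≤ (d ν : ℝ) * (1 - ((starRingEnd ℂ) u * ν).re) := by
      intro ν hν
      exact mul_nonneg (Nat.cast_nonneg _) (sub_nonneg.mpr (hre_le ν hν))
    have hsum0 : ∑ ν ∈ S, (d ν : ℝ) * (1 - ((starRingEnd ℂ) u * ν).re) = 0 := by
      simp_rw [mul_sub, mul_one]
      rw [Finset.sum_sub_distrib, hsum, sub_self]
    exact (Finset.sum_eq_zero_iff_of_nonneg hnonneg).mp hsum0 μ hμ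
  have hre1 : ((starRingEnd ℂ) u * μ).re = 1 := by
    have hdpos : (0 : ℝ) < d μ := by exact_mod_cast hd μ hμ
    rcases mul_eq_zero.mp hterm with h0 | h0
    · exact absurd h0 hdpos.ne'
    · linarith
  have hw : (starRingEnd ℂ) u * μ = 1 := by
    set w := (starRingEnd ℂ) u * μ with hwdef
    have hwn : ‖w‖ = 1 := by rw [hwdef, norm_mul, Complex.norm_conj, hunorm, hS μ hμ, one_mul]
    have hsq : w.re ^ 2 + w.im ^ 2 = 1 := by
      have := Complex.sq_norm w
      rw [hwn, Complex.normSq_apply] at this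
      nlinarith [this]
    have him : w.im = 0 := by
      rw [hre1] at hsq
      nlinarith [hsq]
    apply Complex.ext
    · simpa using hre1
    · simpa using him
  have huu : u * (starRingEnd ℂ) u = 1 := by
    rw [Complex.mul_conj, Complex.normSq_eq_norm_sq, hunorm]; simp
  calc μ = (u * (starRingEnd ℂ) u) * μ := by rw [huu, one_mul]
    _ = u * ((starRingEnd ℂ) u * μ) := by ring
    _ = u := by rw [hw, mul_one]

end Cfsg.Agent.Helper24
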