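import Mathlib
import Cfsg.Agent.Helper24.Eigen

/-!
Values of characters of finite groups: conjugation, bounds, integrality.
-/

namespace Cfsg.Agent.Helper24

open Module Representation

universe u v

variable {G : Type u} [Group G] [Finite G]
variable {V : Type v} [AddCommGroup V] [Module ℂ V] [FiniteDimensional ℂ V]

omit [FiniteDimensional ℂ V] [Finite G] in
theorem rho_pow_orderOf (ρ : Representation ℂ G V) (g : G) : (ρ g) ^ (orderOf g) = 1 := by
  rw [← map_pow, pow_orderOf_eq_one, map_one]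

theorem rho_iSup_eigenspace (ρ : Representation ℂ G V) (g : G) :
    ⨆ μ, Module.End.eigenspace (ρ g) μ = ⊤ :=
  iSup_eigenspace_eq_top_of_pow_eq_one (ρ g) (orderOf_pos g) (rho_pow_orderOf ρ g)

omit [FiniteDimensional ℂ V] in
theorem rho_eigenvalue_pow (ρ : Representation ℂ G V) (g : G) {μ : ℂ}
    (hμ : Module.End.eigenspace (ρ g) μ ≠ ⊥) : μ ^ orderOf g = 1 :=
  eigenvalue_pow_eq_one (ρ g) (rho_pow_orderOf ρ g) hμ

omit [FiniteDimensional ℂ V] in
theorem rho_eigenvalue_norm (ρ : Representation ℂ G V) (g : G) {μ : ℂ}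
    (hμ : Module.End.eigenspace (ρ g) μ ≠ ⊥) : ‖μ‖ = 1 :=
  norm_eq_one_of_pow_eq_one (orderOf_pos g) (rho_eigenvalue_pow ρ g hμ)

/-- The character value as a sum over eigenvalues. -/
theorem char_eq_sum_eigen (ρ : Representation ℂ G V) (g : G) :
    ρ.character g =
      ∑ μ ∈ eigenFinset (ρ g), μ * (Module.finrank ℂ (Module.End.eigenspace (ρ g) μ) : ℂ) :=
  trace_eq_sum_of_eigen (ρ g) (ρ g) (rho_iSup_eigenspace ρ g) id
    (fun _ _ hv => Module.End.mem_eigenspace_iff.mp hv)

theorem finrank_eq_sum_eigen (ρ : Representation ℂ G V) (g : G) :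
    (Module.finrank ℂ V : ℂ) =
      ∑ μ ∈ eigenFinset (ρ g), (Module.finrank ℂ (Module.End.eigenspace (ρ g) μ) : ℂ) :=
  sum_finrank_eigenspace (ρ g) (rho_iSup_eigenspace ρ g)

/-- `χ(g⁻¹)` is the complex conjugate of `χ(g)`. -/
theorem char_inv (ρ : Representation ℂ G V) (g : G) :
    ρ.character g⁻¹ = (starRingEnd ℂ) (ρ.character g) := by
  have h1 : ρ.character g⁻¹ =
      ∑ μ ∈ eigenFinset (ρ g), μ⁻¹ * (Module.finrank ℂ (Module.End.eigenspace (ρ g) μ) : ℂ) := by
    refine trace_eq_sum_of_eigen (ρ g) (ρ g⁻¹) (rho_iSup_eigenspace ρ g) (fun μ => μ⁻¹) ?_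
    intro μ v hv
    by_cases hv0 : v = 0
    · simp [hv0]
    have hne : Module.End.eigenspace (ρ g) μ ≠ ⊥ := by
      intro h
      rw [h] at hv
      exact hv0 ((Submodule.mem_bot ℂ).mp hv)
    have hμ : μ ≠ 0 := by
      intro h0
      have := rho_eigenvalue_norm ρ g hne
      rw [h0, norm_zero] at this
      exact zero_ne_one this
    rw [Module.End.mem_eigenspace_iff] at hv
    have : ρ g⁻¹ (ρ g v) = v := by
      rw [← Module.End.mul_apply, ← map_mul, inv_mul_cancel, map_one, Module.End.one_apply]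
    rw [hv, map_smul] at this
    calc ρ g⁻¹ v = μ⁻¹ • (μ • ρ g⁻¹ v) := by rw [smul_smul, inv_mul_cancel₀ hμ, one_smul]
      _ = μ⁻¹ • v := by rw [this]
  rw [h1, char_eq_sum_eigen ρ g, map_sum]
  refine Finset.sum_congr rfl ?_
  intro μ hμ
  rw [map_mul, Complex.conj_natCast,
    inv_eq_conj_of_norm_eq_one (rho_eigenvalue_norm ρ g (mem_eigenFinset.mp hμ))]

/-- A character value has norm at most the degree. -/
theorem norm_char_le (ρ : Representation ℂ G V) (g : G) :
    ‖ρ.character g‖ ≤ (Module.finrank ℂ V : ℝ) := by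
  have h2 := finrank_eq_sum_eigen ρ g
  have h3 : (Module.finrank ℂ V : ℝ) =
      ∑ μ ∈ eigenFinset (ρ g), (Module.finrank ℂ (Module.End.eigenspace (ρ g) μ) : ℝ) := by
    have := congrArg Complex.re h2
    simpa using this
  rw [char_eq_sum_eigen ρ g, h3]
  refine (norm_sum_le _ _).trans (Finset.sum_le_sum ?_)
  intro μ hμ
  rw [norm_mul, rho_eigenvalue_norm ρ g (mem_eigenFinset.mp hμ), one_mul, Complex.norm_natCast]

/-- Character values are algebraic integers. -/
theorem char_isIntegral (ρ : Representation ℂ G V) (g : G) : IsIntegral ℤ (ρ.character g) := by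
  rw [char_eq_sum_eigen ρ g]
  refine IsIntegral.sum _ ?_
  intro μ hμ
  refine IsIntegral.mul ?_ (isIntegral_algebraMap (R := ℤ) (A := ℂ) (x := (Module.finrank ℂ (Module.End.eigenspace (ρ g) μ) : ℤ)) |> fun h => by simpa using h)
  exact IsIntegral.of_pow (orderOf_pos g) (by
    rw [rho_eigenvalue_pow ρ g (mem_eigenFinset.mp hμ)]
    exact isIntegral_one)


omit [Finite G] in
theorem scalar_of_forall_eigen (f : Module.End ℂ V) (hf : ⨆ μ, f.eigenspace μ = ⊤) (u : ℂ)
    (h : ∀ μ, f.eigenspace μ ≠ ⊥ → μ = u) : f = u • LinearMap.id := by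
  have htop : f.eigenspace u = ⊤ := by
    rw [eq_top_iff, ← hf]
    refine iSup_le ?_
    intro μ
    by_cases hμ : f.eigenspace μ = ⊥
    · rw [hμ]; exact bot_le
    · rw [h μ hμ]
  ext v
  have : v ∈ f.eigenspace u := by rw [htop]; trivial
  simpa using Module.End.mem_eigenspace_iff.mp this

/-- `‖χ(g)‖ = χ(1)` exactly when `g` acts as a scalar. -/
theorem norm_char_eq_iff (ρ : Representation ℂ G V) (g : G) :
    ‖ρ.character g‖ = (Module.finrank ℂ V : ℝ) ↔ ∃ ω : ℂ, ρ g = ω • (LinearMap.id : V →ₗ[ℂ] V) := by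
  constructor
  · intro h
    by_cases hV : Module.finrank ℂ V = 0
    · haveI : Subsingleton V := Module.finrank_zero_iff.mp hV
      exact ⟨0, by ext v; exact Subsingleton.elim _ _⟩
    have h3 : (Module.finrank ℂ V : ℝ) =
        ∑ μ ∈ eigenFinset (ρ g), (Module.finrank ℂ (Module.End.eigenspace (ρ g) μ) : ℝ) := by
      have := congrArg Complex.re (finrank_eq_sum_eigen ρ g)
      simpa using this
    rw [char_eq_sum_eigen ρ g, h3] at h
    have hall := eq_of_norm_sum_eq (eigenFinset (ρ g))
      (fun μ => Module.finrank ℂ (Module.End.eigenspace (ρ g) μ))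
      (fun μ hμ => Module.finrank_pos_iff.mpr
        ((Submodule.nontrivial_iff_ne_bot).mpr (mem_eigenFinset.mp hμ)))
      (fun μ hμ => rho_eigenvalue_norm ρ g (mem_eigenFinset.mp hμ)) h
    have hne : (eigenFinset (ρ g)).Nonempty := by
      by_contra hemp
      rw [Finset.not_nonempty_iff_eq_empty] at hemp
      rw [hemp, Finset.sum_empty] at h3
      exact hV (by exact_mod_cast h3)
    obtain ⟨u, hu⟩ := hne
    refine ⟨u, scalar_of_forall_eigen (ρ g) (rho_iSup_eigenspace ρ g) u ?_⟩
    intro μ hμ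
    exact hall μ (mem_eigenFinset.mpr hμ) u hu
  · rintro ⟨ω, hω⟩
    by_cases hV : Module.finrank ℂ V = 0
    · have hle := norm_char_le ρ g
      rw [hV] at hle ⊢
      exact le_antisymm hle (by simpa using norm_nonneg _)
    have hVn : Nontrivial V := Module.nontrivial_of_finrank_pos (Nat.pos_of_ne_zero hV)
    obtain ⟨v, hv⟩ := exists_ne (0 : V)
    have hev : Module.End.eigenspace (ρ g) ω ≠ ⊥ := by
      intro hbot
      have : v ∈ Module.End.eigenspace (ρ g) ω := by
        rw [Module.End.mem_eigenspace_iff, hω]; simp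
      rw [hbot] at this
      exact hv ((Submodule.mem_bot ℂ).mp this)
    have hnorm := rho_eigenvalue_norm ρ g hev
    have : ρ.character g = ω * (Module.finrank ℂ V : ℂ) := by
      unfold Representation.character
      rw [hω, map_smul, LinearMap.trace_id, smul_eq_mul]
    rw [this, norm_mul, hnorm, one_mul, Complex.norm_natCast]

/-- `χ(g) = χ(1)` exactly when `g` acts trivially. -/
theorem char_eq_finrank_iff (ρ : Representation ℂ G V) (g : G) :
    ρ.character g = (Module.finrank ℂ V : ℂ) ↔ ρ g = LinearMap.id := by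
  constructor
  · intro h
    have hn : ‖ρ.character g‖ = (Module.finrank ℂ V : ℝ) := by
      rw [h, Complex.norm_natCast]
    obtain ⟨ω, hω⟩ := (norm_char_eq_iff ρ g).mp hn
    by_cases hV : Module.finrank ℂ V = 0
    · haveI : Subsingleton V := Module.finrank_zero_iff.mp hV
      ext v; exact Subsingleton.elim _ _
    have : ρ.character g = ω * (Module.finrank ℂ V : ℂ) := by
      unfold Representation.character
      rw [hω, map_smul, LinearMap.trace_id, smul_eq_mul]
    rw [this] at h
    have hne : (Module.finrank ℂ V : ℂ) ≠ 0 := by exact_mod_cast hV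
    have hω1 : ω = 1 := by
      have := mul_right_cancel₀ hne (h.trans (one_mul _).symm)
      exact this
    rw [hω, hω1, one_smul]
  · intro h
    unfold Representation.character
    rw [h, LinearMap.trace_id]

end Cfsg.Agent.Helper24
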