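import Mathlib
import Cfsg.Prelude.Def_Characters

/-!
Basic glue between Mathlib representations and the `Cfsg` character vocabulary.
-/

namespace Cfsg.Agent.Helper24

open Representation

universe u v w

section Transport

variable {k : Type*} [Field k] {G : Type u} [Monoid G]
  {V : Type v} {W : Type w} [AddCommGroup V] [Module k V] [AddCommGroup W] [Module k W]

/-- Transport a representation along a linear equivalence. -/
def repConj (ρ : Representation k G V) (e : V ≃ₗ[k] W) : Representation k G W where
  toFun g := e.conj (ρ g)
  map_one' := by
    ext w
    simp [LinearEquiv.conj_apply]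
  map_mul' g h := by
    ext w
    simp [LinearEquiv.conj_apply]

@[simp] theorem repConj_apply (ρ : Representation k G V) (e : V ≃ₗ[k] W) (g : G) :
    repConj ρ e g = e.conj (ρ g) := rfl

/-- The transported representation is equivalent to the original one. -/
def repConjEquiv (ρ : Representation k G V) (e : V ≃ₗ[k] W) : ρ.Equiv (repConj ρ e) :=
  Representation.Equiv.mk e (by
    intro g
    ext v
    simp [LinearEquiv.conj_apply])

theorem isIrreducible_of_equiv {ρ : Representation k G V} {σ : Representation k G W}
    (φ : ρ.Equiv σ) (h : ρ.IsIrreducible) : σ.IsIrreducible := by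
  rw [irreducible_iff_isSimpleModule_asModule] at h ⊢
  refine (LinearMap.isSimpleModule_iff_of_bijective
    (IntertwiningMap.equivLinearMapAsModule ρ σ φ.toIntertwiningMap) ?_).mp h
  exact φ.toLinearEquiv.bijective

theorem isIrreducible_repConj (ρ : Representation k G V) (e : V ≃ₗ[k] W) (h : ρ.IsIrreducible) :
    (repConj ρ e).IsIrreducible :=
  isIrreducible_of_equiv (repConjEquiv ρ e) h

theorem character_repConj [FiniteDimensional k V] (ρ : Representation k G V) (e : V ≃ₗ[k] W) :
    (repConj ρ e).character = ρ.character :=
  (char_iso (repConjEquiv ρ e)).symm

end Transport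

section ToFin

variable {G : Type u} [Group G] {V : Type v} [AddCommGroup V] [Module ℂ V] [FiniteDimensional ℂ V]

/-- A finite-dimensional complex representation, moved to a coordinate space. -/
noncomputable def repFin (ρ : Representation ℂ G V) :
    Representation ℂ G (Fin (Module.finrank ℂ V) → ℂ) :=
  repConj ρ (Module.finBasis ℂ V).equivFun

theorem character_repFin (ρ : Representation ℂ G V) : (repFin ρ).character = ρ.character :=
  character_repConj ρ _

/-- The character of any finite-dimensional complex representation is a character. -/
theorem isCharacter_character (ρ : Representation ℂ G V) : IsCharacter G ρ.character :=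
  ⟨_, repFin ρ, character_repFin ρ⟩

/-- The character of an irreducible finite-dimensional complex representation is an
irreducible character. -/
theorem isIrrCharacter_character (ρ : Representation ℂ G V) (h : ρ.IsIrreducible) :
    IsIrrCharacter G ρ.character :=
  ⟨_, repFin ρ, isIrreducible_repConj ρ _ h, character_repFin ρ⟩

theorem IsIrrCharacter.isCharacter {χ : G → ℂ} (h : IsIrrCharacter G χ) : IsCharacter G χ := by
  obtain ⟨n, ρ, _, rfl⟩ := h
  exact ⟨n, ρ, rfl⟩

theorem IsCharacter.isClassFunction {χ : G → ℂ} (h : IsCharacter G χ) : IsClassFunction G χ := by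
  obtain ⟨n, ρ, rfl⟩ := h
  intro g x
  exact char_conj ρ g x

end ToFin

end Cfsg.Agent.Helper24
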