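import Mathlib
import Cfsg.Prelude.Def_Characters
import Cfsg.Agent.Helper24.Rep
import Cfsg.Agent.Helper24.CharBasic

/-!
First orthogonality relation for irreducible characters, phrased with `Cfsg.classInner`.
-/

namespace Cfsg.Agent.Helper24

open Representation

universe u v w

section ClassInner

variable {G : Type u} [Group G] [Fintype G]

theorem classInner_add_left (φ₁ φ₂ ψ : G → ℂ) :
    classInner (φ₁ + φ₂) ψ = classInner φ₁ ψ + classInner φ₂ ψ := by
  simp [classInner, add_mul, Finset.sum_add_distrib, mul_add]

theorem classInner_add_right (φ ψ₁ ψ₂ : G → ℂ) :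
    classInner φ (ψ₁ + ψ₂) = classInner φ ψ₁ + classInner φ ψ₂ := by
  simp [classInner, mul_add, Finset.sum_add_distrib]

theorem classInner_smul_left (c : ℂ) (φ ψ : G → ℂ) :
    classInner (c • φ) ψ = c * classInner φ ψ := by
  simp only [classInner, Pi.smul_apply, smul_eq_mul, Finset.mul_sum]
  refine Finset.sum_congr rfl ?_
  intro g _
  ring

theorem classInner_smul_right (c : ℂ) (φ ψ : G → ℂ) :
    classInner φ (c • ψ) = (starRingEnd ℂ) c * classInner φ ψ := by
  simp only [classInner, Pi.smul_apply, smul_eq_mul, Finset.mul_sum, map_mul]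
  refine Finset.sum_congr rfl ?_
  intro g _
  ring

theorem classInner_zero_left (ψ : G → ℂ) : classInner (0 : G → ℂ) ψ = 0 := by
  simp [classInner]

theorem classInner_zero_right (φ : G → ℂ) : classInner φ (0 : G → ℂ) = 0 := by
  simp [classInner]

theorem classInner_neg_left (φ ψ : G → ℂ) : classInner (-φ) ψ = - classInner φ ψ := by
  simp [classInner, Finset.sum_neg_distrib]

theorem classInner_sub_left (φ₁ φ₂ ψ : G → ℂ) :
    classInner (φ₁ - φ₂) ψ = classInner φ₁ ψ - classInner φ₂ ψ := by
  rw [sub_eq_add_neg, classInner_add_left, classInner_neg_left, ← sub_eq_add_neg]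

theorem classInner_neg_right (φ ψ : G → ℂ) : classInner φ (-ψ) = - classInner φ ψ := by
  simp [classInner, Finset.sum_neg_distrib]

theorem classInner_sub_right (φ ψ₁ ψ₂ : G → ℂ) :
    classInner φ (ψ₁ - ψ₂) = classInner φ ψ₁ - classInner φ ψ₂ := by
  rw [sub_eq_add_neg, classInner_add_right, classInner_neg_right, ← sub_eq_add_neg]

theorem classInner_sum_left {ι : Type*} (s : Finset ι) (φ : ι → G → ℂ) (ψ : G → ℂ) :
    classInner (∑ i ∈ s, φ i) ψ = ∑ i ∈ s, classInner (φ i) ψ := by
  classical
  induction s using Finset.induction_on with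
  | empty => simp [classInner_zero_left]
  | insert a s ha ih => rw [Finset.sum_insert ha, Finset.sum_insert ha, classInner_add_left, ih]

theorem classInner_sum_right {ι : Type*} (s : Finset ι) (φ : G → ℂ) (ψ : ι → G → ℂ) :
    classInner φ (∑ i ∈ s, ψ i) = ∑ i ∈ s, classInner φ (ψ i) := by
  classical
  induction s using Finset.induction_on with
  | empty => simp [classInner_zero_right]
  | insert a s ha ih => rw [Finset.sum_insert ha, Finset.sum_insert ha, classInner_add_right, ih]

theorem classInner_conj_symm (φ ψ : G → ℂ) :
    (starRingEnd ℂ) (classInner φ ψ) = classInner ψ φ := by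
  simp only [classInner, map_mul, map_inv₀, Complex.conj_natCast, map_sum, Complex.conj_conj]
  congr 1
  refine Finset.sum_congr rfl ?_
  intro g _
  ring

end ClassInner

section Orthogonality

variable {G : Type u} [Group G] [Fintype G]
variable {V : Type v} [AddCommGroup V] [Module ℂ V] [FiniteDimensional ℂ V]
variable {W : Type w} [AddCommGroup W] [Module ℂ W] [FiniteDimensional ℂ W]

theorem card_ne_zero_complex : (Nat.card G : ℂ) ≠ 0 := by
  have : 0 < Nat.card G := Nat.card_pos
  exact_mod_cast this.ne'

open scoped Classical in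
/-- First orthogonality relation for irreducible representations. -/
theorem classInner_character_of_irreducible (ρ : Representation ℂ G V) (σ : Representation ℂ G W)
    [ρ.IsIrreducible] [σ.IsIrreducible] :
    classInner ρ.character σ.character = if Nonempty (Equiv σ ρ) then 1 else 0 := by
  haveI : Invertible (Nat.card G : ℂ) := invertibleOfNonzero card_ne_zero_complex
  have h := char_orthonormal ρ σ
  simp only [classInner]
  rw [← h]
  congr 1
  refine Finset.sum_congr rfl ?_
  intro g _
  rw [char_inv σ g]

/-- Irreducible representations with the same character are equivalent. -/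
theorem nonempty_equiv_of_character_eq (ρ : Representation ℂ G V) (σ : Representation ℂ G W)
    [ρ.IsIrreducible] [σ.IsIrreducible] (h : ρ.character = σ.character) :
    Nonempty (Equiv σ ρ) := by
  classical
  by_contra hne
  have h1 := classInner_character_of_irreducible ρ σ
  rw [if_neg hne, ← h] at h1
  have h2 := classInner_character_of_irreducible ρ ρ
  rw [if_pos ⟨Representation.Equiv.refl ρ⟩] at h2
  rw [h1] at h2
  exact zero_ne_one h2

theorem classInner_of_isIrrCharacter {χ ψ : G → ℂ} (hχ : IsIrrCharacter G χ)
    (hψ : IsIrrCharacter G ψ) [Decidable (χ = ψ)] :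
    classInner χ ψ = if χ = ψ then 1 else 0 := by
  classical
  obtain ⟨n, ρ, hρ, rfl⟩ := hχ
  obtain ⟨m, σ, hσ, rfl⟩ := hψ
  haveI := hρ
  haveI := hσ
  rw [classInner_character_of_irreducible ρ σ]
  by_cases h : ρ.character = σ.character
  · rw [if_pos (nonempty_equiv_of_character_eq ρ σ h)]
    simp [h]
  · have : ¬ Nonempty (Equiv σ ρ) := by
      rintro ⟨φ⟩
      exact h (char_iso φ).symm
    rw [if_neg this]
    simp [h]

/-- First orthogonality relation on `Cfsg.IrrCharacter`. -/
theorem classInner_irr (χ ψ : IrrCharacter G) [Decidable (χ = ψ)] :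
    classInner (χ : G → ℂ) (ψ : G → ℂ) = if χ = ψ then 1 else 0 := by
  classical
  rw [classInner_of_isIrrCharacter χ.2 ψ.2]
  by_cases h : χ = ψ
  · simp [h]
  · have : (χ : G → ℂ) ≠ ψ := fun h' => h (Subtype.ext h')
    simp [h, this]

theorem classInner_irr_self (χ : IrrCharacter G) : classInner (χ : G → ℂ) (χ : G → ℂ) = 1 := by
  classical
  rw [classInner_irr]; simp

theorem classInner_irr_ne {χ ψ : IrrCharacter G} (h : χ ≠ ψ) :
    classInner (χ : G → ℂ) (ψ : G → ℂ) = 0 := by
  classical
  rw [classInner_irr]; simp [h]

end Orthogonality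

section LinearIndependent

variable {G : Type u} [Group G] [Finite G]

/-- The irreducible characters are linearly independent. -/
theorem linearIndependent_irr : LinearIndependent ℂ (fun χ : IrrCharacter G => (χ : G → ℂ)) := by
  classical
  haveI : Fintype G := Fintype.ofFinite G
  rw [linearIndependent_iff']
  intro s c hc ψ hψ
  have h := congrArg (fun f => classInner f (ψ : G → ℂ)) hc
  simp only [classInner_sum_left, classInner_smul_left, classInner_zero_left] at h
  rw [Finset.sum_eq_single ψ] at h
  · simpa [classInner_irr_self] using h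
  · intro χ _ hne
    rw [classInner_irr_ne hne, mul_zero]
  · intro h'; exact absurd hψ h'

instance finite_irrCharacter : Finite (IrrCharacter G) := by
  haveI : Fintype G := Fintype.ofFinite G
  exact (linearIndependent_irr (G := G)).finite

end LinearIndependent

end Cfsg.Agent.Helper24
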