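import Mathlib
import Cfsg.Prelude.Def_Characters
import Cfsg.Agent.Helper24.Rep
import Cfsg.Agent.Helper24.Orthogonality

/-!
Complete reducibility at the level of characters: every character is a sum of
irreducible characters.
-/

namespace Cfsg.Agent.Helper24

open Representation Module

universe u v w

section Prod

variable {G : Type u} [Monoid G] {k : Type*} [Field k]
variable {V : Type v} [AddCommGroup V] [Module k V] [FiniteDimensional k V]
variable {W : Type w} [AddCommGroup W] [Module k W] [FiniteDimensional k W]

theorem character_prod (ρ : Representation k G V) (σ : Representation k G W) :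
    (ρ.prod σ).character = ρ.character + σ.character := by
  ext g
  simp only [Representation.character, Pi.add_apply]
  exact LinearMap.trace_prodMap' (ρ g) (σ g)

end Prod

section Compl

variable {G : Type u} [Monoid G] {k : Type*} [Field k]
variable {V : Type v} [AddCommGroup V] [Module k V] [FiniteDimensional k V]

theorem character_eq_add_of_isCompl (ρ : Representation k G V) (W W' : Subrepresentation ρ)
    (h : IsCompl W.toSubmodule W'.toSubmodule) :
    ρ.character = W.toRepresentation.character + W'.toRepresentation.character := by
  rw [← character_prod]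
  let e := Submodule.prodEquivOfIsCompl W.toSubmodule W'.toSubmodule h
  have φ : (W.toRepresentation.prod W'.toRepresentation).Equiv ρ :=
    Representation.Equiv.mk e (by
      intro g
      ext ⟨a, b⟩
      · simp [e, Representation.prod, Subrepresentation.toRepresentation]
      · simp [e, Representation.prod, Subrepresentation.toRepresentation])
  exact (char_iso φ).symm

end Compl

section Irr

variable {G : Type u} [Group G] {k : Type*} [Field k]
variable {V : Type v} [AddCommGroup V] [Module k V] [FiniteDimensional k V]

/-- A nonzero subrepresentation of minimal dimension is irreducible. -/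
theorem isIrreducible_of_minimal (ρ : Representation k G V) (W : Subrepresentation ρ)
    (hW : W.toSubmodule ≠ ⊥)
    (hmin : ∀ U : Subrepresentation ρ, U.toSubmodule ≠ ⊥ →
      finrank k W.toSubmodule ≤ finrank k U.toSubmodule) :
    W.toRepresentation.IsIrreducible := by
  have hnt : Nontrivial W.toSubmodule := Submodule.nontrivial_iff_ne_bot.mpr hW
  refine { exists_pair_ne := ?_, eq_bot_or_eq_top := ?_ }
  · refine ⟨⊥, ⊤, ?_⟩
    intro h
    have h' := congrArg Subrepresentation.toSubmodule h
    change (⊥ : Submodule k W.toSubmodule) = ⊤ at h'
    exact bot_ne_top h'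
  · intro U
    -- push U forward to a subrepresentation of ρ
    let U' : Subrepresentation ρ :=
      { toSubmodule := U.toSubmodule.map W.toSubmodule.subtype
        apply_mem_toSubmodule := by
          intro g v hv
          obtain ⟨u, hu, rfl⟩ := Submodule.mem_map.mp hv
          refine Submodule.mem_map.mpr ⟨W.toRepresentation g u, U.apply_mem_toSubmodule g hu, ?_⟩
          rfl }
    by_cases hU : U.toSubmodule = ⊥
    · left
      exact Subrepresentation.toSubmodule_injective hU
    · right
      have hU' : U'.toSubmodule ≠ ⊥ := by
        intro h0
        apply hU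
        have : U.toSubmodule.map W.toSubmodule.subtype = ⊥ := h0
        exact Submodule.map_injective_of_injective (Submodule.subtype_injective _)
          (this.trans (Submodule.map_bot _).symm)
      have h1 := hmin U' hU'
      have h2 : finrank k U'.toSubmodule = finrank k U.toSubmodule :=
        (Submodule.equivMapOfInjective W.toSubmodule.subtype
          (Submodule.subtype_injective _) U.toSubmodule).finrank_eq.symm
      rw [h2] at h1
      have h3 : U.toSubmodule = ⊤ :=
        Submodule.eq_top_of_finrank_eq (le_antisymm (Submodule.finrank_le _) h1)
      exact Subrepresentation.toSubmodule_injective h3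

/-- A nontrivial finite-dimensional representation has an irreducible subrepresentation. -/
theorem exists_irreducible_subrepresentation (ρ : Representation k G V) [Nontrivial V] :
    ∃ W : Subrepresentation ρ, W.toSubmodule ≠ ⊥ ∧ W.toRepresentation.IsIrreducible := by
  classical
  let S : Set ℕ := {n | ∃ U : Subrepresentation ρ, U.toSubmodule ≠ ⊥ ∧ finrank k U.toSubmodule = n}
  have hS : S.Nonempty := ⟨_, ⊤, (by
    change (⊤ : Submodule k V) ≠ ⊥
    exact top_ne_bot), rfl⟩
  obtain ⟨W, hW, hWn⟩ := Nat.sInf_mem hS
  refine ⟨W, hW, isIrreducible_of_minimal ρ W hW ?_⟩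
  intro U hU
  rw [hWn]
  exact Nat.sInf_le ⟨U, hU, rfl⟩

end Irr

section Decomp

variable {G : Type u} [Group G] [Finite G]

omit [Finite G] in
theorem character_eq_zero_of_finrank_eq_zero {V : Type v} [AddCommGroup V] [Module ℂ V]
    [FiniteDimensional ℂ V] (ρ : Representation ℂ G V) (h : finrank ℂ V = 0) :
    ρ.character = 0 := by
  have : Subsingleton V := Module.finrank_zero_iff.mp h
  ext g
  have : ρ g = 0 := by ext v; exact Subsingleton.elim _ _
  simp [Representation.character, this]

/-- Every character of a finite group is a sum of irreducible characters. -/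
theorem exists_multiset_irr {V : Type v} [AddCommGroup V] [Module ℂ V] [FiniteDimensional ℂ V]
    (ρ : Representation ℂ G V) :
    ∃ m : Multiset (IrrCharacter G), ρ.character = (m.map (fun χ : IrrCharacter G => (χ : G → ℂ))).sum := by
  classical
  haveI : NeZero (Nat.card G : ℂ) := ⟨by
    have : 0 < Nat.card G := Nat.card_pos
    exact_mod_cast this.ne'⟩
  suffices H : ∀ n : ℕ, ∀ (V : Type v) [AddCommGroup V] [Module ℂ V] [FiniteDimensional ℂ V]
      (ρ : Representation ℂ G V), finrank ℂ V = n →
      ∃ m : Multiset (IrrCharacter G), ρ.character = (m.map (fun χ : IrrCharacter G => (χ : G → ℂ))).sum from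
    H _ V ρ rfl
  intro n
  induction n using Nat.strong_induction_on with
  | _ n ih =>
    intro V _ _ _ ρ hn
    by_cases h0 : n = 0
    · subst h0
      exact ⟨0, by simp [character_eq_zero_of_finrank_eq_zero ρ hn]⟩
    have hpos : 0 < finrank ℂ V := by omega
    haveI : Nontrivial V := Module.nontrivial_of_finrank_pos hpos
    obtain ⟨W, hW, hirr⟩ := exists_irreducible_subrepresentation ρ
    obtain ⟨W', hc⟩ := exists_isCompl W
    have hc' : IsCompl W.toSubmodule W'.toSubmodule := by
      constructor
      · rw [disjoint_iff]
        have := congrArg Subrepresentation.toSubmodule hc.inf_eq_bot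
        exact this
      · rw [codisjoint_iff]
        have := congrArg Subrepresentation.toSubmodule hc.sup_eq_top
        exact this
    have hdim : finrank ℂ W.toSubmodule + finrank ℂ W'.toSubmodule = finrank ℂ V :=
      Submodule.finrank_add_eq_of_isCompl hc'
    have hWpos : 0 < finrank ℂ W.toSubmodule := by
      haveI : Nontrivial W.toSubmodule := Submodule.nontrivial_iff_ne_bot.mpr hW
      exact Module.finrank_pos
    obtain ⟨m', hm'⟩ := ih (finrank ℂ W'.toSubmodule) (by omega) W'.toSubmodule
      W'.toRepresentation rfl
    refine ⟨⟨W.toRepresentation.character, isIrrCharacter_character _ hirr⟩ ::ₘ m', ?_⟩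
    rw [character_eq_add_of_isCompl ρ W W' hc', hm']
    simp

end Decomp

end Cfsg.Agent.Helper24
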