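import Mathlib
import Cfsg.Prelude.Def_Characters
import Cfsg.Agent.Helper24.Decomp

/-!
Characters as natural-number combinations of irreducible characters.
-/

namespace Cfsg.Agent.Helper24

open Representation Module

universe u v w

section Basic

variable {G : Type u} [Group G]

theorem isCharacter_zero : IsCharacter G (0 : G → ℂ) := by
  refine ⟨0, Representation.trivial ℂ G (Fin 0 → ℂ), ?_⟩
  ext g
  simp [Representation.character]

theorem IsCharacter.add {χ ψ : G → ℂ} (hχ : IsCharacter G χ) (hψ : IsCharacter G ψ) :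
    IsCharacter G (χ + ψ) := by
  obtain ⟨n, ρ, rfl⟩ := hχ
  obtain ⟨m, σ, rfl⟩ := hψ
  rw [← character_prod]
  exact isCharacter_character _

theorem isCharacter_multiset_sum (m : Multiset (G → ℂ)) (h : ∀ χ ∈ m, IsCharacter G χ) :
    IsCharacter G m.sum := by
  induction m using Multiset.induction_on with
  | empty => simpa using isCharacter_zero
  | cons a s ih =>
    rw [Multiset.sum_cons]
    exact IsCharacter.add (h a (Multiset.mem_cons_self a s))
      (ih (fun χ hχ => h χ (Multiset.mem_cons_of_mem hχ)))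

theorem IsCharacter.nsmul {χ : G → ℂ} (hχ : IsCharacter G χ) (n : ℕ) :
    IsCharacter G (n • χ) := by
  induction n with
  | zero => simpa using isCharacter_zero
  | succ k ih => rw [succ_nsmul]; exact IsCharacter.add ih hχ

theorem isCharacter_sum {ι : Type*} (s : Finset ι) (f : ι → G → ℂ)
    (h : ∀ i ∈ s, IsCharacter G (f i)) : IsCharacter G (∑ i ∈ s, f i) := by
  classical
  induction s using Finset.induction_on with
  | empty => simpa using isCharacter_zero
  | insert a s ha ih =>
    rw [Finset.sum_insert ha]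
    exact IsCharacter.add (h a (Finset.mem_insert_self a s))
      (ih (fun i hi => h i (Finset.mem_insert_of_mem hi)))

end Basic

section Finite

variable {G : Type u} [Group G] [Finite G]

theorem isCharacter_iff_exists_multiset {χ : G → ℂ} :
    IsCharacter G χ ↔
      ∃ m : Multiset (IrrCharacter G), χ = (m.map (fun ψ : IrrCharacter G => (ψ : G → ℂ))).sum := by
  constructor
  · rintro ⟨n, ρ, rfl⟩
    exact exists_multiset_irr ρ
  · rintro ⟨m, rfl⟩
    refine isCharacter_multiset_sum _ ?_
    intro χ hχ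
    obtain ⟨ψ, _, hψ⟩ := Multiset.mem_map.mp hχ
    rw [← hψ]
    exact IsIrrCharacter.isCharacter ψ.2

variable [Fintype (IrrCharacter G)]

theorem multiset_sum_eq_sum_count (m : Multiset (IrrCharacter G)) [DecidableEq (IrrCharacter G)] :
    (m.map (fun ψ : IrrCharacter G => (ψ : G → ℂ))).sum = ∑ ψ : IrrCharacter G, (m.count ψ : ℂ) • (ψ : G → ℂ) := by
  rw [Finset.sum_multiset_map_count m (fun ψ : IrrCharacter G => (ψ : G → ℂ))]
  have : ∀ ψ : IrrCharacter G, m.count ψ • (ψ : G → ℂ) = (m.count ψ : ℂ) • (ψ : G → ℂ) := by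
    intro ψ
    rw [Nat.cast_smul_eq_nsmul]
  simp_rw [this]
  refine Finset.sum_subset (Finset.subset_univ _) ?_
  intro ψ _ hψ
  rw [Multiset.mem_toFinset] at hψ
  rw [Multiset.count_eq_zero_of_notMem hψ]
  simp

variable [Fintype G]

omit [Finite G] in
/-- The inner product of a linear combination of irreducible characters with an irreducible
character picks out the coefficient. -/
theorem classInner_sum_irr (c : IrrCharacter G → ℂ) (ψ : IrrCharacter G) :
    classInner (∑ χ : IrrCharacter G, c χ • (χ : G → ℂ)) (ψ : G → ℂ) = c ψ := by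
  classical
  rw [classInner_sum_left]
  simp_rw [classInner_smul_left]
  rw [Finset.sum_eq_single ψ]
  · rw [classInner_irr_self, mul_one]
  · intro χ _ hne
    rw [classInner_irr_ne hne, mul_zero]
  · intro h; exact absurd (Finset.mem_univ ψ) h

omit [Finite G] in
theorem classInner_irr_sum (c : IrrCharacter G → ℂ) (ψ : IrrCharacter G) :
    classInner (ψ : G → ℂ) (∑ χ : IrrCharacter G, c χ • (χ : G → ℂ)) = (starRingEnd ℂ) (c ψ) := by
  rw [← classInner_conj_symm, classInner_sum_irr]

/-- Every character is the sum of its inner products with the irreducible characters,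
and these are natural numbers. -/
theorem IsCharacter.exists_nat_coeff {χ : G → ℂ} (hχ : IsCharacter G χ) :
    ∃ n : IrrCharacter G → ℕ, χ = ∑ ψ : IrrCharacter G, (n ψ : ℂ) • (ψ : G → ℂ) := by
  classical
  obtain ⟨m, rfl⟩ := isCharacter_iff_exists_multiset.mp hχ
  exact ⟨fun ψ => m.count ψ, multiset_sum_eq_sum_count m⟩

theorem IsCharacter.classInner_irr_nat {χ : G → ℂ} (hχ : IsCharacter G χ) (ψ : IrrCharacter G) :
    ∃ n : ℕ, classInner χ (ψ : G → ℂ) = n := by
  obtain ⟨n, rfl⟩ := IsCharacter.exists_nat_coeff hχ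
  exact ⟨n ψ, classInner_sum_irr _ ψ⟩

theorem IsCharacter.eq_sum_classInner {χ : G → ℂ} (hχ : IsCharacter G χ) :
    χ = ∑ ψ : IrrCharacter G, classInner χ (ψ : G → ℂ) • (ψ : G → ℂ) := by
  obtain ⟨n, hn⟩ := IsCharacter.exists_nat_coeff hχ
  have : ∀ ψ : IrrCharacter G, classInner χ (ψ : G → ℂ) = n ψ := by
    intro ψ
    rw [hn]
    exact classInner_sum_irr _ ψ
  simp_rw [this]
  exact hn

omit [Finite G] [Fintype G] in
/-- A natural-number combination of irreducible characters is a character. -/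
theorem isCharacter_sum_nat_smul (n : IrrCharacter G → ℕ) :
    IsCharacter G (∑ ψ : IrrCharacter G, (n ψ : ℂ) • (ψ : G → ℂ)) := by
  refine isCharacter_sum _ _ ?_
  intro ψ _
  rw [Nat.cast_smul_eq_nsmul]
  exact IsCharacter.nsmul (IsIrrCharacter.isCharacter ψ.2) _

/-- The inner product of two characters is a natural number. -/
theorem IsCharacter.classInner_nat {χ θ : G → ℂ} (hχ : IsCharacter G χ) (hθ : IsCharacter G θ) :
    ∃ n : ℕ, classInner χ θ = n := by
  obtain ⟨a, rfl⟩ := IsCharacter.exists_nat_coeff hχ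
  obtain ⟨b, rfl⟩ := IsCharacter.exists_nat_coeff hθ
  refine ⟨∑ ψ : IrrCharacter G, a ψ * b ψ, ?_⟩
  rw [classInner_sum_left]
  simp_rw [classInner_smul_left, classInner_irr_sum]
  push_cast
  simp

/-- Norm of a linear combination of irreducible characters. -/
theorem classInner_sum_sum (a b : IrrCharacter G → ℂ) :
    classInner (∑ χ : IrrCharacter G, a χ • (χ : G → ℂ))
      (∑ χ : IrrCharacter G, b χ • (χ : G → ℂ)) =
      ∑ χ : IrrCharacter G, a χ * (starRingEnd ℂ) (b χ) := by
  rw [classInner_sum_left]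
  simp_rw [classInner_smul_left, classInner_irr_sum]

/-- A character of norm one is irreducible. -/
theorem IsCharacter.isIrrCharacter_of_classInner_self {χ : G → ℂ} (hχ : IsCharacter G χ)
    (h : classInner χ χ = 1) : IsIrrCharacter G χ := by
  classical
  obtain ⟨n, rfl⟩ := IsCharacter.exists_nat_coeff hχ
  rw [classInner_sum_sum] at h
  have h' : ∑ ψ : IrrCharacter G, n ψ * n ψ = 1 := by
    have : (∑ ψ : IrrCharacter G, (n ψ : ℂ) * (starRingEnd ℂ) (n ψ : ℂ)) =
        ((∑ ψ : IrrCharacter G, n ψ * n ψ : ℕ) : ℂ) := by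
      push_cast
      simp
    rw [this] at h
    exact_mod_cast h
  -- exactly one coefficient is 1
  obtain ⟨ψ₀, hψ₀⟩ : ∃ ψ₀, n ψ₀ ≠ 0 := by
    by_contra hall
    push Not at hall
    simp [hall] at h'
  have hle : n ψ₀ * n ψ₀ ≤ 1 := by
    rw [← h']
    exact Finset.single_le_sum (f := fun ψ => n ψ * n ψ) (fun _ _ => Nat.zero_le _)
      (Finset.mem_univ ψ₀)
  have h1 : n ψ₀ = 1 := by
    have hpos : 1 ≤ n ψ₀ := Nat.one_le_iff_ne_zero.mpr hψ₀
    nlinarith
  have hothers : ∀ ψ, ψ ≠ ψ₀ → n ψ = 0 := by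
    intro ψ hne
    by_contra hψ
    have hpos : 1 ≤ n ψ := Nat.one_le_iff_ne_zero.mpr hψ
    have : n ψ₀ * n ψ₀ + n ψ * n ψ ≤ 1 := by
      rw [← h']
      have := Finset.add_le_sum (f := fun ψ => n ψ * n ψ) (fun _ _ => Nat.zero_le _)
        (Finset.mem_univ ψ₀) (Finset.mem_univ ψ) hne.symm
      exact this
    nlinarith
  have : (∑ ψ : IrrCharacter G, (n ψ : ℂ) • (ψ : G → ℂ)) = (ψ₀ : G → ℂ) := by
    rw [Finset.sum_eq_single ψ₀]
    · rw [h1]; simp
    · intro ψ _ hne
      rw [hothers ψ hne]; simp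
    · intro h; exact absurd (Finset.mem_univ ψ₀) h
  rw [this]
  exact ψ₀.2

theorem isIrrCharacter_iff_classInner_self {χ : G → ℂ} :
    IsIrrCharacter G χ ↔ IsCharacter G χ ∧ classInner χ χ = 1 := by
  constructor
  · intro h
    exact ⟨IsIrrCharacter.isCharacter h, classInner_irr_self ⟨χ, h⟩⟩
  · rintro ⟨h1, h2⟩
    exact IsCharacter.isIrrCharacter_of_classInner_self h1 h2

end Finite

end Cfsg.Agent.Helper24
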