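import Mathlib
import Cfsg.Prelude.Def_Characters
import Cfsg.Agent.Helper24.Expansion

/-!
The regular character and the sum of squares of the degrees.
-/

namespace Cfsg.Agent.Helper24

open Representation Module

universe u v

section Degree

variable {G : Type u} [Group G]

theorem finrank_pos_of_isIrreducible {V : Type v} [AddCommGroup V] [Module ℂ V]
    [FiniteDimensional ℂ V] (ρ : Representation ℂ G V) [h : ρ.IsIrreducible] :
    0 < finrank ℂ V := by
  haveI : Nontrivial V := by
    by_contra hnt
    rw [not_nontrivial_iff_subsingleton] at hnt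
    obtain ⟨a, b, hab⟩ := h.exists_pair_ne
    apply hab
    apply Subrepresentation.toSubmodule_injective
    exact Subsingleton.elim _ _
  exact Module.finrank_pos

/-- The value at one of an irreducible character is a positive natural number. -/
theorem isIrrCharacter_one {χ : G → ℂ} (h : IsIrrCharacter G χ) :
    ∃ n : ℕ, 0 < n ∧ χ 1 = n := by
  obtain ⟨n, ρ, hρ, rfl⟩ := h
  haveI := hρ
  refine ⟨finrank ℂ (Fin n → ℂ), finrank_pos_of_isIrreducible ρ, ?_⟩
  simp

theorem isCharacter_one {χ : G → ℂ} (h : IsCharacter G χ) :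
    ∃ n : ℕ, χ 1 = n := by
  obtain ⟨n, ρ, rfl⟩ := h
  exact ⟨finrank ℂ (Fin n → ℂ), by simp⟩

theorem irr_one_ne_zero (χ : IrrCharacter G) : (χ : G → ℂ) 1 ≠ 0 := by
  obtain ⟨n, hn, h⟩ := isIrrCharacter_one χ.2
  rw [h]
  exact_mod_cast hn.ne'

theorem irr_one_conj (χ : IrrCharacter G) :
    (starRingEnd ℂ) ((χ : G → ℂ) 1) = (χ : G → ℂ) 1 := by
  obtain ⟨n, _, h⟩ := isIrrCharacter_one χ.2
  rw [h, Complex.conj_natCast]

end Degree

section Regular

variable {G : Type u} [Group G] [Fintype G]

theorem leftRegular_character [DecidableEq G] (g : G) :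
    (Representation.leftRegular ℂ G).character g = if g = 1 then (Nat.card G : ℂ) else 0 := by
  unfold Representation.character
  rw [LinearMap.trace_eq_matrix_trace ℂ (MonoidAlgebra.basis G ℂ)]
  simp only [Matrix.trace, Matrix.diag, LinearMap.toMatrix_apply, MonoidAlgebra.basis_apply]
  simp only [Representation.leftRegular, ofMulAction_single, smul_eq_mul]
  split_ifs with h
  · subst h
    simp [MonoidAlgebra.basis]
  · simp [MonoidAlgebra.basis, h]

theorem classInner_leftRegular (ψ : G → ℂ) :
    classInner (Representation.leftRegular ℂ G).character ψ = (starRingEnd ℂ) (ψ 1) := by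
  classical
  simp only [classInner, leftRegular_character]
  rw [Finset.sum_eq_single 1]
  · rw [if_pos rfl, ← mul_assoc, inv_mul_cancel₀ card_ne_zero_complex, one_mul]
  · intro g _ hg
    rw [if_neg hg, zero_mul]
  · intro h; exact absurd (Finset.mem_univ _) h

variable [Fintype (IrrCharacter G)]

/-- The regular character is `∑ χ(1) χ`. -/
theorem leftRegular_character_eq_sum :
    (Representation.leftRegular ℂ G).character =
      ∑ χ : IrrCharacter G, (χ : G → ℂ) 1 • (χ : G → ℂ) := by
  have h := IsCharacter.eq_sum_classInner (isCharacter_character (Representation.leftRegular ℂ G))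
  refine h.trans (Finset.sum_congr rfl ?_)
  intro χ _
  rw [classInner_leftRegular, irr_one_conj]

/-- The sum of the squares of the irreducible degrees is the group order. -/
theorem sum_sq_irr_one : ∑ χ : IrrCharacter G, (χ : G → ℂ) 1 ^ 2 = (Nat.card G : ℂ) := by
  classical
  have h := congrFun (leftRegular_character_eq_sum (G := G)) 1
  rw [leftRegular_character, if_pos rfl] at h
  rw [h, Finset.sum_apply]
  refine Finset.sum_congr rfl ?_
  intro χ _
  simp [pow_two]

/-- `∑ χ(1) χ(g) = 0` for `g ≠ 1`. -/
theorem sum_irr_one_mul_eq_zero {g : G} (hg : g ≠ 1) :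
    ∑ χ : IrrCharacter G, (χ : G → ℂ) 1 * (χ : G → ℂ) g = 0 := by
  classical
  have h := congrFun (leftRegular_character_eq_sum (G := G)) g
  rw [leftRegular_character, if_neg hg] at h
  rw [h, Finset.sum_apply]
  refine Finset.sum_congr rfl ?_
  intro χ _
  simp

end Regular

end Cfsg.Agent.Helper24
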