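import Mathlib
import Cfsg.Prelude.Def_Characters
import Cfsg.Agent.Helper24.Regular

/-!
Schur's lemma for class sums, generalized orthogonality, and the fact that the
irreducible characters span the class functions.
-/

namespace Cfsg.Agent.Helper24

open Representation Module

universe u v

section Schur

variable {G : Type u} [Group G] [Fintype G]
variable {V : Type v} [AddCommGroup V] [Module ℂ V] [FiniteDimensional ℂ V]

omit [FiniteDimensional ℂ V] in
/-- A class-function-weighted sum of the `ρ g` commutes with the action. -/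
theorem sum_smul_rho_comm (ρ : Representation ℂ G V) (a : G → ℂ) (ha : IsClassFunction G a)
    (x : G) : (∑ g, a g • ρ g) ∘ₗ ρ x = ρ x ∘ₗ (∑ g, a g • ρ g) := by
  rw [← Module.End.mul_eq_comp, ← Module.End.mul_eq_comp, Finset.sum_mul, Finset.mul_sum]
  have h1 : ∀ g, (a g • ρ g) * ρ x = a g • ρ (g * x) := by
    intro g; rw [smul_mul_assoc, map_mul]
  have h2 : ∀ g, ρ x * (a g • ρ g) = a g • ρ (x * g) := by
    intro g; rw [mul_smul_comm, map_mul]
  simp_rw [h1, h2]
  -- reindex by conjugation
  refine Fintype.sum_equiv (MulAut.conj x⁻¹).toEquiv _ _ ?_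
  intro g
  simp only [MulEquiv.toEquiv_eq_coe, EquivLike.coe_coe, MulAut.conj_apply, inv_inv]
  have : a (x⁻¹ * g * x) = a g := by
    have := ha g x⁻¹
    simpa using this
  rw [this]
  congr 2
  group

/-- Schur's lemma for weighted class sums: on an irreducible representation the operator
`∑ a g • ρ g` (with `a` a class function) is a scalar `c` with `c * dim V = ∑ a g * χ g`. -/
theorem sum_smul_rho_eq_smul_id (ρ : Representation ℂ G V) [ρ.IsIrreducible] (a : G → ℂ)
    (ha : IsClassFunction G a) :
    ∃ c : ℂ, (∑ g, a g • ρ g) = c • (LinearMap.id : V →ₗ[ℂ] V) ∧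
      c * (finrank ℂ V : ℂ) = ∑ g, a g * ρ.character g := by
  let T : IntertwiningMap ρ ρ :=
    { toLinearMap := ∑ g, a g • ρ g
      isIntertwining' := fun x => sum_smul_rho_comm ρ a ha x }
  obtain ⟨c, hc⟩ :=
    (IsIrreducible.algebraMap_intertwiningMap_bijective_of_isAlgClosed (ρ := ρ)).2 T
  have hT : (∑ g, a g • ρ g) = c • (LinearMap.id : V →ₗ[ℂ] V) := by
    have := congrArg IntertwiningMap.toLinearMap hc
    rw [IntertwiningMap.algebraMap_apply] at this
    exact this.symm
  refine ⟨c, hT, ?_⟩
  have := congrArg (LinearMap.trace ℂ V) hT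
  rw [map_smul, LinearMap.trace_id, smul_eq_mul, map_sum] at this
  rw [← this]
  refine Finset.sum_congr rfl ?_
  intro g _
  rw [map_smul, smul_eq_mul]
  rfl

/-- Generalized orthogonality: for a class function `a` and an irreducible character `χ`,
`χ(1) * ∑ a(g) χ(g x) = χ(x) * ∑ a(g) χ(g)`. -/
theorem sum_mul_char_mul (ρ : Representation ℂ G V) [ρ.IsIrreducible] (a : G → ℂ)
    (ha : IsClassFunction G a) (x : G) :
    (finrank ℂ V : ℂ) * ∑ g, a g * ρ.character (g * x) =
      ρ.character x * ∑ g, a g * ρ.character g := by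
  obtain ⟨c, hT, hc⟩ := sum_smul_rho_eq_smul_id ρ a ha
  have h1 : ∑ g, a g * ρ.character (g * x) = c * ρ.character x := by
    have := congrArg (fun T : Module.End ℂ V => LinearMap.trace ℂ V (T * ρ x)) hT
    simp only [Finset.sum_mul, map_sum, smul_mul_assoc, map_smul, smul_eq_mul] at this
    have h2 : (LinearMap.id : V →ₗ[ℂ] V) * ρ x = ρ x := by
      rw [Module.End.mul_eq_comp, LinearMap.id_comp]
    rw [h2] at this
    simp only [Representation.character, map_mul]
    exact this
  rw [h1, ← hc]
  ring

end Schur


section ClassFunction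

variable {G : Type u} [Group G]

theorem isClassFunction_zero : IsClassFunction G (0 : G → ℂ) := fun _ _ => rfl

theorem isClassFunction_add {f₁ f₂ : G → ℂ} (h₁ : IsClassFunction G f₁)
    (h₂ : IsClassFunction G f₂) : IsClassFunction G (f₁ + f₂) := by
  intro g x
  simp [h₁ g x, h₂ g x]

theorem isClassFunction_sub {f₁ f₂ : G → ℂ} (h₁ : IsClassFunction G f₁)
    (h₂ : IsClassFunction G f₂) : IsClassFunction G (f₁ - f₂) := by
  intro g x
  simp [h₁ g x, h₂ g x]

theorem isClassFunction_neg {f : G → ℂ} (h : IsClassFunction G f) : IsClassFunction G (-f) := by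
  intro g x
  simp [h g x]

theorem isClassFunction_smul (c : ℂ) {f : G → ℂ} (h : IsClassFunction G f) :
    IsClassFunction G (c • f) := by
  intro g x
  simp [h g x]

theorem isClassFunction_mul {f₁ f₂ : G → ℂ} (h₁ : IsClassFunction G f₁)
    (h₂ : IsClassFunction G f₂) : IsClassFunction G (f₁ * f₂) := by
  intro g x
  simp [h₁ g x, h₂ g x]

theorem isClassFunction_conj {f : G → ℂ} (h : IsClassFunction G f) :
    IsClassFunction G (fun g => (starRingEnd ℂ) (f g)) := by
  intro g x
  simp [h g x]

theorem isClassFunction_sum {ι : Type*} (s : Finset ι) (f : ι → G → ℂ)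
    (h : ∀ i ∈ s, IsClassFunction G (f i)) : IsClassFunction G (∑ i ∈ s, f i) := by
  intro g x
  simp only [Finset.sum_apply]
  exact Finset.sum_congr rfl (fun i hi => h i hi g x)

theorem isClassFunction_irr (χ : IrrCharacter G) : IsClassFunction G (χ : G → ℂ) :=
  IsCharacter.isClassFunction (IsIrrCharacter.isCharacter χ.2)

theorem IsClassFunction.eq_of_isConj {f : G → ℂ} (h : IsClassFunction G f) {g g' : G}
    (hc : IsConj g g') : f g = f g' := by
  obtain ⟨c, hc⟩ := isConj_iff.mp hc
  rw [← hc, h g c]

end ClassFunction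

section Span

variable {G : Type u} [Group G] [Fintype G]

/-- Generalized orthogonality on `IrrCharacter`. -/
theorem irr_sum_mul_char_mul (χ : IrrCharacter G) (a : G → ℂ) (ha : IsClassFunction G a) (x : G) :
    (χ : G → ℂ) 1 * ∑ g, a g * (χ : G → ℂ) (g * x) =
      (χ : G → ℂ) x * ∑ g, a g * (χ : G → ℂ) g := by
  obtain ⟨n, ρ, hρ, hχ⟩ := χ.2
  haveI := hρ
  have := sum_mul_char_mul ρ a ha x
  rw [← hχ]
  rw [char_one]
  exact this

variable [Fintype (IrrCharacter G)]

/-- A class function orthogonal to all irreducible characters vanishes. -/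
theorem eq_zero_of_classInner_irr_eq_zero (h : G → ℂ) (hh : IsClassFunction G h)
    (horth : ∀ χ : IrrCharacter G, classInner h (χ : G → ℂ) = 0) : h = 0 := by
  classical
  set a : G → ℂ := fun g => (starRingEnd ℂ) (h g) with ha
  have hacf : IsClassFunction G a := isClassFunction_conj hh
  have hsum0 : ∀ χ : IrrCharacter G, ∑ g, a g * (χ : G → ℂ) g = 0 := by
    intro χ
    have h1 := horth χ
    simp only [classInner] at h1
    rcases mul_eq_zero.mp h1 with h2 | h2
    · exact absurd (inv_eq_zero.mp h2) card_ne_zero_complex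
    · have := congrArg (starRingEnd ℂ) h2
      rw [map_sum, map_zero] at this
      rw [← this]
      refine Finset.sum_congr rfl ?_
      intro g _
      simp [ha]
  have hx : ∀ x : G, ∀ χ : IrrCharacter G, ∑ g, a g * (χ : G → ℂ) (g * x) = 0 := by
    intro x χ
    have := irr_sum_mul_char_mul χ a hacf x
    rw [hsum0 χ, mul_zero] at this
    rcases mul_eq_zero.mp this with h2 | h2
    · exact absurd h2 (irr_one_ne_zero χ)
    · exact h2
  -- use the regular character
  have hreg : ∀ x : G, ∑ g, a g * (Representation.leftRegular ℂ G).character (g * x) = 0 := by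
    intro x
    rw [leftRegular_character_eq_sum]
    simp only [Finset.sum_apply, Pi.smul_apply, smul_eq_mul, Finset.mul_sum]
    rw [Finset.sum_comm]
    refine Finset.sum_eq_zero ?_
    intro χ _
    have := hx x χ
    calc ∑ g, a g * ((χ : G → ℂ) 1 * (χ : G → ℂ) (g * x))
        = (χ : G → ℂ) 1 * ∑ g, a g * (χ : G → ℂ) (g * x) := by
          rw [Finset.mul_sum]; refine Finset.sum_congr rfl ?_; intro g _; ring
      _ = 0 := by rw [this, mul_zero]
  ext y
  have h3 := hreg y⁻¹
  simp only [leftRegular_character] at h3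
  rw [Finset.sum_eq_single y] at h3
  · simp only [mul_inv_cancel, if_true] at h3
    rcases mul_eq_zero.mp h3 with h4 | h4
    · have : h y = 0 := by
        have := congrArg (starRingEnd ℂ) h4
        simpa [ha] using this
      simpa using this
    · exact absurd h4 card_ne_zero_complex
  · intro g _ hg
    have : g * y⁻¹ ≠ 1 := by
      intro h5
      exact hg (mul_inv_eq_one.mp h5)
    rw [if_neg this, mul_zero]
  · intro h5; exact absurd (Finset.mem_univ _) h5

/-- Every class function is the combination of the irreducible characters given by its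
inner products. -/
theorem IsClassFunction.eq_sum_classInner {f : G → ℂ} (hf : IsClassFunction G f) :
    f = ∑ χ : IrrCharacter G, classInner f (χ : G → ℂ) • (χ : G → ℂ) := by
  have hcf : IsClassFunction G (f - ∑ χ : IrrCharacter G, classInner f (χ : G → ℂ) • (χ : G → ℂ)) :=
    isClassFunction_sub hf (isClassFunction_sum _ _
      (fun χ _ => isClassFunction_smul _ (isClassFunction_irr χ)))
  have := eq_zero_of_classInner_irr_eq_zero _ hcf (by
    intro ψ
    rw [classInner_sub_left, classInner_sum_irr, sub_self])
  exact sub_eq_zero.mp this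

end Span

end Cfsg.Agent.Helper24
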