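import Mathlib
import Cfsg.Prelude.Def_Characters
import Cfsg.Agent.Helper24.Span
import Cfsg.Agent.Helper24.Classes

/-!
Second orthogonality relation, the count of irreducible characters, and separation of
conjugacy classes by irreducible characters.
-/

namespace Cfsg.Agent.Helper24

open Representation Module

universe u v

section ColumnOrth

variable {G : Type u} [Group G]

/-- The class indicator function of `h`. -/
noncomputable def classIndicator (h : G) : G → ℂ :=
  fun x => @ite ℂ (IsConj h x) (Classical.propDecidable _) 1 0

theorem classIndicator_of_isConj {h x : G} (hx : IsConj h x) : classIndicator h x = 1 :=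
  if_pos hx

theorem classIndicator_of_not_isConj {h x : G} (hx : ¬ IsConj h x) : classIndicator h x = 0 :=
  if_neg hx

theorem isClassFunction_classIndicator (h : G) : IsClassFunction G (classIndicator h) := by
  intro g x
  have : IsConj h (x * g * x⁻¹) ↔ IsConj h g := by
    constructor
    · intro hc
      exact hc.trans (isConj_iff.mpr ⟨x⁻¹, by group⟩)
    · intro hc
      exact hc.trans (isConj_iff.mpr ⟨x, rfl⟩)
  by_cases hc : IsConj h g
  · rw [classIndicator_of_isConj hc, classIndicator_of_isConj (this.mpr hc)]
  · rw [classIndicator_of_not_isConj hc, classIndicator_of_not_isConj (fun h' => hc (this.mp h'))]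

variable [Fintype G]

theorem sum_classIndicator (h : G) :
    ∑ x, classIndicator h x = (Nat.card {x : G // IsConj h x} : ℂ) := by
  classical
  rw [← Finset.sum_filter_add_sum_filter_not Finset.univ (fun x => IsConj h x)]
  rw [Finset.sum_congr rfl (g := fun _ => (1 : ℂ))
    (fun x hx => classIndicator_of_isConj (Finset.mem_filter.mp hx).2)]
  rw [Finset.sum_congr rfl (g := fun _ => (0 : ℂ))
    (fun x hx => classIndicator_of_not_isConj (Finset.mem_filter.mp hx).2)]
  rw [Finset.sum_const, Finset.sum_const_zero, add_zero, nsmul_eq_mul, mul_one,
    Nat.card_eq_fintype_card, Fintype.card_subtype]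

theorem classIndicator_mul (h : G) (ψ : G → ℂ) (hψ : IsClassFunction G ψ) (x : G) :
    classIndicator h x * ψ x = classIndicator h x * ψ h := by
  by_cases hx : IsConj h x
  · rw [IsClassFunction.eq_of_isConj hψ hx]
  · rw [classIndicator_of_not_isConj hx, zero_mul, zero_mul]

theorem classInner_classIndicator (h : G) (ψ : G → ℂ) (hψ : IsClassFunction G ψ) :
    classInner (classIndicator h) ψ =
      (Nat.card G : ℂ)⁻¹ * (Nat.card {x : G // IsConj h x} : ℂ) * (starRingEnd ℂ) (ψ h) := by
  simp only [classInner]
  rw [mul_assoc]
  congr 1
  have : ∀ x : G, classIndicator h x * (starRingEnd ℂ) (ψ x) =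
      classIndicator h x * (starRingEnd ℂ) (ψ h) := by
    intro x
    exact classIndicator_mul h (fun y => (starRingEnd ℂ) (ψ y)) (isClassFunction_conj hψ) x
  simp_rw [this]
  rw [← Finset.sum_mul, sum_classIndicator]

variable [Fintype (IrrCharacter G)]

/-- Second orthogonality relation. -/
theorem sum_irr_mul_conj (g h : G) [Decidable (IsConj g h)] :
    ∑ χ : IrrCharacter G, (χ : G → ℂ) g * (starRingEnd ℂ) ((χ : G → ℂ) h) =
      if IsConj g h then (Nat.card (Subgroup.centralizer ({g} : Set G)) : ℂ) else 0 := by
  classical
  have hexp := IsClassFunction.eq_sum_classInner (G := G) (isClassFunction_classIndicator h)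
  have hg := congrFun hexp g
  simp only [Finset.sum_apply, Pi.smul_apply, smul_eq_mul] at hg
  simp_rw [classInner_classIndicator h _ (isClassFunction_irr _)] at hg
  have hN : (Nat.card {x : G // IsConj h x} : ℂ) ≠ 0 := by
    haveI : Nonempty {x : G // IsConj h x} := ⟨⟨h, IsConj.refl h⟩⟩
    have : 0 < Nat.card {x : G // IsConj h x} := Nat.card_pos
    exact_mod_cast this.ne'
  have hcard : (Nat.card {x : G // IsConj h x} : ℂ) *
      (Nat.card (Subgroup.centralizer ({h} : Set G)) : ℂ) = (Nat.card G : ℂ) := by
    exact_mod_cast card_conj_mul_card_centralizer h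
  have hsum : ∑ χ : IrrCharacter G, (χ : G → ℂ) g * (starRingEnd ℂ) ((χ : G → ℂ) h) =
      (Nat.card (Subgroup.centralizer ({h} : Set G)) : ℂ) * classIndicator h g := by
    rw [hg, Finset.mul_sum]
    refine Finset.sum_congr rfl ?_
    intro χ _
    have hG : (Nat.card G : ℂ) ≠ 0 := card_ne_zero_complex
    rw [← hcard]
    field_simp
  rw [hsum]
  by_cases hc : IsConj g h
  · rw [if_pos hc, classIndicator_of_isConj hc.symm, mul_one, card_centralizer_eq_of_isConj hc]
  · have : ¬ IsConj h g := fun h' => hc h'.symm
    rw [if_neg hc, classIndicator_of_not_isConj this, mul_zero]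

/-- Two elements are conjugate iff all irreducible characters agree on them. -/
theorem isConj_iff_forall_irr (g h : G) :
    IsConj g h ↔ ∀ χ : IrrCharacter G, (χ : G → ℂ) g = (χ : G → ℂ) h := by
  classical
  constructor
  · intro hc χ
    exact IsClassFunction.eq_of_isConj (isClassFunction_irr χ) hc
  · intro hall
    by_contra hc
    have h1 := sum_irr_mul_conj g h
    rw [if_neg hc] at h1
    have h2 := sum_irr_mul_conj h h
    rw [if_pos (IsConj.refl h)] at h2
    simp_rw [hall] at h1
    rw [h1] at h2
    have : 0 < Nat.card (Subgroup.centralizer ({h} : Set G)) := Nat.card_pos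
    have : (Nat.card (Subgroup.centralizer ({h} : Set G)) : ℂ) ≠ 0 := by exact_mod_cast this.ne'
    exact this h2.symm

end ColumnOrth

section Count

variable {G : Type u} [Group G] [Finite G]

/-- The number of irreducible characters equals the number of conjugacy classes. -/
theorem card_irr_eq_card_conjClasses : Nat.card (IrrCharacter G) = Nat.card (ConjClasses G) := by
  classical
  haveI : Fintype G := Fintype.ofFinite G
  haveI : Fintype (IrrCharacter G) := Fintype.ofFinite _
  haveI : Fintype (ConjClasses G) := Fintype.ofFinite _
  let e : (IrrCharacter G → ℂ) ≃ₗ[ℂ] (ConjClasses G → ℂ) :=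
    { toFun := fun c C => (∑ χ : IrrCharacter G, c χ • (χ : G → ℂ)) (Quotient.out C)
      map_add' := by
        intro c d
        ext C
        simp [add_smul, Finset.sum_add_distrib]
      map_smul' := by
        intro r c
        ext C
        simp [mul_smul, Finset.mul_sum]
      invFun := fun F χ => classInner (fun g => F (ConjClasses.mk g)) (χ : G → ℂ)
      left_inv := by
        intro c
        ext ψ
        have hcf : IsClassFunction G (∑ χ : IrrCharacter G, c χ • (χ : G → ℂ)) :=
          isClassFunction_sum _ _ (fun χ _ => isClassFunction_smul _ (isClassFunction_irr χ))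
        have : (fun g => (∑ χ : IrrCharacter G, c χ • (χ : G → ℂ))
            (Quotient.out (ConjClasses.mk g))) = ∑ χ : IrrCharacter G, c χ • (χ : G → ℂ) := by
          ext g
          apply IsClassFunction.eq_of_isConj hcf
          rw [← ConjClasses.mk_eq_mk_iff_isConj]
          exact Quotient.out_eq _
        simp only [this]
        exact classInner_sum_irr c ψ
      right_inv := by
        intro F
        ext C
        have hcf : IsClassFunction G (fun g => F (ConjClasses.mk g)) := by
          intro g x
          have : ConjClasses.mk (x * g * x⁻¹) = ConjClasses.mk g := by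
            rw [ConjClasses.mk_eq_mk_iff_isConj]
            exact (isConj_iff.mpr ⟨x, rfl⟩).symm
          simp only [this]
        have h := IsClassFunction.eq_sum_classInner hcf
        simp only
        rw [← h]
        show F (ConjClasses.mk (Quotient.out C)) = F C
        congr 1
        exact Quotient.out_eq C }
  have := e.finrank_eq
  rw [Module.finrank_fintype_fun_eq_card, Module.finrank_fintype_fun_eq_card] at this
  rw [Nat.card_eq_fintype_card, Nat.card_eq_fintype_card]
  exact this

end Count

end Cfsg.Agent.Helper24
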