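import Mathlib
import Cfsg.Prelude.Def_Characters
import Cfsg.Agent.Helper24.Regular

/-!
Linear characters: homomorphisms `G →* ℂ` (equivalently to `ℂˣ`) are irreducible characters.
-/

namespace Cfsg.Agent.Helper24

open Representation Module

universe u v

section Linear

variable {G : Type u} [Group G]

/-- The one-dimensional representation attached to a multiplicative map into `ℂ`. -/
noncomputable def linRep (φ : G →* ℂ) : Representation ℂ G (Fin 1 → ℂ) :=
  ((algebraMap ℂ (Module.End ℂ (Fin 1 → ℂ)) : ℂ →* Module.End ℂ (Fin 1 → ℂ))).comp φ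

theorem linRep_apply (φ : G →* ℂ) (g : G) :
    linRep φ g = φ g • (LinearMap.id : (Fin 1 → ℂ) →ₗ[ℂ] (Fin 1 → ℂ)) := by
  ext v
  simp [linRep]

theorem linRep_character (φ : G →* ℂ) : (linRep φ).character = fun g => φ g := by
  ext g
  unfold Representation.character
  rw [linRep_apply, map_smul, LinearMap.trace_id]
  simp

theorem isCharacter_of_monoidHom (φ : G →* ℂ) : IsCharacter G (fun g => φ g) :=
  ⟨1, linRep φ, linRep_character φ⟩

theorem isCharacter_const_one : IsCharacter G (fun _ => (1 : ℂ)) := by
  have := isCharacter_of_monoidHom (1 : G →* ℂ)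
  simpa using this

theorem norm_monoidHom_eq_one [Finite G] (φ : G →* ℂ) (g : G) : ‖φ g‖ = 1 := by
  have h : φ g ^ orderOf g = 1 := by
    rw [← map_pow, pow_orderOf_eq_one, map_one]
  exact norm_eq_one_of_pow_eq_one (orderOf_pos g) h

theorem isIrrCharacter_of_monoidHom [Finite G] (φ : G →* ℂ) :
    IsIrrCharacter G (fun g => φ g) := by
  haveI : Fintype G := Fintype.ofFinite G
  haveI : Fintype (IrrCharacter G) := Fintype.ofFinite _
  refine IsCharacter.isIrrCharacter_of_classInner_self (isCharacter_of_monoidHom φ) ?_
  unfold classInner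
  have : ∀ g : G, φ g * (starRingEnd ℂ) (φ g) = 1 := by
    intro g
    rw [Complex.mul_conj, Complex.normSq_eq_norm_sq, norm_monoidHom_eq_one φ g]
    simp
  simp only [this]
  rw [Finset.sum_const, Finset.card_univ, nsmul_eq_mul, mul_one, Nat.card_eq_fintype_card]
  exact inv_mul_cancel₀ (by
    have := card_ne_zero_complex (G := G)
    rwa [Nat.card_eq_fintype_card] at this)

theorem isIrrCharacter_const_one [Finite G] : IsIrrCharacter G (fun _ => (1 : ℂ)) := by
  have := isIrrCharacter_of_monoidHom (1 : G →* ℂ)
  simpa using this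

/-- The trivial character as an element of `IrrCharacter G`. -/
noncomputable def trivIrr (G : Type u) [Group G] [Finite G] : IrrCharacter G :=
  ⟨fun _ => 1, isIrrCharacter_const_one⟩

@[simp] theorem trivIrr_apply [Finite G] (g : G) : (trivIrr G : G → ℂ) g = 1 := rfl

end Linear

end Cfsg.Agent.Helper24
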