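import Mathlib
import Cfsg.Prelude.Def_Characters
import Cfsg.Agent.Helper24.ColumnOrth
import Cfsg.Agent.Helper24.Linear
import Cfsg.Agent.Helper5.LinChar

/-!
Degrees as natural numbers; abelian groups and degrees.
-/

namespace Cfsg.Agent.Helper24

open Representation Module

universe u

section Deg

variable {G : Type u} [Group G]

/-- The degree of an irreducible character, as a natural number. -/
noncomputable def irrDeg (χ : IrrCharacter G) : ℕ := (isIrrCharacter_one χ.2).choose

theorem irrDeg_pos (χ : IrrCharacter G) : 0 < irrDeg χ := (isIrrCharacter_one χ.2).choose_spec.1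

theorem irrDeg_spec (χ : IrrCharacter G) : (χ : G → ℂ) 1 = (irrDeg χ : ℂ) :=
  (isIrrCharacter_one χ.2).choose_spec.2

theorem irrDeg_eq_one_iff (χ : IrrCharacter G) : irrDeg χ = 1 ↔ (χ : G → ℂ) 1 = 1 := by
  rw [irrDeg_spec]
  constructor
  · intro h; rw [h]; simp
  · intro h; exact_mod_cast h

/-- The sum of the squares of the degrees, in `ℕ`. -/
theorem sum_irrDeg_sq [Fintype G] [Fintype (IrrCharacter G)] :
    ∑ χ : IrrCharacter G, irrDeg χ ^ 2 = Nat.card G := by
  have h := sum_sq_irr_one (G := G)
  simp only [irrDeg_spec] at h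
  exact_mod_cast h

end Deg

section Abelian

variable {G : Type u} [Group G] [Finite G]

omit [Finite G] in
theorem card_conjClasses_eq_card_of_comm (h : ∀ a b : G, a * b = b * a) :
    Nat.card (ConjClasses G) = Nat.card G := by
  symm
  refine Nat.card_eq_of_bijective ConjClasses.mk ⟨?_, ConjClasses.mk_surjective⟩
  intro a b hab
  rw [ConjClasses.mk_eq_mk_iff_isConj, isConj_iff] at hab
  obtain ⟨c, hc⟩ := hab
  rw [← hc, h c a, mul_inv_cancel_right]

theorem comm_of_card_conjClasses_eq_card (h : Nat.card (ConjClasses G) = Nat.card G) :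
    ∀ a b : G, a * b = b * a := by
  haveI : Fintype G := Fintype.ofFinite G
  haveI : Fintype (ConjClasses G) := Fintype.ofFinite _
  have hbij : Function.Bijective (ConjClasses.mk : G → ConjClasses G) := by
    rw [Fintype.bijective_iff_surjective_and_card]
    refine ⟨ConjClasses.mk_surjective, ?_⟩
    rw [← Nat.card_eq_fintype_card, ← Nat.card_eq_fintype_card, h]
  intro a b
  have : ConjClasses.mk (a * b * a⁻¹) = ConjClasses.mk b := by
    rw [ConjClasses.mk_eq_mk_iff_isConj, isConj_iff]
    exact ⟨a⁻¹, by group⟩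
  have h2 := hbij.1 this
  calc a * b = a * b * a⁻¹ * a := by group
    _ = b * a := by rw [h2]

/-- A finite group is commutative iff all its irreducible characters have degree one. -/
theorem comm_iff_forall_irr_one :
    (∀ a b : G, a * b = b * a) ↔ ∀ χ : IrrCharacter G, (χ : G → ℂ) 1 = 1 := by
  haveI : Fintype G := Fintype.ofFinite G
  haveI : Fintype (IrrCharacter G) := Fintype.ofFinite _
  have hsum := sum_irrDeg_sq (G := G)
  have hcard := card_irr_eq_card_conjClasses (G := G)
  rw [Nat.card_eq_fintype_card (α := IrrCharacter G)] at hcard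
  constructor
  · intro hcomm χ
    rw [← irrDeg_eq_one_iff]
    have h1 := card_conjClasses_eq_card_of_comm hcomm
    -- ∑ (deg^2 - 1) = 0
    have h2 : ∑ χ : IrrCharacter G, irrDeg χ ^ 2 = ∑ _χ : IrrCharacter G, 1 := by
      rw [hsum, Finset.sum_const, Finset.card_univ, smul_eq_mul, mul_one, hcard, h1]
    by_contra hne
    have hlt : ∑ _χ : IrrCharacter G, 1 < ∑ χ : IrrCharacter G, irrDeg χ ^ 2 := by
      refine Finset.sum_lt_sum (fun ψ _ => Nat.one_le_pow _ _ (irrDeg_pos ψ)) ⟨χ, Finset.mem_univ χ, ?_⟩
      have := irrDeg_pos χ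
      have h2 : 2 ≤ irrDeg χ := by omega
      nlinarith
    omega
  · intro hall
    apply comm_of_card_conjClasses_eq_card
    rw [← hcard, ← hsum]
    have : ∀ χ : IrrCharacter G, irrDeg χ ^ 2 = 1 := by
      intro χ
      rw [(irrDeg_eq_one_iff χ).mpr (hall χ)]
      norm_num
    simp [this]

end Abelian

section LinearCount

variable {G : Type u} [Group G] [Finite G]

/-- The linear character attached to a homomorphism `Abelianization G →* ℂˣ`. -/
noncomputable def linOfAb (φ : Abelianization G →* ℂˣ) :
    {χ : IrrCharacter G // (χ : G → ℂ) 1 = 1} :=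
  ⟨⟨fun g => (((Units.coeHom ℂ).comp (φ.comp Abelianization.of)) g : ℂ),
    isIrrCharacter_of_monoidHom ((Units.coeHom ℂ).comp (φ.comp Abelianization.of))⟩, by simp⟩

theorem linOfAb_apply (φ : Abelianization G →* ℂˣ) (g : G) :
    ((linOfAb φ : IrrCharacter G) : G → ℂ) g = ((φ (Abelianization.of g) : ℂˣ) : ℂ) := rfl

theorem linOfAb_bijective : Function.Bijective (linOfAb (G := G)) := by
  constructor
  · intro φ φ' h
    apply Abelianization.hom_ext
    ext g
    have := congrFun (congrArg (fun χ : {χ : IrrCharacter G // (χ : G → ℂ) 1 = 1} =>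
      ((χ : IrrCharacter G) : G → ℂ)) h) g
    simpa [linOfAb_apply] using this
  · rintro ⟨χ, h1⟩
    set ψ : G →* ℂ := Cfsg.Agent.Helper5.linCharHom (IsIrrCharacter.isCharacter χ.2) h1 with hψ
    refine ⟨Abelianization.lift ψ.toHomUnits, ?_⟩
    apply Subtype.ext
    apply Subtype.ext
    funext g
    rw [linOfAb_apply, Abelianization.lift_apply_of]
    rfl

/-- The number of linear characters is the index of the commutator subgroup. -/
theorem card_linear_irr :
    Nat.card {χ : IrrCharacter G // (χ : G → ℂ) 1 = 1} = (commutator G).index := by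
  rw [← Nat.card_congr (Equiv.ofBijective _ (linOfAb_bijective (G := G)))]
  haveI : NeZero ((Monoid.exponent (Abelianization G) : ℕ) : ℂ) :=
    ⟨by exact_mod_cast Monoid.exponent_ne_zero_of_finite⟩
  rw [CommGroup.card_monoidHom_of_hasEnoughRootsOfUnity (Abelianization G) ℂ]
  rw [Subgroup.index_eq_card]
  rfl


end LinearCount

end Cfsg.Agent.Helper24
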