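import Mathlib
import Cfsg.Prelude.Def_Characters
import Cfsg.Agent.Helper24.ColumnOrth

/-!
Integrality of central characters, and the degree of an irreducible representation
divides the group order.
-/

namespace Cfsg.Agent.Helper24

open Representation Module

universe u v

section Integral

variable {G : Type u} [Group G] [Finite G]
variable {V : Type v} [AddCommGroup V] [Module ℂ V] [FiniteDimensional ℂ V]

omit [FiniteDimensional ℂ V] in
/-- A combination of the `ρ g` with algebraic-integer coefficients is integral over `ℤ`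
in the endomorphism ring. -/
theorem isIntegral_sum_smul_rho [Fintype G] (ρ : Representation ℂ G V) (a : G → ℂ)
    (ha : ∀ g, IsIntegral ℤ (a g)) :
    IsIntegral ℤ (∑ g, a g • ρ g : Module.End ℂ V) := by
  classical
  let O : Subalgebra ℤ ℂ := integralClosure ℤ ℂ
  let a' : G → O := fun g => ⟨a g, ha g⟩
  let z : MonoidAlgebra O G := ∑ g, MonoidAlgebra.single g (a' g)
  have hz : IsIntegral O z := IsIntegral.of_finite O z
  let φ : MonoidAlgebra O G →ₐ[O] Module.End ℂ V := MonoidAlgebra.lift O (Module.End ℂ V) G ρ
  have hφz : φ z = ∑ g, a g • ρ g := by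
    simp only [z, map_sum, φ, MonoidAlgebra.lift_single]
    rfl
  have h1 : IsIntegral O (∑ g, a g • ρ g : Module.End ℂ V) := by
    rw [← hφz]
    exact IsIntegral.map φ hz
  exact isIntegral_trans _ h1

/-- Central characters are integral: for an irreducible representation and a class function
`a` with algebraic-integer values, `(∑ a g χ g) / χ 1` is an algebraic integer. -/
theorem isIntegral_class_sum_div [Fintype G] (ρ : Representation ℂ G V) [ρ.IsIrreducible]
    (a : G → ℂ) (ha : IsClassFunction G a) (hai : ∀ g, IsIntegral ℤ (a g)) :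
    ∃ c : ℂ, IsIntegral ℤ c ∧ c * (finrank ℂ V : ℂ) = ∑ g, a g * ρ.character g := by
  obtain ⟨c, hT, hc⟩ := sum_smul_rho_eq_smul_id ρ a ha
  refine ⟨c, ?_, hc⟩
  have h1 := isIntegral_sum_smul_rho ρ a hai
  rw [hT] at h1
  have hV : Nontrivial V := Module.nontrivial_of_finrank_pos (finrank_pos_of_isIrreducible ρ)
  have hinj : Function.Injective (algebraMap ℂ (Module.End ℂ V)) :=
    (algebraMap ℂ (Module.End ℂ V)).injective
  have h2 : (c • (LinearMap.id : V →ₗ[ℂ] V)) = algebraMap ℂ (Module.End ℂ V) c := by
    rw [Algebra.algebraMap_eq_smul_one]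
    rfl
  rw [h2] at h1
  exact (isIntegral_algebraMap_iff hinj).mp h1


/-- A rational number which is an algebraic integer (as a complex number) is an integer. -/
theorem exists_int_of_isIntegral_ratCast {q : ℚ} (h : IsIntegral ℤ (q : ℂ)) : ∃ m : ℤ, q = m := by
  have h1 : IsIntegral ℤ q := by
    have hinj : Function.Injective (algebraMap ℚ ℂ) := (algebraMap ℚ ℂ).injective
    exact (isIntegral_algebraMap_iff hinj).mp (by simpa using h)
  obtain ⟨m, hm⟩ := (IsIntegrallyClosed.isIntegral_iff (R := ℤ) (K := ℚ)).mp h1
  exact ⟨m, by simpa using hm.symm⟩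

/-- The size of the class of `g` times `χ g` over `χ 1` is an algebraic integer. -/
theorem isIntegral_index_mul_char_div (ρ : Representation ℂ G V) [ρ.IsIrreducible] (g : G) :
    IsIntegral ℤ (((Subgroup.centralizer ({g} : Set G)).index : ℂ) * ρ.character g /
      (finrank ℂ V : ℂ)) := by
  classical
  haveI : Fintype G := Fintype.ofFinite G
  have hai : ∀ x, IsIntegral ℤ (classIndicator g x) := by
    intro x
    by_cases hx : IsConj g x
    · rw [classIndicator_of_isConj hx]; exact isIntegral_one
    · rw [classIndicator_of_not_isConj hx]; exact isIntegral_zero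
  obtain ⟨c, hc, hcs⟩ := isIntegral_class_sum_div ρ (classIndicator g)
    (isClassFunction_classIndicator g) hai
  have hsum : ∑ x, classIndicator g x * ρ.character x =
      ((Subgroup.centralizer ({g} : Set G)).index : ℂ) * ρ.character g := by
    have : ∀ x, classIndicator g x * ρ.character x = classIndicator g x * ρ.character g := by
      intro x
      exact classIndicator_mul g _ (IsCharacter.isClassFunction (isCharacter_character ρ)) x
    simp_rw [this]
    rw [← Finset.sum_mul, sum_classIndicator, index_centralizer_eq_card_conj]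
  have hne : (finrank ℂ V : ℂ) ≠ 0 := by
    have := finrank_pos_of_isIrreducible ρ
    exact_mod_cast this.ne'
  have : ((Subgroup.centralizer ({g} : Set G)).index : ℂ) * ρ.character g / (finrank ℂ V : ℂ) = c := by
    rw [← hsum, ← hcs]
    field_simp
  rw [this]
  exact hc

/-- The degree of an irreducible representation divides the group order. -/
theorem finrank_dvd_card (ρ : Representation ℂ G V) [ρ.IsIrreducible] :
    finrank ℂ V ∣ Nat.card G := by
  classical
  haveI : Fintype G := Fintype.ofFinite G
  have hcf : IsClassFunction G ρ.character :=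
    IsCharacter.isClassFunction (isCharacter_character ρ)
  obtain ⟨c, hc, hcs⟩ := isIntegral_class_sum_div ρ (fun g => (starRingEnd ℂ) (ρ.character g))
    (isClassFunction_conj hcf) (by
      intro g
      rw [← char_inv]
      exact char_isIntegral ρ g⁻¹)
  have hnorm : ∑ g, (starRingEnd ℂ) (ρ.character g) * ρ.character g = (Nat.card G : ℂ) := by
    have h1 := classInner_character_of_irreducible ρ ρ
    rw [if_pos ⟨Representation.Equiv.refl ρ⟩] at h1
    simp only [classInner] at h1
    have hG : (Nat.card G : ℂ) ≠ 0 := card_ne_zero_complex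
    have : ∑ g, ρ.character g * (starRingEnd ℂ) (ρ.character g) = (Nat.card G : ℂ) := by
      field_simp at h1
      exact h1
    rw [← this]
    refine Finset.sum_congr rfl ?_
    intro g _
    ring
  rw [hnorm] at hcs
  have hpos := finrank_pos_of_isIrreducible ρ
  have hne : (finrank ℂ V : ℂ) ≠ 0 := by exact_mod_cast hpos.ne'
  have hcq : c = (((Nat.card G : ℚ) / (finrank ℂ V : ℚ) : ℚ) : ℂ) := by
    push_cast
    rw [eq_div_iff hne]
    exact hcs
  rw [hcq] at hc
  obtain ⟨m, hm⟩ := exists_int_of_isIntegral_ratCast hc
  have hneq : (finrank ℂ V : ℚ) ≠ 0 := by exact_mod_cast hpos.ne'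
  have h2 : (Nat.card G : ℚ) = (finrank ℂ V : ℚ) * m := by
    rw [← hm]
    field_simp
  have h3 : (Nat.card G : ℤ) = (finrank ℂ V : ℤ) * m := by exact_mod_cast h2
  have h4 : (finrank ℂ V : ℤ) ∣ (Nat.card G : ℤ) := ⟨m, h3⟩
  exact_mod_cast h4

end Integral

end Cfsg.Agent.Helper24
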