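import Mathlib
import Cfsg.Prelude.Def_Characters
import Cfsg.Agent.Helper24.Abelian
import Cfsg.Agent.Helper24.Integrality

/-!
Degrees divide the group order (for `IrrCharacter`), and faithful representations of small degree.
-/

namespace Cfsg.Agent.Helper24

open Representation Module

universe u v

section

variable {G : Type u} [Group G] [Finite G]

theorem irrDeg_dvd_card (ψ : IrrCharacter G) : irrDeg ψ ∣ Nat.card G := by
  obtain ⟨n, ρ, hρ, h⟩ := ψ.2
  haveI := hρ
  have h1 : (ψ : G → ℂ) 1 = (finrank ℂ (Fin n → ℂ) : ℂ) := by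
    rw [← h, Representation.char_one]
  have h2 : irrDeg ψ = finrank ℂ (Fin n → ℂ) := by
    rw [irrDeg_spec] at h1
    exact_mod_cast h1
  rw [h2]
  exact finrank_dvd_card ρ

omit [Finite G] in
theorem multiset_map_irr_sum_apply (m : Multiset (IrrCharacter G)) (x : G) :
    (m.map (fun χ : IrrCharacter G => (χ : G → ℂ))).sum x =
      (m.map (fun χ : IrrCharacter G => (χ : G → ℂ) x)).sum := by
  induction m using Multiset.induction_on with
  | empty => simp
  | cons a s ih => simp [ih]

omit [Finite G] in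
/-- A linear irreducible character is trivial on commutators. -/
theorem irr_commutator_eq_one (ψ : IrrCharacter G) (h1 : (ψ : G → ℂ) 1 = 1) (a b : G) :
    (ψ : G → ℂ) (a * b * a⁻¹ * b⁻¹) = 1 := by
  have hc := IsIrrCharacter.isCharacter ψ.2
  rw [Cfsg.Agent.Helper5.linChar_mul hc h1, Cfsg.Agent.Helper5.linChar_mul hc h1,
    Cfsg.Agent.Helper5.linChar_mul hc h1, Cfsg.Agent.Helper5.linChar_inv hc h1,
    Cfsg.Agent.Helper5.linChar_inv hc h1]
  have ha := Cfsg.Agent.Helper5.linChar_ne_zero hc h1 a
  have hb := Cfsg.Agent.Helper5.linChar_ne_zero hc h1 b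
  field_simp

variable {V : Type v} [AddCommGroup V] [Module ℂ V] [FiniteDimensional ℂ V]

/-- If all irreducible constituents of `ρ` are linear then `ρ` is trivial on commutators. -/
theorem rho_commutator_eq_id_of_linear (ρ : Representation ℂ G V)
    (m : Multiset (IrrCharacter G))
    (hm : ρ.character = (m.map (fun χ : IrrCharacter G => (χ : G → ℂ))).sum)
    (hlin : ∀ ψ ∈ m, (ψ : G → ℂ) 1 = 1) (a b : G) :
    ρ (a * b * a⁻¹ * b⁻¹) = LinearMap.id := by
  rw [← char_eq_finrank_iff]
  have h1 : (finrank ℂ V : ℂ) = ρ.character 1 := (Representation.char_one ρ).symm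
  rw [h1, hm]
  have hsum := multiset_map_irr_sum_apply m
  rw [hsum, hsum]
  congr 1
  refine Multiset.map_congr rfl ?_
  intro ψ hψ
  rw [irr_commutator_eq_one ψ (hlin ψ hψ), hlin ψ hψ]

/-- A faithful representation of degree less than every prime divisor of `|G|` forces `G` to be
abelian. -/
theorem comm_of_faithful_small_degree (ρ : Representation ℂ G V)
    (hfaithful : Function.Injective ρ)
    (hdeg : ∀ p : ℕ, p.Prime → p ∣ Nat.card G → finrank ℂ V < p) (a b : G) : a * b = b * a := by
  obtain ⟨m, hm⟩ := exists_multiset_irr ρ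
  have hsum := multiset_map_irr_sum_apply m
  have hone : (finrank ℂ V : ℂ) = ((m.map (fun χ : IrrCharacter G => irrDeg χ)).sum : ℕ) := by
    rw [← Representation.char_one ρ, hm, hsum]
    push_cast
    rw [Multiset.map_map]
    congr 1
    refine Multiset.map_congr rfl ?_
    intro ψ _
    simp [irrDeg_spec]
  have hone' : finrank ℂ V = (m.map (fun χ : IrrCharacter G => irrDeg χ)).sum := by
    exact_mod_cast hone
  have hlin : ∀ ψ ∈ m, (ψ : G → ℂ) 1 = 1 := by
    intro ψ hψ
    rw [← irrDeg_eq_one_iff]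
    by_contra hne
    obtain ⟨p, hp, hpd⟩ := Nat.exists_prime_and_dvd hne
    have h1 : p ∣ Nat.card G := hpd.trans (irrDeg_dvd_card ψ)
    have h2 := hdeg p hp h1
    have h3 : p ≤ irrDeg ψ := Nat.le_of_dvd (irrDeg_pos ψ) hpd
    have h4 : irrDeg ψ ≤ finrank ℂ V := by
      rw [hone']
      exact Multiset.single_le_sum (fun _ _ => Nat.zero_le _) _
        (Multiset.mem_map_of_mem _ hψ)
    omega
  have hid := rho_commutator_eq_id_of_linear ρ m hm hlin a b
  have h1 : ρ (a * b * a⁻¹ * b⁻¹) = ρ 1 := by rw [hid, map_one]; rfl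
  have h2 := hfaithful h1
  calc a * b = (a * b * a⁻¹ * b⁻¹) * (b * a) := by group
    _ = b * a := by rw [h2, one_mul]

end

end Cfsg.Agent.Helper24
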