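import Mathlib
import Cfsg.Prelude.Def_Characters
import Cfsg.Agent.Helper24.SmallDegree

/-!
Complex conjugate characters, real characters and groups of odd order.
-/

namespace Cfsg.Agent.Helper24

open Representation Module

universe u v

section Involution

/-- A sum over a finite set with a fixed-point-free involution preserving the summand is twice
the sum over "half" of the set. -/
theorem sum_eq_two_nsmul_of_involution {α M : Type*} [LinearOrder α] [AddCommMonoid M]
    (s : Finset α) (σ : α → α) (hs : ∀ a ∈ s, σ a ∈ s) (hσ : ∀ a ∈ s, σ (σ a) = a)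
    (hfix : ∀ a ∈ s, σ a ≠ a) (f : α → M) (hf : ∀ a ∈ s, f (σ a) = f a) :
    ∑ a ∈ s, f a = 2 • ∑ a ∈ s.filter (fun a => a < σ a), f a := by
  have hsplit : s = s.filter (fun a => a < σ a) ∪ s.filter (fun a => σ a < a) := by
    ext a
    simp only [Finset.mem_union, Finset.mem_filter]
    constructor
    · intro ha
      rcases lt_trichotomy a (σ a) with h | h | h
      · exact Or.inl ⟨ha, h⟩
      · exact absurd h.symm (hfix a ha)
      · exact Or.inr ⟨ha, h⟩
    · rintro (⟨ha, _⟩ | ⟨ha, _⟩) <;> exact ha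
  have hdisj : Disjoint (s.filter (fun a => a < σ a)) (s.filter (fun a => σ a < a)) := by
    rw [Finset.disjoint_filter]
    intro a _ h1 h2
    exact lt_asymm h1 h2
  have hB : ∑ a ∈ s.filter (fun a => σ a < a), f a = ∑ a ∈ s.filter (fun a => a < σ a), f a := by
    refine Finset.sum_nbij' σ σ ?_ ?_ ?_ ?_ ?_
    · intro a ha
      rw [Finset.mem_filter] at ha ⊢
      refine ⟨hs a ha.1, ?_⟩
      rw [hσ a ha.1]
      exact ha.2
    · intro a ha
      rw [Finset.mem_filter] at ha ⊢
      refine ⟨hs a ha.1, ?_⟩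
      rw [hσ a ha.1]
      exact ha.2
    · intro a ha
      exact hσ a (Finset.mem_filter.mp ha).1
    · intro a ha
      exact hσ a (Finset.mem_filter.mp ha).1
    · intro a ha
      exact (hf a (Finset.mem_filter.mp ha).1).symm
  conv_lhs => rw [hsplit]
  rw [Finset.sum_union hdisj, hB, two_nsmul]

end Involution

section Conj

variable {G : Type u} [Group G]

/-- The complex conjugate of a character is a character (finite group). -/
theorem isCharacter_star [Finite G] {χ : G → ℂ} (h : IsCharacter G χ) :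
    IsCharacter G (fun g => (starRingEnd ℂ) (χ g)) := by
  obtain ⟨n, ρ, rfl⟩ := h
  have : (fun g => (starRingEnd ℂ) (ρ.character g)) = (Representation.dual ρ).character := by
    funext g
    rw [← char_inv ρ g]
    unfold Representation.character
    rw [Representation.dual_apply]
    exact (LinearMap.trace_transpose' (ρ g⁻¹)).symm
  rw [this]
  exact isCharacter_character _

theorem classInner_star_star [Fintype G] (φ ψ : G → ℂ) :
    classInner (fun g => (starRingEnd ℂ) (φ g)) (fun g => (starRingEnd ℂ) (ψ g)) =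
      (starRingEnd ℂ) (classInner φ ψ) := by
  unfold classInner
  rw [map_mul, map_sum, map_inv₀, Complex.conj_natCast]
  congr 1
  refine Finset.sum_congr rfl ?_
  intro g _
  rw [map_mul]

/-- The complex conjugate of an irreducible character is irreducible. -/
theorem isIrrCharacter_star [Finite G] {χ : G → ℂ} (h : IsIrrCharacter G χ) :
    IsIrrCharacter G (fun g => (starRingEnd ℂ) (χ g)) := by
  haveI : Fintype G := Fintype.ofFinite G
  haveI : Fintype (IrrCharacter G) := Fintype.ofFinite _
  refine IsCharacter.isIrrCharacter_of_classInner_self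
    (isCharacter_star (IsIrrCharacter.isCharacter h)) ?_
  rw [classInner_star_star, classInner_irr_self ⟨χ, h⟩, map_one]

/-- Complex conjugation on `IrrCharacter G`. -/
noncomputable def irrStar [Finite G] (χ : IrrCharacter G) : IrrCharacter G :=
  ⟨fun g => (starRingEnd ℂ) ((χ : G → ℂ) g), isIrrCharacter_star χ.2⟩

@[simp] theorem irrStar_apply [Finite G] (χ : IrrCharacter G) (g : G) :
    (irrStar χ : G → ℂ) g = (starRingEnd ℂ) ((χ : G → ℂ) g) := rfl

theorem irrStar_irrStar [Finite G] (χ : IrrCharacter G) : irrStar (irrStar χ) = χ := by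
  apply Subtype.ext
  funext g
  simp

theorem irrDeg_irrStar [Finite G] (χ : IrrCharacter G) : irrDeg (irrStar χ) = irrDeg χ := by
  have h1 := irrDeg_spec (irrStar χ)
  rw [irrStar_apply, irrDeg_spec χ, Complex.conj_natCast] at h1
  exact_mod_cast h1.symm

theorem irr_isIntegral [Finite G] (χ : IrrCharacter G) (g : G) :
    IsIntegral ℤ ((χ : G → ℂ) g) := by
  obtain ⟨n, ρ, _, h⟩ := χ.2
  rw [← h]
  exact char_isIntegral ρ g

theorem irr_inv [Finite G] (χ : IrrCharacter G) (g : G) :
    (χ : G → ℂ) g⁻¹ = (starRingEnd ℂ) ((χ : G → ℂ) g) := by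
  obtain ⟨n, ρ, _, h⟩ := χ.2
  rw [← h]
  exact char_inv ρ g

end Conj

section Odd

variable {G : Type u} [Group G] [Finite G]

omit [Finite G] in
theorem inv_ne_self_of_odd (hodd : Odd (Nat.card G)) {g : G} (hg : g ≠ 1) : g⁻¹ ≠ g := by
  intro h
  apply hg
  have h2 : g ^ 2 = 1 := by
    rw [pow_two]
    nth_rewrite 1 [← h]
    exact inv_mul_cancel g
  have h3 : orderOf g ∣ 2 := orderOf_dvd_of_pow_eq_one h2
  have h4 : orderOf g ∣ Nat.card G := orderOf_dvd_natCard g
  have h5 : orderOf g ∣ Nat.gcd 2 (Nat.card G) := Nat.dvd_gcd h3 h4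
  have h6 : Nat.gcd 2 (Nat.card G) = 1 := Nat.coprime_two_left.mpr hodd
  rw [h6, Nat.dvd_one] at h5
  exact orderOf_eq_one_iff.mp h5

/-- In a group of odd order, a real-valued irreducible character is trivial. -/
theorem irr_eq_trivIrr_of_real_of_odd (hodd : Odd (Nat.card G)) (χ : IrrCharacter G)
    (hreal : ∀ g : G, ((χ : G → ℂ) g).im = 0) : χ = trivIrr G := by
  classical
  haveI : Fintype G := Fintype.ofFinite G
  by_contra hne
  letI : LinearOrder G := LinearOrder.lift' (Fintype.equivFin G) (Equiv.injective _)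
  have h0 : ∑ g : G, (χ : G → ℂ) g = 0 := by
    have h := classInner_irr_ne hne
    unfold classInner at h
    have h1 := (mul_eq_zero.mp h).resolve_left (inv_ne_zero card_ne_zero_complex)
    simpa using h1
  rw [← Finset.add_sum_erase Finset.univ _ (Finset.mem_univ (1 : G))] at h0
  have hreal' : ∀ g : G, (starRingEnd ℂ) ((χ : G → ℂ) g) = (χ : G → ℂ) g := by
    intro g
    exact Complex.conj_eq_iff_im.mpr (hreal g)
  have h1 := sum_eq_two_nsmul_of_involution (Finset.univ.erase (1 : G)) (fun g => g⁻¹)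
    (by
      intro a ha
      rw [Finset.mem_erase] at ha ⊢
      exact ⟨inv_ne_one.mpr ha.1, Finset.mem_univ _⟩)
    (fun a _ => inv_inv a)
    (fun a ha => inv_ne_self_of_odd hodd (Finset.ne_of_mem_erase ha))
    (fun g => (χ : G → ℂ) g)
    (fun a _ => by rw [irr_inv, hreal'])
  rw [h1] at h0
  set α := ∑ a ∈ (Finset.univ.erase (1 : G)).filter (fun a => a < a⁻¹), (χ : G → ℂ) a with hα
  have hαint : IsIntegral ℤ α := IsIntegral.sum _ (fun g _ => irr_isIntegral χ g)
  rw [irrDeg_spec] at h0
  have hαval : α = ((-(irrDeg χ : ℚ) / 2 : ℚ) : ℂ) := by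
    push_cast
    rw [two_nsmul] at h0
    linear_combination (1 / 2 : ℂ) * h0
  rw [hαval] at hαint
  obtain ⟨m, hm⟩ := exists_int_of_isIntegral_ratCast hαint
  have h2 : (irrDeg χ : ℤ) = -2 * m := by
    have : (irrDeg χ : ℚ) = -2 * m := by linarith
    exact_mod_cast this
  have h3 : 2 ∣ irrDeg χ := by
    have : (2 : ℤ) ∣ (irrDeg χ : ℤ) := ⟨-m, by rw [h2]; ring⟩
    exact_mod_cast this
  have h4 : 2 ∣ Nat.card G := h3.trans (irrDeg_dvd_card χ)
  exact (Nat.not_even_iff_odd.mpr hodd) (even_iff_two_dvd.mpr h4)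

theorem irr_eq_one_of_real_of_odd (hodd : Odd (Nat.card G)) (χ : IrrCharacter G)
    (hreal : ∀ g : G, ((χ : G → ℂ) g).im = 0) : (χ : G → ℂ) = fun _ => 1 := by
  rw [irr_eq_trivIrr_of_real_of_odd hodd χ hreal]
  rfl

/-- In a group of odd order, `|G| ≡ k(G) mod 16`. -/
theorem card_modEq_card_conjClasses_of_odd (hodd : Odd (Nat.card G)) :
    Nat.card G ≡ Nat.card (ConjClasses G) [MOD 16] := by
  classical
  haveI : Fintype G := Fintype.ofFinite G
  haveI : Fintype (IrrCharacter G) := Fintype.ofFinite _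
  letI : LinearOrder (IrrCharacter G) :=
    LinearOrder.lift' (Fintype.equivFin (IrrCharacter G)) (Equiv.injective _)
  rw [← card_irr_eq_card_conjClasses, ← sum_irrDeg_sq (G := G),
    Nat.card_eq_fintype_card, ← Finset.card_univ]
  rw [← Finset.add_sum_erase Finset.univ _ (Finset.mem_univ (trivIrr G))]
  rw [← Finset.card_erase_add_one (Finset.mem_univ (trivIrr G))]
  have htriv : irrDeg (trivIrr G) = 1 := by
    rw [irrDeg_eq_one_iff]; rfl
  rw [htriv, one_pow, add_comm]
  refine Nat.ModEq.add_right 1 ?_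
  -- involution
  have hs : ∀ a ∈ Finset.univ.erase (trivIrr G), irrStar a ∈ Finset.univ.erase (trivIrr G) := by
    intro a ha
    rw [Finset.mem_erase] at ha ⊢
    refine ⟨?_, Finset.mem_univ _⟩
    intro h
    apply ha.1
    rw [← irrStar_irrStar a, h]
    apply Subtype.ext
    funext g
    simp
  have hfix : ∀ a ∈ Finset.univ.erase (trivIrr G), irrStar a ≠ a := by
    intro a ha h
    apply Finset.ne_of_mem_erase ha
    refine irr_eq_trivIrr_of_real_of_odd hodd a ?_
    intro g
    have := congrFun (congrArg Subtype.val h) g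
    rw [irrStar_apply] at this
    exact Complex.conj_eq_iff_im.mp this
  have h1 := sum_eq_two_nsmul_of_involution (Finset.univ.erase (trivIrr G)) irrStar hs
    (fun a _ => irrStar_irrStar a) hfix (fun χ => irrDeg χ ^ 2)
    (fun a _ => by rw [irrDeg_irrStar])
  have h2 := sum_eq_two_nsmul_of_involution (Finset.univ.erase (trivIrr G)) irrStar hs
    (fun a _ => irrStar_irrStar a) hfix (fun _ => 1) (fun a _ => rfl)
  rw [h1]
  have hc : (Finset.univ.erase (trivIrr G)).card = ∑ _a ∈ Finset.univ.erase (trivIrr G), 1 := by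
    simp
  rw [hc, h2, smul_eq_mul, smul_eq_mul]
  -- each square of an odd number is 1 mod 8
  have hsq : ∀ χ : IrrCharacter G, irrDeg χ ^ 2 ≡ 1 [MOD 8] := by
    intro χ
    have hoddχ : Odd (irrDeg χ) := by
      rcases Nat.even_or_odd (irrDeg χ) with he | ho
      · exfalso
        have : 2 ∣ Nat.card G := (even_iff_two_dvd.mp he).trans (irrDeg_dvd_card χ)
        exact (Nat.not_even_iff_odd.mpr hodd) (even_iff_two_dvd.mpr this)
      · exact ho
    obtain ⟨t, ht⟩ := hoddχ
    rw [ht]
    have : (2 * t + 1) ^ 2 = 8 * (t * (t + 1) / 2) + 1 := by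
      have h2 : 2 ∣ t * (t + 1) := (Nat.even_mul_succ_self t).two_dvd
      obtain ⟨c, hc⟩ := h2
      rw [hc, Nat.mul_div_cancel_left c (by norm_num)]
      nlinarith
    rw [this]
    unfold Nat.ModEq
    omega
  have hsum : ∑ a ∈ (Finset.univ.erase (trivIrr G)).filter (fun a => a < irrStar a),
      irrDeg a ^ 2 ≡
      ∑ _a ∈ (Finset.univ.erase (trivIrr G)).filter (fun a => a < irrStar a), 1 [MOD 8] := by
    have := Nat.ModEq.sum (s := (Finset.univ.erase (trivIrr G)).filter (fun a => a < irrStar a))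
      (f := fun a => irrDeg a ^ 2) (g := fun _ => 1) (n := 8) (fun a _ => hsq a)
    exact this
  exact Nat.ModEq.mul_left' 2 hsum

end Odd

end Cfsg.Agent.Helper24
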