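import Mathlib
import Cfsg.Prelude.Def_Blocks
import Cfsg.Agent.Helper5.OsimaSupport
import Cfsg.Agent.Helper5.BrauerMap2
import Cfsg.Agent.Helper5.BlockBasic
import Cfsg.Agent.Helper24.Integrality
import Cfsg.Agent.Helper24.RealChar
import Cfsg.Agent.Helper24.Abelian

/-!
Characters of `p`-defect zero vanish on `p`-singular elements (via the exact Osima support
theorem of `Helper5.OsimaSupport`).
-/

namespace Cfsg.Agent.Helper24

open Cfsg Cfsg.Agent.Helper5 Cfsg.Agent.Helper5.Loc Cfsg.Agent.Helper5.CC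

universe u

/-- Every rational prime lies in a maximal ideal of the ring of algebraic integers. -/
theorem exists_isPModular (p : ℕ) (hp : p.Prime) : ∃ M : Ideal AlgInt, IsPModular p M := by
  have hne : Ideal.span {(p : AlgInt)} ≠ ⊤ := by
    intro h
    rw [Ideal.eq_top_iff_one, Ideal.mem_span_singleton] at h
    obtain ⟨a, ha⟩ := h
    have h1 : (1 : ℂ) = (p : ℂ) * (a : ℂ) := by
      have := congrArg (fun x : AlgInt => (x : ℂ)) ha
      simpa using this
    have hp0 : (p : ℂ) ≠ 0 := by exact_mod_cast hp.ne_zero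
    have h2 : (a : ℂ) = (((1 : ℚ) / (p : ℚ) : ℚ) : ℂ) := by
      push_cast
      field_simp
      rw [mul_comm]; exact h1.symm
    have h3 : IsIntegral ℤ ((((1 : ℚ) / (p : ℚ) : ℚ)) : ℂ) := by
      rw [← h2]; exact a.2
    obtain ⟨m, hm⟩ := exists_int_of_isIntegral_ratCast h3
    have hpq : (p : ℚ) ≠ 0 := by exact_mod_cast hp.ne_zero
    have h4 : (1 : ℚ) = (p : ℚ) * m := by
      rw [← hm]; field_simp
    have h5 : (1 : ℤ) = (p : ℤ) * m := by exact_mod_cast h4
    have h6 : (p : ℤ) ∣ 1 := ⟨m, h5⟩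
    have h7 : (p : ℤ) = 1 ∨ (p : ℤ) = -1 := Int.isUnit_iff.mp (isUnit_of_dvd_one h6)
    rcases h7 with h7 | h7
    · have : p = 1 := by exact_mod_cast h7
      exact hp.one_lt.ne' this
    · have : (0 : ℤ) ≤ (p : ℤ) := Int.natCast_nonneg p
      omega
  obtain ⟨M, hM, hle⟩ := Ideal.exists_le_maximal _ hne
  exact ⟨M, hp, hM, hle (Ideal.subset_span (Set.mem_singleton _))⟩

variable {G : Type u} [Group G] [Fintype G]

/-- An irreducible character of `p`-defect zero vanishes on `p`-singular elements. -/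
theorem irr_eq_zero_of_defect_zero [Fintype (IrrCharacter G)] (χ : IrrCharacter G) (p n d : ℕ)
    (hp : p.Prime) (hn : p ^ n ∣ Nat.card G) (hn' : ¬ p ^ (n + 1) ∣ Nat.card G)
    (hd : (χ : G → ℂ) 1 = d) (hdeg : p ^ n ∣ d) (x : G) (hx : p ∣ orderOf x) :
    (χ : G → ℂ) x = 0 := by
  classical
  haveI : Fact p.Prime := ⟨hp⟩
  obtain ⟨M, hM⟩ := exists_isPModular p hp
  have hMp := isPrime_of_isPModular hM
  obtain ⟨r, hr⟩ := hn
  obtain ⟨m, hm⟩ := hdeg
  have hpr : ¬ p ∣ r := by
    intro h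
    obtain ⟨s, hs⟩ := h
    apply hn'
    refine ⟨s, ?_⟩
    rw [hr, hs, pow_succ]; ring
  have hcoef : ∀ t : G, blockCoeff ({χ} : Set (IrrCharacter G)) t =
      (m : ℂ) * (r : ℂ)⁻¹ * (starRingEnd ℂ) ((χ : G → ℂ) t) := by
    intro t
    rw [blockCoeff_eq]
    rw [Finset.sum_eq_single χ]
    · rw [if_pos (Set.mem_singleton χ), one_mul, hd, hr, hm]
      have hp0 : ((p : ℂ) ^ n) ≠ 0 := pow_ne_zero _ (by exact_mod_cast hp.ne_zero)
      have hr0 : (r : ℂ) ≠ 0 := by
        intro h
        have : r = 0 := by exact_mod_cast h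
        apply hpr; rw [this]; exact dvd_zero p
      push_cast
      field_simp
    · intro ψ _ hψ
      rw [if_neg (by simpa using hψ), zero_mul]
    · intro h; exact absurd (Finset.mem_univ _) h
  have hloc : ∀ t : G, MemLocalRing M (blockCoeff ({χ} : Set (IrrCharacter G)) t) := by
    intro t
    rw [hcoef]
    apply lr_mul hMp
    · apply lr_mul hMp (memLocalRing_natCast hMp m)
      exact memLocalRing_inv_natCast hM hpr
    · apply memLocalRing_of_isIntegral hMp
      rw [← irr_inv]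
      exact irr_isIntegral χ _
  have h0 := eq_zero_of_idem_of_singular hM (isClassFunction_blockCoeff _) hloc
    (conv_blockCoeff_self ({χ} : Set (IrrCharacter G))) x hx
  rw [hcoef] at h0
  have hm0 : (m : ℂ) ≠ 0 := by
    intro h
    have hm' : m = 0 := by exact_mod_cast h
    have h1 := irr_one_ne_zero χ
    rw [hd, hm, hm'] at h1
    simp at h1
  have hr0 : (r : ℂ)⁻¹ ≠ 0 := by
    apply inv_ne_zero
    intro h
    have : r = 0 := by exact_mod_cast h
    apply hpr; rw [this]; exact dvd_zero p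
  have h1 := (mul_eq_zero.mp h0).resolve_left (mul_ne_zero hm0 hr0)
  simpa using h1

end Cfsg.Agent.Helper24
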