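import Mathlib
import Cfsg.Prelude.Def_Blocks
import Cfsg.Agent.Helper24.DefectZero
import Cfsg.Agent.Helper24.SmallDegree
import Cfsg.Agent.Helper24.ColumnOrth
import Cfsg.Agent.Helper24.Linear
import Cfsg.Agent.Helper24.Abelian
import Cfsg.Agent.Helper24.Orthogonality
import Cfsg.Agent.Helper8.CharComp

/-!
Codegrees of irreducible characters.
-/

namespace Cfsg.Agent.Helper24

open Cfsg Representation Module

universe u

section Codegree

variable {G : Type u} [Group G] [Finite G]

omit [Finite G] in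
theorem charDegree_irr (χ : IrrCharacter G) : charDegree (χ : G → ℂ) = irrDeg χ := by
  unfold charDegree
  rw [irrDeg_spec]
  simp

/-- The kernel of an irreducible character as a normal subgroup, with the character viewed on the
quotient. -/
theorem exists_kernel_quotient (χ : IrrCharacter G) : ∃ (N : Subgroup G) (_ : N.Normal),
    (∀ g, g ∈ N ↔ (χ : G → ℂ) g = (χ : G → ℂ) 1) ∧
    ∃ χ' : IrrCharacter (G ⧸ N), ∀ g : G, (χ' : G ⧸ N → ℂ) (QuotientGroup.mk g) = (χ : G → ℂ) g := by
  obtain ⟨m, ρ, hρ, hρχ⟩ := χ.2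
  obtain ⟨N, hN⟩ : ∃ N : Subgroup G, N = MonoidHom.ker ρ := ⟨_, rfl⟩
  haveI hNn : N.Normal := by rw [hN]; infer_instance
  refine ⟨N, hNn, ?_, ?_⟩
  · intro g
    rw [← hρχ, Representation.char_one, char_eq_finrank_iff, hN, MonoidHom.mem_ker]
    rfl
  · let ρ' : Representation ℂ (G ⧸ N) (Fin m → ℂ) := QuotientGroup.lift N ρ (by rw [hN])
    have hcomp : (MonoidHom.comp ρ' (QuotientGroup.mk' N) :
        Representation ℂ G (Fin m → ℂ)) = ρ := by
      ext g v
      rfl
    have hρ' : ρ'.IsIrreducible := by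
      have h1 : Representation.IsIrreducible (MonoidHom.comp ρ'
          (QuotientGroup.mk' N) : Representation ℂ G (Fin m → ℂ)) := by
        rw [hcomp]; exact hρ
      exact (OrderIso.isSimpleOrder_iff (Helper8.subrepCompOrderIso ρ'
        (QuotientGroup.mk' N) (QuotientGroup.mk'_surjective _))).mpr h1
    refine ⟨⟨ρ'.character, m, ρ', hρ', rfl⟩, ?_⟩
    intro g
    rw [← hρχ]
    rfl

/-- `|ker χ| · χ(1)` divides `|G|`. -/
theorem card_ker_mul_charDegree_dvd (χ : IrrCharacter G) :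
    Nat.card {g : G // (χ : G → ℂ) g = (χ : G → ℂ) 1} * charDegree (χ : G → ℂ) ∣ Nat.card G := by
  obtain ⟨N, hNn, hN, χ', hχ'⟩ := exists_kernel_quotient χ
  have h1 : Nat.card {g : G // (χ : G → ℂ) g = (χ : G → ℂ) 1} = Nat.card N :=
    Nat.card_congr (Equiv.subtypeEquivRight (fun g => (hN g).symm))
  have h2 : irrDeg χ' = irrDeg χ := by
    have := irrDeg_spec χ'
    rw [← QuotientGroup.mk_one, hχ' 1, irrDeg_spec χ] at this
    exact_mod_cast this.symm
  have h3 := irrDeg_dvd_card χ'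
  rw [h1, charDegree_irr, ← Subgroup.card_mul_index N, ← h2]
  exact Nat.mul_dvd_mul_left _ (by rwa [Subgroup.index_eq_card])

/-- The codegree divides the group order. -/
theorem codegree_dvd_card (χ : IrrCharacter G) :
    Nat.card G / (Nat.card {g : G // (χ : G → ℂ) g = (χ : G → ℂ) 1} * charDegree (χ : G → ℂ)) ∣
      Nat.card G :=
  Nat.div_dvd_of_dvd (card_ker_mul_charDegree_dvd χ)

/-- If `p` does not divide the codegree of `χ`, then `χ` vanishes at every `x` outside the kernel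
with `x ^ p` in the kernel. -/
theorem irr_eq_zero_of_not_dvd_codegree (χ : IrrCharacter G) (p : ℕ) (hp : p.Prime)
    (hcod : ¬ p ∣ Nat.card G /
      (Nat.card {g : G // (χ : G → ℂ) g = (χ : G → ℂ) 1} * charDegree (χ : G → ℂ)))
    (x : G) (hx : (χ : G → ℂ) x ≠ (χ : G → ℂ) 1) (hxp : (χ : G → ℂ) (x ^ p) = (χ : G → ℂ) 1) :
    (χ : G → ℂ) x = 0 := by
  classical
  obtain ⟨N, hNn, hN, χ', hχ'⟩ := exists_kernel_quotient χ
  haveI : Fintype (G ⧸ N) := Fintype.ofFinite _
  haveI : Fintype (IrrCharacter (G ⧸ N)) := Fintype.ofFinite _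
  have h1 : Nat.card {g : G // (χ : G → ℂ) g = (χ : G → ℂ) 1} = Nat.card N :=
    Nat.card_congr (Equiv.subtypeEquivRight (fun g => (hN g).symm))
  have h2 : irrDeg χ' = irrDeg χ := by
    have := irrDeg_spec χ'
    rw [← QuotientGroup.mk_one, hχ' 1, irrDeg_spec χ] at this
    exact_mod_cast this.symm
  have h3 := irrDeg_dvd_card χ'
  have hcardQ : Nat.card (G ⧸ N) = Nat.card G / Nat.card N := by
    rw [← Subgroup.card_mul_index N, ← Subgroup.index_eq_card,
      Nat.mul_div_cancel_left _ Nat.card_pos]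
  rw [h1, charDegree_irr, ← Nat.div_div_eq_div_mul, ← hcardQ, ← h2] at hcod
  obtain ⟨c, hc⟩ := h3
  have hdpos : 0 < irrDeg χ' := irrDeg_pos χ'
  rw [hc, Nat.mul_div_cancel_left _ hdpos] at hcod
  -- the exact power of p
  set n := (Nat.card (G ⧸ N)).factorization p with hn
  have hQ0 : Nat.card (G ⧸ N) ≠ 0 := Nat.card_pos.ne'
  have hpn : p ^ n ∣ Nat.card (G ⧸ N) := Nat.ordProj_dvd _ _
  have hpn' : ¬ p ^ (n + 1) ∣ Nat.card (G ⧸ N) :=
    Nat.pow_succ_factorization_not_dvd hQ0 hp
  have hdeg : p ^ n ∣ irrDeg χ' := by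
    rw [hc] at hpn
    have hcop : Nat.Coprime (p ^ n) c := Nat.Coprime.pow_left _ ((Nat.Prime.coprime_iff_not_dvd hp).mpr hcod)
    exact hcop.dvd_of_dvd_mul_right hpn
  haveI : Fact p.Prime := ⟨hp⟩
  have hord : orderOf (QuotientGroup.mk x : G ⧸ N) = p := by
    apply orderOf_eq_prime
    · rw [← QuotientGroup.mk_pow, QuotientGroup.eq_one_iff, hN]
      exact hxp
    · rw [Ne, QuotientGroup.eq_one_iff, hN]
      exact hx
  have := irr_eq_zero_of_defect_zero χ' p n (irrDeg χ') hp hpn hpn' (irrDeg_spec χ') hdeg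
    (QuotientGroup.mk x) (by rw [hord])
  rw [hχ'] at this
  exact this

/-- A prime divides the group order iff it divides some codegree. -/
theorem prime_dvd_card_iff_dvd_codegree (p : ℕ) (hp : p.Prime) :
    p ∣ Nat.card G ↔ ∃ χ : IrrCharacter G, p ∣ (Nat.card G /
      (Nat.card {g : G // (χ : G → ℂ) g = (χ : G → ℂ) 1} * charDegree (χ : G → ℂ))) := by
  classical
  haveI : Fintype G := Fintype.ofFinite G
  haveI : Fintype (IrrCharacter G) := Fintype.ofFinite _
  constructor
  · intro hpG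
    by_contra hcon
    push Not at hcon
    haveI : Fact p.Prime := ⟨hp⟩
    obtain ⟨x, hx⟩ := exists_prime_orderOf_dvd_card' p hpG
    have hx1 : x ≠ 1 := by
      intro h
      rw [h, orderOf_one] at hx
      exact hp.one_lt.ne hx
    have hsum := sum_irr_mul_conj x (1 : G)
    have hnc : ¬ IsConj x (1 : G) := by
      intro h
      rw [isConj_iff] at h
      obtain ⟨c, hc⟩ := h
      apply hx1
      have : x = c⁻¹ * 1 * c := by rw [← hc]; group
      rw [this]; group
    rw [if_neg hnc] at hsum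
    have hterm : ∀ χ : IrrCharacter G, (χ : G → ℂ) x * (starRingEnd ℂ) ((χ : G → ℂ) 1) =
        if (χ : G → ℂ) x = (χ : G → ℂ) 1 then ((irrDeg χ ^ 2 : ℕ) : ℂ) else 0 := by
      intro χ
      by_cases h : (χ : G → ℂ) x = (χ : G → ℂ) 1
      · rw [if_pos h, h, irrDeg_spec, Complex.conj_natCast]
        push_cast; ring
      · rw [if_neg h]
        have hxp : (χ : G → ℂ) (x ^ p) = (χ : G → ℂ) 1 := by
          rw [← hx, pow_orderOf_eq_one]
        rw [irr_eq_zero_of_not_dvd_codegree χ p hp (hcon χ) x h hxp, zero_mul]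
    simp_rw [hterm] at hsum
    have hsum' : ∑ χ : IrrCharacter G,
        (if (χ : G → ℂ) x = (χ : G → ℂ) 1 then (irrDeg χ ^ 2 : ℕ) else 0) = 0 := by
      have : ((∑ χ : IrrCharacter G,
          (if (χ : G → ℂ) x = (χ : G → ℂ) 1 then (irrDeg χ ^ 2 : ℕ) else 0) : ℕ) : ℂ) = 0 := by
        rw [← hsum]
        push_cast
        refine Finset.sum_congr rfl fun χ _ => ?_
        split_ifs <;> simp
      exact_mod_cast this
    rw [Finset.sum_eq_zero_iff] at hsum'
    have h1 := hsum' (trivIrr G) (Finset.mem_univ _)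
    rw [if_pos (by simp)] at h1
    have := irrDeg_pos (trivIrr G)
    have h2 : 0 < irrDeg (trivIrr G) ^ 2 := by positivity
    omega
  · rintro ⟨χ, hχ⟩
    exact hχ.trans (codegree_dvd_card χ)

/-- A character that is constantly equal to its degree is the trivial character. -/
theorem eq_trivIrr_of_forall_eq_one (χ : IrrCharacter G)
    (h : ∀ g, (χ : G → ℂ) g = (χ : G → ℂ) 1) : χ = trivIrr G := by
  classical
  haveI : Fintype G := Fintype.ofFinite G
  by_contra hne
  have h1 := classInner_irr χ (trivIrr G)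
  rw [if_neg hne, classInner] at h1
  have h2 : ∑ g : G, (χ : G → ℂ) g * (starRingEnd ℂ) ((trivIrr G : G → ℂ) g) =
      (Nat.card G : ℂ) * (χ : G → ℂ) 1 := by
    simp_rw [h, trivIrr_apply, map_one, mul_one]
    rw [Finset.sum_const, Finset.card_univ, nsmul_eq_mul, Nat.card_eq_fintype_card]
  rw [h2] at h1
  have hG : (Nat.card G : ℂ) ≠ 0 := by exact_mod_cast Nat.card_pos.ne'
  rw [← mul_assoc, inv_mul_cancel₀ hG, one_mul] at h1
  exact irr_one_ne_zero χ h1

/-- If `p` divides the group order, some nontrivial irreducible character has degree prime to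
`p`. -/
theorem exists_ne_trivIrr_not_dvd_irrDeg (p : ℕ) (hp : p.Prime) (hpG : p ∣ Nat.card G) :
    ∃ χ : IrrCharacter G, χ ≠ trivIrr G ∧ ¬ p ∣ irrDeg χ := by
  classical
  haveI : Fintype G := Fintype.ofFinite G
  haveI : Fintype (IrrCharacter G) := Fintype.ofFinite _
  by_contra hcon
  push Not at hcon
  have hsum := sum_irrDeg_sq (G := G)
  rw [← Finset.add_sum_erase _ _ (Finset.mem_univ (trivIrr G))] at hsum
  have h1 : irrDeg (trivIrr G) = 1 := by
    have := irrDeg_spec (trivIrr G)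
    rw [trivIrr_apply] at this
    exact_mod_cast this.symm
  have h2 : p ∣ ∑ χ ∈ Finset.univ.erase (trivIrr G), irrDeg χ ^ 2 := by
    apply Finset.dvd_sum
    intro χ hχ
    exact dvd_pow (hcon χ (Finset.ne_of_mem_erase hχ)) (by norm_num)
  rw [h1] at hsum
  have h3 : p ∣ 1 ^ 2 := by
    have := (Nat.dvd_add_iff_left h2).mpr (hsum ▸ hpG)
    exact this
  rw [one_pow] at h3
  exact hp.one_lt.ne' (Nat.dvd_one.mp h3)

/-- If every codegree of the simple group `S` is a codegree of `G`, then `|S|` divides `|G|`. -/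
theorem card_dvd_card_of_codegree_subset {S : Type*} [Group S] [Finite S] (hS : IsSimpleGroup S)
    (hsub : ∀ χ : IrrCharacter S, ∃ ψ : IrrCharacter G,
      (Nat.card S / (Nat.card {g : S // (χ : S → ℂ) g = (χ : S → ℂ) 1} *
        charDegree (χ : S → ℂ))) =
      (Nat.card G / (Nat.card {g : G // (ψ : G → ℂ) g = (ψ : G → ℂ) 1} *
        charDegree (ψ : G → ℂ)))) : Nat.card S ∣ Nat.card G := by
  classical
  rw [Nat.dvd_iff_prime_pow_dvd_dvd]
  intro p k hp hpk
  rcases Nat.eq_zero_or_pos k with hk | hk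
  · rw [hk, pow_zero]; exact one_dvd _
  have hpS : p ∣ Nat.card S := (dvd_pow_self p hk.ne').trans hpk
  obtain ⟨χ, hχne, hχp⟩ := exists_ne_trivIrr_not_dvd_irrDeg (G := S) p hp hpS
  obtain ⟨ψ, hψ⟩ := hsub χ
  obtain ⟨N, hNn, hN, -⟩ := exists_kernel_quotient χ
  have hNbot : N = ⊥ := by
    rcases hNn.eq_bot_or_eq_top with h | h
    · exact h
    · exfalso
      apply hχne
      apply eq_trivIrr_of_forall_eq_one
      intro g
      rw [← hN, h]
      trivial
  have h1 : Nat.card {g : S // (χ : S → ℂ) g = (χ : S → ℂ) 1} = 1 := by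
    rw [Nat.card_congr (Equiv.subtypeEquivRight (fun g => (hN g).symm)), hNbot]
    simp
  have h2 := card_ker_mul_charDegree_dvd χ
  rw [h1, one_mul, charDegree_irr] at h2 hψ
  obtain ⟨c, hc⟩ := h2
  rw [hc, Nat.mul_div_cancel_left _ (irrDeg_pos χ)] at hψ
  have h3 : p ^ k ∣ c := by
    rw [hc] at hpk
    have hcop : Nat.Coprime (p ^ k) (irrDeg χ) :=
      Nat.Coprime.pow_left _ ((Nat.Prime.coprime_iff_not_dvd hp).mpr hχp)
    exact hcop.dvd_of_dvd_mul_left hpk
  rw [hψ] at h3
  exact h3.trans (codegree_dvd_card ψ)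

end Codegree

end Cfsg.Agent.Helper24
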