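import Mathlib
import Cfsg.Prelude.Def_Characters
import Cfsg.Agent.Helper24.Integrality
import Cfsg.Agent.Helper23.Schur
import Cfsg.Agent.Helper8.CharComp

/-!
The degree of an irreducible representation divides the index of the centre.
-/

namespace Cfsg.Agent.Helper24

open Representation Module

universe u v

section Setoid

/-- Summing an invariant integral-valued function, weighted by the inverse class sizes, gives an
algebraic integer. -/
theorem isIntegral_sum_div_card_class {α : Type*} [Fintype α] (s : Setoid α) [DecidableRel s.r]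
    (h : α → ℂ) (hinv : ∀ a b, s.r a b → h a = h b) (hint : ∀ a, IsIntegral ℤ (h a)) :
    IsIntegral ℤ (∑ a, h a / ((Finset.univ.filter (fun b => s.r a b)).card : ℂ)) := by
  classical
  haveI : Fintype (Quotient s) := Fintype.ofFinite _
  rw [← Finset.sum_fiberwise Finset.univ (fun a => (Quotient.mk s a))]
  refine IsIntegral.sum _ ?_
  intro q _
  have hterm : ∀ a ∈ Finset.univ.filter (fun a => Quotient.mk s a = q),
      h a / ((Finset.univ.filter (fun b => s.r a b)).card : ℂ) =
      h (Quotient.out q) / ((Finset.univ.filter (fun a => Quotient.mk s a = q)).card : ℂ) := by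
    intro a ha
    have ha' : Quotient.mk s a = q := (Finset.mem_filter.mp ha).2
    have h1 : h a = h (Quotient.out q) := by
      apply hinv
      have : Quotient.mk s a = Quotient.mk s (Quotient.out q) := by rw [Quotient.out_eq, ha']
      exact Quotient.exact this
    have h2 : Finset.univ.filter (fun b => s.r a b) =
        Finset.univ.filter (fun a => Quotient.mk s a = q) := by
      ext b
      simp only [Finset.mem_filter, Finset.mem_univ, true_and]
      rw [← ha']
      constructor
      · intro hab; exact (Quotient.sound hab).symm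
      · intro hab; exact Quotient.exact hab.symm
    rw [h1, h2]
  rw [Finset.sum_congr rfl hterm, Finset.sum_const, nsmul_eq_mul]
  have hne : ((Finset.univ.filter (fun a => Quotient.mk s a = q)).card : ℂ) ≠ 0 := by
    have : (Finset.univ.filter (fun a => Quotient.mk s a = q)).Nonempty :=
      ⟨Quotient.out q, Finset.mem_filter.mpr ⟨Finset.mem_univ _, Quotient.out_eq q⟩⟩
    exact_mod_cast this.card_pos.ne'
  rw [mul_div_cancel₀ _ hne]
  exact hint _

end Setoid

section Faithful

variable {G : Type u} [Group G] [Finite G]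
variable {V : Type v} [AddCommGroup V] [Module ℂ V] [FiniteDimensional ℂ V]

omit [Finite G] [FiniteDimensional ℂ V] in
theorem char_mul_of_scalar (ρ : Representation ℂ G V) (g z : G) (c : ℂ)
    (hz : ρ z = c • (LinearMap.id : V →ₗ[ℂ] V)) : ρ.character (g * z) = c * ρ.character g := by
  unfold Representation.character
  rw [map_mul, hz, mul_smul_comm, map_smul, smul_eq_mul]
  congr 2

omit [Finite G] in
theorem centralizer_mul_center (a z : G) (hz : z ∈ Subgroup.center G) :
    Subgroup.centralizer ({a * z} : Set G) = Subgroup.centralizer ({a} : Set G) := by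
  ext y
  simp only [Subgroup.mem_centralizer_iff, Set.mem_singleton_iff, forall_eq]
  have hzc : ∀ w : G, w * z = z * w := fun w => (Subgroup.mem_center_iff.mp hz w)
  constructor
  · intro h
    have : a * y * z = y * a * z := by
      calc a * y * z = a * z * y := by rw [mul_assoc, hzc y, ← mul_assoc]
        _ = y * (a * z) := h
        _ = y * a * z := by rw [mul_assoc]
    exact mul_right_cancel this
  · intro h
    calc a * z * y = a * y * z := by rw [mul_assoc, ← hzc y, ← mul_assoc]
      _ = y * a * z := by rw [h]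
      _ = y * (a * z) := by rw [mul_assoc]

/-- The relation `g' = x g x⁻¹ z` with `z` central. -/
def centralConjSetoid (G : Type u) [Group G] : Setoid G where
  r g g' := ∃ x : G, ∃ z ∈ Subgroup.center G, g' = x * g * x⁻¹ * z
  iseqv := by
    refine ⟨?_, ?_, ?_⟩
    · intro g
      exact ⟨1, 1, Subgroup.one_mem _, by simp⟩
    · rintro g g' ⟨x, z, hz, rfl⟩
      refine ⟨x⁻¹, z⁻¹, Subgroup.inv_mem _ hz, ?_⟩
      have hzc : ∀ w : G, w * z = z * w := fun w => (Subgroup.mem_center_iff.mp hz w)
      calc g = x⁻¹ * (x * g * x⁻¹) * x := by group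
        _ = x⁻¹ * (x * g * x⁻¹) * (z * x) * z⁻¹ := by rw [← hzc x]; group
        _ = x⁻¹ * (x * g * x⁻¹ * z) * x⁻¹⁻¹ * z⁻¹ := by group
    · rintro g g' g'' ⟨x, z, hz, rfl⟩ ⟨y, w, hw, rfl⟩
      refine ⟨y * x, z * w, Subgroup.mul_mem _ hz hw, ?_⟩
      have hzc : ∀ w : G, w * z = z * w := fun w => (Subgroup.mem_center_iff.mp hz w)
      calc y * (x * g * x⁻¹ * z) * y⁻¹ * w = y * (x * g * x⁻¹) * (z * y⁻¹) * w := by group
        _ = y * (x * g * x⁻¹) * (y⁻¹ * z) * w := by rw [hzc y⁻¹]
        _ = y * x * g * (y * x)⁻¹ * (z * w) := by group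

/-- If `ρ` is a faithful irreducible representation then `χ(1)` divides `|G : Z(G)|`. -/
theorem finrank_dvd_index_center_of_faithful (ρ : Representation ℂ G V) [ρ.IsIrreducible]
    (hfaithful : Function.Injective ρ) : finrank ℂ V ∣ (Subgroup.center G).index := by
  classical
  haveI : Fintype G := Fintype.ofFinite G
  set d := finrank ℂ V with hd
  have hdpos : 0 < d := finrank_pos_of_isIrreducible ρ
  have hd0 : (d : ℂ) ≠ 0 := by exact_mod_cast hdpos.ne'
  set Z := Subgroup.center G with hZ
  have hcf : IsClassFunction G ρ.character :=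
    IsCharacter.isClassFunction (isCharacter_character ρ)
  -- scalars for central elements
  have hsc : ∀ z ∈ Z, ∃ c : ℂ, ρ z = c • (LinearMap.id : V →ₗ[ℂ] V) := fun z hz =>
    Cfsg.Agent.Helper23.exists_scalar_of_mem_center ρ z hz
  haveI hVnt : Nontrivial V := Module.nontrivial_of_finrank_pos hdpos
  let s := centralConjSetoid G
  -- the invariant function
  let h : G → ℂ := fun g => (((Subgroup.centralizer ({g} : Set G)).index : ℂ) * ρ.character g /
    (d : ℂ)) * ρ.character g⁻¹
  have hint : ∀ g, IsIntegral ℤ (h g) := fun g =>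
    IsIntegral.mul (isIntegral_index_mul_char_div ρ g) (char_isIntegral ρ g⁻¹)
  have hinv : ∀ a b, s.r a b → h a = h b := by
    rintro g g' ⟨x, z, hz, rfl⟩
    obtain ⟨c, hc⟩ := hsc z hz
    obtain ⟨c', hc'⟩ := hsc z⁻¹ (Subgroup.inv_mem _ hz)
    have hcc' : c * c' = 1 := by
      have h1 : ρ z * ρ z⁻¹ = 1 := by rw [← map_mul, mul_inv_cancel, map_one]
      rw [hc, hc', smul_mul_smul_comm] at h1
      have h2 : (c * c') • (1 : Module.End ℂ V) = 1 := by
        have hid : (LinearMap.id : V →ₗ[ℂ] V) * LinearMap.id = 1 := by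
          rw [← Module.End.one_eq_id, mul_one]
        rw [hid] at h1
        exact h1
      have h3 := congrArg (LinearMap.trace ℂ V) h2
      rw [map_smul, LinearMap.trace_one, smul_eq_mul] at h3
      exact mul_right_cancel₀ hd0 (by rw [h3, one_mul])
    have hzc : ∀ w : G, w * z = z * w := fun w => (Subgroup.mem_center_iff.mp hz w)
    have e1 : ρ.character (x * g * x⁻¹ * z) = c * ρ.character g := by
      rw [char_mul_of_scalar ρ _ z c hc, hcf g x]
    have e2 : ρ.character (x * g * x⁻¹ * z)⁻¹ = c' * ρ.character g⁻¹ := by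
      have : (x * g * x⁻¹ * z)⁻¹ = x * g⁻¹ * x⁻¹ * z⁻¹ := by
        rw [mul_inv_rev, ← (Subgroup.mem_center_iff.mp (Subgroup.inv_mem _ hz) _)]
        group
      rw [this, char_mul_of_scalar ρ _ z⁻¹ c' hc', hcf g⁻¹ x]
    have e3 : (Subgroup.centralizer ({x * g * x⁻¹ * z} : Set G)).index =
        (Subgroup.centralizer ({g} : Set G)).index := by
      rw [centralizer_mul_center _ z hz]
      exact (index_centralizer_eq_of_isConj (isConj_iff.mpr ⟨x, rfl⟩)).symm
    simp only [h]
    rw [e1, e2, e3]
    have : c * c' = 1 := hcc'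
    field_simp
    linear_combination (-(((Subgroup.centralizer ({g} : Set G)).index : ℂ) * ρ.character g *
      ρ.character g⁻¹)) * this
  have hL := isIntegral_sum_div_card_class s h hinv hint
  -- class sizes
  have hcard : ∀ g : G, ρ.character g ≠ 0 →
      (Finset.univ.filter (fun b => s.r g b)).card =
        Nat.card Z * (Subgroup.centralizer ({g} : Set G)).index := by
    intro g hg
    rw [index_centralizer_eq_card_conj, mul_comm, ← Nat.card_prod]
    rw [← Fintype.card_subtype, ← Nat.card_eq_fintype_card]
    symm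
    refine Nat.card_congr (Equiv.ofBijective
      (fun p : {y : G // IsConj g y} × Z => (⟨(p.1 : G) * (p.2 : G), by
        obtain ⟨x, hx⟩ := isConj_iff.mp p.1.2
        exact ⟨x, p.2, p.2.2, by rw [hx]⟩⟩ : {b : G // s.r g b})) ⟨?_, ?_⟩)
    · rintro ⟨⟨y, hy⟩, ⟨z, hz⟩⟩ ⟨⟨y', hy'⟩, ⟨z', hz'⟩⟩ heq
      have heq' : y * z = y' * z' := congrArg Subtype.val heq
      have hw : z * z'⁻¹ ∈ Z := Subgroup.mul_mem _ hz (Subgroup.inv_mem _ hz')
      have hy'eq : y' = y * (z * z'⁻¹) := by
        calc y' = y' * z' * z'⁻¹ := by group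
          _ = y * z * z'⁻¹ := by rw [heq']
          _ = y * (z * z'⁻¹) := by group
      obtain ⟨c, hc⟩ := hsc _ hw
      have h1 : ρ.character y' = c * ρ.character y := by
        rw [hy'eq, char_mul_of_scalar ρ y _ c hc]
      have h2 : ρ.character y = ρ.character g := (IsClassFunction.eq_of_isConj hcf hy).symm
      have h3 : ρ.character y' = ρ.character g := (IsClassFunction.eq_of_isConj hcf hy').symm
      rw [h2, h3] at h1
      have hc1 : c = 1 := by
        have : c * ρ.character g = 1 * ρ.character g := by rw [one_mul]; exact h1.symm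
        exact mul_right_cancel₀ hg this
      have hw1 : z * z'⁻¹ = 1 := by
        apply hfaithful
        rw [hc, hc1, one_smul, map_one]
        rfl
      have hzz : z = z' := by
        calc z = z * z'⁻¹ * z' := by group
          _ = z' := by rw [hw1, one_mul]
      have hyy : y = y' := by rw [hy'eq, hw1, mul_one]
      subst hzz
      subst hyy
      rfl
    · rintro ⟨b, x, z, hz, rfl⟩
      exact ⟨(⟨x * g * x⁻¹, isConj_iff.mpr ⟨x, rfl⟩⟩, ⟨z, hz⟩), rfl⟩
  -- main computation
  have hsum : ∑ g : G, ρ.character g * ρ.character g⁻¹ = (Nat.card G : ℂ) := by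
    have h1 := classInner_character_of_irreducible ρ ρ
    rw [if_pos ⟨Representation.Equiv.refl ρ⟩] at h1
    unfold classInner at h1
    have hne := card_ne_zero_complex (G := G)
    field_simp at h1
    rw [← h1]
    refine Finset.sum_congr rfl ?_
    intro g _
    rw [char_inv]
  have hterm : ∀ g : G, ρ.character g * ρ.character g⁻¹ =
      (d : ℂ) * (Nat.card Z : ℂ) *
        (h g / ((Finset.univ.filter (fun b => s.r g b)).card : ℂ)) := by
    intro g
    by_cases hg : ρ.character g = 0
    · simp [h, hg]
    · rw [hcard g hg]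
      have hZ0 : (Nat.card Z : ℂ) ≠ 0 := by exact_mod_cast (Nat.card_pos (α := Z)).ne'
      have hK0 : ((Subgroup.centralizer ({g} : Set G)).index : ℂ) ≠ 0 := by
        have : (Subgroup.centralizer ({g} : Set G)).index ≠ 0 := Subgroup.index_ne_zero_of_finite
        exact_mod_cast this
      simp only [h]
      push_cast
      field_simp
  rw [Finset.sum_congr rfl (fun g _ => hterm g), ← Finset.mul_sum] at hsum
  set β := ∑ g : G, h g / ((Finset.univ.filter (fun b => s.r g b)).card : ℂ) with hβ
  have hZ0 : (Nat.card Z : ℂ) ≠ 0 := by exact_mod_cast (Nat.card_pos (α := Z)).ne'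
  have hβval : β = (((Nat.card G : ℚ) / ((d : ℚ) * (Nat.card Z : ℚ)) : ℚ) : ℂ) := by
    push_cast
    field_simp
    linear_combination hsum
  rw [hβval] at hL
  obtain ⟨m, hm⟩ := exists_int_of_isIntegral_ratCast hL
  have hdq : (d : ℚ) ≠ 0 := by exact_mod_cast hdpos.ne'
  have hZq : (Nat.card Z : ℚ) ≠ 0 := by exact_mod_cast (Nat.card_pos (α := Z)).ne'
  have h1 : (Nat.card G : ℚ) = m * (d * Nat.card Z) := by
    field_simp at hm
    linarith
  have h2 : (Nat.card G : ℤ) = m * (d * Nat.card Z) := by exact_mod_cast h1
  have h3 : (Nat.card Z : ℤ) * (Z.index : ℤ) = (Nat.card G : ℤ) := by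
    exact_mod_cast Subgroup.card_mul_index Z
  have hZi : (Nat.card Z : ℤ) ≠ 0 := by exact_mod_cast (Nat.card_pos (α := Z)).ne'
  have h4 : (Z.index : ℤ) = m * d := by
    have : (Nat.card Z : ℤ) * (Z.index : ℤ) = (Nat.card Z : ℤ) * (m * d) := by
      rw [h3, h2]; ring
    exact mul_left_cancel₀ hZi this
  have h5 : (d : ℤ) ∣ (Z.index : ℤ) := ⟨m, by rw [h4]; ring⟩
  exact_mod_cast h5

end Faithful

section Reduction

variable {G : Type u} [Group G]
variable {V : Type v} [AddCommGroup V] [Module ℂ V]

/-- The image of a representation, as a group. -/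
abbrev repRange (ρ : Representation ℂ G V) : Subgroup (Units (V →ₗ[ℂ] V)) := ρ.asGroupHom.range

/-- The tautological representation of the image group. -/
def repRangeRep (ρ : Representation ℂ G V) : Representation ℂ (repRange ρ) V :=
  (Units.coeHom (V →ₗ[ℂ] V)).comp (repRange ρ).subtype

theorem repRangeRep_injective (ρ : Representation ℂ G V) : Function.Injective (repRangeRep ρ) := by
  intro a b h
  apply Subtype.ext
  apply Units.ext
  exact h

theorem repRangeRep_comp (ρ : Representation ℂ G V) :
    (MonoidHom.comp (repRangeRep ρ) ρ.asGroupHom.rangeRestrict : Representation ℂ G V) = ρ := by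
  ext g v
  rfl

theorem repRangeRep_isIrreducible (ρ : Representation ℂ G V) [h : ρ.IsIrreducible] :
    (repRangeRep ρ).IsIrreducible := by
  have h1 : Representation.IsIrreducible
      (MonoidHom.comp (repRangeRep ρ) ρ.asGroupHom.rangeRestrict : Representation ℂ G V) := by
    rw [repRangeRep_comp]; exact h
  exact (OrderIso.isSimpleOrder_iff (Cfsg.Agent.Helper8.subrepCompOrderIso (repRangeRep ρ)
    ρ.asGroupHom.rangeRestrict ρ.asGroupHom.rangeRestrict_surjective)).mpr h1

end Reduction

section Main

variable {G : Type u} [Group G] [Finite G]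
variable {V : Type v} [AddCommGroup V] [Module ℂ V] [FiniteDimensional ℂ V]

/-- The degree of an irreducible representation divides the index of the centre. -/
theorem finrank_dvd_index_center (ρ : Representation ℂ G V) [ρ.IsIrreducible] :
    finrank ℂ V ∣ (Subgroup.center G).index := by
  haveI := repRangeRep_isIrreducible ρ
  haveI : Finite (repRange ρ) :=
    Finite.of_surjective _ ρ.asGroupHom.rangeRestrict_surjective
  have h1 := finrank_dvd_index_center_of_faithful (repRangeRep ρ) (repRangeRep_injective ρ)
  refine h1.trans ?_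
  set f := ρ.asGroupHom.rangeRestrict with hf
  have hsurj : Function.Surjective f := ρ.asGroupHom.rangeRestrict_surjective
  rw [← Subgroup.index_comap_of_surjective (Subgroup.center (repRange ρ)) hsurj]
  apply Subgroup.index_dvd_of_le
  intro z hz
  rw [Subgroup.mem_comap, Subgroup.mem_center_iff]
  intro y
  obtain ⟨x, rfl⟩ := hsurj y
  rw [← map_mul, ← map_mul, Subgroup.mem_center_iff.mp hz x]

end Main


end Cfsg.Agent.Helper24
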