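import Mathlib
import Cfsg.Prelude.Def_Characters
import Cfsg.Agent.Helper24.Span
import Cfsg.Agent.Helper24.Linear
import Cfsg.Agent.Helper8.Ind
import Cfsg.Agent.Helper8.CharComp

/-!
Induced characters are characters; generalized characters.
-/

namespace Cfsg.Agent.Helper24

open Representation Module

universe u

section Induced

variable {G : Type u} [Group G] [Fintype G]

/-- A class function whose inner products with all irreducible characters are natural numbers
is a character. -/
theorem isCharacter_of_classInner_nat {f : G → ℂ} (hf : IsClassFunction G f)
    (h : ∀ χ : IrrCharacter G, ∃ n : ℕ, classInner f (χ : G → ℂ) = n) : IsCharacter G f := by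
  haveI : Fintype (IrrCharacter G) := Fintype.ofFinite _
  choose n hn using h
  rw [IsClassFunction.eq_sum_classInner hf]
  simp only [hn]
  exact isCharacter_sum_nat_smul n

/-- Inducing a character of a subgroup yields a character. -/
theorem isCharacter_indFun (H : Subgroup G) {θ : H → ℂ} (hθ : IsCharacter H θ) :
    IsCharacter G (indFun H θ) := by
  haveI : Fintype H := Fintype.ofFinite H
  haveI : Fintype (IrrCharacter H) := Fintype.ofFinite _
  refine isCharacter_of_classInner_nat (Cfsg.Agent.Helper8.indFun_isClassFunction H θ) ?_
  intro χ
  rw [Cfsg.Agent.Helper8.frobenius_reciprocity H θ _ (isClassFunction_irr χ)]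
  exact IsCharacter.classInner_nat hθ
    (Cfsg.Agent.Helper8.isCharacter_restrict H (IsIrrCharacter.isCharacter χ.2))

end Induced

end Cfsg.Agent.Helper24
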