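import Mathlib
import Cfsg.Prelude.Def_Characters
import Cfsg.Agent.Helper24.Induced

/-!
Generalized characters: the `ℤ`-span of the irreducible characters.
-/

namespace Cfsg.Agent.Helper24

open Representation Module

universe u

section Basic

variable {G : Type u} [Group G]

theorem IsCharacter.isGeneralizedCharacter {χ : G → ℂ} (h : IsCharacter G χ) :
    IsGeneralizedCharacter G χ :=
  ⟨χ, 0, h, isCharacter_zero, by simp⟩

theorem IsIrrCharacter.isGeneralizedCharacter {χ : G → ℂ} (h : IsIrrCharacter G χ) :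
    IsGeneralizedCharacter G χ :=
  IsCharacter.isGeneralizedCharacter (IsIrrCharacter.isCharacter h)

theorem isGeneralizedCharacter_zero : IsGeneralizedCharacter G (0 : G → ℂ) :=
  IsCharacter.isGeneralizedCharacter isCharacter_zero

theorem IsGeneralizedCharacter.add {θ φ : G → ℂ} (h1 : IsGeneralizedCharacter G θ)
    (h2 : IsGeneralizedCharacter G φ) : IsGeneralizedCharacter G (θ + φ) := by
  obtain ⟨a, b, ha, hb, rfl⟩ := h1
  obtain ⟨c, d, hc, hd, rfl⟩ := h2
  exact ⟨a + c, b + d, IsCharacter.add ha hc, IsCharacter.add hb hd, by abel⟩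

theorem IsGeneralizedCharacter.neg {θ : G → ℂ} (h1 : IsGeneralizedCharacter G θ) :
    IsGeneralizedCharacter G (-θ) := by
  obtain ⟨a, b, ha, hb, rfl⟩ := h1
  exact ⟨b, a, hb, ha, by abel⟩

theorem IsGeneralizedCharacter.sub {θ φ : G → ℂ} (h1 : IsGeneralizedCharacter G θ)
    (h2 : IsGeneralizedCharacter G φ) : IsGeneralizedCharacter G (θ - φ) := by
  rw [sub_eq_add_neg]
  exact IsGeneralizedCharacter.add h1 (IsGeneralizedCharacter.neg h2)

theorem IsGeneralizedCharacter.nsmul {θ : G → ℂ} (h : IsGeneralizedCharacter G θ) (n : ℕ) :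
    IsGeneralizedCharacter G ((n : ℂ) • θ) := by
  induction n with
  | zero => simpa using isGeneralizedCharacter_zero
  | succ k ih =>
    have : ((k + 1 : ℕ) : ℂ) • θ = (k : ℂ) • θ + θ := by
      push_cast; rw [add_smul, one_smul]
    rw [this]
    exact IsGeneralizedCharacter.add ih h

theorem IsGeneralizedCharacter.zsmul {θ : G → ℂ} (h : IsGeneralizedCharacter G θ) (n : ℤ) :
    IsGeneralizedCharacter G ((n : ℂ) • θ) := by
  obtain ⟨k, rfl | rfl⟩ := Int.eq_nat_or_neg n
  · simpa using IsGeneralizedCharacter.nsmul h k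
  · have : (((-(k : ℤ)) : ℤ) : ℂ) • θ = -((k : ℂ) • θ) := by
      push_cast; rw [neg_smul]
    rw [this]
    exact IsGeneralizedCharacter.neg (IsGeneralizedCharacter.nsmul h k)

theorem isGeneralizedCharacter_sum {ι : Type*} (s : Finset ι) (f : ι → G → ℂ)
    (h : ∀ i ∈ s, IsGeneralizedCharacter G (f i)) : IsGeneralizedCharacter G (∑ i ∈ s, f i) := by
  classical
  induction s using Finset.induction_on with
  | empty => simpa using isGeneralizedCharacter_zero
  | insert a s ha ih =>
    rw [Finset.sum_insert ha]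
    exact IsGeneralizedCharacter.add (h a (Finset.mem_insert_self a s))
      (ih (fun i hi => h i (Finset.mem_insert_of_mem hi)))

theorem IsGeneralizedCharacter.isClassFunction {θ : G → ℂ} (h : IsGeneralizedCharacter G θ) :
    IsClassFunction G θ := by
  obtain ⟨a, b, ha, hb, rfl⟩ := h
  exact isClassFunction_sub (IsCharacter.isClassFunction ha) (IsCharacter.isClassFunction hb)

/-- The value of a generalized character at the identity is an integer. -/
theorem IsGeneralizedCharacter.apply_one_int {θ : G → ℂ} (h : IsGeneralizedCharacter G θ) :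
    ∃ n : ℤ, θ 1 = n := by
  obtain ⟨a, b, ha, hb, rfl⟩ := h
  obtain ⟨n, hn⟩ := isCharacter_one ha
  obtain ⟨m, hm⟩ := isCharacter_one hb
  exact ⟨(n : ℤ) - m, by simp [hn, hm]⟩

/-- Restriction of a generalized character to a subgroup. -/
theorem IsGeneralizedCharacter.restrict {θ : G → ℂ} (h : IsGeneralizedCharacter G θ)
    (H : Subgroup G) : IsGeneralizedCharacter H (fun x : H => θ x) := by
  obtain ⟨a, b, ha, hb, rfl⟩ := h
  exact ⟨fun x : H => a x, fun x : H => b x, Cfsg.Agent.Helper8.isCharacter_restrict H ha,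
    Cfsg.Agent.Helper8.isCharacter_restrict H hb, rfl⟩

/-- Composition of a generalized character with a group homomorphism. -/
theorem IsGeneralizedCharacter.comp {G' : Type*} [Group G'] {θ : G → ℂ}
    (h : IsGeneralizedCharacter G θ) (f : G' →* G) :
    IsGeneralizedCharacter G' (fun x => θ (f x)) := by
  obtain ⟨a, b, ha, hb, rfl⟩ := h
  exact ⟨fun x => a (f x), fun x => b (f x), Cfsg.Agent.Helper8.isCharacter_comp f ha,
    Cfsg.Agent.Helper8.isCharacter_comp f hb, rfl⟩

end Basic

section Finite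

variable {G : Type u} [Group G] [Fintype G] [Fintype (IrrCharacter G)]

/-- A generalized character is an integer combination of irreducible characters. -/
theorem IsGeneralizedCharacter.exists_int_coeff {θ : G → ℂ} (h : IsGeneralizedCharacter G θ) :
    ∃ n : IrrCharacter G → ℤ, θ = ∑ ψ : IrrCharacter G, (n ψ : ℂ) • (ψ : G → ℂ) := by
  obtain ⟨a, b, ha, hb, rfl⟩ := h
  obtain ⟨n, rfl⟩ := IsCharacter.exists_nat_coeff ha
  obtain ⟨m, rfl⟩ := IsCharacter.exists_nat_coeff hb
  refine ⟨fun ψ => (n ψ : ℤ) - m ψ, ?_⟩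
  rw [← Finset.sum_sub_distrib]
  refine Finset.sum_congr rfl ?_
  intro ψ _
  push_cast
  rw [sub_smul]

omit [Fintype G] in
theorem isGeneralizedCharacter_sum_int_smul (n : IrrCharacter G → ℤ) :
    IsGeneralizedCharacter G (∑ ψ : IrrCharacter G, (n ψ : ℂ) • (ψ : G → ℂ)) := by
  refine isGeneralizedCharacter_sum _ _ ?_
  intro ψ _
  exact IsGeneralizedCharacter.zsmul (IsIrrCharacter.isGeneralizedCharacter ψ.2) _

theorem isGeneralizedCharacter_iff_exists_int_coeff {θ : G → ℂ} :
    IsGeneralizedCharacter G θ ↔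
      ∃ n : IrrCharacter G → ℤ, θ = ∑ ψ : IrrCharacter G, (n ψ : ℂ) • (ψ : G → ℂ) := by
  constructor
  · exact IsGeneralizedCharacter.exists_int_coeff
  · rintro ⟨n, rfl⟩
    exact isGeneralizedCharacter_sum_int_smul n

theorem IsGeneralizedCharacter.classInner_irr_int {θ : G → ℂ} (h : IsGeneralizedCharacter G θ)
    (ψ : IrrCharacter G) : ∃ n : ℤ, classInner θ (ψ : G → ℂ) = n := by
  obtain ⟨n, rfl⟩ := IsGeneralizedCharacter.exists_int_coeff h
  exact ⟨n ψ, classInner_sum_irr _ ψ⟩

theorem IsGeneralizedCharacter.eq_sum_classInner {θ : G → ℂ} (h : IsGeneralizedCharacter G θ) :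
    θ = ∑ ψ : IrrCharacter G, classInner θ (ψ : G → ℂ) • (ψ : G → ℂ) :=
  IsClassFunction.eq_sum_classInner (IsGeneralizedCharacter.isClassFunction h)

/-- The inner product of two generalized characters is an integer. -/
theorem IsGeneralizedCharacter.classInner_int {θ φ : G → ℂ} (h1 : IsGeneralizedCharacter G θ)
    (h2 : IsGeneralizedCharacter G φ) : ∃ n : ℤ, classInner θ φ = n := by
  obtain ⟨a, rfl⟩ := IsGeneralizedCharacter.exists_int_coeff h1
  obtain ⟨b, rfl⟩ := IsGeneralizedCharacter.exists_int_coeff h2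
  refine ⟨∑ ψ : IrrCharacter G, a ψ * b ψ, ?_⟩
  rw [classInner_sum_sum]
  push_cast
  simp

/-- A class function whose inner products with all irreducible characters are integers
is a generalized character. -/
theorem isGeneralizedCharacter_of_classInner_int {f : G → ℂ} (hf : IsClassFunction G f)
    (h : ∀ χ : IrrCharacter G, ∃ n : ℤ, classInner f (χ : G → ℂ) = n) :
    IsGeneralizedCharacter G f := by
  choose n hn using h
  rw [IsClassFunction.eq_sum_classInner hf]
  simp only [hn]
  exact isGeneralizedCharacter_sum_int_smul n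

/-- A generalized character of norm one is `±` an irreducible character. -/
theorem IsGeneralizedCharacter.eq_or_eq_neg_of_classInner_self {θ : G → ℂ}
    (h : IsGeneralizedCharacter G θ) (h1 : classInner θ θ = 1) :
    ∃ ψ : IrrCharacter G, θ = (ψ : G → ℂ) ∨ θ = -(ψ : G → ℂ) := by
  classical
  obtain ⟨n, rfl⟩ := IsGeneralizedCharacter.exists_int_coeff h
  rw [classInner_sum_sum] at h1
  have h' : ∑ ψ : IrrCharacter G, n ψ * n ψ = 1 := by
    have : (∑ ψ : IrrCharacter G, (n ψ : ℂ) * (starRingEnd ℂ) (n ψ : ℂ)) =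
        ((∑ ψ : IrrCharacter G, n ψ * n ψ : ℤ) : ℂ) := by
      push_cast
      refine Finset.sum_congr rfl ?_
      intro ψ _
      rw [map_intCast]
    rw [this] at h1
    exact_mod_cast h1
  -- some coefficient is nonzero
  have hex : ∃ ψ₀, n ψ₀ ≠ 0 := by
    by_contra hcon
    push Not at hcon
    simp [hcon] at h'
  obtain ⟨ψ₀, hψ₀⟩ := hex
  have hnn : ∀ ψ : IrrCharacter G, 0 ≤ n ψ * n ψ := fun ψ => mul_self_nonneg _
  have hle : n ψ₀ * n ψ₀ ≤ 1 := by
    rw [← h']
    exact Finset.single_le_sum (fun ψ _ => hnn ψ) (Finset.mem_univ ψ₀)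
  have hψ₀' : n ψ₀ = 1 ∨ n ψ₀ = -1 := by
    have h1 : -1 ≤ n ψ₀ := by nlinarith
    have h2 : n ψ₀ ≤ 1 := by nlinarith
    omega
  have hsq : n ψ₀ * n ψ₀ = 1 := by rcases hψ₀' with h | h <;> rw [h] <;> norm_num
  have hothers : ∀ ψ, ψ ≠ ψ₀ → n ψ = 0 := by
    intro ψ hne
    by_contra hne0
    have hpos : 0 < n ψ * n ψ := by
      rcases lt_or_gt_of_ne hne0 with h | h
      · nlinarith
      · nlinarith
    have h2 : n ψ₀ * n ψ₀ + n ψ * n ψ ≤ ∑ ψ : IrrCharacter G, n ψ * n ψ := by
      have hsub : ({ψ₀, ψ} : Finset (IrrCharacter G)) ⊆ Finset.univ := Finset.subset_univ _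
      have := Finset.sum_le_sum_of_subset_of_nonneg hsub
        (f := fun ψ : IrrCharacter G => n ψ * n ψ) (fun i _ _ => hnn i)
      rw [Finset.sum_pair (Ne.symm hne)] at this
      exact this
    omega
  refine ⟨ψ₀, ?_⟩
  have hsum : ∑ ψ : IrrCharacter G, (n ψ : ℂ) • (ψ : G → ℂ) = (n ψ₀ : ℂ) • (ψ₀ : G → ℂ) := by
    rw [Finset.sum_eq_single ψ₀]
    · intro ψ _ hne
      rw [hothers ψ hne]; simp
    · intro h; exact absurd (Finset.mem_univ ψ₀) h
  rw [hsum]
  rcases hψ₀' with h | h
  · left; rw [h]; simp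
  · right; rw [h]; simp

/-- A generalized character of norm one with positive value at one is an irreducible character. -/
theorem IsGeneralizedCharacter.isIrrCharacter_of_classInner_self {θ : G → ℂ}
    (h : IsGeneralizedCharacter G θ) (h1 : classInner θ θ = 1) (hpos : 0 < (θ 1).re) :
    IsIrrCharacter G θ := by
  obtain ⟨ψ, hψ | hψ⟩ := IsGeneralizedCharacter.eq_or_eq_neg_of_classInner_self h h1
  · rw [hψ]; exact ψ.2
  · exfalso
    obtain ⟨n, hn, hn1⟩ := isIrrCharacter_one ψ.2
    rw [hψ, Pi.neg_apply, hn1] at hpos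
    simp at hpos
    have : (0 : ℝ) ≤ n := Nat.cast_nonneg n
    linarith

end Finite

section IndGen

variable {G : Type u} [Group G] [Fintype G]

/-- Induction of a generalized character is a generalized character. -/
theorem IsGeneralizedCharacter.indFun (H : Subgroup G) {θ : H → ℂ}
    (h : IsGeneralizedCharacter H θ) : IsGeneralizedCharacter G (indFun H θ) := by
  obtain ⟨a, b, ha, hb, rfl⟩ := h
  rw [Cfsg.Agent.Helper8.indFun_sub]
  exact ⟨_, _, isCharacter_indFun H ha, isCharacter_indFun H hb, rfl⟩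

end IndGen

end Cfsg.Agent.Helper24
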