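import Mathlib
import Cfsg.Prelude.Def_Characters
import Cfsg.Agent.Helper24.Generalized

/-!
Induction from a normal subgroup: Mackey-type formula for the norm of an induced character.
-/

namespace Cfsg.Agent.Helper24

open Representation Module

universe u

section

variable {G : Type u} [Group G] [Fintype G]

/-- The conjugate `h ↦ θ (g h g⁻¹)` of a function on a normal subgroup. -/
def conjFun (H : Subgroup G) [hN : H.Normal] (θ : H → ℂ) (g : G) : H → ℂ :=
  fun h => θ ⟨g * h * g⁻¹, hN.conj_mem h h.2 g⟩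

omit [Fintype G] in
theorem conjFun_apply (H : Subgroup G) [hN : H.Normal] (θ : H → ℂ) (g : G) (h : H) :
    conjFun H θ g h = θ ⟨g * h * g⁻¹, hN.conj_mem h h.2 g⟩ := rfl

omit [Fintype G] in
theorem isIrrCharacter_conjFun (H : Subgroup G) [hN : H.Normal] {θ : H → ℂ}
    (hθ : IsIrrCharacter H θ) (g : G) : IsIrrCharacter H (conjFun H θ g) :=
  Cfsg.Agent.Helper8.isIrrCharacter_conj H θ hθ g

omit [Fintype G] in
theorem isCharacter_conjFun (H : Subgroup G) [hN : H.Normal] {θ : H → ℂ}
    (hθ : IsCharacter H θ) (g : G) : IsCharacter H (conjFun H θ g) :=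
  Cfsg.Agent.Helper8.isCharacter_conj H θ hθ g

/-- Restriction to a normal subgroup `H` of a function induced from `H`. -/
theorem indFun_restrict_normal (H : Subgroup G) [hN : H.Normal] (θ : H → ℂ) :
    (fun h : H => indFun H θ (h : G)) = (Nat.card H : ℂ)⁻¹ • ∑ x : G, conjFun H θ x := by
  funext h
  rw [Cfsg.Agent.Helper8.indFun_normal_apply H θ h, Pi.smul_apply, Finset.sum_apply, smul_eq_mul]
  rfl

/-- For `φ, θ` functions on a normal subgroup `H`:
`⟨φ^G, θ^G⟩ = |H|⁻¹ ∑_x ⟨φ, θ^x⟩`. -/
theorem classInner_indFun_indFun_normal (H : Subgroup G) [hN : H.Normal] [Fintype H]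
    (φ θ : H → ℂ) :
    classInner (indFun H φ) (indFun H θ) =
      (Nat.card H : ℂ)⁻¹ * ∑ x : G, classInner φ (conjFun H θ x) := by
  rw [Cfsg.Agent.Helper8.frobenius_reciprocity H φ _ (Cfsg.Agent.Helper8.indFun_isClassFunction H θ)]
  rw [indFun_restrict_normal, classInner_smul_right, classInner_sum_right]
  simp

/-- `|H| ⟨θ^G, θ^G⟩` is the order of the stabilizer of the irreducible character `θ` of the normal
subgroup `H`. -/
theorem card_mul_classInner_indFun_self (H : Subgroup G) [hN : H.Normal] (θ : H → ℂ)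
    (hθ : IsIrrCharacter H θ) :
    (Nat.card H : ℂ) * classInner (indFun H θ) (indFun H θ) =
      (Nat.card {g : G // ∀ h : H, θ ⟨g * h * g⁻¹, hN.conj_mem h h.2 g⟩ = θ h} : ℂ) := by
  classical
  haveI : Fintype H := Fintype.ofFinite H
  rw [classInner_indFun_indFun_normal]
  have hH : (Nat.card H : ℂ) ≠ 0 := by exact_mod_cast (Nat.card_pos (α := H)).ne'
  rw [← mul_assoc, mul_inv_cancel₀ hH, one_mul]
  have h1 : ∀ x : G, classInner θ (conjFun H θ x) =
      if (∀ h : H, θ ⟨x * h * x⁻¹, hN.conj_mem h h.2 x⟩ = θ h) then 1 else 0 := by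
    intro x
    rw [classInner_of_isIrrCharacter hθ (isIrrCharacter_conjFun H hθ x)]
    refine if_congr ?_ rfl rfl
    constructor
    · intro h hh
      exact (congrFun h hh).symm
    · intro h
      funext hh
      exact (h hh).symm
  simp_rw [h1]
  rw [Finset.sum_boole, Nat.card_eq_fintype_card, Fintype.card_subtype]

end

end Cfsg.Agent.Helper24
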