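import Mathlib
import Cfsg.Prelude.Def_Characters
import Cfsg.Agent.Helper24.InducedNormal

/-!
Clifford's theorem for characters.
-/

namespace Cfsg.Agent.Helper24

open Representation Module

universe u

section

variable {G : Type u} [Group G] [Fintype G]

omit [Fintype G] in
/-- The inner product of the restriction of a class function of `G` with a function on the
normal subgroup `N` is invariant under conjugating the latter. -/
theorem classInner_restrict_conjFun (N : Subgroup G) [hN : N.Normal] [Fintype N] {θ : G → ℂ}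
    (hθ : IsClassFunction G θ) (χ : N → ℂ) (g : G) :
    classInner (fun n : N => θ n) (conjFun N χ g) = classInner (fun n : N => θ n) χ := by
  unfold classInner
  congr 1
  refine Fintype.sum_equiv (MulAut.conjNormal g : N ≃* N).toEquiv _ _ ?_
  intro n
  simp only [MulEquiv.toEquiv_eq_coe, EquivLike.coe_coe]
  have h1 : ((MulAut.conjNormal g : N ≃* N) n : G) = g * n * g⁻¹ := MulAut.conjNormal_apply g n
  have h2 : (MulAut.conjNormal g : N ≃* N) n = ⟨g * n * g⁻¹, hN.conj_mem n n.2 g⟩ :=
    Subtype.ext h1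
  rw [conjFun_apply, h1, hθ n g, h2]

/-- Clifford: an irreducible character `ψ` of `N` that is not `G`-conjugate to the constituent `χ`
of `θ_N` is not a constituent of `θ_N`. -/
theorem classInner_restrict_eq_zero_of_not_conj (N : Subgroup G) [hN : N.Normal] [Fintype N]
    {θ : G → ℂ} (hθ : IsIrrCharacter G θ) {χ : N → ℂ} (hχ : IsIrrCharacter N χ)
    (hconst : classInner (fun n : N => θ n) χ ≠ 0) {ψ : N → ℂ} (hψ : IsIrrCharacter N ψ)
    (hne : ∀ g : G, ψ ≠ conjFun N χ g) : classInner (fun n : N => θ n) ψ = 0 := by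
  classical
  haveI : Fintype (IrrCharacter G) := Fintype.ofFinite _
  haveI : Fintype (IrrCharacter N) := Fintype.ofFinite _
  obtain ⟨a, ha⟩ := IsCharacter.exists_nat_coeff
    (isCharacter_indFun N (IsIrrCharacter.isCharacter hχ))
  -- coefficient of θ in χ^G
  have hcf : IsClassFunction G θ := IsCharacter.isClassFunction (IsIrrCharacter.isCharacter hθ)
  have haθ : (a ⟨θ, hθ⟩ : ℂ) = (starRingEnd ℂ) (classInner (fun n : N => θ n) χ) := by
    have h1 : classInner (indFun N χ) θ = (a ⟨θ, hθ⟩ : ℂ) := by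
      rw [ha]
      exact classInner_sum_irr _ ⟨θ, hθ⟩
    rw [← h1, Cfsg.Agent.Helper8.frobenius_reciprocity N χ θ hcf, classInner_conj_symm]
  have haθ0 : a ⟨θ, hθ⟩ ≠ 0 := by
    intro h0
    rw [h0] at haθ
    apply hconst
    have := congrArg (starRingEnd ℂ) haθ
    simpa using this.symm
  -- multiplicities of ψ in restrictions
  have hb : ∀ φ : IrrCharacter G, ∃ b : ℕ, classInner (fun n : N => (φ : G → ℂ) n) ψ = b := by
    intro φ
    exact IsCharacter.classInner_irr_nat
      (Cfsg.Agent.Helper8.isCharacter_restrict N (IsIrrCharacter.isCharacter φ.2)) ⟨ψ, hψ⟩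
  choose b hb using hb
  -- compute ⟨(χ^G)_N, ψ⟩ in two ways
  have h1 : classInner (fun n : N => indFun N χ (n : G)) ψ =
      ((∑ φ : IrrCharacter G, a φ * b φ : ℕ) : ℂ) := by
    have : (fun n : N => indFun N χ (n : G)) =
        ∑ φ : IrrCharacter G, (a φ : ℂ) • (fun n : N => (φ : G → ℂ) n) := by
      funext n
      rw [ha]
      simp [Finset.sum_apply]
    rw [this, classInner_sum_left]
    push_cast
    refine Finset.sum_congr rfl ?_
    intro φ _
    rw [classInner_smul_left, hb]
  have h2 : classInner (fun n : N => indFun N χ (n : G)) ψ = 0 := by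
    rw [indFun_restrict_normal, classInner_smul_left, classInner_sum_left]
    have : ∀ x : G, classInner (conjFun N χ x) ψ = 0 := by
      intro x
      rw [classInner_of_isIrrCharacter (isIrrCharacter_conjFun N hχ x) hψ]
      rw [if_neg (fun h => hne x h.symm)]
    simp [this]
  rw [h2] at h1
  have h3 : ∑ φ : IrrCharacter G, a φ * b φ = 0 := by exact_mod_cast h1.symm
  have h4 := (Finset.sum_eq_zero_iff.mp h3) ⟨θ, hθ⟩ (Finset.mem_univ _)
  have h5 : b ⟨θ, hθ⟩ = 0 := (Nat.mul_eq_zero.mp h4).resolve_left haθ0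
  have h6 := hb ⟨θ, hθ⟩
  rw [h5] at h6
  simpa using h6

/-- Clifford's theorem: the restriction of an irreducible character `θ` of `G` to a normal
subgroup `N` is `e` times the sum of the distinct conjugates of any irreducible constituent `χ`,
where `e = ⟨θ_N, χ⟩`. Finset version. -/
theorem clifford_finset (N : Subgroup G) [hN : N.Normal] [Fintype N]
    {θ : G → ℂ} (hθ : IsIrrCharacter G θ) {χ : N → ℂ} (hχ : IsIrrCharacter N χ)
    (hconst : classInner (fun n : N => θ n) χ ≠ 0) [DecidableEq (N → ℂ)] :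
    (fun n : N => θ n) = classInner (fun n : N => θ n) χ •
      ∑ ψ ∈ Finset.univ.image (conjFun N χ), ψ := by
  classical
  haveI : Fintype (IrrCharacter N) := Fintype.ofFinite _
  have hcf : IsClassFunction G θ := IsCharacter.isClassFunction (IsIrrCharacter.isCharacter hθ)
  have hres : IsCharacter N (fun n : N => θ n) :=
    Cfsg.Agent.Helper8.isCharacter_restrict N (IsIrrCharacter.isCharacter hθ)
  have hexp := IsCharacter.eq_sum_classInner hres
  set T : Finset (N → ℂ) := Finset.univ.image (conjFun N χ) with hT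
  have hcoef : ∀ ψ : IrrCharacter N, classInner (fun n : N => θ n) (ψ : N → ℂ) =
      if (ψ : N → ℂ) ∈ T then classInner (fun n : N => θ n) χ else 0 := by
    intro ψ
    by_cases hmem : (ψ : N → ℂ) ∈ T
    · rw [if_pos hmem]
      obtain ⟨g, _, hg⟩ := Finset.mem_image.mp hmem
      rw [← hg]
      exact classInner_restrict_conjFun N hcf χ g
    · rw [if_neg hmem]
      refine classInner_restrict_eq_zero_of_not_conj N hθ hχ hconst ψ.2 ?_
      intro g hg
      apply hmem
      rw [hg]
      exact Finset.mem_image_of_mem _ (Finset.mem_univ g)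
  have himg : (Finset.univ.filter (fun ψ : IrrCharacter N => (ψ : N → ℂ) ∈ T)).image
      (fun ψ : IrrCharacter N => (ψ : N → ℂ)) = T := by
    ext f
    constructor
    · intro hf
      obtain ⟨ψ, hψ, rfl⟩ := Finset.mem_image.mp hf
      exact (Finset.mem_filter.mp hψ).2
    · intro hf
      obtain ⟨g, _, hg⟩ := Finset.mem_image.mp hf
      refine Finset.mem_image.mpr ⟨⟨f, ?_⟩, ?_, rfl⟩
      · rw [← hg]; exact isIrrCharacter_conjFun N hχ g
      · exact Finset.mem_filter.mpr ⟨Finset.mem_univ _, hf⟩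
  have hsumT : ∑ f ∈ T, f =
      ∑ ψ ∈ Finset.univ.filter (fun ψ : IrrCharacter N => (ψ : N → ℂ) ∈ T), (ψ : N → ℂ) := by
    conv_lhs => rw [← himg]
    rw [Finset.sum_image (fun a _ b _ h => Subtype.ext h)]
  rw [hsumT]
  generalize classInner (fun n : N => θ n) χ = e at hcoef ⊢
  calc (fun n : N => θ n)
      = ∑ ψ : IrrCharacter N, classInner (fun n : N => θ n) (ψ : N → ℂ) • (ψ : N → ℂ) := hexp
    _ = ∑ ψ : IrrCharacter N, (if (ψ : N → ℂ) ∈ T then e • (ψ : N → ℂ) else 0) := by
        refine Finset.sum_congr rfl ?_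
        intro ψ _
        rw [hcoef]
        split_ifs <;> simp
    _ = ∑ ψ ∈ Finset.univ.filter (fun ψ : IrrCharacter N => (ψ : N → ℂ) ∈ T),
          e • (ψ : N → ℂ) := by
        rw [Finset.sum_filter]
    _ = e • ∑ ψ ∈ Finset.univ.filter (fun ψ : IrrCharacter N => (ψ : N → ℂ) ∈ T),
          (ψ : N → ℂ) := by
        rw [Finset.smul_sum]

end

end Cfsg.Agent.Helper24

namespace Cfsg.Agent.Helper24

universe u

/-- Clifford's theorem, `finsum` version (the form of statement S0174). -/
theorem clifford {G : Type u} [Group G] [Fintype G] (N : Subgroup G) [Fintype N] (hN : N.Normal)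
    (θ : G → ℂ) (hθ : IsIrrCharacter G θ) (χ : N → ℂ) (hχ : IsIrrCharacter N χ)
    (hconst : classInner (fun n : N => θ n) χ ≠ 0) :
    (fun n : N => θ n) = classInner (fun n : N => θ n) χ •
      ∑ᶠ ψ ∈ {ψ : N → ℂ | ∃ g : G, ψ = fun n : N => χ ⟨g * n * g⁻¹, hN.conj_mem n n.2 g⟩}, ψ := by
  classical
  haveI := hN
  have h := clifford_finset N hθ hχ hconst
  have hset : {ψ : N → ℂ | ∃ g : G, ψ = fun n : N => χ ⟨g * n * g⁻¹, hN.conj_mem n n.2 g⟩} =
      ↑(Finset.univ.image (conjFun N χ)) := by
    ext ψ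
    simp only [Set.mem_ofPred_eq, Finset.coe_image, Finset.coe_univ, Set.image_univ, Set.mem_range]
    constructor
    · rintro ⟨g, rfl⟩
      exact ⟨g, rfl⟩
    · rintro ⟨g, rfl⟩
      exact ⟨g, rfl⟩
  rw [hset, finsum_mem_coe_finset]
  exact h

end Cfsg.Agent.Helper24
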