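import Mathlib
import Cfsg.Prelude.Def_Characters
import Cfsg.Agent.Helper24.InducedNormal
import Cfsg.Agent.Helper24.RealChar

/-!
Induced characters from normal subgroups in groups of odd order.
-/

namespace Cfsg.Agent.Helper24

open Representation Module

universe u

section

variable {G : Type u} [Group G]

theorem extendByZero_star (H : Subgroup G) (θ : H → ℂ) (g : G) :
    extendByZero H (fun h => (starRingEnd ℂ) (θ h)) g = (starRingEnd ℂ) (extendByZero H θ g) := by
  by_cases hg : g ∈ H
  · rw [Cfsg.Agent.Helper8.ebz_mem H _ hg, Cfsg.Agent.Helper8.ebz_mem H _ hg]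
  · rw [Cfsg.Agent.Helper8.ebz_not_mem H _ hg, Cfsg.Agent.Helper8.ebz_not_mem H _ hg, map_zero]

theorem indFun_star [Fintype G] (H : Subgroup G) (θ : H → ℂ) :
    indFun H (fun h => (starRingEnd ℂ) (θ h)) = fun g => (starRingEnd ℂ) (indFun H θ g) := by
  funext g
  unfold indFun
  rw [map_mul, map_sum, map_inv₀, Complex.conj_natCast]
  congr 1
  refine Finset.sum_congr rfl ?_
  intro x _
  exact extendByZero_star H θ _

theorem conjFun_conjFun (H : Subgroup G) [hN : H.Normal] (θ : H → ℂ) (a b : G) :
    conjFun H (conjFun H θ a) b = conjFun H θ (a * b) := by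
  funext h
  rw [conjFun_apply, conjFun_apply, conjFun_apply]
  congr 1
  apply Subtype.ext
  show a * (b * h * b⁻¹) * a⁻¹ = a * b * h * (a * b)⁻¹
  group

theorem conjFun_pow_of_stab (H : Subgroup G) [hN : H.Normal] (θ : H → ℂ) (y : G)
    (hy : conjFun H θ y = θ) (k : ℕ) : conjFun H θ (y ^ k) = θ := by
  induction k with
  | zero =>
    funext h
    rw [conjFun_apply]
    congr 1
    apply Subtype.ext
    simp
  | succ k ih =>
    rw [pow_succ, ← conjFun_conjFun, ih, hy]

theorem conjFun_star (H : Subgroup G) [hN : H.Normal] (θ : H → ℂ) (a : G) :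
    conjFun H (fun h => (starRingEnd ℂ) (θ h)) a = fun h => (starRingEnd ℂ) (conjFun H θ a h) :=
  rfl

/-- In a group of odd order, if a conjugate of `θ` equals the complex conjugate of `θ`, then
`θ` is real. -/
theorem star_eq_self_of_star_eq_conjFun [Finite G] (hodd : Odd (Nat.card G)) (H : Subgroup G)
    [hN : H.Normal] (θ : H → ℂ) (x : G)
    (hx : (fun h => (starRingEnd ℂ) (θ h)) = conjFun H θ x) :
    (fun h => (starRingEnd ℂ) (θ h)) = θ := by
  have h2 : conjFun H θ (x ^ 2) = θ := by
    rw [pow_two, ← conjFun_conjFun, ← hx, conjFun_star, ← hx]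
    funext h
    simp
  have hoddx : Odd (orderOf x) := Odd.of_dvd_nat hodd (orderOf_dvd_natCard x)
  obtain ⟨k, hk⟩ := hoddx
  have h3 : (x ^ 2) ^ (k + 1) = x := by
    rw [← pow_mul]
    have : 2 * (k + 1) = orderOf x + 1 := by omega
    rw [this, pow_succ, pow_orderOf_eq_one, one_mul]
  have h4 := conjFun_pow_of_stab H θ (x ^ 2) h2 (k + 1)
  rw [h3] at h4
  rw [hx, h4]

/-- In a group of odd order, the function induced from a nonprincipal irreducible character of a
normal subgroup is orthogonal to its complex conjugate. -/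
theorem classInner_star_indFun_of_odd [Fintype G] (hodd : Odd (Nat.card G)) (H : Subgroup G)
    [hN : H.Normal] (θ : H → ℂ) (hθ : IsIrrCharacter H θ) (hθ1 : θ ≠ fun _ => 1) :
    classInner (fun g => (starRingEnd ℂ) (indFun H θ g)) (indFun H θ) = 0 := by
  classical
  haveI : Fintype H := Fintype.ofFinite H
  rw [← indFun_star, classInner_indFun_indFun_normal]
  have hHodd : Odd (Nat.card H) := Odd.of_dvd_nat hodd (Subgroup.card_subgroup_dvd_card H)
  have : ∀ x : G, classInner (fun h => (starRingEnd ℂ) (θ h)) (conjFun H θ x) = 0 := by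
    intro x
    rw [classInner_of_isIrrCharacter (isIrrCharacter_star hθ) (isIrrCharacter_conjFun H hθ x)]
    rw [if_neg]
    intro hx
    have hreal := star_eq_self_of_star_eq_conjFun hodd H θ x hx
    apply hθ1
    refine irr_eq_one_of_real_of_odd hHodd ⟨θ, hθ⟩ ?_
    intro h
    exact Complex.conj_eq_iff_im.mp (congrFun hreal h)
  simp [this]

end

end Cfsg.Agent.Helper24
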