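import Mathlib
import Cfsg.Prelude.Def_Characters
import Cfsg.Agent.Helper24.Induced
import Cfsg.Agent.Helper24.Abelian
import Cfsg.Agent.Helper5.IndFun

/-!
Restriction to subgroups: vanishing off the identity, constituents and degrees.
-/

namespace Cfsg.Agent.Helper24

open Representation Module

universe u v

/-- If a character vanishes on the nonidentity elements of a subgroup `P`, then `|P|` divides its
degree. -/
theorem card_dvd_apply_one_of_vanish {G : Type u} [Group G] [Finite G] (P : Subgroup G)
    (χ : G → ℂ) (hχ : IsCharacter G χ) (hvan : ∀ g : G, g ∈ P → g ≠ 1 → χ g = 0) :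
    ∃ k : ℕ, χ 1 = (Nat.card P : ℂ) * k := by
  classical
  haveI : Fintype P := Fintype.ofFinite P
  haveI : Fintype (IrrCharacter P) := Fintype.ofFinite _
  have hres : IsCharacter P (fun x : P => χ x) := Cfsg.Agent.Helper8.isCharacter_restrict P hχ
  obtain ⟨k, hk⟩ := IsCharacter.classInner_nat hres (isCharacter_const_one (G := P))
  refine ⟨k, ?_⟩
  unfold classInner at hk
  have hsum : ∑ g : P, χ g * (starRingEnd ℂ) (1 : ℂ) = χ 1 := by
    rw [Finset.sum_eq_single (1 : P)]
    · simp
    · intro g _ hg
      have : χ (g : G) = 0 := hvan g g.2 (fun h => hg (Subtype.ext h))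
      rw [this, zero_mul]
    · intro h; exact absurd (Finset.mem_univ _) h
  rw [hsum] at hk
  have hP : (Nat.card P : ℂ) ≠ 0 := by exact_mod_cast (Nat.card_pos (α := P)).ne'
  field_simp at hk
  rw [hk]

section

variable {G : Type u} [Group G] [Fintype G]

/-- A nonzero character has an irreducible constituent. -/
theorem IsCharacter.exists_irr_constituent [Fintype (IrrCharacter G)] {χ : G → ℂ}
    (hχ : IsCharacter G χ) (h0 : χ ≠ 0) : ∃ ψ : IrrCharacter G, classInner χ (ψ : G → ℂ) ≠ 0 := by
  by_contra hcon
  push Not at hcon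
  apply h0
  rw [IsCharacter.eq_sum_classInner hχ]
  simp [hcon]

/-- If the irreducible character `ψ` is a constituent of the character `χ` then
`ψ 1 ≤ χ 1` (as natural numbers, via `irrDeg`). -/
theorem irrDeg_le_of_constituent [Fintype (IrrCharacter G)] {χ : G → ℂ} (hχ : IsCharacter G χ)
    (ψ : IrrCharacter G) (hne : classInner χ (ψ : G → ℂ) ≠ 0) (d : ℕ) (hd : χ 1 = d) :
    irrDeg ψ ≤ d := by
  classical
  obtain ⟨n, hn⟩ := IsCharacter.exists_nat_coeff hχ
  have hcoef : classInner χ (ψ : G → ℂ) = n ψ := by
    rw [hn]; exact classInner_sum_irr _ ψ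
  have hnψ : n ψ ≠ 0 := by
    intro h0
    rw [hcoef, h0] at hne
    exact hne (by simp)
  have h1 : (d : ℂ) = ((∑ φ : IrrCharacter G, n φ * irrDeg φ : ℕ) : ℂ) := by
    rw [← hd, hn, Finset.sum_apply]
    push_cast
    refine Finset.sum_congr rfl ?_
    intro φ _
    rw [Pi.smul_apply, smul_eq_mul, irrDeg_spec]
  have h2 : d = ∑ φ : IrrCharacter G, n φ * irrDeg φ := by exact_mod_cast h1
  rw [h2]
  calc irrDeg ψ ≤ n ψ * irrDeg ψ := Nat.le_mul_of_pos_left _ (Nat.pos_of_ne_zero hnψ)
    _ ≤ ∑ φ : IrrCharacter G, n φ * irrDeg φ :=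
      Finset.single_le_sum (f := fun φ => n φ * irrDeg φ) (fun _ _ => Nat.zero_le _)
        (Finset.mem_univ ψ)

end

section

variable {G : Type u} [Group G] [Finite G]
variable {V : Type v} [AddCommGroup V] [Module ℂ V] [FiniteDimensional ℂ V]

/-- The degree of an irreducible representation is at most the index of any abelian subgroup. -/
theorem finrank_le_index_of_abelian (ρ : Representation ℂ G V) [ρ.IsIrreducible] (A : Subgroup G)
    (hA : ∀ a ∈ A, ∀ b ∈ A, a * b = b * a) : finrank ℂ V ≤ A.index := by
  classical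
  haveI : Fintype G := Fintype.ofFinite G
  haveI : Fintype A := Fintype.ofFinite A
  haveI : Fintype (IrrCharacter G) := Fintype.ofFinite _
  haveI : Fintype (IrrCharacter A) := Fintype.ofFinite _
  have hχ : IsIrrCharacter G ρ.character := isIrrCharacter_character ρ inferInstance
  have hres : IsCharacter A (fun a : A => ρ.character a) :=
    Cfsg.Agent.Helper8.isCharacter_restrict A (IsIrrCharacter.isCharacter hχ)
  have hres0 : (fun a : A => ρ.character a) ≠ 0 := by
    intro h
    have := congrFun h 1
    simp only [Pi.zero_apply, OneMemClass.coe_one, Representation.char_one] at this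
    have hpos := finrank_pos_of_isIrreducible ρ
    have : finrank ℂ V = 0 := by exact_mod_cast this
    omega
  obtain ⟨lam, hlam⟩ := IsCharacter.exists_irr_constituent hres hres0
  have hlam1 : (lam : A → ℂ) 1 = 1 := by
    have hcomm : ∀ a b : A, a * b = b * a := by
      intro a b
      exact Subtype.ext (hA a a.2 b b.2)
    exact (comm_iff_forall_irr_one.mp hcomm) lam
  have hind : IsCharacter G (indFun A (lam : A → ℂ)) :=
    isCharacter_indFun A (IsIrrCharacter.isCharacter lam.2)
  have hne : classInner (indFun A (lam : A → ℂ)) ρ.character ≠ 0 := by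
    rw [Cfsg.Agent.Helper8.frobenius_reciprocity A _ _
      (IsCharacter.isClassFunction (IsIrrCharacter.isCharacter hχ)), ← classInner_conj_symm]
    intro h
    apply hlam
    have := congrArg (starRingEnd ℂ) h
    simpa using this
  have hdeg : indFun A (lam : A → ℂ) 1 = (A.index : ℂ) := by
    rw [Cfsg.Agent.Helper5.indFun_apply_one, hlam1, mul_one]
  have hle := irrDeg_le_of_constituent hind ⟨ρ.character, hχ⟩ hne A.index hdeg
  have hdeg2 : irrDeg (⟨ρ.character, hχ⟩ : IrrCharacter G) = finrank ℂ V := by
    have := irrDeg_spec (⟨ρ.character, hχ⟩ : IrrCharacter G)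
    simp only [Representation.char_one] at this
    exact_mod_cast this.symm
  rw [hdeg2] at hle
  exact hle

end


end Cfsg.Agent.Helper24
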