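import Mathlib
import Cfsg.Prelude.Def_Characters
import Cfsg.Agent.Helper24.CenterIndex
import Cfsg.Agent.Helper24.Clifford
import Cfsg.Agent.Helper24.OddInduced
import Cfsg.Agent.Helper24.Restrict
import Cfsg.Agent.Helper24.Abelian
import Cfsg.Agent.Helper5.LinChar
import Cfsg.Agent.Helper8.IndTrans
import Cfsg.Agent.S1489

/-!
Itô's theorem: the degree of an irreducible character divides the index of any abelian normal
subgroup.
-/

namespace Cfsg.Agent.Helper24

open Representation Module

universe u v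

section Scalar

variable {G : Type u} [Group G] [Finite G]
variable {V : Type v} [AddCommGroup V] [Module ℂ V] [FiniteDimensional ℂ V]

/-- The degree of an irreducible representation divides the index of any subgroup acting by
scalars. -/
theorem finrank_dvd_index_of_scalar (ρ : Representation ℂ G V) [ρ.IsIrreducible] (B : Subgroup G)
    (hB : ∀ b ∈ B, ∃ c : ℂ, ρ b = c • (LinearMap.id : V →ₗ[ℂ] V)) : finrank ℂ V ∣ B.index := by
  haveI := repRangeRep_isIrreducible ρ
  haveI : Finite (repRange ρ) := Finite.of_surjective _ ρ.asGroupHom.rangeRestrict_surjective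
  have h1 := finrank_dvd_index_center_of_faithful (repRangeRep ρ) (repRangeRep_injective ρ)
  refine h1.trans ?_
  set f := ρ.asGroupHom.rangeRestrict with hf
  have hsurj : Function.Surjective f := ρ.asGroupHom.rangeRestrict_surjective
  rw [← Subgroup.index_comap_of_surjective (Subgroup.center (repRange ρ)) hsurj]
  apply Subgroup.index_dvd_of_le
  intro z hz
  rw [Subgroup.mem_comap, Subgroup.mem_center_iff]
  intro y
  obtain ⟨x, rfl⟩ := hsurj y
  obtain ⟨c, hc⟩ := hB z hz
  apply Subtype.ext
  apply Units.ext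
  show ρ x * ρ z = ρ z * ρ x
  rw [hc]
  ext v
  simp

end Scalar

section Inertia

variable {G : Type u} [Group G]

theorem conjFun_one (H : Subgroup G) [hN : H.Normal] (θ : H → ℂ) : conjFun H θ 1 = θ := by
  funext h
  rw [conjFun_apply]
  congr 1
  apply Subtype.ext
  simp

/-- The inertia subgroup of a function on a normal subgroup. -/
def inertiaSubgroup (H : Subgroup G) [hN : H.Normal] (θ : H → ℂ) : Subgroup G where
  carrier := {g | conjFun H θ g = θ}
  one_mem' := conjFun_one H θ
  mul_mem' := by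
    intro a b ha hb
    show conjFun H θ (a * b) = θ
    rw [← conjFun_conjFun, ha, hb]
  inv_mem' := by
    intro a ha
    show conjFun H θ a⁻¹ = θ
    have ha' : conjFun H θ a = θ := ha
    conv_lhs => rw [← ha']
    rw [conjFun_conjFun, mul_inv_cancel, conjFun_one]

theorem mem_inertiaSubgroup (H : Subgroup G) [hN : H.Normal] (θ : H → ℂ) (g : G) :
    g ∈ inertiaSubgroup H θ ↔ ∀ h : H, θ ⟨g * h * g⁻¹, hN.conj_mem h h.2 g⟩ = θ h := by
  show conjFun H θ g = θ ↔ _
  rw [funext_iff]
  rfl

theorem le_inertiaSubgroup (H : Subgroup G) [hN : H.Normal] (θ : H → ℂ)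
    (hθ : IsClassFunction H θ) : H ≤ inertiaSubgroup H θ := by
  intro g hg
  rw [mem_inertiaSubgroup]
  intro h
  exact hθ h ⟨g, hg⟩

end Inertia

section Ito

variable {G : Type u} [Group G] [Fintype G]

/-- **Itô's theorem**, character form. -/
theorem ito_character (A : Subgroup G) [hA : A.Normal] (hab : ∀ a ∈ A, ∀ b ∈ A, a * b = b * a)
    (χ : G → ℂ) (hχ : IsIrrCharacter G χ) : ∃ d : ℕ, χ 1 = d ∧ d ∣ A.index := by
  classical
  haveI : Fintype A := Fintype.ofFinite A
  haveI : Fintype (IrrCharacter A) := Fintype.ofFinite _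
  have hχc : IsCharacter G χ := IsIrrCharacter.isCharacter hχ
  have hχcf : IsClassFunction G χ := IsCharacter.isClassFunction hχc
  -- a constituent of the restriction to `A`
  have hres : IsCharacter A (fun a : A => χ a) := Helper8.isCharacter_restrict A hχc
  have hne : (fun a : A => χ a) ≠ 0 := by
    intro h
    have := congrFun h 1
    exact irr_one_ne_zero ⟨χ, hχ⟩ this
  obtain ⟨lam, hlam⟩ := IsCharacter.exists_irr_constituent hres hne
  have hlamc : IsCharacter A (lam : A → ℂ) := IsIrrCharacter.isCharacter lam.2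
  have hlam1 : (lam : A → ℂ) 1 = 1 := by
    have hcomm : ∀ a b : A, a * b = b * a := fun a b => Subtype.ext (hab a a.2 b b.2)
    exact (comm_iff_forall_irr_one.mp hcomm) lam
  -- the inertia group
  set T := inertiaSubgroup A (lam : A → ℂ) with hTdef
  haveI : Fintype T := Fintype.ofFinite T
  haveI : Fintype (IrrCharacter T) := Fintype.ofFinite _
  have hT : ∀ g : G, g ∈ T ↔ ∀ h : A,
      (lam : A → ℂ) ⟨g * h * g⁻¹, hA.conj_mem h h.2 g⟩ = (lam : A → ℂ) h :=
    mem_inertiaSubgroup A _
  have hAT : A ≤ T := le_inertiaSubgroup A _ (IsCharacter.isClassFunction hlamc)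
  haveI : Fintype (A.subgroupOf T) := Fintype.ofFinite _
  have hNn : (A.subgroupOf T).Normal := inferInstance
  have hlam'irr : IsIrrCharacter (A.subgroupOf T) (Helper8.toSubgroupOf A T (lam : A → ℂ)) :=
    Helper8.isIrrCharacter_comp_surjective (Subgroup.subgroupOfEquivOfLe hAT).toMonoidHom
      (Subgroup.subgroupOfEquivOfLe hAT).surjective lam.2
  have hΦc : IsCharacter T (indFun (A.subgroupOf T) (Helper8.toSubgroupOf A T (lam : A → ℂ))) :=
    isCharacter_indFun _ (IsIrrCharacter.isCharacter hlam'irr)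
  have hχT : IsCharacter T (fun t : T => χ t) := Helper8.isCharacter_restrict T hχc
  have h1 : classInner (indFun (A.subgroupOf T) (Helper8.toSubgroupOf A T (lam : A → ℂ)))
      (fun t : T => χ t) ≠ 0 := by
    rw [Helper8.frobenius_reciprocity (A.subgroupOf T) _ (fun t : T => χ t)
      (IsCharacter.isClassFunction hχT)]
    have : classInner (Helper8.toSubgroupOf A T (lam : A → ℂ))
        (fun n : A.subgroupOf T => χ ((n : T) : G)) =
        classInner (lam : A → ℂ) (fun a : A => χ a) := by
      unfold classInner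
      rw [Helper8.card_subgroupOf_of_le hAT]
      congr 1
      exact Fintype.sum_equiv (Subgroup.subgroupOfEquivOfLe hAT).toEquiv _ _ (fun n => rfl)
    rw [this, ← classInner_conj_symm]
    exact (map_ne_zero _).mpr hlam
  obtain ⟨ψ, hψΦ, hψχ⟩ : ∃ ψ : IrrCharacter T,
      classInner (indFun (A.subgroupOf T) (Helper8.toSubgroupOf A T (lam : A → ℂ)))
        (ψ : T → ℂ) ≠ 0 ∧ classInner (fun t : T => χ t) (ψ : T → ℂ) ≠ 0 := by
    by_contra hcon
    push Not at hcon
    apply h1
    have e1 := IsCharacter.eq_sum_classInner hΦc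
    have e2 := IsCharacter.eq_sum_classInner hχT
    rw [e1, e2, classInner_sum_sum]
    apply Finset.sum_eq_zero
    intro ψ _
    by_cases h : classInner (indFun (A.subgroupOf T) (Helper8.toSubgroupOf A T (lam : A → ℂ)))
        (ψ : T → ℂ) = 0
    · rw [h, zero_mul]
    · rw [hcon ψ h, map_zero, mul_zero]
  have hirr : IsIrrCharacter G (indFun T (ψ : T → ℂ)) :=
    (Cfsg.Agent.S1489.result A T (lam : A → ℂ) lam.2 hT hAT (ψ : T → ℂ) (ψ : T → ℂ) ψ.2 ψ.2
      hψΦ hψΦ).1
  have hind : indFun T (ψ : T → ℂ) = χ := by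
    by_contra hne
    have := classInner_of_isIrrCharacter hirr hχ
    rw [if_neg hne, Helper8.frobenius_reciprocity T _ χ hχcf] at this
    apply hψχ
    rw [← classInner_conj_symm, this, map_zero]
  -- Clifford inside `T`
  have hψcf : IsClassFunction T (ψ : T → ℂ) :=
    IsCharacter.isClassFunction (IsIrrCharacter.isCharacter ψ.2)
  have hconst : classInner (fun n : A.subgroupOf T => (ψ : T → ℂ) n)
      (Helper8.toSubgroupOf A T (lam : A → ℂ)) ≠ 0 := by
    have := hψΦ
    rw [Helper8.frobenius_reciprocity (A.subgroupOf T) _ (ψ : T → ℂ) hψcf] at this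
    rw [← classInner_conj_symm]
    exact (map_ne_zero _).mpr this
  have hcl := clifford_finset (A.subgroupOf T) ψ.2 hlam'irr hconst
  have himg : Finset.univ.image (conjFun (A.subgroupOf T)
      (Helper8.toSubgroupOf A T (lam : A → ℂ))) = {Helper8.toSubgroupOf A T (lam : A → ℂ)} := by
    ext φ
    simp only [Finset.mem_image, Finset.mem_univ, true_and, Finset.mem_singleton]
    constructor
    · rintro ⟨t, rfl⟩
      funext n
      rw [conjFun_apply]
      exact ((hT (t : G)).mp t.2) ⟨((n : T) : G), Subgroup.mem_subgroupOf.mp n.2⟩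
    · rintro rfl
      exact ⟨1, conjFun_one _ _⟩
  rw [himg, Finset.sum_singleton] at hcl
  have hψN : ∀ n : A.subgroupOf T, (ψ : T → ℂ) n =
      classInner (fun n : A.subgroupOf T => (ψ : T → ℂ) n)
        (Helper8.toSubgroupOf A T (lam : A → ℂ)) * Helper8.toSubgroupOf A T (lam : A → ℂ) n :=
    fun n => congrFun hcl n
  have hlam'1 : Helper8.toSubgroupOf A T (lam : A → ℂ) 1 = 1 := hlam1
  have he1 : classInner (fun n : A.subgroupOf T => (ψ : T → ℂ) n)
      (Helper8.toSubgroupOf A T (lam : A → ℂ)) = (ψ : T → ℂ) 1 := by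
    have := hψN 1
    rw [hlam'1, mul_one] at this
    exact this.symm
  obtain ⟨m, σ, hσ, hσψ⟩ := ψ.2
  haveI := hσ
  have hm : (ψ : T → ℂ) 1 = m := by rw [← hσψ, char_one, finrank_fin_fun]
  have hscal : ∀ b ∈ A.subgroupOf T, ∃ c : ℂ, σ b = c • LinearMap.id := by
    intro b hb
    apply (norm_char_eq_iff σ b).mp
    rw [hσψ]
    have h2 := hψN ⟨b, hb⟩
    rw [he1, hm] at h2
    have h3 : ‖Helper8.toSubgroupOf A T (lam : A → ℂ) ⟨b, hb⟩‖ = 1 :=
      norm_monoidHom_eq_one (Helper5.linCharHom hlamc hlam1) _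
    have h4 : (ψ : T → ℂ) b = (m : ℂ) * Helper8.toSubgroupOf A T (lam : A → ℂ) ⟨b, hb⟩ := h2
    rw [h4, norm_mul, h3, mul_one, finrank_fin_fun, Complex.norm_natCast]
  have hdvd := finrank_dvd_index_of_scalar σ (A.subgroupOf T) hscal
  rw [finrank_fin_fun] at hdvd
  refine ⟨T.index * m, ?_, ?_⟩
  · rw [← hind, Helper5.indFun_apply_one, hm]
    push_cast
    ring
  · rw [← Subgroup.relIndex_mul_index hAT, mul_comm]
    exact Nat.mul_dvd_mul_right hdvd _

/-- **Itô's theorem**. -/
theorem finrank_dvd_index_of_abelian_normal {V : Type v} [AddCommGroup V] [Module ℂ V]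
    [FiniteDimensional ℂ V] (ρ : Representation ℂ G V) [hρ : ρ.IsIrreducible] (A : Subgroup G)
    [A.Normal] (hab : ∀ a ∈ A, ∀ b ∈ A, a * b = b * a) : finrank ℂ V ∣ A.index := by
  obtain ⟨d, hd, hdvd⟩ := ito_character A hab ρ.character (isIrrCharacter_character ρ hρ)
  rw [char_one] at hd
  have : finrank ℂ V = d := by exact_mod_cast hd
  rw [this]
  exact hdvd

end Ito

end Cfsg.Agent.Helper24
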