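import Mathlib
import Cfsg.Prelude.Def_Characters
import Cfsg.Agent.Helper24.Ito

/-!
The Clifford correspondence in existence form: an irreducible character is induced from an
irreducible character of the inertia group of any constituent of its restriction to a normal
subgroup.
-/

namespace Cfsg.Agent.Helper24

open Representation Module

universe u v

section CliffordCorr

variable {G : Type u} [Group G] [Fintype G]

/-- Existence part of the Clifford correspondence. -/
theorem exists_irr_inertia_indFun_eq (A : Subgroup G) [hA : A.Normal]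
    (χ : G → ℂ) (hχ : IsIrrCharacter G χ) (lam : A → ℂ) (hlamirr : IsIrrCharacter A lam)
    [Fintype A] (hlam : classInner (fun a : A => χ a) lam ≠ 0)
    [Fintype (inertiaSubgroup A lam)] :
    ∃ ψ : inertiaSubgroup A lam → ℂ, IsIrrCharacter (inertiaSubgroup A lam) ψ ∧
      indFun (inertiaSubgroup A lam) ψ = χ := by
  classical
  have hχc : IsCharacter G χ := IsIrrCharacter.isCharacter hχ
  have hχcf : IsClassFunction G χ := IsCharacter.isClassFunction hχc
  have hlamc : IsCharacter A lam := IsIrrCharacter.isCharacter hlamirr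
  set T := inertiaSubgroup A lam with hTdef
  haveI : Fintype (IrrCharacter T) := Fintype.ofFinite _
  have hT : ∀ g : G, g ∈ T ↔ ∀ h : A,
      lam ⟨g * h * g⁻¹, hA.conj_mem h h.2 g⟩ = lam h :=
    mem_inertiaSubgroup A _
  have hAT : A ≤ T := le_inertiaSubgroup A _ (IsCharacter.isClassFunction hlamc)
  haveI : Fintype (A.subgroupOf T) := Fintype.ofFinite _
  have hlam'irr : IsIrrCharacter (A.subgroupOf T) (Helper8.toSubgroupOf A T lam) :=
    Helper8.isIrrCharacter_comp_surjective (Subgroup.subgroupOfEquivOfLe hAT).toMonoidHom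
      (Subgroup.subgroupOfEquivOfLe hAT).surjective hlamirr
  have hΦc : IsCharacter T (indFun (A.subgroupOf T) (Helper8.toSubgroupOf A T lam)) :=
    isCharacter_indFun _ (IsIrrCharacter.isCharacter hlam'irr)
  have hχT : IsCharacter T (fun t : T => χ t) := Helper8.isCharacter_restrict T hχc
  have h1 : classInner (indFun (A.subgroupOf T) (Helper8.toSubgroupOf A T lam))
      (fun t : T => χ t) ≠ 0 := by
    rw [Helper8.frobenius_reciprocity (A.subgroupOf T) _ (fun t : T => χ t)
      (IsCharacter.isClassFunction hχT)]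
    have : classInner (Helper8.toSubgroupOf A T lam)
        (fun n : A.subgroupOf T => χ ((n : T) : G)) =
        classInner lam (fun a : A => χ a) := by
      unfold classInner
      rw [Helper8.card_subgroupOf_of_le hAT]
      congr 1
      exact Fintype.sum_equiv (Subgroup.subgroupOfEquivOfLe hAT).toEquiv _ _ (fun n => rfl)
    rw [this, ← classInner_conj_symm]
    exact (map_ne_zero _).mpr hlam
  obtain ⟨ψ, hψΦ, hψχ⟩ : ∃ ψ : IrrCharacter T,
      classInner (indFun (A.subgroupOf T) (Helper8.toSubgroupOf A T lam))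
        (ψ : T → ℂ) ≠ 0 ∧ classInner (fun t : T => χ t) (ψ : T → ℂ) ≠ 0 := by
    by_contra hcon
    push Not at hcon
    apply h1
    have e1 := IsCharacter.eq_sum_classInner hΦc
    have e2 := IsCharacter.eq_sum_classInner hχT
    rw [e1, e2, classInner_sum_sum]
    apply Finset.sum_eq_zero
    intro ψ _
    by_cases h : classInner (indFun (A.subgroupOf T) (Helper8.toSubgroupOf A T lam))
        (ψ : T → ℂ) = 0
    · rw [h, zero_mul]
    · rw [hcon ψ h, map_zero, mul_zero]
  have hirr : IsIrrCharacter G (indFun T (ψ : T → ℂ)) :=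
    (Cfsg.Agent.S1489.result A T lam hlamirr hT hAT (ψ : T → ℂ) (ψ : T → ℂ) ψ.2 ψ.2
      hψΦ hψΦ).1
  refine ⟨ψ, ψ.2, ?_⟩
  by_contra hne
  have := classInner_of_isIrrCharacter hirr hχ
  rw [if_neg hne, Helper8.frobenius_reciprocity T _ χ hχcf] at this
  apply hψχ
  rw [← classInner_conj_symm, this, map_zero]

/-- If a linear constituent `lam` of `χ_A` is `G`-invariant, then `A` acts by scalars. -/
theorem scalar_of_inertia_eq_top {V : Type v} [AddCommGroup V] [Module ℂ V]
    [FiniteDimensional ℂ V] (ρ : Representation ℂ G V) [hρ : ρ.IsIrreducible]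
    (A : Subgroup G) [hA : A.Normal] [Fintype A] (lam : A → ℂ) (hlamirr : IsIrrCharacter A lam)
    (hlam1 : lam 1 = 1) (hlam : classInner (fun a : A => ρ.character a) lam ≠ 0)
    (htop : inertiaSubgroup A lam = ⊤) :
    ∀ a ∈ A, ∃ c : ℂ, ρ a = c • (LinearMap.id : V →ₗ[ℂ] V) := by
  classical
  have hlamc : IsCharacter A lam := IsIrrCharacter.isCharacter hlamirr
  have hcl := clifford_finset A (isIrrCharacter_character ρ hρ) hlamirr hlam
  have himg : Finset.univ.image (conjFun A lam) = {lam} := by
    ext φ
    simp only [Finset.mem_image, Finset.mem_univ, true_and, Finset.mem_singleton]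
    constructor
    · rintro ⟨t, rfl⟩
      have : t ∈ inertiaSubgroup A lam := by rw [htop]; exact Subgroup.mem_top t
      exact this
    · rintro rfl
      exact ⟨1, conjFun_one _ _⟩
  rw [himg, Finset.sum_singleton] at hcl
  have hN : ∀ a : A, ρ.character a = classInner (fun a : A => ρ.character a) lam * lam a :=
    fun a => congrFun hcl a
  have he1 : classInner (fun a : A => ρ.character a) lam = (finrank ℂ V : ℂ) := by
    have := hN 1
    rw [hlam1, mul_one] at this
    rw [← this]
    exact char_one ρ
  intro a ha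
  apply (norm_char_eq_iff ρ a).mp
  have h2 := hN ⟨a, ha⟩
  rw [he1] at h2
  have h3 : ‖lam ⟨a, ha⟩‖ = 1 :=
    norm_monoidHom_eq_one (Helper5.linCharHom hlamc hlam1) _
  have h4 : ρ.character a = (finrank ℂ V : ℂ) * lam ⟨a, ha⟩ := h2
  rw [h4, norm_mul, h3, mul_one, Complex.norm_natCast]

end CliffordCorr

end Cfsg.Agent.Helper24
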