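import Mathlib
import Cfsg.Prelude.Def_Characters
import Cfsg.Agent.Helper8.Ind
import Cfsg.Agent.Helper8.IndTrans

/-!
More about induced functions: induction from the whole group, inflation, and a version of
transitivity for a subgroup of a subgroup.
-/

namespace Cfsg.Agent.Helper24

open Representation Module

universe u v

section IndMore

/-- Inducing from the whole group does nothing to a class function. -/
theorem indFun_top_restrict {G : Type u} [Group G] [Fintype G] (χ : G → ℂ)
    (hχ : IsClassFunction G χ) :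
    indFun (⊤ : Subgroup G) (fun h => χ h) = χ := by
  funext g
  unfold indFun
  have h1 : ∀ x : G, extendByZero ⊤ (fun h : (⊤ : Subgroup G) => χ h) (x⁻¹ * g * x) = χ g := by
    intro x
    rw [Helper8.ebz_mem ⊤ _ (Subgroup.mem_top _)]
    have := hχ g x⁻¹
    simpa using this
  simp_rw [h1]
  rw [Finset.sum_const, Finset.card_univ, nsmul_eq_mul, Subgroup.card_top,
    Nat.card_eq_fintype_card]
  have : (Fintype.card G : ℂ) ≠ 0 := by
    exact_mod_cast Fintype.card_ne_zero
  field_simp

/-- Sum over the fibres of a surjective homomorphism. -/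
theorem sum_comp_surjective_hom {G : Type u} {Q : Type v} [Group G] [Fintype G] [Group Q]
    [Fintype Q] (f : G →* Q) (hf : Function.Surjective f) (F : Q → ℂ) :
    ∑ x : G, F (f x) = (Nat.card f.ker : ℂ) * ∑ y : Q, F y := by
  classical
  rw [Finset.sum_comp F f, Finset.mul_sum, Finset.image_univ_of_surjective hf]
  refine Finset.sum_congr rfl ?_
  intro y _
  obtain ⟨a, rfl⟩ := hf y
  have : (Finset.univ.filter (fun x => f x = f a)).card = Nat.card f.ker := by
    rw [← Fintype.card_subtype, ← Nat.card_eq_fintype_card]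
    apply Nat.card_congr
    exact
      { toFun := fun x => ⟨a⁻¹ * x.1, by
          rw [MonoidHom.mem_ker, map_mul, map_inv, x.2, inv_mul_cancel]⟩
        invFun := fun k => ⟨a * k.1, by rw [map_mul, MonoidHom.mem_ker.mp k.2, mul_one]⟩
        left_inv := fun x => by simp
        right_inv := fun k => by simp }
  rw [this, nsmul_eq_mul]

/-- Induction commutes with inflation along a surjective homomorphism. -/
theorem indFun_comap {G : Type u} {Q : Type v} [Group G] [Fintype G] [Group Q] [Fintype Q]
    (f : G →* Q) (hf : Function.Surjective f) (H : Subgroup Q) (θ : H → ℂ) (g : G) :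
    indFun (H.comap f) (fun h => θ ⟨f h, h.2⟩) g = indFun H θ (f g) := by
  classical
  unfold indFun
  have hebz : ∀ y : G, extendByZero (H.comap f) (fun h => θ ⟨f h, h.2⟩) y =
      extendByZero H θ (f y) := by
    intro y
    by_cases hy : y ∈ H.comap f
    · rw [Helper8.ebz_mem _ _ hy, Helper8.ebz_mem H θ (Subgroup.mem_comap.mp hy)]
    · rw [Helper8.ebz_not_mem _ _ hy, Helper8.ebz_not_mem H θ (fun h => hy (Subgroup.mem_comap.mpr h))]
  simp_rw [hebz]
  have h1 : ∑ x : G, extendByZero H θ (f (x⁻¹ * g * x)) =
      ∑ x : G, (fun y : Q => extendByZero H θ (y⁻¹ * f g * y)) (f x) := by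
    refine Finset.sum_congr rfl ?_
    intro x _
    simp only [map_mul, map_inv]
  rw [h1, sum_comp_surjective_hom f hf (fun y : Q => extendByZero H θ (y⁻¹ * f g * y))]
  -- cardinalities
  have hc1 : Nat.card (H.comap f) * (H.comap f).index = Nat.card G := Subgroup.card_mul_index _
  have hc2 : Nat.card H * H.index = Nat.card Q := Subgroup.card_mul_index _
  have hc3 : (H.comap f).index = H.index := Subgroup.index_comap_of_surjective H hf
  have hc4 : Nat.card G = Nat.card f.ker * Nat.card Q := by
    have := sum_comp_surjective_hom f hf (fun _ => (1 : ℂ))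
    simp only [Finset.sum_const, Finset.card_univ, nsmul_eq_mul, mul_one] at this
    rw [Nat.card_eq_fintype_card, Nat.card_eq_fintype_card (α := Q)]
    exact_mod_cast this
  have hidx : H.index ≠ 0 := Subgroup.index_ne_zero_of_finite
  have hc5 : Nat.card (H.comap f) = Nat.card f.ker * Nat.card H := by
    have : Nat.card (H.comap f) * H.index = Nat.card f.ker * Nat.card H * H.index := by
      rw [← hc3, hc1, hc4, ← hc2, hc3]
      ring
    exact Nat.eq_of_mul_eq_mul_right (Nat.pos_of_ne_zero hidx) this
  rw [hc5]
  have hk : (Nat.card f.ker : ℂ) ≠ 0 := by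
    have := Nat.card_pos (α := f.ker)
    exact_mod_cast this.ne'
  have hH : (Nat.card H : ℂ) ≠ 0 := by
    have := Nat.card_pos (α := H)
    exact_mod_cast this.ne'
  push_cast
  field_simp

/-- Induced functions only depend on the subgroup up to equality. -/
theorem indFun_congr_subgroup {T : Type u} [Group T] [Fintype T] {K₁ K₂ : Subgroup T}
    (h : K₁ = K₂) (θ₁ : K₁ → ℂ) (θ₂ : K₂ → ℂ)
    (hθ : ∀ (x : T) (h1 : x ∈ K₁) (h2 : x ∈ K₂), θ₁ ⟨x, h1⟩ = θ₂ ⟨x, h2⟩) :
    indFun K₁ θ₁ = indFun K₂ θ₂ := by
  subst h
  congr 1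
  funext x
  exact hθ x x.2 x.2

/-- Transitivity of induction, for a subgroup of a subgroup. -/
theorem indFun_trans_map {G : Type u} [Group G] [Fintype G] (T : Subgroup G) [Fintype T]
    (K : Subgroup T) (θ : K.map T.subtype → ℂ) :
    indFun T (indFun K (fun k => θ ⟨(k : T), Subgroup.mem_map_of_mem _ k.2⟩)) =
      indFun (K.map T.subtype) θ := by
  have hle : K.map T.subtype ≤ T := by
    rintro _ ⟨x, _, rfl⟩
    exact x.2
  rw [← Helper8.indFun_trans (K.map T.subtype) T hle θ]
  congr 1
  apply indFun_congr_subgroup (Subgroup.comap_map_eq_self_of_injective T.subtype_injective K).symm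
  intro x h1 h2
  rfl

end IndMore

end Cfsg.Agent.Helper24
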