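import Mathlib
import Cfsg.Prelude.Def_Characters
import Cfsg.Agent.Helper24.CliffordCorr
import Cfsg.Agent.Helper24.IndMore
import Cfsg.Agent.S0015

/-!
Nilpotent groups are M-groups.
-/

namespace Cfsg.Agent.Helper24

open Representation Module

universe u v

section Monomial

/-- A finite nilpotent group has a self-centralizing abelian normal subgroup. -/
theorem exists_normal_abelian_self_centralizing {G : Type u} [Group G] [Finite G]
    [Group.IsNilpotent G] :
    ∃ A : Subgroup G, A.Normal ∧ (∀ a ∈ A, ∀ b ∈ A, a * b = b * a) ∧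
      Subgroup.centralizer (A : Set G) = A := by
  classical
  let S : Set (Subgroup G) := {M | M.Normal ∧ IsMulCommutative M}
  have hfin : S.Finite := Set.toFinite S
  have hne : S.Nonempty := ⟨⊥, inferInstance, inferInstance⟩
  obtain ⟨A, ⟨hAn, hAc⟩, hmax⟩ := hfin.exists_maximal hne
  haveI := hAn
  haveI := hAc
  refine ⟨A, hAn, ?_, ?_⟩
  · intro a ha b hb
    have := mul_comm' (⟨a, ha⟩ : A) ⟨b, hb⟩
    exact congrArg Subtype.val this
  · exact Cfsg.Agent.S0015.result A
      (fun M hMn hMc hle => le_antisymm (hmax ⟨hMn, hMc⟩ hle) hle)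

/-- In a faithful representation, elements acting by scalars are central. -/
theorem mem_center_of_scalar {G : Type u} [Group G] {V : Type v} [AddCommGroup V] [Module ℂ V]
    (ρ : Representation ℂ G V) (hinj : Function.Injective ρ) (a : G) (c : ℂ)
    (hc : ρ a = c • (LinearMap.id : V →ₗ[ℂ] V)) : a ∈ Subgroup.center G := by
  rw [Subgroup.mem_center_iff]
  intro g
  apply hinj
  rw [map_mul, map_mul, hc]
  ext v
  simp

theorem isMonomial_of_nilpotent_aux : ∀ (n : ℕ) (G : Type u) [Group G] [Fintype G]
    [Group.IsNilpotent G], Nat.card G = n → ∀ χ : G → ℂ, IsIrrCharacter G χ →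
      ∃ (H : Subgroup G) (lam : H →* ℂˣ), χ = indFun H (fun h => (lam h : ℂ)) := by
  intro n
  induction n using Nat.strong_induction_on with
  | _ n ih =>
  intro G _ _ _ hn χ hχ
  classical
  have hχc := IsIrrCharacter.isCharacter hχ
  obtain ⟨m, ρ, hρ, hρχ⟩ := hχ
  haveI := hρ
  by_cases hker : (ρ : G →* _).ker = ⊥
  · -- faithful case
    have hinj : Function.Injective ρ := (MonoidHom.ker_eq_bot_iff _).mp hker
    obtain ⟨A, hAn, hAc, hAcent⟩ := exists_normal_abelian_self_centralizing (G := G)
    haveI := hAn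
    haveI : Fintype A := Fintype.ofFinite A
    haveI : Fintype (IrrCharacter A) := Fintype.ofFinite _
    have hχ' : IsIrrCharacter G χ := ⟨m, ρ, hρ, hρχ⟩
    have hres : IsCharacter A (fun a : A => χ a) := Helper8.isCharacter_restrict A hχc
    have hne : (fun a : A => χ a) ≠ 0 := by
      intro h
      have := congrFun h 1
      exact irr_one_ne_zero ⟨χ, hχ'⟩ this
    obtain ⟨lam, hlam⟩ := IsCharacter.exists_irr_constituent hres hne
    have hlam1 : (lam : A → ℂ) 1 = 1 := by
      have hcomm : ∀ a b : A, a * b = b * a := fun a b => Subtype.ext (hAc a a.2 b b.2)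
      exact (comm_iff_forall_irr_one.mp hcomm) lam
    haveI : Fintype (inertiaSubgroup A (lam : A → ℂ)) := Fintype.ofFinite _
    by_cases htop : inertiaSubgroup A (lam : A → ℂ) = ⊤
    · have hscal := scalar_of_inertia_eq_top ρ A lam lam.2 hlam1 (by rw [hρχ]; exact hlam) htop
      have hcentral : A ≤ Subgroup.center G := by
        intro a ha
        obtain ⟨c, hc⟩ := hscal a ha
        exact mem_center_of_scalar ρ hinj a c hc
      have hAtop : A = ⊤ := by
        rw [← hAcent, eq_top_iff]
        intro g _
        rw [Subgroup.mem_centralizer_iff]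
        intro a ha
        exact (Subgroup.mem_center_iff.mp (hcentral ha) g).symm
      have hcomm : ∀ a b : G, a * b = b * a := by
        intro a b
        exact hAc a (by rw [hAtop]; exact Subgroup.mem_top a) b
          (by rw [hAtop]; exact Subgroup.mem_top b)
      have hχ1 : χ 1 = 1 := (comm_iff_forall_irr_one.mp hcomm) ⟨χ, hχ'⟩
      refine ⟨⊤, ((Helper5.linCharHom hχc hχ1).toHomUnits).comp (⊤ : Subgroup G).subtype, ?_⟩
      exact (indFun_top_restrict χ (IsCharacter.isClassFunction hχc)).symm
    · obtain ⟨ψ, hψ, hind⟩ := exists_irr_inertia_indFun_eq A χ hχ' lam lam.2 hlam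
      have hTlt : Nat.card (inertiaSubgroup A (lam : A → ℂ)) < n := by
        rw [← hn]
        refine lt_of_le_of_ne (Subgroup.card_le_card_group _) ?_
        intro h
        exact htop (Subgroup.card_eq_iff_eq_top _ |>.mp h)
      obtain ⟨K, μ, hKμ⟩ := ih _ hTlt (inertiaSubgroup A (lam : A → ℂ)) rfl ψ hψ
      refine ⟨K.map (inertiaSubgroup A (lam : A → ℂ)).subtype,
        μ.comp (Subgroup.equivMapOfInjective K (inertiaSubgroup A (lam : A → ℂ)).subtype
          (Subgroup.subtype_injective _)).symm.toMonoidHom, ?_⟩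
      have hfun : (fun h : K => ((μ h : ℂˣ) : ℂ)) = fun k : K =>
          (((μ.comp (Subgroup.equivMapOfInjective K (inertiaSubgroup A (lam : A → ℂ)).subtype
            (Subgroup.subtype_injective _)).symm.toMonoidHom)
              ⟨((k : inertiaSubgroup A (lam : A → ℂ)) : G), Subgroup.mem_map_of_mem _ k.2⟩ : ℂˣ) : ℂ) := by
        funext k
        have : (Subgroup.equivMapOfInjective K (inertiaSubgroup A (lam : A → ℂ)).subtype
            (Subgroup.subtype_injective _)).symm
              ⟨((k : inertiaSubgroup A (lam : A → ℂ)) : G), Subgroup.mem_map_of_mem _ k.2⟩ = k := by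
          rw [MulEquiv.symm_apply_eq]
          apply Subtype.ext
          rfl
        simp only [MonoidHom.comp_apply, MulEquiv.coe_toMonoidHom, this]
      rw [← hind, hKμ, ← indFun_trans_map (inertiaSubgroup A (lam : A → ℂ)) K, hfun]
  · -- pass to the quotient by the kernel
    obtain ⟨N, hN⟩ : ∃ N : Subgroup G, N = MonoidHom.ker ρ := ⟨_, rfl⟩
    haveI hNn : N.Normal := by rw [hN]; infer_instance
    have hcardK : 1 < Nat.card N := by
      rw [hN]; exact (Subgroup.one_lt_card_iff_ne_bot _).mpr hker
    haveI : Fintype (G ⧸ N) := Fintype.ofFinite _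
    let ρ' : Representation ℂ (G ⧸ N) (Fin m → ℂ) := QuotientGroup.lift N ρ (by rw [hN])
    have hcomp : (MonoidHom.comp ρ' (QuotientGroup.mk' N) :
        Representation ℂ G (Fin m → ℂ)) = ρ := by
      ext g v
      rfl
    have hρ' : ρ'.IsIrreducible := by
      have h1 : Representation.IsIrreducible (MonoidHom.comp ρ'
          (QuotientGroup.mk' N) : Representation ℂ G (Fin m → ℂ)) := by
        rw [hcomp]; exact hρ
      exact (OrderIso.isSimpleOrder_iff (Helper8.subrepCompOrderIso ρ'
        (QuotientGroup.mk' N) (QuotientGroup.mk'_surjective _))).mpr h1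
    have hcard : Nat.card (G ⧸ N) < n := by
      rw [← hn, ← Subgroup.index_eq_card, ← Subgroup.card_mul_index N]
      have : 0 < N.index := Nat.pos_of_ne_zero Subgroup.index_ne_zero_of_finite
      nlinarith
    obtain ⟨H', lam', hH'⟩ := ih _ hcard (G ⧸ N) rfl ρ'.character ⟨m, ρ', hρ', rfl⟩
    refine ⟨H'.comap (QuotientGroup.mk' N),
      lam'.comp ((QuotientGroup.mk' N).subgroupComap H'), ?_⟩
    funext g
    have h1 := indFun_comap (QuotientGroup.mk' N)
      (QuotientGroup.mk'_surjective _) H' (fun h => (lam' h : ℂ)) g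
    rw [← hH'] at h1
    rw [← hρχ]
    exact h1.symm

end Monomial

end Cfsg.Agent.Helper24
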