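import Mathlib
import Cfsg.Prelude.Def_Characters
import Cfsg.Agent.Helper5.LinChar
import Cfsg.Agent.Helper18.IsolatedTransfer

/-!
Degree-one characters as homomorphisms to `ℂˣ`; extension of invariant linear characters of a
normal subgroup via the transfer (Isaacs 6.26, 6.27).
-/

set_option autoImplicit false

namespace Cfsg.Agent.Helper24

open Cfsg

universe u

section Basic

variable {G : Type u} [Group G]

/-- A degree-one character as a homomorphism to the units of `ℂ`. -/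
noncomputable def linUnits {lam : G → ℂ} (h : IsCharacter G lam) (h1 : lam 1 = 1) : G →* ℂˣ :=
  (Helper5.linCharHom h h1).toHomUnits

theorem linUnits_apply {lam : G → ℂ} (h : IsCharacter G lam) (h1 : lam 1 = 1) (g : G) :
    ((linUnits h h1 g : ℂˣ) : ℂ) = lam g := rfl

/-- A homomorphism to `ℂˣ` gives a degree-one character. -/
theorem isLin_coe (f : G →* ℂˣ) :
    IsCharacter G (fun g => ((f g : ℂˣ) : ℂ)) ∧ ((f 1 : ℂˣ) : ℂ) = 1 :=
  Helper5.isCharacter_of_monoidHom ((Units.coeHom ℂ).comp f)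

theorem coe_pow_eq_one_iff (f : G →* ℂˣ) (n : ℕ) :
    (fun g => ((f g : ℂˣ) : ℂ)) ^ n = 1 ↔ f ^ n = 1 := by
  constructor
  · intro h
    ext g
    have := congrFun h g
    simp only [Pi.pow_apply, Pi.one_apply] at this
    rw [MonoidHom.pow_apply, MonoidHom.one_apply, Units.val_pow_eq_pow_val, Units.val_one]
    exact this
  · intro h
    funext g
    have := congrArg (fun F : G →* ℂˣ => ((F g : ℂˣ) : ℂ)) h
    simp only [MonoidHom.pow_apply, MonoidHom.one_apply, Units.val_pow_eq_pow_val,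
      Units.val_one] at this
    simpa using this

theorem orderOf_coe_fun (f : G →* ℂˣ) : orderOf (fun g => ((f g : ℂˣ) : ℂ)) = orderOf f :=
  orderOf_eq_orderOf_iff.mpr fun n => coe_pow_eq_one_iff f n

theorem orderOf_linUnits {lam : G → ℂ} (h : IsCharacter G lam) (h1 : lam 1 = 1) :
    orderOf (linUnits h h1) = orderOf lam :=
  (orderOf_coe_fun (linUnits h h1)).symm

end Basic

section Transfer

variable {G : Type u} [Group G] [Finite G]

/-- Transfer of a linear character of `H ≥ N`, whose restriction to the normal subgroup `N` is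
`G`-invariant, evaluated on `N`. -/
theorem transfer_apply_of_invariant (N H : Subgroup G) [hN : N.Normal] (hNH : N ≤ H)
    (ν : H →* ℂˣ)
    (hinv : ∀ (g : G) (n : N), ν ⟨g * n * g⁻¹, hNH (hN.conj_mem (n : G) n.2 g)⟩ =
      ν ⟨n, hNH n.2⟩) (n : N) :
    MonoidHom.transfer ν (n : G) = ν ⟨n, hNH n.2⟩ ^ H.index := by
  refine Helper18.transfer_eq_pow_of_fusion ν ⟨(n : G), hNH n.2⟩ ?_
  intro k g₀ h
  have h1 := hinv g₀⁻¹ (n ^ k)
  rw [← map_pow]
  convert h1 using 2
  · apply Subtype.ext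
    simp
  · apply Subtype.ext
    simp

theorem transfer_pow_eq_one {H : Subgroup G} (ν : H →* ℂˣ) (o : ℕ) (ho : ν ^ o = 1) (g : G) :
    MonoidHom.transfer ν g ^ o = 1 := by
  classical
  haveI : Fintype (Quotient (MulAction.orbitRel (Subgroup.zpowers g) (G ⧸ H))) :=
    Fintype.ofFinite _
  rw [MonoidHom.transfer_eq_prod_quotient_orbitRel_zpowers_quot, ← Finset.prod_pow]
  apply Finset.prod_eq_one
  intro q _
  rw [← MonoidHom.pow_apply, ho, MonoidHom.one_apply]

variable (N : Subgroup G) [hN : N.Normal]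

omit [Finite G] in
/-- A homomorphism trivial on `N` has order dividing the index. -/
theorem pow_index_eq_one_of_trivial (δ : G →* ℂˣ) (hδ : ∀ n : N, δ n = 1) (g : G) :
    δ g ^ N.index = 1 := by
  rw [← map_pow]
  have hmem : g ^ N.index ∈ N := by
    rw [← QuotientGroup.eq_one_iff, QuotientGroup.mk_pow, Subgroup.index_eq_card]
    exact pow_card_eq_one'
  exact hδ ⟨_, hmem⟩

/-- Isaacs 6.27 for homomorphisms. -/
theorem exists_unique_extension_hom (L : N →* ℂˣ)
    (hinv : ∀ (g : G) (n : N), L ⟨g * n * g⁻¹, hN.conj_mem (n : G) n.2 g⟩ = L n)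
    (hcop : Nat.Coprime N.index (orderOf L)) :
    ∃ M : G →* ℂˣ, (∀ n : N, M n = L n) ∧ orderOf M = orderOf L ∧
      ∀ M' : G →* ℂˣ, (∀ n : N, M' n = L n) → Nat.Coprime N.index (orderOf M') → M' = M := by
  classical
  obtain ⟨u, v, huv⟩ := Nat.isCoprime_iff_coprime.mpr hcop
  have hT : ∀ n : N, MonoidHom.transfer L (n : G) = L n ^ N.index := by
    intro n
    have := transfer_apply_of_invariant N N le_rfl L (fun g n => hinv g n) n
    simpa using this
  have hLo : L ^ orderOf L = 1 := pow_orderOf_eq_one L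
  let M : G →* ℂˣ := (MonoidHom.transfer L) ^ u
  have hMN : ∀ n : N, M n = L n := by
    intro n
    show ((MonoidHom.transfer L) ^ u) (n : G) = L n
    rw [MonoidHom.zpow_apply, hT n, ← zpow_natCast, ← zpow_mul]
    have h1 : (N.index : ℤ) * u = 1 - v * (orderOf L : ℤ) := by linarith
    rw [h1, zpow_sub, zpow_one, zpow_mul', zpow_natCast]
    have h2 : L n ^ orderOf L = 1 := by
      rw [← MonoidHom.pow_apply, hLo, MonoidHom.one_apply]
    rw [h2, one_zpow, inv_one, mul_one]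
  have hMo : orderOf M = orderOf L := by
    apply Nat.dvd_antisymm
    · apply orderOf_dvd_of_pow_eq_one
      refine MonoidHom.ext fun g => ?_
      rw [MonoidHom.pow_apply, MonoidHom.one_apply]
      show (((MonoidHom.transfer L) ^ u) g) ^ orderOf L = 1
      rw [MonoidHom.zpow_apply, ← zpow_natCast, ← zpow_mul, mul_comm, zpow_mul, zpow_natCast,
        transfer_pow_eq_one L _ hLo g, one_zpow]
    · apply orderOf_dvd_of_pow_eq_one
      refine MonoidHom.ext fun n => ?_
      rw [MonoidHom.pow_apply, MonoidHom.one_apply, ← hMN n, ← MonoidHom.pow_apply,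
        pow_orderOf_eq_one, MonoidHom.one_apply]
  refine ⟨M, hMN, hMo, ?_⟩
  intro M' hM'N hcop'
  have hδN : ∀ n : N, (M' / M) n = 1 := by
    intro n
    rw [MonoidHom.div_apply, hM'N n, hMN n, div_self']
  have h1 : ∀ g : G, (M' / M) g ^ N.index = 1 := pow_index_eq_one_of_trivial N _ hδN
  have h2 : ∀ g : G, (M' / M) g ^ (orderOf M' * orderOf M) = 1 := by
    intro g
    rw [MonoidHom.div_apply, div_pow]
    have a1 : M' g ^ (orderOf M' * orderOf M) = 1 := by
      rw [pow_mul, ← MonoidHom.pow_apply, pow_orderOf_eq_one, MonoidHom.one_apply, one_pow]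
    have a2 : M g ^ (orderOf M' * orderOf M) = 1 := by
      rw [mul_comm, pow_mul, ← MonoidHom.pow_apply, pow_orderOf_eq_one, MonoidHom.one_apply,
        one_pow]
    rw [a1, a2, div_one]
  have hc : Nat.Coprime N.index (orderOf M' * orderOf M) := by
    rw [hMo]
    exact Nat.Coprime.mul_right hcop' hcop
  refine MonoidHom.ext fun g => ?_
  have h3 := (pow_gcd_eq_one (a := (M' / M) g)).mpr ⟨h1 g, h2 g⟩
  rw [hc, pow_one, MonoidHom.div_apply, div_eq_one] at h3
  exact h3

/-- Isaacs 6.26 for homomorphisms. -/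
theorem exists_extension_hom_of_sylow (L : N →* ℂˣ)
    (hinv : ∀ (g : G) (n : N), L ⟨g * n * g⁻¹, hN.conj_mem (n : G) n.2 g⟩ = L n)
    (hsyl : ∀ p : ℕ, p.Prime → p ∣ orderOf L → ∃ (H : Subgroup G) (hNH : N ≤ H) (ν : H →* ℂˣ),
      Nat.Coprime H.index p ∧ ∀ n : N, ν ⟨(n : G), hNH n.2⟩ = L n) :
    ∃ M : G →* ℂˣ, ∀ n : N, M n = L n := by
  classical
  let res : (G →* ℂˣ) →* (N →* ℂˣ) := MonoidHom.compHom' N.subtype
  have hres : ∀ (M : G →* ℂˣ) (n : N), res M n = M n := fun M n => rfl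
  let R : Subgroup (N →* ℂˣ) := res.range
  haveI : R.Normal := ⟨fun n hn g => by rw [mul_inv_cancel_comm]; exact hn⟩
  let l : (N →* ℂˣ) ⧸ R := QuotientGroup.mk L
  have hl1 : l ^ orderOf L = 1 := by
    show (QuotientGroup.mk L : (N →* ℂˣ) ⧸ R) ^ orderOf L = 1
    rw [← QuotientGroup.mk_pow, pow_orderOf_eq_one]
    rfl
  have hone : orderOf l = 1 := by
    by_contra hne
    obtain ⟨p, hp, hpd⟩ := Nat.exists_prime_and_dvd hne
    have hpo : p ∣ orderOf L := hpd.trans (orderOf_dvd_of_pow_eq_one hl1)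
    obtain ⟨H, hNH, ν, hcopH, hν⟩ := hsyl p hp hpo
    have hmem : L ^ H.index ∈ R := by
      refine ⟨MonoidHom.transfer ν, ?_⟩
      refine MonoidHom.ext fun n => ?_
      rw [hres, transfer_apply_of_invariant N H hNH ν ?_ n, hν, MonoidHom.pow_apply]
      intro g n
      have := hν ⟨g * n * g⁻¹, hN.conj_mem (n : G) n.2 g⟩
      rw [hν n, ← hinv g n, ← this]
    have hl2 : l ^ H.index = 1 := by
      show (QuotientGroup.mk L : (N →* ℂˣ) ⧸ R) ^ H.index = 1
      rw [← QuotientGroup.mk_pow]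
      exact (QuotientGroup.eq_one_iff _).mpr hmem
    have hpH : p ∣ H.index := hpd.trans (orderOf_dvd_of_pow_eq_one hl2)
    exact hp.one_lt.ne' (hcopH.symm.eq_one_of_dvd hpH)
  have hL : L ∈ R := (QuotientGroup.eq_one_iff L).mp (orderOf_eq_one_iff.mp hone)
  obtain ⟨M, hM⟩ := hL
  refine ⟨M, fun n => ?_⟩
  rw [← hres, hM]

/-- Statement S0865 (Isaacs 6.27). -/
theorem linear_coprime_unique_extension (lam : N → ℂ) (hlam : IsCharacter N lam ∧ lam 1 = 1)
    (hinv : ∀ (g : G) (n : N), lam ⟨g * n * g⁻¹, hN.conj_mem (n : G) n.2 g⟩ = lam n)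
    (hcop : Nat.Coprime N.index (orderOf lam)) :
    ∃ μ : G → ℂ, (IsCharacter G μ ∧ μ 1 = 1 ∧ (∀ n : N, μ n = lam n) ∧ orderOf μ = orderOf lam) ∧
      ∀ μ' : G → ℂ, IsCharacter G μ' ∧ μ' 1 = 1 → (∀ n : N, μ' n = lam n) →
        Nat.Coprime N.index (orderOf μ') → μ' = μ := by
  obtain ⟨M, hMN, hMo, huniq⟩ := exists_unique_extension_hom N (linUnits hlam.1 hlam.2)
    (fun g n => Units.ext (by rw [linUnits_apply, linUnits_apply]; exact hinv g n))
    (by rw [orderOf_linUnits]; exact hcop)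
  refine ⟨fun g => ((M g : ℂˣ) : ℂ), ⟨(isLin_coe M).1, (isLin_coe M).2, ?_, ?_⟩, ?_⟩
  · intro n
    show ((M (n : G) : ℂˣ) : ℂ) = lam n
    rw [hMN n, linUnits_apply]
  · rw [orderOf_coe_fun, hMo, orderOf_linUnits]
  · intro μ' hμ' hμ'N hcop'
    have := huniq (linUnits hμ'.1 hμ'.2)
      (fun n => Units.ext (by rw [linUnits_apply, linUnits_apply]; exact hμ'N n))
      (by rw [orderOf_linUnits]; exact hcop')
    funext g
    rw [← this, linUnits_apply]

/-- Statement S0864 (Isaacs 6.26). -/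
theorem linear_extends_of_sylow_extensions (lam : N → ℂ) (hlam : IsCharacter N lam ∧ lam 1 = 1)
    (hinv : ∀ (g : G) (n : N), lam ⟨g * n * g⁻¹, hN.conj_mem (n : G) n.2 g⟩ = lam n)
    (hsyl : ∀ p : ℕ, p.Prime → p ∣ orderOf lam → ∃ (H : Subgroup G) (hNH : N ≤ H) (ν : H → ℂ),
      Nat.Coprime H.index p ∧ (∃ k : ℕ, N.relIndex H = p ^ k) ∧ IsCharacter H ν ∧ ν 1 = 1 ∧
      ∀ n : N, ν ⟨(n : G), hNH n.2⟩ = lam n) :
    ∃ μ : G → ℂ, IsCharacter G μ ∧ μ 1 = 1 ∧ ∀ n : N, μ n = lam n := by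
  obtain ⟨M, hMN⟩ := exists_extension_hom_of_sylow N (linUnits hlam.1 hlam.2)
    (fun g n => Units.ext (by rw [linUnits_apply, linUnits_apply]; exact hinv g n))
    (by
      intro p hp hpd
      rw [orderOf_linUnits] at hpd
      obtain ⟨H, hNH, ν, hc, -, hν, hν1, hνN⟩ := hsyl p hp hpd
      refine ⟨H, hNH, linUnits hν hν1, hc, fun n => Units.ext ?_⟩
      rw [linUnits_apply, linUnits_apply]
      exact hνN n)
  refine ⟨fun g => ((M g : ℂˣ) : ℂ), (isLin_coe M).1, (isLin_coe M).2, fun n => ?_⟩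
  show ((M (n : G) : ℂˣ) : ℂ) = lam n
  rw [hMN n, linUnits_apply]

end Transfer

end Cfsg.Agent.Helper24
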