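import Mathlib
import Cfsg.Prelude.Def_Characters
import Cfsg.Agent.Helper24.Induced
import Cfsg.Agent.Helper24.Regular
import Cfsg.Agent.Helper24.Abelian
import Cfsg.Agent.Helper24.Linear
import Cfsg.Agent.Helper8.Ind
import Cfsg.Agent.Helper5.IndFun

/-!
Taketa's theorem: M-groups are solvable.
-/

namespace Cfsg.Agent.Helper24

open Representation Module
open scoped commutatorElement

universe u

section Taketa

variable {G : Type u} [Group G] [Fintype G]

/-- If `g` lies in the kernel of all irreducible constituents of `ψ`, then `ψ g = ψ 1`. -/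
theorem IsCharacter.apply_eq_apply_one_of_constituents [Fintype (IrrCharacter G)] {ψ : G → ℂ}
    (hψ : IsCharacter G ψ) (g : G)
    (h : ∀ χ : IrrCharacter G, classInner ψ (χ : G → ℂ) ≠ 0 →
      (χ : G → ℂ) g = (χ : G → ℂ) 1) :
    ψ g = ψ 1 := by
  have h1 := IsCharacter.eq_sum_classInner hψ
  have h2 : ∀ x, ψ x = ∑ χ : IrrCharacter G, classInner ψ (χ : G → ℂ) * (χ : G → ℂ) x := by
    intro x
    conv_lhs => rw [h1]
    rw [Finset.sum_apply]
    rfl
  rw [h2 g, h2 1]
  refine Finset.sum_congr rfl ?_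
  intro χ _
  by_cases hc : classInner ψ (χ : G → ℂ) = 0
  · rw [hc, zero_mul, zero_mul]
  · rw [h χ hc]

/-- If the permutation character `(1_H)^G` takes its degree at `g`, all conjugates of `g` lie
in `H`. -/
theorem mem_of_indFun_one_eq (H : Subgroup G) (g : G)
    (h : indFun H (fun _ => (1 : ℂ)) g = indFun H (fun _ => (1 : ℂ)) 1) (x : G) :
    x⁻¹ * g * x ∈ H := by
  classical
  have hH : (Nat.card H : ℂ) ≠ 0 := by
    have := Nat.card_pos (α := H)
    exact_mod_cast this.ne'
  unfold indFun at h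
  have h1 := mul_left_cancel₀ (inv_ne_zero hH) h
  have e1 : ∀ y : G, extendByZero H (fun _ => (1 : ℂ)) y = ((if y ∈ H then 1 else 0 : ℕ) : ℂ) := by
    intro y
    by_cases hy : y ∈ H
    · rw [if_pos hy, Helper8.ebz_mem H _ hy]; simp
    · rw [if_neg hy, Helper8.ebz_not_mem H _ hy]; simp
  simp_rw [e1] at h1
  rw [← Nat.cast_sum, ← Nat.cast_sum] at h1
  have h2 : ∑ y : G, (if y⁻¹ * g * y ∈ H then 1 else 0 : ℕ) =
      ∑ y : G, (if y⁻¹ * 1 * y ∈ H then 1 else 0 : ℕ) := by exact_mod_cast h1
  have h3 : ∀ y ∈ (Finset.univ : Finset G), (if y⁻¹ * g * y ∈ H then 1 else 0 : ℕ) ≤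
      (if y⁻¹ * 1 * y ∈ H then 1 else 0 : ℕ) := by
    intro y _
    have : y⁻¹ * 1 * y ∈ H := by simp
    rw [if_pos this]
    split_ifs <;> omega
  have h4 := (Finset.sum_eq_sum_iff_of_le h3).mp h2 x (Finset.mem_univ x)
  have : x⁻¹ * 1 * x ∈ H := by simp
  rw [if_pos this] at h4
  by_contra hx
  rw [if_neg hx] at h4
  omega

/-- If all conjugates of `g` lie in `H` and in the kernel of `lam`, then `lam^G g = lam^G 1`. -/
theorem indFun_eq_of_conj_mem_ker (H : Subgroup G) (lam : H →* ℂˣ) (g : G)
    (h : ∀ x : G, ∃ hx : x⁻¹ * g * x ∈ H, lam ⟨x⁻¹ * g * x, hx⟩ = 1) :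
    indFun H (fun h => (lam h : ℂ)) g = indFun H (fun h => (lam h : ℂ)) 1 := by
  unfold indFun
  congr 1
  refine Finset.sum_congr rfl ?_
  intro x _
  obtain ⟨hx, hx1⟩ := h x
  rw [Helper8.ebz_mem H _ hx, hx1]
  have : x⁻¹ * 1 * x ∈ H := by simp
  rw [Helper8.ebz_mem H _ this]
  have e : (⟨x⁻¹ * 1 * x, this⟩ : H) = 1 := by
    apply Subtype.ext
    simp
  rw [e, map_one]

/-- A linear character of `H` kills the commutator subgroup of any subgroup contained in `H`. -/
theorem lam_eq_one_of_mem_commutator {G : Type u} [Group G] (H D : Subgroup G) (hDH : D ≤ H)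
    (lam : H →* ℂˣ) (g : G) (hg : g ∈ ⁅D, D⁆) : ∃ hgH : g ∈ H, lam ⟨g, hgH⟩ = 1 := by
  have hle : ⁅D, D⁆ ≤ (lam.ker).map H.subtype := by
    rw [Subgroup.commutator_le]
    intro a ha b hb
    refine ⟨⁅(⟨a, hDH ha⟩ : H), ⟨b, hDH hb⟩⁆, ?_, rfl⟩
    rw [SetLike.mem_coe, MonoidHom.mem_ker, map_commutatorElement,
      commutatorElement_eq_one_iff_commute]
    exact Commute.all _ _
  obtain ⟨a, ha, rfl⟩ := hle hg
  exact ⟨a.2, ha⟩

theorem taketa_aux [Fintype (IrrCharacter G)]
    (hM : ∀ χ : G → ℂ, IsIrrCharacter G χ → ∃ (H : Subgroup G) (lam : H →* ℂˣ),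
      χ = indFun H (fun h => (lam h : ℂ))) :
    ∀ n : ℕ, ∀ χ : IrrCharacter G, irrDeg χ ≤ n → ∀ g ∈ derivedSeries G n,
      (χ : G → ℂ) g = (χ : G → ℂ) 1 := by
  classical
  intro n
  induction n with
  | zero =>
    intro χ h
    exact absurd (irrDeg_pos χ) (by omega)
  | succ n ih =>
    intro χ hdeg g hg
    obtain ⟨H, lam, hχ⟩ := hM χ χ.2
    haveI : Fintype H := Fintype.ofFinite H
    have hdegH : H.index = irrDeg χ := by
      have h1 := Helper5.indFun_apply_one H (fun h => (lam h : ℂ))
      rw [← hχ, irrDeg_spec, map_one, Units.val_one, mul_one] at h1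
      exact_mod_cast h1.symm
    have hDH : derivedSeries G n ≤ H := by
      by_cases hH : H = ⊤
      · rw [hH]; exact le_top
      · have hπc : IsCharacter G (indFun H (fun _ => (1 : ℂ))) :=
          isCharacter_indFun H isCharacter_const_one
        obtain ⟨m, hm⟩ := IsCharacter.exists_nat_coeff hπc
        have hmθ : ∀ θ : IrrCharacter G,
            classInner (indFun H (fun _ => (1 : ℂ))) (θ : G → ℂ) = m θ := by
          intro θ
          rw [hm]
          exact classInner_sum_irr _ θ
        have hdeg1 : irrDeg (trivIrr G) = 1 := by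
          rw [irrDeg_eq_one_iff]; rfl
        have hm1 : m (trivIrr G) = 1 := by
          have h1 := Helper8.frobenius_reciprocity H (fun _ => (1:ℂ)) (trivIrr G : G → ℂ)
            (fun _ _ => rfl)
          rw [hmθ] at h1
          have h2 : classInner (fun _ : H => (1:ℂ)) (fun h : H => (trivIrr G : G → ℂ) h) = 1 := by
            unfold classInner
            have hH0 : (Nat.card H : ℂ) ≠ 0 := by
              have := Nat.card_pos (α := H)
              exact_mod_cast this.ne'
            simp only [trivIrr_apply, map_one, mul_one, Finset.sum_const, Finset.card_univ,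
              nsmul_eq_mul]
            rw [← Nat.card_eq_fintype_card]
            exact inv_mul_cancel₀ hH0
          rw [h2] at h1
          exact_mod_cast h1
        have hsum : H.index = ∑ θ : IrrCharacter G, m θ * irrDeg θ := by
          have h1 := Helper5.indFun_apply_one H (fun _ => (1:ℂ))
          have h2 := congrFun hm 1
          rw [Finset.sum_apply, h1, mul_one] at h2
          have h3 : ∀ θ : IrrCharacter G, ((m θ : ℂ) • (θ : G → ℂ)) 1 = ((m θ * irrDeg θ : ℕ) : ℂ) := by
            intro θ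
            rw [Pi.smul_apply, irrDeg_spec, smul_eq_mul]
            push_cast
            rfl
          simp_rw [h3] at h2
          rw [← Nat.cast_sum] at h2
          exact_mod_cast h2
        have hindex : 2 ≤ H.index := by
          have h1 : H.index ≠ 1 := fun h => hH (Subgroup.index_eq_one.mp h)
          have h0 : H.index ≠ 0 := Subgroup.index_ne_zero_of_finite
          omega
        intro y hy
        have hy1 : indFun H (fun _ => (1 : ℂ)) y = indFun H (fun _ => (1 : ℂ)) 1 := by
          apply IsCharacter.apply_eq_apply_one_of_constituents hπc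
          intro θ hθ
          rw [hmθ] at hθ
          have hmθ' : m θ ≠ 0 := by exact_mod_cast hθ
          apply ih θ _ y hy
          by_cases ht : θ = trivIrr G
          · rw [ht, hdeg1]
            omega
          · have h5 : m (trivIrr G) * irrDeg (trivIrr G) + m θ * irrDeg θ ≤
                ∑ θ : IrrCharacter G, m θ * irrDeg θ := by
              rw [← Finset.sum_pair (f := fun θ => m θ * irrDeg θ) (Ne.symm ht)]
              exact Finset.sum_le_sum_of_subset (Finset.subset_univ _)
            rw [hm1, hdeg1, ← hsum] at h5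
            have h6 : irrDeg θ ≤ m θ * irrDeg θ := Nat.le_mul_of_pos_left _ (Nat.pos_of_ne_zero hmθ')
            omega
        have := mem_of_indFun_one_eq H y hy1 1
        simpa using this
    rw [hχ]
    apply indFun_eq_of_conj_mem_ker
    intro x
    have hx : x⁻¹ * g * x ∈ derivedSeries G (n+1) := by
      have hN : (derivedSeries G (n+1)).Normal := derivedSeries_normal G (n+1)
      have := hN.conj_mem g hg x⁻¹
      simpa using this
    rw [derivedSeries_succ] at hx
    exact lam_eq_one_of_mem_commutator H (derivedSeries G n) hDH lam _ hx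

/-- **Taketa's theorem**: M-groups are solvable. -/
theorem isSolvable_of_mGroup
    (hM : ∀ χ : G → ℂ, IsIrrCharacter G χ → ∃ (H : Subgroup G) (lam : H →* ℂˣ),
      χ = indFun H (fun h => (lam h : ℂ))) : Group.IsSolvable G := by
  classical
  haveI : Fintype (IrrCharacter G) := Fintype.ofFinite _
  have haux := taketa_aux hM
  obtain ⟨N, hN⟩ : ∃ N : ℕ, ∀ χ : IrrCharacter G, irrDeg χ ≤ N :=
    ⟨Finset.univ.sup irrDeg, fun χ => Finset.le_sup (f := irrDeg) (Finset.mem_univ χ)⟩
  refine ⟨⟨N, ?_⟩⟩
  rw [eq_bot_iff]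
  intro g hg
  rw [Subgroup.mem_bot]
  by_contra hne
  have h1 := sum_irr_one_mul_eq_zero hne
  have h2 : ∀ χ : IrrCharacter G, (χ : G → ℂ) 1 * (χ : G → ℂ) g = ((irrDeg χ ^ 2 : ℕ) : ℂ) := by
    intro χ
    rw [haux N χ (hN χ) g hg, irrDeg_spec]
    push_cast
    ring
  simp_rw [h2] at h1
  rw [← Nat.cast_sum] at h1
  have h3 : ∑ χ : IrrCharacter G, irrDeg χ ^ 2 = 0 := by exact_mod_cast h1
  have h4 := (Finset.sum_eq_zero_iff.mp h3) (trivIrr G) (Finset.mem_univ _)
  have := irrDeg_pos (trivIrr G)
  have : irrDeg (trivIrr G) ^ 2 ≠ 0 := by positivity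
  exact this h4

end Taketa

end Cfsg.Agent.Helper24
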