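import Mathlib
import Cfsg.Prelude.Def_Characters
import Cfsg.Prelude.Def_Transfer
import Cfsg.Agent.Helper5.BlockSupport
import Cfsg.Agent.Helper24.ColumnOrth
import Cfsg.Agent.Helper24.Span
import Cfsg.Agent.Helper24.Codegree
import Cfsg.Agent.Helper24.Classes

/-!
Gagola characters: irreducible characters vanishing on all but two conjugacy classes.
-/

namespace Cfsg.Agent.Helper24

open Cfsg

universe u

section IrrKer

variable {G : Type u} [Group G] [Finite G]

/-- The kernel of an irreducible character, as a subgroup. -/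
noncomputable def irrKer (ψ : IrrCharacter G) : Subgroup G := (exists_kernel_quotient ψ).choose

instance irrKer_normal (ψ : IrrCharacter G) : (irrKer ψ).Normal :=
  (exists_kernel_quotient ψ).choose_spec.choose

theorem mem_irrKer (ψ : IrrCharacter G) (g : G) :
    g ∈ irrKer ψ ↔ (ψ : G → ℂ) g = (ψ : G → ℂ) 1 :=
  (exists_kernel_quotient ψ).choose_spec.choose_spec.1 g

end IrrKer

section Gagola

variable {G : Type u} [Group G] [Fintype G]

/-- Sum against a function supported on `{1} ∪ a^G`. -/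
theorem sum_mul_of_support (F : G → ℂ) (a : G) (ha : a ≠ 1)
    (hF : ∀ g, F g ≠ 0 → g = 1 ∨ IsConj a g) (hFc : ∀ g, IsConj a g → F g = F a)
    [DecidablePred (IsConj a)] :
    ∑ g : G, F g = F 1 + ((Finset.univ.filter (IsConj a)).card : ℂ) * F a := by
  classical
  have h1 : (1 : G) ∉ Finset.univ.filter (IsConj a) := by
    intro h
    have := (Finset.mem_filter.mp h).2
    rw [isConj_iff] at this
    obtain ⟨c, hc⟩ := this
    apply ha
    have : a = c⁻¹ * 1 * c := by rw [← hc]; group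
    rw [this]; group
  rw [← Finset.sum_subset (Finset.subset_univ (insert 1 (Finset.univ.filter (IsConj a))))]
  · rw [Finset.sum_insert h1]
    congr 1
    rw [Finset.sum_congr rfl (fun g hg => hFc g (Finset.mem_filter.mp hg).2)]
    rw [Finset.sum_const, nsmul_eq_mul]
  · intro g _ hg
    by_contra hne
    rcases hF g hne with h | h
    · apply hg; rw [h]; exact Finset.mem_insert_self _ _
    · apply hg
      exact Finset.mem_insert_of_mem (Finset.mem_filter.mpr ⟨Finset.mem_univ _, h⟩)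

variable (χ : IrrCharacter G) (a : G)

/-- The value of a Gagola character on its nontrivial class. -/
theorem gagola_value (ha : a ≠ 1)
    (hsupp : ∀ g, (χ : G → ℂ) g ≠ 0 → g = 1 ∨ IsConj a g) (hne : χ ≠ trivIrr G)
    [DecidablePred (IsConj a)] :
    (χ : G → ℂ) 1 + ((Finset.univ.filter (IsConj a)).card : ℂ) * (χ : G → ℂ) a = 0 := by
  classical
  have h0 := classInner_irr χ (trivIrr G)
  rw [if_neg hne, classInner] at h0
  have hG : (Nat.card G : ℂ)⁻¹ ≠ 0 := inv_ne_zero (by exact_mod_cast Nat.card_pos.ne')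
  have h1 := (mul_eq_zero.mp h0).resolve_left hG
  simp only [trivIrr_apply, map_one, mul_one] at h1
  rw [sum_mul_of_support (fun g => (χ : G → ℂ) g) a ha hsupp
    (fun g hg => (IsClassFunction.eq_of_isConj (isClassFunction_irr χ) hg).symm)] at h1
  exact h1

theorem gagola_card_ne_zero [DecidablePred (IsConj a)] :
    ((Finset.univ.filter (IsConj a)).card : ℂ) ≠ 0 := by
  have : 0 < (Finset.univ.filter (IsConj a)).card :=
    Finset.card_pos.mpr ⟨a, Finset.mem_filter.mpr ⟨Finset.mem_univ _, IsConj.refl a⟩⟩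
  exact_mod_cast this.ne'

/-- Every other irreducible character has `a` in its kernel. -/
theorem gagola_other (ha : a ≠ 1)
    (hsupp : ∀ g, (χ : G → ℂ) g ≠ 0 → g = 1 ∨ IsConj a g) (hne : χ ≠ trivIrr G)
    (ψ : IrrCharacter G) (hψ : ψ ≠ χ) : (ψ : G → ℂ) a = (ψ : G → ℂ) 1 := by
  classical
  have hv := gagola_value χ a ha hsupp hne
  have hc := gagola_card_ne_zero a
  set c : ℂ := ((Finset.univ.filter (IsConj a)).card : ℂ) with hcdef
  have hχa : (χ : G → ℂ) a = -((χ : G → ℂ) 1) / c := by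
    field_simp
    linear_combination hv
  have h0 := classInner_irr ψ χ
  rw [if_neg hψ, classInner] at h0
  have hG : (Nat.card G : ℂ)⁻¹ ≠ 0 := inv_ne_zero (by exact_mod_cast Nat.card_pos.ne')
  have h1 := (mul_eq_zero.mp h0).resolve_left hG
  rw [sum_mul_of_support (fun g => (ψ : G → ℂ) g * (starRingEnd ℂ) ((χ : G → ℂ) g)) a ha
    (fun g hg => hsupp g (by
      intro h
      apply hg
      simp only [h, map_zero, mul_zero]))
    (fun g hg => by
      rw [(IsClassFunction.eq_of_isConj (isClassFunction_irr χ) hg),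
        (IsClassFunction.eq_of_isConj (isClassFunction_irr ψ) hg)])] at h1
  have hd : (starRingEnd ℂ) ((χ : G → ℂ) 1) = (χ : G → ℂ) 1 := by
    rw [irrDeg_spec, Complex.conj_natCast]
  have hca : (starRingEnd ℂ) ((χ : G → ℂ) a) = -((χ : G → ℂ) 1) / c := by
    rw [hχa, map_div₀, map_neg, hd, hcdef, Complex.conj_natCast]
  rw [hd, hca, ← hcdef] at h1
  have h2 : ((ψ : G → ℂ) 1 - (ψ : G → ℂ) a) * (χ : G → ℂ) 1 = 0 := by
    have h3 : c * ((ψ : G → ℂ) a * (-((χ : G → ℂ) 1) / c)) =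
        -((ψ : G → ℂ) a * (χ : G → ℂ) 1) := by
      field_simp
    rw [h3] at h1
    linear_combination h1
  have := (mul_eq_zero.mp h2).resolve_right (irr_one_ne_zero χ)
  exact (sub_eq_zero.mp this).symm

/-- A Gagola character is faithful. -/
theorem gagola_faithful (ha : a ≠ 1)
    (hsupp : ∀ g, (χ : G → ℂ) g ≠ 0 → g = 1 ∨ IsConj a g) (hne : χ ≠ trivIrr G)
    (g : G) (hg : (χ : G → ℂ) g = (χ : G → ℂ) 1) : g = 1 := by
  classical
  by_contra hg1
  have hv := gagola_value χ a ha hsupp hne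
  have h1 : IsConj a g := by
    rcases hsupp g (by rw [hg]; exact irr_one_ne_zero χ) with h | h
    · exact absurd h hg1
    · exact h
  rw [IsClassFunction.eq_of_isConj (isClassFunction_irr χ) h1, hg] at hv
  have h2 : ((1 + (Finset.univ.filter (IsConj a)).card : ℕ) : ℂ) * (χ : G → ℂ) 1 = 0 := by
    push_cast
    linear_combination hv
  rcases mul_eq_zero.mp h2 with h | h
  · have : (1 + (Finset.univ.filter (IsConj a)).card : ℕ) = 0 := by exact_mod_cast h
    omega
  · exact irr_one_ne_zero χ h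

/-- The support subgroup of a Gagola character: the intersection of the kernels of the other
irreducible characters. -/
noncomputable def gagolaN : Subgroup G :=
  ⨅ ψ : {ψ : IrrCharacter G // ψ ≠ χ}, irrKer ψ.1

instance gagolaN_normal : (gagolaN χ).Normal :=
  Subgroup.normal_iInf_normal (fun _ => inferInstance)

theorem mem_gagolaN (g : G) :
    g ∈ gagolaN χ ↔ ∀ ψ : IrrCharacter G, ψ ≠ χ → (ψ : G → ℂ) g = (ψ : G → ℂ) 1 := by
  unfold gagolaN
  rw [Subgroup.mem_iInf]
  constructor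
  · intro h ψ hψ
    exact (mem_irrKer ψ g).mp (h ⟨ψ, hψ⟩)
  · intro h ψ
    exact (mem_irrKer ψ.1 g).mpr (h ψ.1 ψ.2)

theorem mem_gagolaN_iff (ha : a ≠ 1)
    (hsupp : ∀ g, (χ : G → ℂ) g ≠ 0 → g = 1 ∨ IsConj a g) (hne : χ ≠ trivIrr G) (g : G) :
    g ∈ gagolaN χ ↔ g = 1 ∨ IsConj a g := by
  classical
  haveI : Fintype (IrrCharacter G) := Fintype.ofFinite _
  constructor
  · intro hg
    by_cases hg1 : g = 1
    · exact Or.inl hg1
    apply hsupp
    intro hχg
    have hnc : ¬ IsConj g (1 : G) := by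
      intro h
      rw [isConj_iff] at h
      obtain ⟨c, hc⟩ := h
      apply hg1
      have : g = c⁻¹ * 1 * c := by rw [← hc]; group
      rw [this]; group
    have hsum := sum_irr_mul_conj g (1 : G)
    rw [if_neg hnc, ← Finset.add_sum_erase _ _ (Finset.mem_univ χ), hχg, zero_mul, zero_add]
      at hsum
    have h1 : ∑ ψ ∈ Finset.univ.erase χ, (ψ : G → ℂ) g * (starRingEnd ℂ) ((ψ : G → ℂ) 1) =
        ((∑ ψ ∈ Finset.univ.erase χ, irrDeg ψ ^ 2 : ℕ) : ℂ) := by
      push_cast
      refine Finset.sum_congr rfl fun ψ hψ => ?_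
      rw [(mem_gagolaN χ g).mp hg ψ (Finset.ne_of_mem_erase hψ), irrDeg_spec,
        Complex.conj_natCast]
      ring
    rw [h1] at hsum
    have h2 : ∑ ψ ∈ Finset.univ.erase χ, irrDeg ψ ^ 2 = 0 := by exact_mod_cast hsum
    rw [Finset.sum_eq_zero_iff] at h2
    have h3 := h2 (trivIrr G) (Finset.mem_erase.mpr ⟨hne.symm, Finset.mem_univ _⟩)
    have := irrDeg_pos (trivIrr G)
    have h4 : 0 < irrDeg (trivIrr G) ^ 2 := by positivity
    omega
  · rintro (rfl | hc)
    · exact Subgroup.one_mem _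
    · rw [mem_gagolaN]
      intro ψ hψ
      rw [← IsClassFunction.eq_of_isConj (isClassFunction_irr ψ) hc]
      exact gagola_other χ a ha hsupp hne ψ hψ

/-- `χ` is nonzero exactly on the support subgroup. -/
theorem gagola_ne_zero_iff (ha : a ≠ 1) (hχa : (χ : G → ℂ) a ≠ 0)
    (hsupp : ∀ g, (χ : G → ℂ) g ≠ 0 → g = 1 ∨ IsConj a g) (hne : χ ≠ trivIrr G) (g : G) :
    (χ : G → ℂ) g ≠ 0 ↔ g ∈ gagolaN χ := by
  rw [mem_gagolaN_iff χ a ha hsupp hne]
  constructor
  · exact hsupp g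
  · rintro (rfl | hc)
    · exact irr_one_ne_zero χ
    · rw [← IsClassFunction.eq_of_isConj (isClassFunction_irr χ) hc]
      exact hχa

/-- Every nontrivial normal subgroup contains the support subgroup. -/
theorem gagolaN_le (ha : a ≠ 1)
    (hsupp : ∀ g, (χ : G → ℂ) g ≠ 0 → g = 1 ∨ IsConj a g) (hne : χ ≠ trivIrr G)
    (K : Subgroup G) (hK : K.Normal) (hKbot : K ≠ ⊥) : gagolaN χ ≤ K := by
  classical
  haveI : Fintype K := Fintype.ofFinite _
  have hex : ∃ k ∈ K, k ≠ 1 ∧ (χ : G → ℂ) k ≠ 0 := by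
    by_contra hcon
    push Not at hcon
    have h1 : classInner (fun n : K => (χ : G → ℂ) n) (fun _ : K => (1 : ℂ)) ≠ 0 := by
      rw [classInner]
      apply mul_ne_zero (inv_ne_zero (by exact_mod_cast Nat.card_pos.ne'))
      rw [Finset.sum_eq_single (1 : K)]
      · simp only [Subgroup.coe_one, map_one, mul_one]
        exact irr_one_ne_zero χ
      · intro k _ hk
        rw [hcon k k.2 (fun h => hk (Subtype.ext h)), zero_mul]
      · intro h; exact absurd (Finset.mem_univ _) h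
    obtain ⟨k, hk1⟩ := (Subgroup.ne_bot_iff_exists_ne_one).mp hKbot
    have hk' : (k : G) ≠ 1 := fun h => hk1 (Subtype.ext h)
    have h2 := Helper5.CC.eq_one_of_trivial_constituent K χ h1 k k.2
    rw [hcon k k.2 hk'] at h2
    exact irr_one_ne_zero χ h2.symm
  obtain ⟨k, hkK, hk1, hχk⟩ := hex
  have hak : IsConj a k := by
    rcases hsupp k hχk with h | h
    · exact absurd h hk1
    · exact h
  have haK : a ∈ K := by
    obtain ⟨c, hc⟩ := isConj_iff.mp hak
    have : a = c⁻¹ * k * c⁻¹⁻¹ := by rw [← hc]; group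
    rw [this]
    exact hK.conj_mem _ hkK _
  intro g hg
  rcases (mem_gagolaN_iff χ a ha hsupp hne g).mp hg with rfl | hc
  · exact K.one_mem
  · obtain ⟨c, hc⟩ := isConj_iff.mp hc
    rw [← hc]
    exact hK.conj_mem _ haK _

/-- The support subgroup is an elementary abelian `p`-group. -/
theorem gagolaN_elementaryAbelian (ha : a ≠ 1)
    (hsupp : ∀ g, (χ : G → ℂ) g ≠ 0 → g = 1 ∨ IsConj a g) (hne : χ ≠ trivIrr G) :
    ∃ p : ℕ, p.Prime ∧ IsElementaryAbelian p (gagolaN χ) := by
  classical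
  have hmem := mem_gagolaN_iff χ a ha hsupp hne
  have haN : a ∈ gagolaN χ := (hmem a).mpr (Or.inr (IsConj.refl a))
  have hn1 : orderOf a ≠ 1 := fun h => ha (orderOf_eq_one_iff.mp h)
  have hn0 : orderOf a ≠ 0 := (orderOf_pos a).ne'
  set p := (orderOf a).minFac with hp
  have hpp : p.Prime := Nat.minFac_prime hn1
  have hpdvd : p ∣ orderOf a := Nat.minFac_dvd _
  haveI : Fact p.Prime := ⟨hpp⟩
  set b := a ^ (orderOf a / p) with hb
  have hbord : orderOf b = p := orderOf_pow_orderOf_div hn0 hpdvd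
  have hbN : b ∈ gagolaN χ := Subgroup.pow_mem _ haN _
  have hb1 : b ≠ 1 := by
    intro h
    rw [h, orderOf_one] at hbord
    exact hpp.one_lt.ne hbord
  have hap : a ^ p = 1 := by
    rcases (hmem b).mp hbN with h | h
    · exact absurd h hb1
    · obtain ⟨c, hc⟩ := isConj_iff.mp h
      have h1 : b ^ p = 1 := by rw [← hbord]; exact pow_orderOf_eq_one b
      rw [← hc, conj_pow] at h1
      have : a ^ p = c⁻¹ * (c * a ^ p * c⁻¹) * c := by group
      rw [this, h1]; group
  have hexp : ∀ x ∈ gagolaN χ, x ^ p = 1 := by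
    intro x hx
    rcases (hmem x).mp hx with rfl | h
    · exact one_pow _
    · obtain ⟨c, hc⟩ := isConj_iff.mp h
      rw [← hc, conj_pow, hap]; group
  refine ⟨p, hpp, ?_, hexp⟩
  -- commutativity
  have hpg : IsPGroup p (gagolaN χ) := by
    intro x
    refine ⟨1, ?_⟩
    rw [pow_one]
    apply Subtype.ext
    simpa using hexp x x.2
  haveI : Nontrivial (gagolaN χ) := ⟨⟨⟨a, haN⟩, 1, fun h => ha (congrArg Subtype.val h)⟩⟩
  haveI : Nontrivial (Subgroup.center (gagolaN χ)) := hpg.center_nontrivial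
  obtain ⟨⟨z, hz⟩, hz1⟩ := exists_ne (1 : Subgroup.center (gagolaN χ))
  have hz1' : (z : G) ≠ 1 := by
    intro h
    apply hz1
    apply Subtype.ext
    apply Subtype.ext
    exact h
  have hzcomm : ∀ y ∈ gagolaN χ, (z : G) * y = y * (z : G) := by
    intro y hy
    have := Subgroup.mem_center_iff.mp hz ⟨y, hy⟩
    have h2 := congrArg (fun w : gagolaN χ => (w : G)) this
    simpa using h2.symm
  have haz : IsConj a (z : G) := by
    rcases (hmem (z : G)).mp z.2 with h | h
    · exact absurd h hz1'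
    · exact h
  have hcomm : ∀ x ∈ gagolaN χ, ∀ y ∈ gagolaN χ, x * y = y * x := by
    intro x hx y hy
    rcases (hmem x).mp hx with rfl | h
    · simp
    · have hzx : IsConj (z : G) x := haz.symm.trans h
      obtain ⟨c, hc⟩ := isConj_iff.mp hzx
      have hy' : c⁻¹ * y * c⁻¹⁻¹ ∈ gagolaN χ := (gagolaN_normal χ).conj_mem _ hy _
      have h1 := hzcomm _ hy'
      rw [← hc]
      calc c * (z : G) * c⁻¹ * y = c * ((z : G) * (c⁻¹ * y * c⁻¹⁻¹)) * c⁻¹ := by group
        _ = c * ((c⁻¹ * y * c⁻¹⁻¹) * (z : G)) * c⁻¹ := by rw [h1]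
        _ = y * (c * (z : G) * c⁻¹) := by group
  exact ⟨⟨fun x y => Subtype.ext (hcomm x x.2 y y.2)⟩⟩

end Gagola

section GagolaMain

variable {G : Type u} [Group G] [Finite G]

/-- Unpacking the hypothesis "nonzero on exactly two classes". -/
theorem gagola_setup (hG : 2 < Nat.card G) (χ : IrrCharacter G)
    (hχ : Nat.card {C : ConjClasses G // ∃ g ∈ C.carrier, (χ : G → ℂ) g ≠ 0} = 2) :
    χ ≠ trivIrr G ∧ ∃ a : G, a ≠ 1 ∧ (χ : G → ℂ) a ≠ 0 ∧
      ∀ g, (χ : G → ℂ) g ≠ 0 → g = 1 ∨ IsConj a g := by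
  classical
  haveI : Fintype G := Fintype.ofFinite G
  set c1 : {C : ConjClasses G // ∃ g ∈ C.carrier, (χ : G → ℂ) g ≠ 0} :=
    ⟨ConjClasses.mk 1, 1, ConjClasses.mem_carrier_mk, irr_one_ne_zero χ⟩ with hc1
  obtain ⟨c2, hc2, huniq⟩ := (Nat.card_eq_two_iff' c1).mp hχ
  obtain ⟨C, a, haC, hχa⟩ := c2
  have hCa : ConjClasses.mk a = C := ConjClasses.mem_carrier_iff_mk_eq.mp haC
  have ha1 : a ≠ 1 := by
    intro h
    apply hc2
    apply Subtype.ext
    show C = ConjClasses.mk 1
    rw [← hCa, h]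
  have hsupp : ∀ g, (χ : G → ℂ) g ≠ 0 → g = 1 ∨ IsConj a g := by
    intro g hg
    set s : {C : ConjClasses G // ∃ g ∈ C.carrier, (χ : G → ℂ) g ≠ 0} :=
      ⟨ConjClasses.mk g, g, ConjClasses.mem_carrier_mk, hg⟩ with hs
    by_cases hs1 : s = c1
    · left
      have h1 : ConjClasses.mk g = ConjClasses.mk 1 := congrArg Subtype.val hs1
      have h2 : IsConj g 1 := ConjClasses.mk_eq_mk_iff_isConj.mp h1
      obtain ⟨c, hc⟩ := isConj_iff.mp h2
      have : g = c⁻¹ * 1 * c := by rw [← hc]; group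
      rw [this]; group
    · right
      have h1 := huniq s hs1
      have h2 : ConjClasses.mk g = C := congrArg Subtype.val h1
      rw [← hCa] at h2
      exact (ConjClasses.mk_eq_mk_iff_isConj.mp h2).symm
  refine ⟨?_, a, ha1, hχa, hsupp⟩
  intro htriv
  have hall : ∀ g : G, g = 1 ∨ IsConj a g := by
    intro g
    apply hsupp
    rw [htriv, trivIrr_apply]
    exact one_ne_zero
  have huniv : (Finset.univ : Finset G) = insert 1 (Finset.univ.filter (IsConj a)) := by
    ext g
    simp only [Finset.mem_univ, Finset.mem_insert, Finset.mem_filter, true_and, true_iff]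
    exact hall g
  have h1 : (1 : G) ∉ Finset.univ.filter (IsConj a) := by
    intro h
    have := (Finset.mem_filter.mp h).2
    obtain ⟨c, hc⟩ := isConj_iff.mp this
    apply ha1
    have : a = c⁻¹ * 1 * c := by rw [← hc]; group
    rw [this]; group
  have hcard : Nat.card G = 1 + Nat.card {x : G // IsConj a x} := by
    rw [Nat.card_eq_fintype_card, ← Finset.card_univ, huniv, Finset.card_insert_of_notMem h1,
      card_filter_isConj, add_comm]
  have hdvd : Nat.card {x : G // IsConj a x} ∣ Nat.card G :=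
    Dvd.intro _ (card_conj_mul_card_centralizer a)
  rw [hcard] at hdvd
  have h2 : Nat.card {x : G // IsConj a x} ∣ 1 := (Nat.dvd_add_left dvd_rfl).mp hdvd
  have h3 := Nat.dvd_one.mp h2
  omega

theorem gagola_main (hG : 2 < Nat.card G) (χ : IrrCharacter G)
    (hχ : Nat.card {C : ConjClasses G // ∃ g ∈ C.carrier, (χ : G → ℂ) g ≠ 0} = 2) :
    ∃ N : Subgroup G, N.Normal ∧ N ≠ ⊥ ∧ (∀ K : Subgroup G, K.Normal → K ≠ ⊥ → N ≤ K) ∧
      (∃ p : ℕ, p.Prime ∧ IsElementaryAbelian p N) ∧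
      (∀ g : G, (χ : G → ℂ) g ≠ 0 ↔ g ∈ N) ∧
      (∀ x ∈ N, ∀ y ∈ N, x ≠ 1 → y ≠ 1 → ∃ g : G, g * x * g⁻¹ = y) := by
  classical
  haveI : Fintype G := Fintype.ofFinite G
  obtain ⟨hne, a, ha, hχa, hsupp⟩ := gagola_setup hG χ hχ
  have hmem := mem_gagolaN_iff χ a ha hsupp hne
  refine ⟨gagolaN χ, gagolaN_normal χ, ?_, gagolaN_le χ a ha hsupp hne,
    gagolaN_elementaryAbelian χ a ha hsupp hne, gagola_ne_zero_iff χ a ha hχa hsupp hne, ?_⟩
  · intro h
    have : a ∈ gagolaN χ := (hmem a).mpr (Or.inr (IsConj.refl a))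
    rw [h, Subgroup.mem_bot] at this
    exact ha this
  · intro x hx y hy hx1 hy1
    have h1 : IsConj a x := ((hmem x).mp hx).resolve_left hx1
    have h2 : IsConj a y := ((hmem y).mp hy).resolve_left hy1
    exact isConj_iff.mp (h1.symm.trans h2)

theorem gagola_unique (hG : 2 < Nat.card G) (χ : IrrCharacter G)
    (hχ : Nat.card {C : ConjClasses G // ∃ g ∈ C.carrier, (χ : G → ℂ) g ≠ 0} = 2) :
    (∀ g : G, (χ : G → ℂ) g = (χ : G → ℂ) 1 → g = 1) ∧
      (∀ ψ : IrrCharacter G, (∀ g : G, (ψ : G → ℂ) g = (ψ : G → ℂ) 1 → g = 1) → ψ = χ) ∧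
      (∀ ψ : IrrCharacter G,
        Nat.card {C : ConjClasses G // ∃ g ∈ C.carrier, (ψ : G → ℂ) g ≠ 0} = 2 → ψ = χ) := by
  classical
  haveI : Fintype G := Fintype.ofFinite G
  obtain ⟨hne, a, ha, hχa, hsupp⟩ := gagola_setup hG χ hχ
  have hfaith := gagola_faithful χ a ha hsupp hne
  have huniq : ∀ ψ : IrrCharacter G,
      (∀ g : G, (ψ : G → ℂ) g = (ψ : G → ℂ) 1 → g = 1) → ψ = χ := by
    intro ψ hψ
    by_contra hψχ
    exact ha (hψ a (gagola_other χ a ha hsupp hne ψ hψχ))
  refine ⟨hfaith, huniq, ?_⟩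
  intro ψ hψ
  obtain ⟨hne', a', ha', hχa', hsupp'⟩ := gagola_setup hG ψ hψ
  exact huniq ψ (gagola_faithful ψ a' ha' hsupp' hne')

end GagolaMain

end Cfsg.Agent.Helper24
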