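import Mathlib
import Cfsg.Prelude.Def_Characters
import Cfsg.Agent.Helper24.Gagola
import Cfsg.Agent.Helper24.Restrict
import Cfsg.Agent.Helper24.Clifford
import Cfsg.Agent.Helper24.OddInduced
import Cfsg.Agent.Helper24.Ito
import Cfsg.Agent.Helper24.Abelian

/-!
Gagola characters: centralizers of elements of the support and inertia groups are Sylow subgroups.
-/

namespace Cfsg.Agent.Helper24

open Cfsg

universe u

theorem gagola_arith (p : ℕ) (hp : p.Prime) (Gc d c z n : ℕ) (hn : 1 ≤ n) (hc1 : c + 1 = p ^ n)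
    (hE1 : d ^ 2 * (c + 1) = Gc * c) (hcz : c * z = Gc) (hd : d ∣ Gc)
    (hr : ordCompl[p] Gc ∣ d) (hG0 : Gc ≠ 0) : z = p ^ (Gc.factorization p) := by
  set m := Gc.factorization p with hm
  set r := ordCompl[p] Gc with hrdef
  have hGr : p ^ m * r = Gc := Nat.ordProj_mul_ordCompl_eq_self Gc p
  have hpr : ¬ p ∣ r := Nat.not_dvd_ordCompl hp hG0
  have hrpos : 0 < r := Nat.ordCompl_pos p hG0
  have hcpos : 0 < c := by
    have : 2 ≤ p ^ n := by
      calc 2 ≤ p := hp.two_le
        _ = p ^ 1 := (pow_one p).symm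
        _ ≤ p ^ n := Nat.pow_le_pow_right hp.pos hn
    omega
  obtain ⟨d', hd'⟩ := hr
  have hd'dvd : d' ∣ p ^ m := by
    have : r * d' ∣ r * p ^ m := by rw [← hd', mul_comm r (p ^ m), hGr]; exact hd
    exact Nat.dvd_of_mul_dvd_mul_left hrpos this
  obtain ⟨e, -, he⟩ := (Nat.dvd_prime_pow hp).mp hd'dvd
  have hE : r * p ^ (2 * e + n) = p ^ m * c := by
    have h1 : r * (r * p ^ (2 * e + n)) = r * (p ^ m * c) := by
      have : d ^ 2 * (c + 1) = r * (r * p ^ (2 * e + n)) := by
        rw [hd', he, hc1, pow_add, pow_mul]; ring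
      rw [← this, hE1, ← hGr]; ring
    exact Nat.eq_of_mul_eq_mul_left hrpos h1
  have hcopr : Nat.Coprime r p := (Nat.Coprime.symm ((Nat.Prime.coprime_iff_not_dvd hp).mpr hpr))
  have hcopc : Nat.Coprime c p := by
    rw [Nat.coprime_comm, Nat.Prime.coprime_iff_not_dvd hp]
    intro h
    have h2 : p ∣ c + 1 := by rw [hc1]; exact dvd_pow_self p (by omega)
    have h3 : p ∣ 1 := (Nat.dvd_add_right h).mp h2
    exact hp.one_lt.ne' (Nat.dvd_one.mp h3)
  have hrc : r ∣ c := by
    have : r ∣ p ^ m * c := by rw [← hE]; exact dvd_mul_right _ _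
    exact (Nat.Coprime.pow_right m hcopr).dvd_of_dvd_mul_left this
  have hcr : c ∣ r := by
    have : c ∣ r * p ^ (2 * e + n) := by rw [hE]; exact dvd_mul_left _ _
    exact (Nat.Coprime.pow_right _ hcopc).dvd_of_dvd_mul_right this
  have hrceq : r = c := Nat.dvd_antisymm hrc hcr
  have : c * z = c * p ^ m := by rw [hcz, ← hGr, hrceq]; ring
  exact Nat.eq_of_mul_eq_mul_left hcpos this

section GagolaSylow

variable {G : Type u} [Group G] [Fintype G] (χ : IrrCharacter G) (a : G)

/-- `χ(1)² (c + 1) = |G| c`, where `c` is the size of the class of `a`. -/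
theorem gagola_norm (ha : a ≠ 1)
    (hsupp : ∀ g, (χ : G → ℂ) g ≠ 0 → g = 1 ∨ IsConj a g) (hne : χ ≠ trivIrr G) :
    irrDeg χ ^ 2 * (Nat.card {x : G // IsConj a x} + 1) =
      Nat.card G * Nat.card {x : G // IsConj a x} := by
  classical
  have hv := gagola_value χ a ha hsupp hne
  have hc := gagola_card_ne_zero a
  rw [card_filter_isConj] at hv hc
  set c : ℂ := (Nat.card {x : G // IsConj a x} : ℂ) with hcdef
  have hχa : (χ : G → ℂ) a = -((χ : G → ℂ) 1) / c := by
    field_simp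
    linear_combination hv
  have h0 := classInner_irr_self χ
  rw [classInner] at h0
  have hG : (Nat.card G : ℂ) ≠ 0 := by exact_mod_cast Nat.card_pos.ne'
  have h1 : ∑ g : G, (χ : G → ℂ) g * (starRingEnd ℂ) ((χ : G → ℂ) g) = (Nat.card G : ℂ) := by
    field_simp at h0
    exact h0
  rw [sum_mul_of_support (fun g => (χ : G → ℂ) g * (starRingEnd ℂ) ((χ : G → ℂ) g)) a ha
    (fun g hg => hsupp g (by
      intro h
      apply hg
      simp only [h, map_zero, mul_zero]))
    (fun g hg => by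
      rw [(IsClassFunction.eq_of_isConj (isClassFunction_irr χ) hg)])] at h1
  rw [card_filter_isConj, ← hcdef] at h1
  have hd : (starRingEnd ℂ) ((χ : G → ℂ) 1) = (χ : G → ℂ) 1 := by
    rw [irrDeg_spec, Complex.conj_natCast]
  have hca : (starRingEnd ℂ) ((χ : G → ℂ) a) = -((χ : G → ℂ) 1) / c := by
    rw [hχa, map_div₀, map_neg, hd, hcdef, Complex.conj_natCast]
  rw [hd, hca, hχa, irrDeg_spec] at h1
  have h2 : (irrDeg χ : ℂ) ^ 2 * (c + 1) = (Nat.card G : ℂ) * c := by
    field_simp at h1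
    linear_combination h1
  rw [hcdef] at h2
  exact_mod_cast h2

/-- The support subgroup has `c + 1` elements. -/
theorem card_gagolaN (ha : a ≠ 1)
    (hsupp : ∀ g, (χ : G → ℂ) g ≠ 0 → g = 1 ∨ IsConj a g) (hne : χ ≠ trivIrr G) :
    Nat.card (gagolaN χ) = Nat.card {x : G // IsConj a x} + 1 := by
  classical
  have hmem := mem_gagolaN_iff χ a ha hsupp hne
  have h1 : (1 : G) ∉ Finset.univ.filter (IsConj a) := by
    intro h
    have := (Finset.mem_filter.mp h).2
    obtain ⟨c, hc⟩ := isConj_iff.mp this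
    apply ha
    have : a = c⁻¹ * 1 * c := by rw [← hc]; group
    rw [this]; group
  rw [Nat.card_eq_fintype_card, Fintype.card_subtype]
  have : Finset.univ.filter (fun x : G => x ∈ gagolaN χ) =
      insert 1 (Finset.univ.filter (IsConj a)) := by
    ext g
    simp only [Finset.mem_filter, Finset.mem_univ, true_and, Finset.mem_insert]
    exact hmem g
  rw [this, Finset.card_insert_of_notMem h1, card_filter_isConj]

/-- The `p'`-part of `|G|` divides `χ(1)` when the support subgroup is a `p`-group. -/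
theorem ordCompl_dvd_irrDeg_of_gagola (ha : a ≠ 1)
    (hsupp : ∀ g, (χ : G → ℂ) g ≠ 0 → g = 1 ∨ IsConj a g) (hne : χ ≠ trivIrr G)
    (p : ℕ) [hp : Fact p.Prime] (hNp : IsPGroup p (gagolaN χ)) :
    ordCompl[p] (Nat.card G) ∣ irrDeg χ := by
  classical
  have hG0 : Nat.card G ≠ 0 := Nat.card_pos.ne'
  have hd0 : irrDeg χ ≠ 0 := (irrDeg_pos χ).ne'
  rw [← Nat.factorization_le_iff_dvd (Nat.ordCompl_pos p hG0).ne' hd0]
  intro q
  rw [Nat.factorization_ordCompl]
  by_cases hqp : q = p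
  · rw [hqp]; simp
  · rw [Finsupp.erase_ne hqp]
    by_cases hq : q.Prime
    · haveI : Fact q.Prime := ⟨hq⟩
      obtain ⟨Q⟩ : Nonempty (Sylow q G) := inferInstance
      have hvan : ∀ g : G, g ∈ (Q : Subgroup G) → g ≠ 1 → (χ : G → ℂ) g = 0 := by
        intro g hgQ hg1
        by_contra hne0
        have hgN : g ∈ gagolaN χ := (mem_gagolaN_iff χ a ha hsupp hne g).mpr (hsupp g hne0)
        -- g is both a p-element and a q-element
        obtain ⟨k1, hk1⟩ := hNp ⟨g, hgN⟩
        obtain ⟨k2, hk2⟩ := Q.isPGroup' ⟨g, hgQ⟩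
        have h1 : g ^ p ^ k1 = 1 := congrArg Subtype.val hk1
        have h2 : g ^ q ^ k2 = 1 := congrArg Subtype.val hk2
        have h3 : orderOf g ∣ p ^ k1 := orderOf_dvd_of_pow_eq_one h1
        have h4 : orderOf g ∣ q ^ k2 := orderOf_dvd_of_pow_eq_one h2
        have hcop : Nat.Coprime (p ^ k1) (q ^ k2) :=
          Nat.Coprime.pow _ _ ((Nat.coprime_primes hp.out hq).mpr (Ne.symm hqp))
        have h5 : orderOf g = 1 := Nat.eq_one_of_dvd_coprimes hcop h3 h4
        exact hg1 (orderOf_eq_one_iff.mp h5)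
      obtain ⟨k, hk⟩ := card_dvd_apply_one_of_vanish (Q : Subgroup G) (χ : G → ℂ)
        (IsIrrCharacter.isCharacter χ.2) hvan
      rw [irrDeg_spec] at hk
      have hk' : irrDeg χ = Nat.card (Q : Subgroup G) * k := by exact_mod_cast hk
      have hQ : Nat.card (Q : Subgroup G) = q ^ (Nat.card G).factorization q :=
        Q.card_eq_multiplicity
      rw [← Nat.Prime.pow_dvd_iff_le_factorization hq hd0, hk', hQ]
      exact dvd_mul_right _ _
    · rw [Nat.factorization_eq_zero_of_not_prime _ hq]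
      exact Nat.zero_le _

/-- The centralizer of `a` has order the full power of `p`. -/
theorem gagola_card_centralizer (ha : a ≠ 1)
    (hsupp : ∀ g, (χ : G → ℂ) g ≠ 0 → g = 1 ∨ IsConj a g) (hne : χ ≠ trivIrr G)
    (p : ℕ) [hp : Fact p.Prime] (hNp : IsPGroup p (gagolaN χ)) :
    Nat.card (Subgroup.centralizer ({a} : Set G)) = p ^ (Nat.card G).factorization p := by
  obtain ⟨n, hn⟩ := IsPGroup.iff_card.mp hNp
  have hcard := card_gagolaN χ a ha hsupp hne
  have hn1 : 1 ≤ n := by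
    by_contra hcon
    have : n = 0 := by omega
    rw [this, pow_zero, hcard] at hn
    have hpos : 0 < Nat.card {x : G // IsConj a x} := by
      haveI : Nonempty {x : G // IsConj a x} := ⟨⟨a, IsConj.refl a⟩⟩
      exact Nat.card_pos
    omega
  exact gagola_arith p hp.out (Nat.card G) (irrDeg χ) (Nat.card {x : G // IsConj a x}) _ n hn1
    (by rw [← hcard, hn]) (gagola_norm χ a ha hsupp hne) (card_conj_mul_card_centralizer a)
    (irrDeg_dvd_card χ) (ordCompl_dvd_irrDeg_of_gagola χ a ha hsupp hne p hNp) Nat.card_pos.ne'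

/-- Every nonprincipal irreducible character of the support subgroup is a constituent of the
restriction of `χ`. -/
theorem gagola_constituent (ha : a ≠ 1) (hχa : (χ : G → ℂ) a ≠ 0)
    (hsupp : ∀ g, (χ : G → ℂ) g ≠ 0 → g = 1 ∨ IsConj a g) (hne : χ ≠ trivIrr G)
    [Fintype (gagolaN χ)]
    (θ : IrrCharacter (gagolaN χ)) (hθ : θ ≠ trivIrr (gagolaN χ)) :
    classInner (fun n : gagolaN χ => (χ : G → ℂ) n) (θ : gagolaN χ → ℂ) ≠ 0 := by
  classical
  have hmem := mem_gagolaN_iff χ a ha hsupp hne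
  have hNne : (Nat.card (gagolaN χ) : ℂ)⁻¹ ≠ 0 :=
    inv_ne_zero (by exact_mod_cast Nat.card_pos.ne')
  -- ∑ conj θ = 0
  have h0 := classInner_irr θ (trivIrr (gagolaN χ))
  rw [if_neg hθ, classInner] at h0
  have h1 := (mul_eq_zero.mp h0).resolve_left hNne
  simp only [trivIrr_apply, map_one, mul_one] at h1
  have h2 : ∑ n : gagolaN χ, (starRingEnd ℂ) ((θ : gagolaN χ → ℂ) n) = 0 := by
    rw [← map_sum, h1, map_zero]
  unfold classInner
  apply mul_ne_zero hNne
  have h3 : ∀ n : gagolaN χ, (χ : G → ℂ) n * (starRingEnd ℂ) ((θ : gagolaN χ → ℂ) n) =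
      (χ : G → ℂ) a * (starRingEnd ℂ) ((θ : gagolaN χ → ℂ) n) +
        (if n = 1 then ((χ : G → ℂ) 1 - (χ : G → ℂ) a) *
          (starRingEnd ℂ) ((θ : gagolaN χ → ℂ) 1) else 0) := by
    intro n
    by_cases hn : n = 1
    · rw [if_pos hn, hn]
      simp only [Subgroup.coe_one]
      ring
    · rw [if_neg hn, add_zero]
      have hn' : (n : G) ≠ 1 := fun h => hn (Subtype.ext h)
      have hc : IsConj a (n : G) := ((hmem (n : G)).mp n.2).resolve_left hn'
      rw [IsClassFunction.eq_of_isConj (isClassFunction_irr χ) hc]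
  simp_rw [h3]
  rw [Finset.sum_add_distrib, ← Finset.mul_sum, h2, mul_zero, zero_add,
    Finset.sum_ite_eq' Finset.univ (1 : gagolaN χ), if_pos (Finset.mem_univ _)]
  apply mul_ne_zero
  · have hv := gagola_value χ a ha hsupp hne
    intro h
    have h4 : (χ : G → ℂ) 1 = (χ : G → ℂ) a := sub_eq_zero.mp h
    rw [h4] at hv
    have h5 : ((1 + (Finset.univ.filter (IsConj a)).card : ℕ) : ℂ) * (χ : G → ℂ) a = 0 := by
      push_cast
      linear_combination hv
    rcases mul_eq_zero.mp h5 with h6 | h6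
    · have : (1 + (Finset.univ.filter (IsConj a)).card : ℕ) = 0 := by exact_mod_cast h6
      omega
    · exact hχa h6
  · intro h
    have := (map_eq_zero (starRingEnd ℂ)).mp h
    exact irr_one_ne_zero θ this

/-- The inertia group of a nonprincipal irreducible character of the support subgroup has order
the full power of `p`. -/
theorem gagola_card_inertia (ha : a ≠ 1) (hχa : (χ : G → ℂ) a ≠ 0)
    (hsupp : ∀ g, (χ : G → ℂ) g ≠ 0 → g = 1 ∨ IsConj a g) (hne : χ ≠ trivIrr G)
    (p : ℕ) [hp : Fact p.Prime] (hNp : IsPGroup p (gagolaN χ))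
    (μ : IrrCharacter (gagolaN χ)) (hμ : μ ≠ trivIrr (gagolaN χ)) :
    Nat.card (inertiaSubgroup (gagolaN χ) (μ : gagolaN χ → ℂ)) =
      p ^ (Nat.card G).factorization p := by
  classical
  haveI : Fintype (gagolaN χ) := Fintype.ofFinite _
  haveI : Fintype (IrrCharacter (gagolaN χ)) := Fintype.ofFinite _
  -- the action
  letI act : MulAction G ((gagolaN χ) → ℂ) :=
    { smul := fun g θ => conjFun (gagolaN χ) θ g⁻¹
      one_smul := fun θ => by
        show conjFun (gagolaN χ) θ 1⁻¹ = θ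
        rw [inv_one, conjFun_one]
      mul_smul := fun x y θ => by
        show conjFun (gagolaN χ) θ (x * y)⁻¹ = conjFun (gagolaN χ) (conjFun (gagolaN χ) θ y⁻¹) x⁻¹
        rw [conjFun_conjFun, mul_inv_rev] }
  have hsmul : ∀ (g : G) (θ : (gagolaN χ) → ℂ), g • θ = conjFun (gagolaN χ) θ g⁻¹ := fun _ _ => rfl
  have hstab : MulAction.stabilizer G (μ : (gagolaN χ) → ℂ) = inertiaSubgroup (gagolaN χ) (μ : (gagolaN χ) → ℂ) := by
    ext g
    rw [MulAction.mem_stabilizer_iff, hsmul]
    constructor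
    · intro h
      have h1 : g⁻¹ ∈ inertiaSubgroup (gagolaN χ) (μ : (gagolaN χ) → ℂ) := h
      simpa using (inertiaSubgroup (gagolaN χ) (μ : (gagolaN χ) → ℂ)).inv_mem h1
    · intro h
      exact (inertiaSubgroup (gagolaN χ) (μ : (gagolaN χ) → ℂ)).inv_mem h
  -- the orbit
  have hμc := gagola_constituent χ a ha hχa hsupp hne μ hμ
  have horbit : MulAction.orbit G (μ : (gagolaN χ) → ℂ) =
      {θ : (gagolaN χ) → ℂ | IsIrrCharacter (gagolaN χ) θ ∧ θ ≠ fun _ => (1 : ℂ)} := by
    ext θ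
    constructor
    · rintro ⟨g, rfl⟩
      show IsIrrCharacter (gagolaN χ) (g • (μ : (gagolaN χ) → ℂ)) ∧ g • (μ : (gagolaN χ) → ℂ) ≠ fun _ => (1 : ℂ)
      rw [hsmul]
      refine ⟨isIrrCharacter_conjFun (gagolaN χ) μ.2 g⁻¹, ?_⟩
      intro h
      apply hμ
      apply Subtype.ext
      have h1 : conjFun (gagolaN χ) (conjFun (gagolaN χ) (μ : (gagolaN χ) → ℂ) g⁻¹) g = conjFun (gagolaN χ) (fun _ => (1 : ℂ)) g := by
        rw [h]
      rw [conjFun_conjFun, inv_mul_cancel, conjFun_one] at h1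
      rw [h1]
      rfl
    · rintro ⟨hθirr, hθ1⟩
      have hθne : (⟨θ, hθirr⟩ : IrrCharacter (gagolaN χ)) ≠ trivIrr (gagolaN χ) := by
        intro h
        apply hθ1
        exact congrArg Subtype.val h
      have hθc := gagola_constituent χ a ha hχa hsupp hne ⟨θ, hθirr⟩ hθne
      by_contra hnot
      apply hθc
      apply classInner_restrict_eq_zero_of_not_conj (gagolaN χ) χ.2 μ.2 hμc hθirr
      intro g hg
      apply hnot
      refine ⟨g⁻¹, ?_⟩
      show g⁻¹ • (μ : (gagolaN χ) → ℂ) = θ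
      rw [hsmul, inv_inv, hg]
  -- abelian
  obtain ⟨p', -, hcomm, -⟩ := gagolaN_elementaryAbelian χ a ha hsupp hne
  have hcommN : ∀ x y : (gagolaN χ), x * y = y * x := fun x y => by
    haveI := hcomm
    exact mul_comm' x y
  have hIrrcard : Nat.card (IrrCharacter (gagolaN χ)) = Nat.card (gagolaN χ) := by
    rw [card_irr_eq_card_conjClasses, card_conjClasses_eq_card_of_comm hcommN]
  have hncard : (MulAction.orbit G (μ : (gagolaN χ) → ℂ)).ncard = Nat.card {x : G // IsConj a x} := by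
    rw [horbit, ← Nat.card_coe_set_eq]
    have e : {θ : (gagolaN χ) → ℂ | IsIrrCharacter (gagolaN χ) θ ∧ θ ≠ fun _ => (1 : ℂ)} ≃
        {θ : IrrCharacter (gagolaN χ) | θ ≠ trivIrr (gagolaN χ)} :=
      { toFun := fun θ => ⟨⟨θ.1, θ.2.1⟩, fun h => θ.2.2 (congrArg Subtype.val h)⟩
        invFun := fun θ => ⟨θ.1.1, θ.1.2, fun h => θ.2 (Subtype.ext h)⟩
        left_inv := fun θ => rfl
        right_inv := fun θ => rfl }
    rw [Nat.card_congr e, Nat.card_eq_fintype_card, Set.card_ne_eq, ← Nat.card_eq_fintype_card,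
      hIrrcard, card_gagolaN χ a ha hsupp hne]
    simp
  have hidx := MulAction.index_stabilizer (G := G) (x := (μ : (gagolaN χ) → ℂ))
  rw [hstab, hncard] at hidx
  have h1 := Subgroup.card_mul_index (inertiaSubgroup (gagolaN χ) (μ : (gagolaN χ) → ℂ))
  rw [hidx] at h1
  have h2 := card_conj_mul_card_centralizer a
  have h3 := gagola_card_centralizer χ a ha hsupp hne p hNp
  have hcpos : 0 < Nat.card {x : G // IsConj a x} := by
    haveI : Nonempty {x : G // IsConj a x} := ⟨⟨a, IsConj.refl a⟩⟩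
    exact Nat.card_pos
  rw [← h3]
  have : Nat.card {x : G // IsConj a x} * Nat.card (inertiaSubgroup (gagolaN χ) (μ : (gagolaN χ) → ℂ)) =
      Nat.card {x : G // IsConj a x} * Nat.card (Subgroup.centralizer ({a} : Set G)) := by
    rw [h2, mul_comm, h1]
  exact Nat.eq_of_mul_eq_mul_left hcpos this

end GagolaSylow

section GagolaSylowMain

variable {G : Type u} [Group G] [Finite G]

theorem gagola_sylow (hG : 2 < Nat.card G) (χ : IrrCharacter G)
    (hχ : Nat.card {C : ConjClasses G // ∃ g ∈ C.carrier, (χ : G → ℂ) g ≠ 0} = 2)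
    (p : ℕ) [Fact p.Prime] (N : Subgroup G) [N.Normal]
    (hN : ∀ g : G, g ∈ N ↔ (χ : G → ℂ) g ≠ 0) (hNp : IsPGroup p N) :
    (∀ x ∈ N, x ≠ 1 → ∃ P : Sylow p G, Subgroup.centralizer ({x} : Set G) = P) ∧
      (∀ μ : IrrCharacter N, (μ : N → ℂ) ≠ (fun _ => (1 : ℂ)) →
        ∃ P : Sylow p G, ∀ g : G, g ∈ (P : Subgroup G) ↔
          ∀ n n' : N, (n' : G) = g * n * g⁻¹ → (μ : N → ℂ) n' = (μ : N → ℂ) n) := by
  classical
  haveI : Fintype G := Fintype.ofFinite G
  obtain ⟨hne, a, ha, hχa, hsupp⟩ := gagola_setup hG χ hχ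
  have hNeq : N = gagolaN χ := by
    ext g
    rw [hN, gagola_ne_zero_iff χ a ha hχa hsupp hne]
  subst hNeq
  have hmem := mem_gagolaN_iff χ a ha hsupp hne
  constructor
  · intro x hx hx1
    have hc : IsConj a x := ((hmem x).mp hx).resolve_left hx1
    have h1 := gagola_card_centralizer χ a ha hsupp hne p hNp
    rw [card_centralizer_eq_of_isConj hc] at h1
    exact ⟨Sylow.ofCard _ h1, (Sylow.coe_ofCard _ h1).symm⟩
  · intro μ hμ
    have hμ' : μ ≠ trivIrr (gagolaN χ) := by
      intro h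
      apply hμ
      rw [h]; rfl
    have h1 := gagola_card_inertia χ a ha hχa hsupp hne p hNp μ hμ'
    refine ⟨Sylow.ofCard _ h1, ?_⟩
    intro g
    rw [Sylow.coe_ofCard, mem_inertiaSubgroup]
    constructor
    · intro h n n' hn'
      have := h n
      have heq : n' = ⟨g * (n : G) * g⁻¹, (gagolaN_normal χ).conj_mem n n.2 g⟩ :=
        Subtype.ext hn'
      rw [heq]
      exact this
    · intro h n
      exact h n ⟨g * (n : G) * g⁻¹, (gagolaN_normal χ).conj_mem n n.2 g⟩ rfl

end GagolaSylowMain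

end Cfsg.Agent.Helper24
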