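import Mathlib
import Cfsg.Prelude.Def_Characters
import Cfsg.Agent.Helper24.GagolaSylow
import Cfsg.Agent.Helper23.PrincipalBlock

/-!
Gagola characters: centralizer orders outside `N`, the centre of a Sylow subgroup, and the upper
central series.
-/

namespace Cfsg.Agent.Helper24

universe u

open scoped commutatorElement

section Quotient

variable {G : Type u} [Group G] [Fintype G]

/-- Inflation of irreducible characters from a quotient. -/
noncomputable def irrInflate (N : Subgroup G) [N.Normal] (ψ : IrrCharacter (G ⧸ N)) :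
    IrrCharacter G :=
  ⟨fun g => (ψ : G ⧸ N → ℂ) (QuotientGroup.mk g),
    Helper8.isIrrCharacter_comp_surjective (QuotientGroup.mk' N)
      (QuotientGroup.mk'_surjective N) ψ.2⟩

omit [Fintype G] in
theorem irrInflate_injective (N : Subgroup G) [N.Normal] :
    Function.Injective (irrInflate N) := by
  intro ψ₁ ψ₂ h
  apply Subtype.ext
  funext q
  obtain ⟨g, rfl⟩ := QuotientGroup.mk_surjective q
  exact congrFun (congrArg Subtype.val h) g

/-- If every irreducible character other than `χ` has `N` in its kernel but `χ` does not, then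
centralizers of elements where `χ` vanishes have the same order in `G` and `G ⧸ N`. -/
theorem card_centralizer_quotient_of_unique (N : Subgroup G) [N.Normal] (χ : IrrCharacter G)
    (hother : ∀ ψ : IrrCharacter G, ψ ≠ χ → ∀ n ∈ N, (ψ : G → ℂ) n = (ψ : G → ℂ) 1)
    (hχ : ∃ n ∈ N, (χ : G → ℂ) n ≠ (χ : G → ℂ) 1) (x : G) (hx : (χ : G → ℂ) x = 0) :
    Nat.card (Subgroup.centralizer ({x} : Set G)) =
      Nat.card (Subgroup.centralizer ({(x : G ⧸ N)} : Set (G ⧸ N))) := by
  classical
  haveI : Finite G := Finite.of_fintype G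
  haveI : Fintype (G ⧸ N) := Fintype.ofFinite _
  haveI : Fintype (IrrCharacter G) := Fintype.ofFinite _
  haveI : Fintype (IrrCharacter (G ⧸ N)) := Fintype.ofFinite _
  have h1 := sum_irr_mul_conj x x
  rw [if_pos (IsConj.refl x)] at h1
  have h2 := sum_irr_mul_conj (x : G ⧸ N) (x : G ⧸ N)
  rw [if_pos (IsConj.refl _)] at h2
  have himage : Finset.univ.image (irrInflate N) = Finset.univ.erase χ := by
    ext ψ
    rw [Finset.mem_image, Finset.mem_erase]
    constructor
    · rintro ⟨ψ', _, rfl⟩
      refine ⟨?_, Finset.mem_univ _⟩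
      intro h
      obtain ⟨n, hn, hne⟩ := hχ
      apply hne
      rw [← h]
      show (ψ' : G ⧸ N → ℂ) (QuotientGroup.mk n) = (ψ' : G ⧸ N → ℂ) (QuotientGroup.mk 1)
      rw [(QuotientGroup.eq_one_iff n).mpr hn, QuotientGroup.mk_one]
    · rintro ⟨hne, _⟩
      obtain ⟨ψ', hψ'⟩ := Helper23.PB.exists_irr_quotient N ψ (hother ψ hne)
      refine ⟨ψ', Finset.mem_univ _, ?_⟩
      apply Subtype.ext
      funext g
      exact hψ' g
  have h3 : ∑ ψ : IrrCharacter (G ⧸ N),
      (ψ : G ⧸ N → ℂ) (x : G ⧸ N) * (starRingEnd ℂ) ((ψ : G ⧸ N → ℂ) (x : G ⧸ N)) =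
      ∑ ψ ∈ Finset.univ.erase χ, (ψ : G → ℂ) x * (starRingEnd ℂ) ((ψ : G → ℂ) x) := by
    rw [← himage, Finset.sum_image (fun a _ b _ h => irrInflate_injective N h)]
    rfl
  have h4 : ∑ ψ : IrrCharacter G, (ψ : G → ℂ) x * (starRingEnd ℂ) ((ψ : G → ℂ) x) =
      ∑ ψ ∈ Finset.univ.erase χ, (ψ : G → ℂ) x * (starRingEnd ℂ) ((ψ : G → ℂ) x) := by
    rw [← Finset.add_sum_erase _ _ (Finset.mem_univ χ), hx, zero_mul, zero_add]
  have h5 : (Nat.card (Subgroup.centralizer ({x} : Set G)) : ℂ) =
      (Nat.card (Subgroup.centralizer ({(x : G ⧸ N)} : Set (G ⧸ N))) : ℂ) := by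
    rw [← h1, ← h2, h3, h4]
  exact_mod_cast h5

end Quotient

section Gagola

variable {G : Type u} [Group G] [Finite G]

/-- Part (a): centralizer orders outside `N`. -/
theorem gagola_card_centralizer_quotient (hG : 2 < Nat.card G) (χ : IrrCharacter G)
    (hχ : Nat.card {C : ConjClasses G // ∃ g ∈ C.carrier, (χ : G → ℂ) g ≠ 0} = 2)
    (N : Subgroup G) [N.Normal]
    (hN : ∀ g : G, g ∈ N ↔ (χ : G → ℂ) g ≠ 0) (hN1 : N ≠ ⊥) (x : G) (hx : x ∉ N) :
    Nat.card (Subgroup.centralizer ({x} : Set G)) =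
      Nat.card (Subgroup.centralizer ({(x : G ⧸ N)} : Set (G ⧸ N))) := by
  classical
  haveI : Fintype G := Fintype.ofFinite G
  obtain ⟨hne, a, ha, hχa, hsupp⟩ := gagola_setup hG χ hχ
  have hNeq : ∀ g : G, g ∈ N ↔ g ∈ gagolaN χ := fun g =>
    (hN g).trans (gagola_ne_zero_iff χ a ha hχa hsupp hne g)
  refine card_centralizer_quotient_of_unique N χ ?_ ?_ x ?_
  · intro ψ hψ n hn
    exact (mem_gagolaN χ n).mp ((hNeq n).mp hn) ψ hψ
  · obtain ⟨n, hn1⟩ := (Subgroup.ne_bot_iff_exists_ne_one).mp hN1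
    refine ⟨n, n.2, ?_⟩
    intro h
    apply hn1
    exact Subtype.ext (gagola_faithful χ a ha hsupp hne n h)
  · by_contra h
    exact hx ((hN x).mpr h)

/-- A `p`-power dividing `|G ⧸ N|` times `|N|` is at most `|P|`. -/
theorem gagola_pow_bound (p : ℕ) [hp : Fact p.Prime] (N : Subgroup G) [N.Normal]
    (hNp : IsPGroup p N) (P : Sylow p G) (m : ℕ) (hm : p ^ m ∣ Nat.card (G ⧸ N)) :
    p ^ m * Nat.card N ≤ Nat.card (P : Subgroup G) := by
  obtain ⟨k, hk⟩ := IsPGroup.iff_card.mp hNp
  have hG0 : Nat.card G ≠ 0 := Nat.card_pos.ne'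
  have h1 : p ^ (m + k) ∣ Nat.card G := by
    rw [Subgroup.card_eq_card_quotient_mul_card_subgroup N, hk, pow_add]
    exact Nat.mul_dvd_mul hm (dvd_refl _)
  have h2 : m + k ≤ (Nat.card G).factorization p :=
    (hp.out.pow_dvd_iff_le_factorization hG0).mp h1
  have h3 : Nat.card (P : Subgroup G) = p ^ (Nat.card G).factorization p :=
    P.card_eq_multiplicity
  rw [h3, hk, ← pow_add]
  exact Nat.pow_le_pow_right hp.out.pos h2

/-- Part (b1): the centre of a Sylow `p`-subgroup lies in `N`. -/
theorem gagola_center_le (hG : 2 < Nat.card G) (χ : IrrCharacter G)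
    (hχ : Nat.card {C : ConjClasses G // ∃ g ∈ C.carrier, (χ : G → ℂ) g ≠ 0} = 2)
    (p : ℕ) [hp : Fact p.Prime] (N : Subgroup G) [N.Normal]
    (hN : ∀ g : G, g ∈ N ↔ (χ : G → ℂ) g ≠ 0) (hNp : IsPGroup p N) (hN1 : N ≠ ⊥)
    (P : Sylow p G) :
    (Subgroup.center ↥(P : Subgroup G)).map (P : Subgroup G).subtype ≤ N := by
  rintro _ ⟨z, hz, rfl⟩
  by_contra hzN
  have ha := gagola_card_centralizer_quotient hG χ hχ N hN hN1 (z : G) hzN
  have hle : (P : Subgroup G) ≤ Subgroup.centralizer ({(z : G)} : Set G) := by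
    intro y hy
    rw [Subgroup.mem_centralizer_iff]
    intro w hw
    rw [Set.mem_singleton_iff] at hw
    rw [hw]
    have := (Subgroup.mem_center_iff.mp hz) ⟨y, hy⟩
    have h2 := congrArg Subtype.val this
    simpa using h2.symm
  have h1 : Nat.card (P : Subgroup G) ∣ Nat.card (Subgroup.centralizer ({(z : G)} : Set G)) :=
    Subgroup.card_dvd_of_le hle
  rw [ha] at h1
  have h2 : Nat.card (P : Subgroup G) ∣ Nat.card (G ⧸ N) :=
    h1.trans (Subgroup.card_subgroup_dvd_card _)
  have h3 : Nat.card (P : Subgroup G) = p ^ (Nat.card G).factorization p :=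
    P.card_eq_multiplicity
  rw [h3] at h2
  have h4 := gagola_pow_bound p N hNp P _ h2
  rw [h3] at h4
  have h5 : 1 < Nat.card N := by
    rw [Subgroup.one_lt_card_iff_ne_bot]
    exact hN1
  have h6 : 0 < p ^ (Nat.card G).factorization p := Nat.pow_pos hp.out.pos
  nlinarith

/-- Part (b2): the centre of a Sylow `p`-subgroup is `N` iff the Sylow subgroup is normal. -/
theorem gagola_center_eq_iff (hG : 2 < Nat.card G) (χ : IrrCharacter G)
    (hχ : Nat.card {C : ConjClasses G // ∃ g ∈ C.carrier, (χ : G → ℂ) g ≠ 0} = 2)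
    (p : ℕ) [hp : Fact p.Prime] (N : Subgroup G) [hNn : N.Normal]
    (hN : ∀ g : G, g ∈ N ↔ (χ : G → ℂ) g ≠ 0) (hNp : IsPGroup p N) (hN1 : N ≠ ⊥)
    (P : Sylow p G) :
    (Subgroup.center ↥(P : Subgroup G)).map (P : Subgroup G).subtype = N ↔
      (P : Subgroup G).Normal := by
  have hsyl := (gagola_sylow hG χ hχ p N hN hNp).1
  have hNP : N ≤ (P : Subgroup G) := hNp.le_sylow_of_normal P
  constructor
  · intro hZ
    -- every nontrivial element of N has centralizer P
    have hcent : ∀ a ∈ N, a ≠ 1 → Subgroup.centralizer ({a} : Set G) = (P : Subgroup G) := by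
      intro a ha ha1
      obtain ⟨Q, hQ⟩ := hsyl a ha ha1
      have haZ : a ∈ (Subgroup.center ↥(P : Subgroup G)).map (P : Subgroup G).subtype := by
        rw [hZ]; exact ha
      obtain ⟨z, hz, rfl⟩ := haZ
      have hle : (P : Subgroup G) ≤ (Q : Subgroup G) := by
        rw [← hQ]
        intro y hy
        rw [Subgroup.mem_centralizer_iff]
        intro w hw
        rw [Set.mem_singleton_iff] at hw
        rw [hw]
        have := (Subgroup.mem_center_iff.mp hz) ⟨y, hy⟩
        have h2 := congrArg Subtype.val this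
        simpa using h2.symm
      rw [hQ]
      exact P.is_maximal' Q.isPGroup' hle
    obtain ⟨a, ha1⟩ := (Subgroup.ne_bot_iff_exists_ne_one).mp hN1
    have ha1' : (a : G) ≠ 1 := fun h => ha1 (Subtype.ext h)
    constructor
    intro x hx g
    have hconj : g⁻¹ * (a : G) * g ∈ N := by
      have := hNn.conj_mem a a.2 g⁻¹
      simpa using this
    have hconj1 : g⁻¹ * (a : G) * g ≠ 1 := by
      intro h
      apply ha1'
      have : (a : G) = g * (g⁻¹ * (a : G) * g) * g⁻¹ := by group
      rw [this, h]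
      group
    have h1 : x ∈ Subgroup.centralizer ({g⁻¹ * (a : G) * g} : Set G) := by
      rw [hcent _ hconj hconj1]; exact hx
    rw [← hcent a a.2 ha1', Subgroup.mem_centralizer_iff]
    intro w hw
    rw [Set.mem_singleton_iff] at hw
    rw [hw]
    have h2 := (Subgroup.mem_centralizer_iff.mp h1) _ (Set.mem_singleton _)
    -- h2 : g⁻¹ a g * x = x * g⁻¹ a g
    calc (a : G) * (g * x * g⁻¹) = g * ((g⁻¹ * (a : G) * g) * x) * g⁻¹ := by group
      _ = g * (x * (g⁻¹ * (a : G) * g)) * g⁻¹ := by rw [h2]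
      _ = g * x * g⁻¹ * (a : G) := by group
  · intro hPn
    haveI := hPn
    refine le_antisymm (gagola_center_le hG χ hχ p N hN hNp hN1 P) ?_
    intro n hn
    have hnP : n ∈ (P : Subgroup G) := hNP hn
    refine ⟨⟨n, hnP⟩, ?_, rfl⟩
    rw [SetLike.mem_coe, Subgroup.mem_center_iff]
    intro y
    by_cases hn1 : n = 1
    · apply Subtype.ext
      simp [hn1]
    · obtain ⟨Q, hQ⟩ := hsyl n hn hn1
      obtain ⟨g, hg⟩ := MulAction.exists_smul_eq G P Q
      rw [Sylow.smul_eq_of_normal] at hg
      have hy : (y : G) ∈ Subgroup.centralizer ({n} : Set G) := by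
        rw [hQ, ← hg]; exact y.2
      have h2 := (Subgroup.mem_centralizer_iff.mp hy) _ (Set.mem_singleton _)
      apply Subtype.ext
      simpa using h2.symm

/-- Part (c): `N` is a term of the upper central series of a Sylow `p`-subgroup. -/
theorem gagola_upperCentralSeries (hG : 2 < Nat.card G) (χ : IrrCharacter G)
    (hχ : Nat.card {C : ConjClasses G // ∃ g ∈ C.carrier, (χ : G → ℂ) g ≠ 0} = 2)
    (p : ℕ) [hp : Fact p.Prime] (N : Subgroup G) [hNn : N.Normal]
    (hN : ∀ g : G, g ∈ N ↔ (χ : G → ℂ) g ≠ 0) (hNp : IsPGroup p N) (hN1 : N ≠ ⊥)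
    (P : Sylow p G) :
    ∃ i : ℕ, Subgroup.upperCentralSeries ↥(P : Subgroup G) i =
      N.subgroupOf (P : Subgroup G) := by
  have hNP : N ≤ (P : Subgroup G) := hNp.le_sylow_of_normal P
  have hcardN' : Nat.card (N.subgroupOf (P : Subgroup G)) = Nat.card N :=
    Nat.card_congr (Subgroup.subgroupOfEquivOfLe hNP).toEquiv
  have step : ∀ i : ℕ, Subgroup.upperCentralSeries ↥(P : Subgroup G) i ≤
      N.subgroupOf (P : Subgroup G) →
      Subgroup.upperCentralSeries ↥(P : Subgroup G) i = N.subgroupOf (P : Subgroup G) ∨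
      Subgroup.upperCentralSeries ↥(P : Subgroup G) (i + 1) ≤ N.subgroupOf (P : Subgroup G) := by
    intro i hi
    by_cases h : Subgroup.upperCentralSeries ↥(P : Subgroup G) (i + 1) ≤
        N.subgroupOf (P : Subgroup G)
    · exact Or.inr h
    left
    obtain ⟨x, hx, hxN'⟩ := SetLike.not_le_iff_exists.mp h
    have hxN : (x : G) ∉ N := fun h' => hxN' (Subgroup.mem_subgroupOf.mpr h')
    -- (1) the class of x is small
    have h1 : Nat.card {y : ↥(P : Subgroup G) // IsConj x y} ≤
        Nat.card (Subgroup.upperCentralSeries ↥(P : Subgroup G) i) := by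
      have hmem : ∀ y : {y : ↥(P : Subgroup G) // IsConj x y},
          y.1 * x⁻¹ ∈ Subgroup.upperCentralSeries ↥(P : Subgroup G) i := by
        rintro ⟨y, hy⟩
        obtain ⟨c, hc⟩ := isConj_iff.mp hy
        have h2 := (Subgroup.mem_upperCentralSeries_succ_iff.mp hx) c
        have h3 : y * x⁻¹ = ⁅x, c⁆⁻¹ := by
          rw [← hc, commutatorElement_def]
          group
        rw [h3]
        exact inv_mem h2
      refine Nat.card_le_card_of_injective (fun y => ⟨y.1 * x⁻¹, hmem y⟩) ?_
      intro y y' hyy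
      have := congrArg Subtype.val hyy
      exact Subtype.ext (mul_right_cancel this)
    have h2 := card_conj_mul_card_centralizer x
    -- (2) the centralizer in P is a p-group inside the centralizer in G
    have hle : (Subgroup.centralizer ({x} : Set ↥(P : Subgroup G))).map (P : Subgroup G).subtype ≤
        Subgroup.centralizer ({(x : G)} : Set G) := by
      rintro _ ⟨y, hy, rfl⟩
      rw [Subgroup.mem_centralizer_iff]
      intro w hw
      rw [Set.mem_singleton_iff] at hw
      rw [hw]
      have h3 := (Subgroup.mem_centralizer_iff.mp hy) x (Set.mem_singleton _)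
      have h4 := congrArg Subtype.val h3
      simpa using h4
    have h3 : Nat.card (Subgroup.centralizer ({x} : Set ↥(P : Subgroup G))) ∣
        Nat.card (Subgroup.centralizer ({(x : G)} : Set G)) := by
      rw [← Subgroup.card_map_of_injective (Subgroup.subtype_injective _)]
      exact Subgroup.card_dvd_of_le hle
    rw [gagola_card_centralizer_quotient hG χ hχ N hN hN1 (x : G) hxN] at h3
    have h4 : Nat.card (Subgroup.centralizer ({x} : Set ↥(P : Subgroup G))) ∣ Nat.card (G ⧸ N) :=
      h3.trans (Subgroup.card_subgroup_dvd_card _)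
    obtain ⟨m, hm⟩ := IsPGroup.iff_card.mp
      (P.isPGroup'.to_subgroup (Subgroup.centralizer ({x} : Set ↥(P : Subgroup G))))
    rw [hm] at h4
    have h5 := gagola_pow_bound p N hNp P m h4
    rw [← hm] at h5
    -- combine
    have h6 : Nat.card N ≤ Nat.card (Subgroup.upperCentralSeries ↥(P : Subgroup G) i) := by
      have hpos : 0 < Nat.card (Subgroup.centralizer ({x} : Set ↥(P : Subgroup G))) :=
        Nat.card_pos
      have h7 : Nat.card (Subgroup.centralizer ({x} : Set ↥(P : Subgroup G))) * Nat.card N ≤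
          Nat.card (Subgroup.upperCentralSeries ↥(P : Subgroup G) i) *
            Nat.card (Subgroup.centralizer ({x} : Set ↥(P : Subgroup G))) := by
        calc Nat.card (Subgroup.centralizer ({x} : Set ↥(P : Subgroup G))) * Nat.card N
            ≤ Nat.card (P : Subgroup G) := h5
          _ = Nat.card {y : ↥(P : Subgroup G) // IsConj x y} *
              Nat.card (Subgroup.centralizer ({x} : Set ↥(P : Subgroup G))) := h2.symm
          _ ≤ _ := Nat.mul_le_mul_right _ h1
      rw [mul_comm] at h7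
      exact Nat.le_of_mul_le_mul_right h7 hpos
    exact Subgroup.eq_of_le_of_card_ge hi (by rw [hcardN']; exact h6)
  have key : ∀ i : ℕ, (∃ j : ℕ, Subgroup.upperCentralSeries ↥(P : Subgroup G) j =
      N.subgroupOf (P : Subgroup G)) ∨
      Subgroup.upperCentralSeries ↥(P : Subgroup G) i ≤ N.subgroupOf (P : Subgroup G) := by
    intro i
    induction i with
    | zero =>
      right
      rw [Subgroup.upperCentralSeries_zero]
      exact bot_le
    | succ i ih =>
      rcases ih with h | h
      · exact Or.inl h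
      · rcases step i h with h' | h'
        · exact Or.inl ⟨i, h'⟩
        · exact Or.inr h'
  haveI : Group.IsNilpotent ↥(P : Subgroup G) := P.isPGroup'.isNilpotent
  obtain ⟨c, hc⟩ := Group.IsNilpotent.nilpotent ↥(P : Subgroup G)
  rcases key c with h | h
  · exact h
  · refine ⟨c, ?_⟩
    rw [hc] at h ⊢
    exact (top_le_iff.mp h).symm

end Gagola

end Cfsg.Agent.Helper24
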