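import Mathlib
import Cfsg.Prelude.Def_Characters
import Cfsg.Agent.Helper24.ColumnOrth
import Cfsg.Agent.Helper24.RealChar
import Cfsg.Agent.Helper8.CharComp

/-!
Brauer's permutation lemma (for a single permutation), and real classes / real characters.
-/

namespace Cfsg.Agent.Helper24

open Representation Module

universe u

section General

variable {G : Type u} [Group G] [Fintype G]

open Classical in
/-- The weight `∑_g [β g ~ g] |C(β g)| / |G|` attached to a self-map of `G`. -/
noncomputable def permWeight (β : G → G) : ℂ :=
  (Nat.card G : ℂ)⁻¹ * ∑ g : G,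
    if IsConj (β g) g then (Nat.card (Subgroup.centralizer ({β g} : Set G)) : ℂ) else 0

open Classical in
/-- Counting the irreducible characters fixed by precomposition with `β`. -/
theorem card_fixed_irr_general (β : G → G)
    (hβ : ∀ χ : IrrCharacter G, IsIrrCharacter G (fun g => (χ : G → ℂ) (β g))) :
    (Nat.card {χ : IrrCharacter G // (fun g => (χ : G → ℂ) (β g)) = (χ : G → ℂ)} : ℂ) =
      permWeight β := by
  haveI : Fintype (IrrCharacter G) := Fintype.ofFinite _
  have h1 : ∀ χ : IrrCharacter G,
      classInner (fun g => (χ : G → ℂ) (β g)) (χ : G → ℂ) =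
        if (fun g => (χ : G → ℂ) (β g)) = (χ : G → ℂ) then 1 else 0 := fun χ =>
    classInner_of_isIrrCharacter (hβ χ) χ.2
  have h2 : ∑ χ : IrrCharacter G, classInner (fun g => (χ : G → ℂ) (β g)) (χ : G → ℂ) =
      (Nat.card {χ : IrrCharacter G // (fun g => (χ : G → ℂ) (β g)) = (χ : G → ℂ)} : ℂ) := by
    rw [Finset.sum_congr rfl (fun χ _ => h1 χ), Finset.sum_boole, Nat.card_eq_fintype_card,
      Fintype.card_subtype]
  rw [← h2]
  unfold classInner permWeight
  rw [← Finset.mul_sum, Finset.sum_comm]
  congr 1
  refine Finset.sum_congr rfl ?_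
  intro g _
  exact sum_irr_mul_conj (β g) g

open Classical in
/-- Counting the conjugacy classes fixed by a map induced by `β`. -/
theorem card_fixed_conjClasses_general (β : G → G) (f : ConjClasses G → ConjClasses G)
    (hf : ∀ g, f (ConjClasses.mk g) = ConjClasses.mk (β g)) :
    (Nat.card {C : ConjClasses G // f C = C} : ℂ) = permWeight β := by
  haveI : Fintype (ConjClasses G) := Fintype.ofFinite _
  unfold permWeight
  rw [← Finset.sum_fiberwise Finset.univ (ConjClasses.mk : G → ConjClasses G)]
  have hinner : ∀ C : ConjClasses G,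
      ∑ g ∈ Finset.univ.filter (fun g : G => ConjClasses.mk g = C),
        (if IsConj (β g) g then (Nat.card (Subgroup.centralizer ({β g} : Set G)) : ℂ) else 0) =
      if f C = C then (Nat.card G : ℂ) else 0 := by
    intro C
    obtain ⟨g₀, rfl⟩ := ConjClasses.mk_surjective C
    have hmem : ∀ g : G, ConjClasses.mk g = ConjClasses.mk g₀ ↔ IsConj g₀ g := by
      intro g
      rw [ConjClasses.mk_eq_mk_iff_isConj]
      exact ⟨fun h => h.symm, fun h => h.symm⟩
    by_cases hfix : f (ConjClasses.mk g₀) = ConjClasses.mk g₀
    · rw [if_pos hfix]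
      have hterm : ∀ g ∈ Finset.univ.filter (fun g : G => ConjClasses.mk g = ConjClasses.mk g₀),
          (if IsConj (β g) g then (Nat.card (Subgroup.centralizer ({β g} : Set G)) : ℂ) else 0) =
          (Nat.card (Subgroup.centralizer ({g₀} : Set G)) : ℂ) := by
        intro g hg
        have hg' := (Finset.mem_filter.mp hg).2
        have hconj : IsConj (β g) g := by
          rw [← ConjClasses.mk_eq_mk_iff_isConj, ← hf, hg', hfix]
        rw [if_pos hconj]
        congr 1
        exact card_centralizer_eq_of_isConj (hconj.trans ((hmem g).mp hg').symm)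
      rw [Finset.sum_congr rfl hterm, Finset.sum_const, nsmul_eq_mul]
      have hcard : (Finset.univ.filter (fun g : G => ConjClasses.mk g = ConjClasses.mk g₀)).card =
          Nat.card {x : G // IsConj g₀ x} := by
        rw [Nat.card_eq_fintype_card, Fintype.card_subtype]
        congr 1
        ext g
        simp only [Finset.mem_filter, Finset.mem_univ, true_and]
        exact hmem g
      rw [hcard, ← Nat.cast_mul, card_conj_mul_card_centralizer]
    · rw [if_neg hfix]
      refine Finset.sum_eq_zero ?_
      intro g hg
      have hg' := (Finset.mem_filter.mp hg).2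
      rw [if_neg]
      intro hconj
      apply hfix
      rw [← hg', hf, ConjClasses.mk_eq_mk_iff_isConj]
      exact hconj
  rw [Finset.sum_congr rfl (fun C _ => hinner C), Finset.sum_ite, Finset.sum_const_zero, add_zero,
    Finset.sum_const, nsmul_eq_mul, ← mul_assoc, mul_comm _ ((Finset.univ.filter _).card : ℂ),
    mul_assoc, inv_mul_cancel₀ card_ne_zero_complex, mul_one, Nat.card_eq_fintype_card,
    Fintype.card_subtype]

end General

section Statements

variable {G : Type u} [Group G] [Finite G]

/-- Brauer's permutation lemma for a single automorphism. -/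
theorem card_fixed_conjClasses_eq_card_fixed_irr (α : G ≃* G) :
    Nat.card {C : ConjClasses G // ConjClasses.map α.toMonoidHom C = C} =
      Nat.card {χ : IrrCharacter G // (χ : G → ℂ) ∘ α = (χ : G → ℂ)} := by
  haveI : Fintype G := Fintype.ofFinite G
  have h1 := card_fixed_conjClasses_general (fun g => α g) (ConjClasses.map α.toMonoidHom)
    (fun g => rfl)
  have h2 := card_fixed_irr_general (fun g => α g) (fun χ =>
    Cfsg.Agent.Helper8.isIrrCharacter_comp_surjective α.toMonoidHom α.surjective χ.2)
  have h3 : (Nat.card {C : ConjClasses G // ConjClasses.map α.toMonoidHom C = C} : ℂ) =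
      (Nat.card {χ : IrrCharacter G // (χ : G → ℂ) ∘ α = (χ : G → ℂ)} : ℂ) := by
    rw [h1, ← h2]
    rfl
  exact_mod_cast h3

/-- The map on conjugacy classes induced by inversion. -/
noncomputable def conjClassesInv (C : ConjClasses G) : ConjClasses G :=
  ConjClasses.mk (Quotient.out C)⁻¹

omit [Finite G] in
theorem conjClassesInv_mk (g : G) : conjClassesInv (ConjClasses.mk g) = ConjClasses.mk g⁻¹ := by
  unfold conjClassesInv
  rw [ConjClasses.mk_eq_mk_iff_isConj]
  have h : IsConj (Quotient.out (ConjClasses.mk g)) g := by
    rw [← ConjClasses.mk_eq_mk_iff_isConj]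
    exact Quotient.out_eq _
  generalize Quotient.out (ConjClasses.mk g) = x at h ⊢
  obtain ⟨c, hc⟩ := isConj_iff.mp h
  rw [isConj_iff]
  refine ⟨c, ?_⟩
  rw [← hc]
  group

/-- The number of real-valued irreducible characters equals the number of real classes. -/
theorem card_real_irr_eq_card_real_conjClasses :
    Nat.card {χ : IrrCharacter G // ∀ g : G, ((χ : G → ℂ) g).im = 0} =
      Nat.card {C : ConjClasses G // ∀ g : G, ConjClasses.mk g = C → IsConj g g⁻¹} := by
  haveI : Fintype G := Fintype.ofFinite G
  have h1 := card_fixed_conjClasses_general (fun g : G => g⁻¹) conjClassesInv conjClassesInv_mk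
  have h2 := card_fixed_irr_general (fun g : G => g⁻¹) (fun χ => by
    have : (fun g => (χ : G → ℂ) g⁻¹) = fun g => (starRingEnd ℂ) ((χ : G → ℂ) g) := by
      funext g; exact irr_inv χ g
    rw [this]
    exact isIrrCharacter_star χ.2)
  have e1 : Nat.card {χ : IrrCharacter G // ∀ g : G, ((χ : G → ℂ) g).im = 0} =
      Nat.card {χ : IrrCharacter G // (fun g => (χ : G → ℂ) g⁻¹) = (χ : G → ℂ)} := by
    refine Nat.card_congr (Equiv.subtypeEquivRight ?_)
    intro χ
    constructor
    · intro h
      funext g
      rw [irr_inv]
      exact Complex.conj_eq_iff_im.mpr (h g)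
    · intro h g
      have := congrFun h g
      rw [irr_inv] at this
      exact Complex.conj_eq_iff_im.mp this
  have e2 : Nat.card {C : ConjClasses G // ∀ g : G, ConjClasses.mk g = C → IsConj g g⁻¹} =
      Nat.card {C : ConjClasses G // conjClassesInv C = C} := by
    refine Nat.card_congr (Equiv.subtypeEquivRight ?_)
    intro C
    constructor
    · intro h
      obtain ⟨g, rfl⟩ := ConjClasses.mk_surjective C
      rw [conjClassesInv_mk, ConjClasses.mk_eq_mk_iff_isConj]
      exact (h g rfl).symm
    · intro h g hg
      rw [← hg, conjClassesInv_mk, ConjClasses.mk_eq_mk_iff_isConj] at h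
      exact h.symm
  rw [e1, e2]
  have h3 : (Nat.card {χ : IrrCharacter G // (fun g => (χ : G → ℂ) g⁻¹) = (χ : G → ℂ)} : ℂ) =
      (Nat.card {C : ConjClasses G // conjClassesInv C = C} : ℂ) := by
    rw [h1, ← h2]
  exact_mod_cast h3

end Statements

end Cfsg.Agent.Helper24
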