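import Mathlib
import Cfsg.Prelude.Def_Characters
import Cfsg.Agent.Helper24.Abelian
import Cfsg.Agent.Helper8.CharComp

/-!
Products of characters, and the irreducible characters of a direct product.
-/

namespace Cfsg.Agent.Helper24

open Representation Module

universe u v

section Mul

variable {G : Type u} [Group G]

/-- The pointwise product of two characters is a character. -/
theorem IsCharacter.mul {χ ψ : G → ℂ} (hχ : IsCharacter G χ) (hψ : IsCharacter G ψ) :
    IsCharacter G (χ * ψ) := by
  obtain ⟨n, ρ, rfl⟩ := hχ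
  obtain ⟨m, σ, rfl⟩ := hψ
  have : ρ.character * σ.character = (Representation.tprod ρ σ).character := by
    funext g
    unfold Representation.character
    rw [Representation.tprod_apply, LinearMap.trace_tensorProduct']
    rfl
  rw [this]
  exact isCharacter_character _

theorem IsCharacter.pow {χ : G → ℂ} (hχ : IsCharacter G χ) (k : ℕ) :
    IsCharacter G (χ ^ k) := by
  induction k with
  | zero =>
    rw [pow_zero]
    exact isCharacter_const_one
  | succ k ih =>
    rw [pow_succ]
    exact IsCharacter.mul ih hχ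

end Mul

section Prod

variable {G : Type u} [Group G] {H : Type v} [Group H]

/-- The outer product of characters of `G` and `H` is a character of `G × H`. -/
theorem isCharacter_prod {φ : G → ℂ} {ψ : H → ℂ} (hφ : IsCharacter G φ) (hψ : IsCharacter H ψ) :
    IsCharacter (G × H) (fun x => φ x.1 * ψ x.2) := by
  have h1 := Cfsg.Agent.Helper8.isCharacter_comp (MonoidHom.fst G H) hφ
  have h2 := Cfsg.Agent.Helper8.isCharacter_comp (MonoidHom.snd G H) hψ
  exact IsCharacter.mul h1 h2

theorem classInner_prod [Fintype G] [Fintype H] (φ φ' : G → ℂ) (ψ ψ' : H → ℂ) :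
    classInner (fun x : G × H => φ x.1 * ψ x.2) (fun x : G × H => φ' x.1 * ψ' x.2) =
      classInner φ φ' * classInner ψ ψ' := by
  unfold classInner
  rw [Nat.card_prod, Fintype.sum_prod_type]
  have : ∀ g : G, ∀ h : H, φ g * ψ h * (starRingEnd ℂ) (φ' g * ψ' h) =
      (φ g * (starRingEnd ℂ) (φ' g)) * (ψ h * (starRingEnd ℂ) (ψ' h)) := by
    intro g h
    rw [map_mul]
    ring
  simp_rw [this]
  simp_rw [← Finset.mul_sum]
  rw [← Finset.sum_mul]
  push_cast
  rw [mul_inv]
  ring

variable [Finite G] [Finite H]

/-- The outer product of irreducible characters is irreducible. -/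
theorem isIrrCharacter_prod {φ : G → ℂ} {ψ : H → ℂ} (hφ : IsIrrCharacter G φ)
    (hψ : IsIrrCharacter H ψ) : IsIrrCharacter (G × H) (fun x => φ x.1 * ψ x.2) := by
  haveI : Fintype G := Fintype.ofFinite G
  haveI : Fintype H := Fintype.ofFinite H
  haveI : Fintype (IrrCharacter (G × H)) := Fintype.ofFinite _
  refine IsCharacter.isIrrCharacter_of_classInner_self
    (isCharacter_prod (IsIrrCharacter.isCharacter hφ) (IsIrrCharacter.isCharacter hψ)) ?_
  rw [classInner_prod, classInner_irr_self ⟨φ, hφ⟩, classInner_irr_self ⟨ψ, hψ⟩, mul_one]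

/-- The outer product as a map on irreducible characters. -/
noncomputable def irrProd (p : IrrCharacter G × IrrCharacter H) : IrrCharacter (G × H) :=
  ⟨fun x => (p.1 : G → ℂ) x.1 * (p.2 : H → ℂ) x.2, isIrrCharacter_prod p.1.2 p.2.2⟩

theorem irrProd_injective : Function.Injective (irrProd (G := G) (H := H)) := by
  classical
  haveI : Fintype G := Fintype.ofFinite G
  haveI : Fintype H := Fintype.ofFinite H
  intro p q hpq
  have h1 : classInner ((irrProd p : IrrCharacter (G × H)) : G × H → ℂ)
      ((irrProd q : IrrCharacter (G × H)) : G × H → ℂ) = 1 := by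
    rw [hpq]; exact classInner_irr_self _
  unfold irrProd at h1
  simp only at h1
  rw [classInner_prod, classInner_irr, classInner_irr] at h1
  by_cases ha : p.1 = q.1
  · by_cases hb : p.2 = q.2
    · exact Prod.ext ha hb
    · rw [if_neg hb, mul_zero] at h1
      exact absurd h1 zero_ne_one
  · rw [if_neg ha, zero_mul] at h1
    exact absurd h1 zero_ne_one

theorem irrDeg_irrProd (p : IrrCharacter G × IrrCharacter H) :
    irrDeg (irrProd p) = irrDeg p.1 * irrDeg p.2 := by
  have h := irrDeg_spec (irrProd p)
  unfold irrProd at h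
  simp only [Prod.fst_one, Prod.snd_one] at h
  rw [irrDeg_spec p.1, irrDeg_spec p.2] at h
  exact_mod_cast h.symm

theorem irrProd_surjective : Function.Surjective (irrProd (G := G) (H := H)) := by
  classical
  haveI : Fintype G := Fintype.ofFinite G
  haveI : Fintype H := Fintype.ofFinite H
  haveI : Fintype (IrrCharacter G) := Fintype.ofFinite _
  haveI : Fintype (IrrCharacter H) := Fintype.ofFinite _
  haveI : Fintype (IrrCharacter (G × H)) := Fintype.ofFinite _
  intro θ
  by_contra hθ
  have hθ' : θ ∉ Finset.univ.image (irrProd (G := G) (H := H)) := by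
    intro h
    obtain ⟨p, _, hp⟩ := Finset.mem_image.mp h
    exact hθ ⟨p, hp⟩
  have h1 : ∑ χ ∈ Finset.univ.image (irrProd (G := G) (H := H)), irrDeg χ ^ 2 =
      Nat.card (G × H) := by
    rw [Finset.sum_image (fun a _ b _ h => irrProd_injective h)]
    simp_rw [irrDeg_irrProd, mul_pow]
    rw [Fintype.sum_prod_type]
    simp_rw [← Finset.mul_sum]
    rw [← Finset.sum_mul, sum_irrDeg_sq, sum_irrDeg_sq, Nat.card_prod]
  have h2 := sum_irrDeg_sq (G := G × H)
  have h3 : ∑ χ ∈ insert θ (Finset.univ.image (irrProd (G := G) (H := H))), irrDeg χ ^ 2 ≤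
      ∑ χ : IrrCharacter (G × H), irrDeg χ ^ 2 :=
    Finset.sum_le_sum_of_subset (Finset.subset_univ _)
  rw [Finset.sum_insert hθ', h1, h2] at h3
  have := irrDeg_pos θ
  have : 0 < irrDeg θ ^ 2 := by positivity
  omega

/-- The irreducible characters of `G × H` are exactly the outer products of irreducible
characters. -/
theorem isIrrCharacter_prod_iff (θ : G × H → ℂ) :
    IsIrrCharacter (G × H) θ ↔ ∃ (φ : G → ℂ) (ψ : H → ℂ), IsIrrCharacter G φ ∧
      IsIrrCharacter H ψ ∧ θ = fun x => φ x.1 * ψ x.2 := by
  constructor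
  · intro h
    obtain ⟨p, hp⟩ := irrProd_surjective ⟨θ, h⟩
    refine ⟨p.1, p.2, p.1.2, p.2.2, ?_⟩
    have := congrArg Subtype.val hp
    exact this.symm
  · rintro ⟨φ, ψ, hφ, hψ, rfl⟩
    exact isIrrCharacter_prod hφ hψ

end Prod

end Cfsg.Agent.Helper24
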