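import Mathlib
import Cfsg.Prelude.Def_Characters
import Cfsg.Agent.Helper24.Generalized
import Cfsg.Agent.Helper24.Product
import Cfsg.Agent.Helper24.Abelian
import Cfsg.Agent.Helper24.Induced
import Cfsg.Agent.Helper5.LinChar
import Cfsg.Agent.Helper8.Ind

/-!
Artin's induction theorem.
-/

namespace Cfsg.Agent.Helper24

open Representation Module

universe u

section Artin

open Classical in
/-- `|H|` on the generators of `H`, zero elsewhere. -/
noncomputable def genFun (H : Type u) [Group H] : H → ℂ :=
  fun x => if Subgroup.zpowers x = ⊤ then (Nat.card H : ℂ) else 0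

theorem zpowers_mk_eq_top_iff {G : Type u} [Group G] (C : Subgroup G) (y : G) (hy : y ∈ C) :
    Subgroup.zpowers (⟨y, hy⟩ : C) = ⊤ ↔ Subgroup.zpowers y = C := by
  have h1 : (Subgroup.zpowers (⟨y, hy⟩ : C)).map C.subtype = Subgroup.zpowers y := by
    rw [MonoidHom.map_zpowers]
    rfl
  have h2 : (⊤ : Subgroup C).map C.subtype = C := by
    rw [← MonoidHom.range_eq_map, Subgroup.range_subtype]
  constructor
  · intro h
    rw [← h1, h, h2]
  · intro h
    apply Subgroup.map_injective C.subtype_injective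
    rw [h1, h2, h]

open Classical in
theorem ebz_genFun {G : Type u} [Group G] [Finite G] (C : Subgroup G) (y : G) :
    extendByZero C (genFun C) y = if Subgroup.zpowers y = C then (Nat.card C : ℂ) else 0 := by
  by_cases hy : y ∈ C
  · rw [Helper8.ebz_mem C _ hy]
    unfold genFun
    by_cases h : Subgroup.zpowers y = C
    · rw [if_pos h, if_pos ((zpowers_mk_eq_top_iff C y hy).mpr h)]
    · rw [if_neg h, if_neg (fun h' => h ((zpowers_mk_eq_top_iff C y hy).mp h'))]
  · rw [Helper8.ebz_not_mem C _ hy, if_neg]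
    intro h
    apply hy
    rw [← h]
    exact Subgroup.mem_zpowers y

open Classical in
theorem indFun_genFun {G : Type u} [Group G] [Fintype G] (C : Subgroup G) (g : G) :
    indFun C (genFun C) g =
      ∑ x : G, if Subgroup.zpowers (x⁻¹ * g * x) = C then (1 : ℂ) else 0 := by
  unfold indFun
  simp_rw [ebz_genFun]
  rw [Finset.mul_sum]
  refine Finset.sum_congr rfl ?_
  intro x _
  have hC : (Nat.card C : ℂ) ≠ 0 := by
    have := Nat.card_pos (α := C)
    exact_mod_cast this.ne'
  split_ifs
  · exact inv_mul_cancel₀ hC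
  · rw [mul_zero]

/-- `∑_C Ind_C^G (gen_C) = |G|`. -/
theorem sum_indFun_genFun {G : Type u} [Group G] [Fintype G] [Fintype (Subgroup G)] (g : G) :
    ∑ C : Subgroup G, indFun C (genFun C) g = (Nat.card G : ℂ) := by
  classical
  simp_rw [indFun_genFun]
  rw [Finset.sum_comm]
  simp_rw [Finset.sum_ite_eq, Finset.mem_univ, if_true]
  rw [Finset.sum_const, Finset.card_univ, nsmul_eq_mul, mul_one, Nat.card_eq_fintype_card]

theorem zpowers_conj_eq_top_iff {G : Type u} [Group G] (g x : G) :
    Subgroup.zpowers (x⁻¹ * g * x) = ⊤ ↔ Subgroup.zpowers g = ⊤ := by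
  have key : ∀ a b : G, Subgroup.zpowers a = ⊤ → Subgroup.zpowers (b * a * b⁻¹) = ⊤ := by
    intro a b h
    rw [eq_top_iff]
    intro z _
    have : b⁻¹ * z * b ∈ Subgroup.zpowers a := by rw [h]; exact Subgroup.mem_top _
    obtain ⟨k, hk⟩ := this
    refine ⟨k, ?_⟩
    show (b * a * b⁻¹) ^ k = z
    rw [conj_zpow]
    have hk' : a ^ k = b⁻¹ * z * b := hk
    rw [hk']
    group
  constructor
  · intro h
    have := key _ x h
    have e : x * (x⁻¹ * g * x) * x⁻¹ = g := by group
    rwa [e] at this
  · intro h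
    have := key g x⁻¹ h
    rwa [inv_inv] at this

theorem indFun_top_genFun {G : Type u} [Group G] [Fintype G] (g : G) :
    indFun (⊤ : Subgroup G) (genFun (⊤ : Subgroup G)) g = genFun G g := by
  classical
  rw [indFun_genFun]
  simp_rw [zpowers_conj_eq_top_iff]
  unfold genFun
  by_cases h : Subgroup.zpowers g = ⊤
  · simp only [if_pos h]
    rw [Finset.sum_const, Finset.card_univ, nsmul_eq_mul, mul_one, Nat.card_eq_fintype_card]
  · simp only [if_neg h]
    rw [Finset.sum_const_zero]

/-- The generator indicator is a generalized character. -/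
theorem isGeneralizedCharacter_genFun_aux : ∀ (n : ℕ) (H : Type u) [Group H] [Fintype H],
    Nat.card H = n → IsGeneralizedCharacter H (genFun H) := by
  intro n
  induction n using Nat.strong_induction_on with
  | _ n ih =>
  intro H _ _ hn
  classical
  haveI : Fintype (Subgroup H) := Fintype.ofFinite _
  have h1 : genFun H = (Nat.card H : ℂ) • (fun _ : H => (1 : ℂ)) -
      ∑ C ∈ (Finset.univ : Finset (Subgroup H)).erase ⊤, indFun C (genFun C) := by
    funext g
    have h2 := sum_indFun_genFun g
    rw [← Finset.add_sum_erase _ _ (Finset.mem_univ (⊤ : Subgroup H)), indFun_top_genFun] at h2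
    rw [Pi.sub_apply, Finset.sum_apply, Pi.smul_apply, smul_eq_mul, mul_one, ← h2]
    ring
  rw [h1]
  refine IsGeneralizedCharacter.sub ?_ ?_
  · exact IsGeneralizedCharacter.nsmul
      (IsCharacter.isGeneralizedCharacter (isCharacter_const_one (G := H))) _
  · refine isGeneralizedCharacter_sum _ _ ?_
    intro C hC
    have hCne : C ≠ ⊤ := Finset.ne_of_mem_erase hC
    haveI : Fintype C := Fintype.ofFinite C
    have hlt : Nat.card C < n := by
      rw [← hn]
      refine lt_of_le_of_ne (Subgroup.card_le_card_group _) ?_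
      intro h
      exact hCne (Subgroup.card_eq_iff_eq_top _ |>.mp h)
    exact IsGeneralizedCharacter.indFun C (ih _ hlt C rfl)

theorem isGeneralizedCharacter_genFun (H : Type u) [Group H] [Finite H] :
    IsGeneralizedCharacter H (genFun H) := by
  haveI : Fintype H := Fintype.ofFinite H
  exact isGeneralizedCharacter_genFun_aux _ H rfl

/-- The projection formula `Ind (θ · Res χ) = Ind θ · χ`. -/
theorem indFun_mul_restrict {G : Type u} [Group G] [Fintype G] (C : Subgroup G) (θ : C → ℂ)
    (χ : G → ℂ) (hχ : IsClassFunction G χ) :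
    indFun C (θ * fun c : C => χ c) = indFun C θ * χ := by
  funext g
  rw [Pi.mul_apply]
  unfold indFun
  rw [mul_assoc, Finset.sum_mul]
  congr 1
  refine Finset.sum_congr rfl ?_
  intro x _
  have hx : χ (x⁻¹ * g * x) = χ g := by
    have := hχ g x⁻¹
    simpa using this
  by_cases hy : x⁻¹ * g * x ∈ C
  · rw [Helper8.ebz_mem C _ hy, Helper8.ebz_mem C _ hy, Pi.mul_apply]
    show θ _ * χ (x⁻¹ * g * x) = _
    rw [hx]
  · rw [Helper8.ebz_not_mem C _ hy, Helper8.ebz_not_mem C _ hy, zero_mul]

theorem IsGeneralizedCharacter.mul {G : Type u} [Group G] {θ φ : G → ℂ}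
    (h1 : IsGeneralizedCharacter G θ) (h2 : IsGeneralizedCharacter G φ) :
    IsGeneralizedCharacter G (θ * φ) := by
  obtain ⟨a, b, ha, hb, rfl⟩ := h1
  obtain ⟨c, d, hc, hd, rfl⟩ := h2
  refine ⟨a * c + b * d, a * d + b * c,
    IsCharacter.add (IsCharacter.mul ha hc) (IsCharacter.mul hb hd),
    IsCharacter.add (IsCharacter.mul ha hd) (IsCharacter.mul hb hc), ?_⟩
  ring

/-- An irreducible character of an abelian group, as a homomorphism to `ℂˣ`. -/
noncomputable def homOfIrr {C : Type u} [Group C] [Finite C] (hC : ∀ a b : C, a * b = b * a)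
    (μ : IrrCharacter C) : C →* ℂˣ :=
  (Helper5.linCharHom (IsIrrCharacter.isCharacter μ.2)
    ((comm_iff_forall_irr_one.mp hC) μ)).toHomUnits

theorem homOfIrr_apply {C : Type u} [Group C] [Finite C] (hC : ∀ a b : C, a * b = b * a)
    (μ : IrrCharacter C) (c : C) : ((homOfIrr hC μ c : ℂˣ) : ℂ) = (μ : C → ℂ) c := rfl

/-- **Artin's induction theorem.** -/
theorem artin {G : Type u} [Group G] [Fintype G] (χ : G → ℂ) (hχ : IsCharacter G χ) :
    ∃ l : List ((A : Subgroup G) × ((A →* ℂˣ) × ℤ)), (∀ t ∈ l, IsCyclic t.1) ∧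
      (Nat.card G : ℂ) • χ =
        (l.map fun t => (t.2.2 : ℂ) • indFun t.1 (fun a => (t.2.1 a : ℂ))).sum := by
  classical
  haveI : Fintype (Subgroup G) := Fintype.ofFinite _
  haveI : Fintype {C : Subgroup G // IsCyclic C} := Fintype.ofFinite _
  haveI : ∀ C : Subgroup G, Fintype (IrrCharacter C) := fun C => Fintype.ofFinite _
  have hχcf := IsCharacter.isClassFunction hχ
  have h1 : (Nat.card G : ℂ) • χ =
      ∑ C : Subgroup G, indFun C (genFun C * fun c : C => χ c) := by
    funext g
    rw [Pi.smul_apply, smul_eq_mul, Finset.sum_apply, ← sum_indFun_genFun g, Finset.sum_mul]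
    refine Finset.sum_congr rfl ?_
    intro C _
    rw [indFun_mul_restrict C _ χ hχcf]
    rfl
  have h2 : ∀ C : {C : Subgroup G // IsCyclic C}, ∃ k : IrrCharacter C.1 → ℤ,
      genFun C.1 * (fun c : C.1 => χ c) =
        ∑ μ : IrrCharacter C.1, (k μ : ℂ) • (μ : C.1 → ℂ) := by
    intro C
    haveI : Fintype C.1 := Fintype.ofFinite _
    exact IsGeneralizedCharacter.exists_int_coeff
      (IsGeneralizedCharacter.mul (isGeneralizedCharacter_genFun C.1)
        (IsCharacter.isGeneralizedCharacter (Helper8.isCharacter_restrict C.1 hχ)))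
  choose k hk using h2
  have h3 : ∀ C : Subgroup G, ¬ IsCyclic C → genFun C = 0 := by
    intro C hC
    funext x
    unfold genFun
    rw [if_neg]
    · rfl
    · intro h
      refine hC ⟨⟨x, fun y => ?_⟩⟩
      have : y ∈ Subgroup.zpowers x := by rw [h]; trivial
      exact this
  have hcomm : ∀ C : {C : Subgroup G // IsCyclic C}, ∀ a b : C.1, a * b = b * a := by
    intro C a b
    haveI := C.2
    exact mul_comm' a b
  let e : (Σ C : {C : Subgroup G // IsCyclic C}, IrrCharacter C.1) →
      ((A : Subgroup G) × ((A →* ℂˣ) × ℤ)) :=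
    fun t => ⟨t.1.1, (homOfIrr (hcomm t.1) t.2, k t.1 t.2)⟩
  refine ⟨(Finset.univ : Finset (Σ C : {C : Subgroup G // IsCyclic C},
    IrrCharacter C.1)).toList.map e, ?_, ?_⟩
  · intro t ht
    obtain ⟨s, _, rfl⟩ := List.mem_map.mp ht
    exact s.1.2
  · rw [List.map_map, Finset.sum_map_toList, Fintype.sum_sigma, h1]
    have h4 : ∑ C : Subgroup G, indFun C (genFun C * fun c : C => χ c) =
        ∑ C : {C : Subgroup G // IsCyclic C}, indFun C.1 (genFun C.1 * fun c : C.1 => χ c) := by
      rw [← Finset.sum_subtype (Finset.univ.filter (fun C : Subgroup G => IsCyclic C))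
        (by intro x; simp) (fun C => indFun C (genFun C * fun c : C => χ c))]
      rw [Finset.sum_filter_of_ne]
      intro C _ hne
      by_contra hC
      apply hne
      rw [h3 C hC, zero_mul, Helper8.indFun_zero]
    rw [h4]
    refine Finset.sum_congr rfl ?_
    intro C _
    rw [hk C, Helper8.indFun_sum]
    refine Finset.sum_congr rfl ?_
    intro μ _
    rw [Helper8.indFun_smul]
    rfl

end Artin

end Cfsg.Agent.Helper24
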