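import Mathlib
import Cfsg.Prelude.Def_Characters
import Cfsg.Agent.Helper24.Expansion
import Cfsg.Agent.Helper24.Induced
import Cfsg.Agent.Helper24.Regular
import Cfsg.Agent.Helper24.Artin
import Cfsg.Agent.Helper24.Product
import Cfsg.Agent.Helper24.GagolaCentral
import Cfsg.Agent.Helper8.Ind
import Cfsg.Agent.Helper8.CliffordAb

/-!
Gallagher's theorem: if `χ ∈ Irr(G)` restricts irreducibly to the normal subgroup `N`, then the
characters `β χ` for `β ∈ Irr(G/N)` are irreducible, distinct, and are all the irreducible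
characters of `G` lying over `χ_N`.
-/

namespace Cfsg.Agent.Helper24

universe u

section Gallagher

variable {G : Type u} [Group G] [Fintype G] (N : Subgroup G) [hN : N.Normal]

/-- The permutation character on the cosets of a normal subgroup. -/
theorem indFun_one_normal_apply [DecidablePred (· ∈ N)] (g : G) :
    indFun N (fun _ : N => (1 : ℂ)) g = if g ∈ N then (N.index : ℂ) else 0 := by
  rw [Helper8.indFun_def]
  have hNc : (Nat.card N : ℂ) ≠ 0 := by exact_mod_cast Nat.card_pos.ne'
  split_ifs with hg
  · have h1 : ∀ x : G, extendByZero N (fun _ : N => (1 : ℂ)) (x⁻¹ * g * x) = 1 := by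
      intro x
      have : x⁻¹ * g * x ∈ N := by
        have := hN.conj_mem g hg x⁻¹
        simpa using this
      rw [Helper8.ebz_mem N _ this]
    simp_rw [h1]
    rw [Finset.sum_const, Finset.card_univ, nsmul_eq_mul, mul_one, ← Nat.card_eq_fintype_card,
      ← Subgroup.index_mul_card N]
    push_cast
    field_simp
  · have h1 : ∀ x : G, extendByZero N (fun _ : N => (1 : ℂ)) (x⁻¹ * g * x) = 0 := by
      intro x
      apply Helper8.ebz_not_mem
      intro h
      apply hg
      have := hN.conj_mem _ h x
      simpa [mul_assoc] using this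
    simp_rw [h1]
    rw [Finset.sum_const_zero, mul_zero]

/-- The permutation character on the cosets of `N` is the inflated regular character. -/
theorem indFun_one_eq_sum_inflate [Fintype (IrrCharacter (G ⧸ N))] :
    indFun N (fun _ : N => (1 : ℂ)) =
      ∑ β : IrrCharacter (G ⧸ N), (β : G ⧸ N → ℂ) 1 • ((irrInflate N β : IrrCharacter G) : G → ℂ) := by
  classical
  haveI : Fintype (G ⧸ N) := Fintype.ofFinite _
  funext g
  rw [indFun_one_normal_apply]
  have h := congrFun (leftRegular_character_eq_sum (G := G ⧸ N)) (g : G ⧸ N)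
  rw [leftRegular_character] at h
  simp only [Finset.sum_apply, Pi.smul_apply] at h ⊢
  rw [show (∑ β : IrrCharacter (G ⧸ N),
      (β : G ⧸ N → ℂ) 1 • ((irrInflate N β : IrrCharacter G) : G → ℂ) g) =
      ∑ β : IrrCharacter (G ⧸ N), (β : G ⧸ N → ℂ) 1 • (β : G ⧸ N → ℂ) (g : G ⧸ N) from rfl, ← h]
  by_cases hg : g ∈ N
  · rw [if_pos hg, if_pos ((QuotientGroup.eq_one_iff g).mpr hg), Subgroup.index_eq_card]
  · rw [if_neg hg, if_neg (fun h' => hg ((QuotientGroup.eq_one_iff g).mp h'))]

variable [Fintype N] (χ : IrrCharacter G) (hχN : IsIrrCharacter N (fun n : N => (χ : G → ℂ) n))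

/-- The twist of `χ` by an inflated character. -/
noncomputable def gallagherTwist (β : IrrCharacter (G ⧸ N)) : G → ℂ :=
  fun g => (β : G ⧸ N → ℂ) (g : G ⧸ N) * (χ : G → ℂ) g

omit [Fintype G] [Fintype N] in
theorem isCharacter_gallagherTwist (β : IrrCharacter (G ⧸ N)) :
    IsCharacter G (gallagherTwist N χ β) :=
  IsCharacter.mul (IsIrrCharacter.isCharacter (irrInflate N β).2)
    (IsIrrCharacter.isCharacter χ.2)

include hχN

omit [Fintype N] hχN in
/-- `(χ_N)^G = Σ β(1) β χ`. -/
theorem indFun_restrict_eq_sum_twist [Fintype (IrrCharacter (G ⧸ N))] :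
    indFun N (fun n : N => (χ : G → ℂ) n) =
      ∑ β : IrrCharacter (G ⧸ N), (β : G ⧸ N → ℂ) 1 • gallagherTwist N χ β := by
  have h := indFun_mul_restrict N (fun _ : N => (1 : ℂ)) (χ : G → ℂ) (isClassFunction_irr χ)
  have h1 : ((fun _ : N => (1 : ℂ)) * fun c : N => (χ : G → ℂ) c) =
      fun n : N => (χ : G → ℂ) n := by
    funext n
    simp
  rw [h1, indFun_one_eq_sum_inflate, Finset.sum_mul] at h
  rw [h]
  refine Finset.sum_congr rfl ?_
  intro β _
  funext g
  simp only [Pi.mul_apply, Pi.smul_apply, smul_eq_mul, gallagherTwist]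
  rw [mul_assoc]
  rfl

/-- The norm of `(χ_N)^G` is the index. -/
theorem classInner_indFun_restrict_self :
    classInner (indFun N (fun n : N => (χ : G → ℂ) n)) (indFun N (fun n : N => (χ : G → ℂ) n)) =
      (N.index : ℂ) := by
  haveI : Fintype (IrrCharacter N) := Fintype.ofFinite _
  have hcf : IsClassFunction G (indFun N (fun n : N => (χ : G → ℂ) n)) :=
    IsCharacter.isClassFunction (isCharacter_indFun N (IsIrrCharacter.isCharacter hχN))
  rw [Helper8.frobenius_reciprocity N _ _ hcf]
  have hinv : ∀ (g : G) (h : N), (fun n : N => (χ : G → ℂ) n) ⟨g * h * g⁻¹, hN.conj_mem h h.2 g⟩ =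
      (fun n : N => (χ : G → ℂ) n) h := fun g h => isClassFunction_irr χ h g
  have h1 : (fun h : N => indFun N (fun n : N => (χ : G → ℂ) n) (h : G)) =
      (N.index : ℂ) • (fun n : N => (χ : G → ℂ) n) := by
    funext h
    rw [Helper8.indFun_invariant_apply N _ hinv h]
    rfl
  rw [h1, classInner_smul_right, (isIrrCharacter_iff_classInner_self.mp hχN).2,
    Complex.conj_natCast, mul_one]

/-- Gallagher: orthonormality of the twists `β χ`. -/
theorem classInner_gallagherTwist [DecidableEq (IrrCharacter (G ⧸ N))]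
    (β β' : IrrCharacter (G ⧸ N)) :
    classInner (gallagherTwist N χ β) (gallagherTwist N χ β') = if β = β' then 1 else 0 := by
  haveI : Finite G := Finite.of_fintype G
  haveI : Fintype (IrrCharacter (G ⧸ N)) := Fintype.ofFinite _
  haveI : Fintype (IrrCharacter G) := Fintype.ofFinite _
  haveI : Fintype (G ⧸ N) := Fintype.ofFinite _
  -- Gram matrix of natural numbers
  have ha : ∀ β β' : IrrCharacter (G ⧸ N), ∃ a : ℕ,
      classInner (gallagherTwist N χ β) (gallagherTwist N χ β') = a := fun β β' =>
    IsCharacter.classInner_nat (isCharacter_gallagherTwist N χ β)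
      (isCharacter_gallagherTwist N χ β')
  choose a ha using ha
  have haa : ∀ β : IrrCharacter (G ⧸ N), 1 ≤ a β β := by
    intro β
    rw [Nat.one_le_iff_ne_zero]
    intro h0
    have h1 := ha β β
    rw [h0, Nat.cast_zero] at h1
    have h2 := congrFun (Helper8.eq_zero_of_classInner_self_eq_zero h1) 1
    simp only [gallagherTwist, Pi.zero_apply, QuotientGroup.mk_one] at h2
    rcases mul_eq_zero.mp h2 with h3 | h3
    · exact irr_one_ne_zero β h3
    · exact irr_one_ne_zero χ h3
  -- the norm identity
  have hnorm := classInner_indFun_restrict_self N χ hχN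
  rw [indFun_restrict_eq_sum_twist N χ, classInner_sum_left] at hnorm
  have h1 : ∀ β : IrrCharacter (G ⧸ N),
      classInner ((β : G ⧸ N → ℂ) 1 • gallagherTwist N χ β)
        (∑ β' : IrrCharacter (G ⧸ N), (β' : G ⧸ N → ℂ) 1 • gallagherTwist N χ β') =
      ((∑ β' : IrrCharacter (G ⧸ N), irrDeg β * irrDeg β' * a β β' : ℕ) : ℂ) := by
    intro β
    rw [classInner_smul_left, classInner_sum_right, Finset.mul_sum]
    push_cast
    refine Finset.sum_congr rfl ?_
    intro β' _
    rw [classInner_smul_right, ha β β', irrDeg_spec, irrDeg_spec, Complex.conj_natCast]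
    ring
  simp_rw [h1] at hnorm
  have hsq : (N.index : ℂ) = ((∑ β : IrrCharacter (G ⧸ N), irrDeg β * irrDeg β : ℕ) : ℂ) := by
    have h2 := sum_sq_irr_one (G := G ⧸ N)
    rw [← Subgroup.index_eq_card] at h2
    rw [← h2]
    push_cast
    refine Finset.sum_congr rfl ?_
    intro β _
    rw [irrDeg_spec, pow_two]
  rw [hsq, ← Nat.cast_sum] at hnorm
  have hnat : ∑ β : IrrCharacter (G ⧸ N), ∑ β' : IrrCharacter (G ⧸ N),
      irrDeg β * irrDeg β' * a β β' = ∑ β : IrrCharacter (G ⧸ N), irrDeg β * irrDeg β := by
    exact_mod_cast hnorm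
  -- termwise comparison
  have hle : ∀ β ∈ (Finset.univ : Finset (IrrCharacter (G ⧸ N))), irrDeg β * irrDeg β ≤
      ∑ β' : IrrCharacter (G ⧸ N), irrDeg β * irrDeg β' * a β β' := by
    intro β _
    calc irrDeg β * irrDeg β ≤ irrDeg β * irrDeg β * a β β :=
          Nat.le_mul_of_pos_right _ (haa β)
      _ ≤ _ := Finset.single_le_sum (f := fun β' => irrDeg β * irrDeg β' * a β β')
          (fun _ _ => Nat.zero_le _) (Finset.mem_univ β)
  have heq := (Finset.sum_eq_sum_iff_of_le hle).mp hnat.symm
  have hval : ∀ β β' : IrrCharacter (G ⧸ N), a β β' = if β = β' then 1 else 0 := by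
    intro β β'
    have h2 := heq β (Finset.mem_univ β)
    have hdβ := irrDeg_pos β
    have hdβ' := irrDeg_pos β'
    by_cases hb : β = β'
    · subst hb
      rw [if_pos rfl]
      have h3 : irrDeg β * irrDeg β * a β β ≤ irrDeg β * irrDeg β := by
        have h3' := Finset.single_le_sum (f := fun β' => irrDeg β * irrDeg β' * a β β')
          (fun _ _ => Nat.zero_le _) (Finset.mem_univ β)
        rw [← h2] at h3'
        exact h3'
      have h4 : a β β ≤ 1 := by
        by_contra hcon
        push Not at hcon
        have : irrDeg β * irrDeg β * 2 ≤ irrDeg β * irrDeg β * a β β :=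
          Nat.mul_le_mul_left _ hcon
        have hpos : 0 < irrDeg β * irrDeg β := Nat.mul_pos hdβ hdβ
        omega
      have := haa β
      omega
    · rw [if_neg hb]
      have h3 := Finset.add_le_sum (f := fun β' => irrDeg β * irrDeg β' * a β β')
        (fun _ _ => Nat.zero_le _) (Finset.mem_univ β) (Finset.mem_univ β') hb
      rw [← h2] at h3
      have h4 : irrDeg β * irrDeg β ≤ irrDeg β * irrDeg β * a β β :=
        Nat.le_mul_of_pos_right _ (haa β)
      have h3' : irrDeg β * irrDeg β * a β β + irrDeg β * irrDeg β' * a β β' ≤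
          irrDeg β * irrDeg β := h3
      have h5 : irrDeg β * irrDeg β' * a β β' = 0 := by
        omega
      rcases Nat.mul_eq_zero.mp h5 with h6 | h6
      · have : 0 < irrDeg β * irrDeg β' := Nat.mul_pos hdβ hdβ'
        omega
      · exact h6
  rw [ha β β', hval β β']
  split_ifs <;> simp

/-- Gallagher: `β χ` is irreducible. -/
theorem isIrrCharacter_gallagherTwist (β : IrrCharacter (G ⧸ N)) :
    IsIrrCharacter G (gallagherTwist N χ β) := by
  classical
  haveI : Fintype (IrrCharacter G) := Fintype.ofFinite _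
  refine IsCharacter.isIrrCharacter_of_classInner_self (isCharacter_gallagherTwist N χ β) ?_
  rw [classInner_gallagherTwist N χ hχN, if_pos rfl]

/-- Gallagher: `β ↦ β χ` is injective. -/
theorem gallagherTwist_injective (β β' : IrrCharacter (G ⧸ N))
    (h : gallagherTwist N χ β = gallagherTwist N χ β') : β = β' := by
  classical
  by_contra hne
  have h1 := classInner_gallagherTwist N χ hχN β β'
  rw [if_neg hne, ← h, classInner_gallagherTwist N χ hχN, if_pos rfl] at h1
  exact one_ne_zero h1

/-- Gallagher: every irreducible character over `χ_N` is of the form `β χ`. -/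
theorem exists_gallagherTwist_eq (ψ : IrrCharacter G)
    (h : classInner (fun n : N => (ψ : G → ℂ) n) (fun n : N => (χ : G → ℂ) n) ≠ 0) :
    ∃ β : IrrCharacter (G ⧸ N), (ψ : G → ℂ) = gallagherTwist N χ β := by
  classical
  haveI : Finite G := Finite.of_fintype G
  haveI : Fintype (IrrCharacter (G ⧸ N)) := Fintype.ofFinite _
  have h1 : classInner (indFun N (fun n : N => (χ : G → ℂ) n)) (ψ : G → ℂ) ≠ 0 := by
    rw [Helper8.frobenius_reciprocity N _ _ (isClassFunction_irr ψ), ← classInner_conj_symm]
    intro h0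
    apply h
    have := congrArg (starRingEnd ℂ) h0
    simpa using this
  by_contra hall
  push Not at hall
  apply h1
  rw [indFun_restrict_eq_sum_twist N χ, classInner_sum_left]
  apply Finset.sum_eq_zero
  intro β _
  rw [classInner_smul_left, classInner_of_isIrrCharacter (isIrrCharacter_gallagherTwist N χ hχN β)
    ψ.2, if_neg (fun h' => hall β h'.symm), mul_zero]

end Gallagher

end Cfsg.Agent.Helper24
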