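import Mathlib
import Cfsg.Prelude.Def_Characters
import Cfsg.Agent.Helper24.Gallagher
import Cfsg.Agent.Helper24.Span
import Cfsg.Agent.Helper5.QuotPPrime

/-!
Coset averages `η g = |N|⁻¹ Σ_{n ∈ N} ψ (n g) conj (χ (n g))` for `χ` restricting irreducibly to `N`.
-/

namespace Cfsg.Agent.Helper24

universe u

section CosetAverage

variable {G : Type u} [Group G] [Fintype G] (N : Subgroup G) [hN : N.Normal] [Fintype N]

/-- The coset average of `ψ · conj χ`. -/
noncomputable def cosetAvg (ψ χ : G → ℂ) : G → ℂ :=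
  fun g => (Nat.card N : ℂ)⁻¹ * ∑ n : N, ψ ((n : G) * g) * (starRingEnd ℂ) (χ ((n : G) * g))

omit [Fintype G] in
theorem cosetAvg_mul_right (ψ χ : G → ℂ) (g h : G) (hh : h ∈ N) :
    cosetAvg N ψ χ (g * h) = cosetAvg N ψ χ g := by
  unfold cosetAvg
  congr 1
  have hm : g * h * g⁻¹ ∈ N := hN.conj_mem h hh g
  refine Fintype.sum_equiv (Equiv.mulRight (⟨g * h * g⁻¹, hm⟩ : N)) _ _ ?_
  intro n
  have : ((Equiv.mulRight (⟨g * h * g⁻¹, hm⟩ : N)) n : G) * g = (n : G) * (g * h) := by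
    simp only [Equiv.coe_mulRight, Subgroup.coe_mul]
    group
  rw [this]

omit [Fintype G] in
theorem cosetAvg_conj (ψ χ : G → ℂ) (hψ : IsClassFunction G ψ) (hχ : IsClassFunction G χ)
    (g x : G) : cosetAvg N ψ χ (x * g * x⁻¹) = cosetAvg N ψ χ g := by
  unfold cosetAvg
  congr 1
  refine Fintype.sum_equiv (MulAut.conjNormal x⁻¹ : N ≃* N).toEquiv _ _ ?_
  intro n
  have h1 : (((MulAut.conjNormal x⁻¹ : N ≃* N).toEquiv n : N) : G) * g =
      x⁻¹ * ((n : G) * (x * g * x⁻¹)) * x⁻¹⁻¹ := by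
    simp only [MulEquiv.toEquiv_eq_coe, EquivLike.coe_coe, MulAut.conjNormal_apply]
    group
  rw [h1, hψ, hχ]

/-- The coset average as a function on the quotient. -/
noncomputable def cosetAvgBar (ψ χ : G → ℂ) : G ⧸ N → ℂ :=
  fun q => cosetAvg N ψ χ q.out

omit [Fintype G] in
theorem cosetAvgBar_mk (ψ χ : G → ℂ) (g : G) :
    cosetAvgBar N ψ χ (g : G ⧸ N) = cosetAvg N ψ χ g := by
  unfold cosetAvgBar
  obtain ⟨h, hh⟩ := QuotientGroup.mk_out_eq_mul N g
  rw [hh]
  exact cosetAvg_mul_right N ψ χ g h h.2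

omit [Fintype G] in
theorem isClassFunction_cosetAvgBar (ψ χ : G → ℂ) (hψ : IsClassFunction G ψ)
    (hχ : IsClassFunction G χ) : IsClassFunction (G ⧸ N) (cosetAvgBar N ψ χ) := by
  intro q x
  obtain ⟨g, rfl⟩ := QuotientGroup.mk_surjective q
  obtain ⟨y, rfl⟩ := QuotientGroup.mk_surjective x
  rw [← QuotientGroup.mk_inv, ← QuotientGroup.mk_mul, ← QuotientGroup.mk_mul, cosetAvgBar_mk,
    cosetAvgBar_mk]
  exact cosetAvg_conj N ψ χ hψ hχ g y

/-- Inner products of the coset average with the irreducible characters of the quotient. -/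
theorem classInner_cosetAvgBar [Fintype (G ⧸ N)] (ψ : G → ℂ) (χ : IrrCharacter G)
    (β : IrrCharacter (G ⧸ N)) :
    classInner (cosetAvgBar N ψ (χ : G → ℂ)) (β : G ⧸ N → ℂ) =
      classInner ψ (gallagherTwist N χ β) := by
  unfold classInner
  have hNc : (Nat.card N : ℂ) ≠ 0 := by exact_mod_cast Nat.card_pos.ne'
  have hGc : (Nat.card G : ℂ) ≠ 0 := by exact_mod_cast Nat.card_pos.ne'
  have hQc : (Nat.card (G ⧸ N) : ℂ) ≠ 0 := by exact_mod_cast Nat.card_pos.ne'
  have hcard : (Nat.card G : ℂ) = (Nat.card (G ⧸ N) : ℂ) * (Nat.card N : ℂ) := by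
    rw [← Nat.cast_mul, ← Subgroup.card_eq_card_quotient_mul_card_subgroup]
  have h1 := Helper5.CC.sum_comp_mk N (fun q : G ⧸ N =>
    cosetAvgBar N ψ (χ : G → ℂ) q * (starRingEnd ℂ) ((β : G ⧸ N → ℂ) q))
  simp only [cosetAvgBar_mk] at h1
  -- compute the sum over G
  have h2 : ∑ g : G, cosetAvg N ψ (χ : G → ℂ) g * (starRingEnd ℂ) ((β : G ⧸ N → ℂ) (g : G ⧸ N)) =
      ∑ g : G, ψ g * (starRingEnd ℂ) (gallagherTwist N χ β g) := by
    unfold cosetAvg
    have h3 : ∀ g : G, ((Nat.card N : ℂ)⁻¹ *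
        ∑ n : N, ψ ((n : G) * g) * (starRingEnd ℂ) ((χ : G → ℂ) ((n : G) * g))) *
          (starRingEnd ℂ) ((β : G ⧸ N → ℂ) (g : G ⧸ N)) =
        (Nat.card N : ℂ)⁻¹ * ∑ n : N, ψ ((n : G) * g) *
          (starRingEnd ℂ) (gallagherTwist N χ β ((n : G) * g)) := by
      intro g
      rw [mul_assoc, Finset.sum_mul]
      congr 1
      refine Finset.sum_congr rfl ?_
      intro n _
      have : (((n : G) * g : G) : G ⧸ N) = (g : G ⧸ N) := by
        rw [QuotientGroup.mk_mul, (QuotientGroup.eq_one_iff (n : G)).mpr n.2, one_mul]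
      simp only [gallagherTwist, map_mul, this]
      ring
    simp_rw [h3]
    rw [← Finset.mul_sum, Finset.sum_comm]
    have h4 : ∀ n : N, ∑ g : G, ψ ((n : G) * g) *
        (starRingEnd ℂ) (gallagherTwist N χ β ((n : G) * g)) =
        ∑ g : G, ψ g * (starRingEnd ℂ) (gallagherTwist N χ β g) := by
      intro n
      exact Fintype.sum_equiv (Equiv.mulLeft (n : G)) _ _ (fun g => rfl)
    simp_rw [h4]
    rw [Finset.sum_const, Finset.card_univ, nsmul_eq_mul, ← Nat.card_eq_fintype_card, ← mul_assoc,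
      inv_mul_cancel₀ hNc, one_mul]
  rw [h2] at h1
  rw [h1, hcard]
  field_simp

/-- Statement S0868. -/
theorem coset_average_theorem (χ : G → ℂ) (hχ : IsIrrCharacter G χ)
    (hχN : IsIrrCharacter N (fun n : N => χ n)) (ψ : G → ℂ) (hψ : IsIrrCharacter G ψ)
    (η : G → ℂ)
    (hη : η = fun g => (Nat.card N : ℂ)⁻¹ *
      ∑ n : N, ψ ((n : G) * g) * (starRingEnd ℂ) (χ ((n : G) * g))) :
    (classInner (fun n : N => ψ n) (fun n : N => χ n) ≠ 0 → IsIrrCharacter G η) ∧
    (classInner (fun n : N => ψ n) (fun n : N => χ n) = 0 → η = 0) ∧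
    (ψ = χ → η = fun _ => 1) := by
  classical
  haveI : Finite G := Finite.of_fintype G
  haveI : Fintype (G ⧸ N) := Fintype.ofFinite _
  haveI : Fintype (IrrCharacter (G ⧸ N)) := Fintype.ofFinite _
  haveI : Fintype (IrrCharacter G) := Fintype.ofFinite _
  haveI : Fintype (IrrCharacter N) := Fintype.ofFinite _
  have hηavg : η = cosetAvg N ψ χ := hη
  have hcfψ : IsClassFunction G ψ := IsCharacter.isClassFunction (IsIrrCharacter.isCharacter hψ)
  have hcfχ : IsClassFunction G χ := IsCharacter.isClassFunction (IsIrrCharacter.isCharacter hχ)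
  -- expansion of the coset average
  have hexp := IsClassFunction.eq_sum_classInner (isClassFunction_cosetAvgBar N ψ χ hcfψ hcfχ)
  have hval : ∀ g : G, η g = ∑ β : IrrCharacter (G ⧸ N),
      classInner ψ (gallagherTwist N ⟨χ, hχ⟩ β) * (β : G ⧸ N → ℂ) (g : G ⧸ N) := by
    intro g
    rw [hηavg, ← cosetAvgBar_mk, hexp]
    simp only [Finset.sum_apply, Pi.smul_apply, smul_eq_mul]
    refine Finset.sum_congr rfl ?_
    intro β _
    rw [classInner_cosetAvgBar N ψ ⟨χ, hχ⟩ β]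
  have hinner : ∀ β : IrrCharacter (G ⧸ N), classInner ψ (gallagherTwist N ⟨χ, hχ⟩ β) =
      if ψ = gallagherTwist N ⟨χ, hχ⟩ β then 1 else 0 := fun β =>
    classInner_of_isIrrCharacter hψ (isIrrCharacter_gallagherTwist N ⟨χ, hχ⟩ hχN β)
  -- if ψ is a twist, the average is the inflation of the twisting character
  have hcase : ∀ β₀ : IrrCharacter (G ⧸ N), ψ = gallagherTwist N ⟨χ, hχ⟩ β₀ →
      η = ((irrInflate N β₀ : IrrCharacter G) : G → ℂ) := by
    intro β₀ h0
    funext g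
    rw [hval g, Finset.sum_eq_single β₀]
    · rw [hinner, if_pos h0, one_mul]
      rfl
    · intro β _ hne
      rw [hinner, if_neg, zero_mul]
      intro h1
      exact hne (gallagherTwist_injective N ⟨χ, hχ⟩ hχN β β₀ (h1.symm.trans h0))
    · intro h
      exact absurd (Finset.mem_univ _) h
  refine ⟨?_, ?_, ?_⟩
  · intro hne
    obtain ⟨β₀, h0⟩ := exists_gallagherTwist_eq N ⟨χ, hχ⟩ hχN ⟨ψ, hψ⟩ hne
    rw [hcase β₀ h0]
    exact (irrInflate N β₀).2
  · intro h0
    funext g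
    rw [hval g]
    apply Finset.sum_eq_zero
    intro β _
    rw [hinner, if_neg, zero_mul]
    intro h1
    have h2 : (fun n : N => ψ n) = (β : G ⧸ N → ℂ) 1 • (fun n : N => χ n) := by
      funext n
      rw [h1]
      simp only [gallagherTwist, Pi.smul_apply, smul_eq_mul]
      rw [(QuotientGroup.eq_one_iff (n : G)).mpr n.2]
    rw [h2, classInner_smul_left, (isIrrCharacter_iff_classInner_self.mp hχN).2, mul_one] at h0
    exact irr_one_ne_zero β h0
  · intro h0
    have h1 : ψ = gallagherTwist N ⟨χ, hχ⟩ (trivIrr (G ⧸ N)) := by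
      funext g
      simp only [gallagherTwist, trivIrr_apply, one_mul]
      rw [h0]
    rw [hcase _ h1]
    funext g
    show ((trivIrr (G ⧸ N) : IrrCharacter (G ⧸ N)) : G ⧸ N → ℂ) (g : G ⧸ N) = 1
    exact trivIrr_apply _

end CosetAverage

end Cfsg.Agent.Helper24
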