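import Mathlib
import Cfsg.Prelude.Def_Characters
import Cfsg.Agent.Helper24.Expansion
import Cfsg.Agent.Helper24.Integrality

/-!
Descent from algebraic integer coefficients to integer coefficients for combinations of
characters.
-/

namespace Cfsg.Agent.Helper24

open Representation Module

universe u

section Descent

variable {G : Type u} [Group G] [Fintype G] [Fintype (IrrCharacter G)]

/-- If an integer combination `b` of irreducible characters is a combination, with algebraic
integer coefficients, of characters from a set `S`, then it is an integer combination of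
elements of `S`. -/
theorem mem_closure_of_mem_closure_integral (S : Set (G → ℂ)) (hS : ∀ φ ∈ S, IsCharacter G φ)
    (e : IrrCharacter G → ℤ)
    (hbA : (∑ χ : IrrCharacter G, (e χ : ℂ) • (χ : G → ℂ)) ∈ AddSubgroup.closure
      {h : G → ℂ | ∃ (a : ℂ) (φ : G → ℂ), IsIntegral ℤ a ∧ φ ∈ S ∧ h = a • φ}) :
    (∑ χ : IrrCharacter G, (e χ : ℂ) • (χ : G → ℂ)) ∈ AddSubgroup.closure S := by
  classical
  -- the map from integer vectors to class functions
  let Φ : (IrrCharacter G → ℤ) →+ (G → ℂ) :=
    { toFun := fun v => ∑ χ : IrrCharacter G, (v χ : ℂ) • (χ : G → ℂ)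
      map_zero' := by simp
      map_add' := by
        intro v w
        rw [← Finset.sum_add_distrib]
        refine Finset.sum_congr rfl ?_
        intro χ _
        rw [Pi.add_apply]
        push_cast
        rw [add_smul] }
  have hΦ : ∀ v, Φ v = ∑ χ : IrrCharacter G, (v χ : ℂ) • (χ : G → ℂ) := fun v => rfl
  let L : AddSubgroup (IrrCharacter G → ℤ) := AddSubgroup.closure {v | Φ v ∈ S}
  have hLS : ∀ v ∈ L, Φ v ∈ AddSubgroup.closure S := by
    intro v hv
    induction hv using AddSubgroup.closure_induction with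
    | mem w hw => exact AddSubgroup.subset_closure hw
    | zero => rw [map_zero]; exact zero_mem _
    | add x y _ _ hx hy => rw [map_add]; exact add_mem hx hy
    | neg x _ hx => rw [map_neg]; exact neg_mem hx
  show Φ e ∈ AddSubgroup.closure S
  by_contra hcon
  have heL : e ∉ L := fun h => hcon (hLS e h)
  have hne : (QuotientAddGroup.mk e : (IrrCharacter G → ℤ) ⧸ L) ≠ 0 := by
    intro h
    exact heL ((QuotientAddGroup.eq_zero_iff e).mp h)
  obtain ⟨c, hc⟩ := CharacterModule.exists_character_apply_ne_zero_of_ne_zero hne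
  -- lift the values on the standard basis to rationals
  have hlift : ∀ χ : IrrCharacter G, ∃ r : ℚ,
      (r : AddCircle (1 : ℚ)) = c (QuotientAddGroup.mk (Pi.single χ (1 : ℤ))) := by
    intro χ
    exact QuotientAddGroup.mk_surjective _
  choose r hr using hlift
  have hcv : ∀ v : IrrCharacter G → ℤ, c (QuotientAddGroup.mk v) =
      ((∑ χ : IrrCharacter G, (v χ : ℚ) * r χ : ℚ) : AddCircle (1 : ℚ)) := by
    intro v
    have hv : v = ∑ χ : IrrCharacter G, v χ • Pi.single χ (1 : ℤ) := by
      funext ψ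
      rw [Finset.sum_apply]
      simp [Pi.single_apply]
    conv_lhs => rw [hv]
    rw [QuotientAddGroup.mk_sum, map_sum]
    have : ∀ χ : IrrCharacter G, c (QuotientAddGroup.mk (v χ • Pi.single χ (1 : ℤ))) =
        (((v χ : ℚ) * r χ : ℚ) : AddCircle (1 : ℚ)) := by
      intro χ
      rw [QuotientAddGroup.mk_zsmul, map_zsmul, ← hr χ, ← AddCircle.coe_zsmul, zsmul_eq_mul]
    simp_rw [this]
    symm
    exact map_sum (QuotientAddGroup.mk' (AddSubgroup.zmultiples (1 : ℚ))) _ _
  -- the functional R
  let R : (G → ℂ) → ℂ := fun f => ∑ χ : IrrCharacter G, classInner f (χ : G → ℂ) * (r χ : ℂ)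
  have hRΦ : ∀ v : IrrCharacter G → ℤ, R (Φ v) =
      ((∑ χ : IrrCharacter G, (v χ : ℚ) * r χ : ℚ) : ℂ) := by
    intro v
    show ∑ χ : IrrCharacter G, classInner (Φ v) (χ : G → ℂ) * (r χ : ℂ) = _
    push_cast
    refine Finset.sum_congr rfl ?_
    intro χ _
    rw [hΦ, classInner_sum_irr]
  -- R is an integer on S
  have hRS : ∀ φ ∈ S, ∃ m : ℤ, R φ = m := by
    intro φ hφ
    obtain ⟨n, hn⟩ := IsCharacter.exists_nat_coeff (hS φ hφ)
    have hφΦ : φ = Φ (fun χ => (n χ : ℤ)) := by
      rw [hn, hΦ]
      simp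
    have hmem : (fun χ => (n χ : ℤ)) ∈ L := by
      apply AddSubgroup.subset_closure
      show Φ _ ∈ S
      rw [← hφΦ]; exact hφ
    have h0 : c (QuotientAddGroup.mk (fun χ => (n χ : ℤ))) = 0 := by
      rw [(QuotientAddGroup.eq_zero_iff _).mpr hmem, map_zero]
    rw [hcv, AddCircle.coe_eq_zero_iff] at h0
    obtain ⟨m, hm⟩ := h0
    refine ⟨m, ?_⟩
    rw [hφΦ, hRΦ, ← hm]
    simp
  -- R is integral on the closure with algebraic integer coefficients
  have hRA : ∀ f ∈ AddSubgroup.closure
      {h : G → ℂ | ∃ (a : ℂ) (φ : G → ℂ), IsIntegral ℤ a ∧ φ ∈ S ∧ h = a • φ},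
      IsIntegral ℤ (R f) := by
    intro f hf
    induction hf using AddSubgroup.closure_induction with
    | mem h hh =>
      obtain ⟨a, φ, ha, hφ, rfl⟩ := hh
      obtain ⟨m, hm⟩ := hRS φ hφ
      have : R (a • φ) = a * R φ := by
        show ∑ χ : IrrCharacter G, classInner (a • φ) (χ : G → ℂ) * (r χ : ℂ) =
          a * ∑ χ : IrrCharacter G, classInner φ (χ : G → ℂ) * (r χ : ℂ)
        rw [Finset.mul_sum]
        refine Finset.sum_congr rfl ?_
        intro χ _
        rw [classInner_smul_left, mul_assoc]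
      rw [this, hm]
      exact ha.mul (isIntegral_algebraMap (R := ℤ) (A := ℂ) (x := m) |> fun h => by simpa using h)
    | zero =>
      have : R 0 = 0 := by
        show ∑ χ : IrrCharacter G, classInner (0 : G → ℂ) (χ : G → ℂ) * (r χ : ℂ) = 0
        simp [classInner_zero_left]
      rw [this]; exact isIntegral_zero
    | add x y _ _ hx hy =>
      have : R (x + y) = R x + R y := by
        show ∑ χ : IrrCharacter G, classInner (x + y) (χ : G → ℂ) * (r χ : ℂ) =
          ∑ χ : IrrCharacter G, classInner x (χ : G → ℂ) * (r χ : ℂ) +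
          ∑ χ : IrrCharacter G, classInner y (χ : G → ℂ) * (r χ : ℂ)
        rw [← Finset.sum_add_distrib]
        refine Finset.sum_congr rfl ?_
        intro χ _
        rw [classInner_add_left, add_mul]
      rw [this]; exact hx.add hy
    | neg x _ hx =>
      have : R (-x) = - R x := by
        show ∑ χ : IrrCharacter G, classInner (-x) (χ : G → ℂ) * (r χ : ℂ) =
          - ∑ χ : IrrCharacter G, classInner x (χ : G → ℂ) * (r χ : ℂ)
        rw [← Finset.sum_neg_distrib]
        refine Finset.sum_congr rfl ?_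
        intro χ _
        rw [classInner_neg_left, neg_mul]
      rw [this]; exact hx.neg
  have h1 := hRA _ hbA
  have h2 : R (Φ e) = ((∑ χ : IrrCharacter G, (e χ : ℚ) * r χ : ℚ) : ℂ) := hRΦ e
  rw [show (∑ χ : IrrCharacter G, (e χ : ℂ) • (χ : G → ℂ)) = Φ e from rfl, h2] at h1
  obtain ⟨m, hm⟩ := exists_int_of_isIntegral_ratCast h1
  apply hc
  rw [hcv, hm, AddCircle.coe_eq_zero_iff]
  exact ⟨m, by simp⟩

end Descent

end Cfsg.Agent.Helper24
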