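import Mathlib
import Cfsg.Prelude.Def_Characters
import Cfsg.Agent.Helper24.Artin
import Cfsg.Agent.Helper24.Span

/-!
Towards Brauer's induction theorem (after Serre): combinations of induced characters with
algebraic integer coefficients.
-/

namespace Cfsg.Agent.Helper24

open Representation Module

universe u

section BrauerA

/-- Generators: algebraic-integer multiples of characters. -/
def charGensA (G : Type u) [Group G] : Set (G → ℂ) :=
  {h | ∃ (a : ℂ) (χ : G → ℂ), IsIntegral ℤ a ∧ IsCharacter G χ ∧ h = a • χ}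

/-- Combinations of characters with algebraic integer coefficients. -/
def charSpanA (G : Type u) [Group G] : AddSubgroup (G → ℂ) := AddSubgroup.closure (charGensA G)

/-- Generators: algebraic-integer multiples of characters induced from `p`-elementary
subgroups. -/
def brauerGens (p : ℕ) (G : Type u) [Group G] [Fintype G] : Set (G → ℂ) :=
  {h | ∃ (a : ℂ) (E : Subgroup G) (ψ : E → ℂ), IsIntegral ℤ a ∧ IsElementary p E ∧
    IsCharacter E ψ ∧ h = a • indFun E ψ}

/-- Combinations, with algebraic integer coefficients, of characters induced from `p`-elementary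
subgroups. -/
def brauerVA (p : ℕ) (G : Type u) [Group G] [Fintype G] : AddSubgroup (G → ℂ) :=
  AddSubgroup.closure (brauerGens p G)

variable {G : Type u} [Group G]

theorem charSpanA_smul {f : G → ℂ} (hf : f ∈ charSpanA G) {b : ℂ} (hb : IsIntegral ℤ b) :
    b • f ∈ charSpanA G := by
  induction hf using AddSubgroup.closure_induction with
  | mem h hh =>
    obtain ⟨a, χ, ha, hχ, rfl⟩ := hh
    apply AddSubgroup.subset_closure
    exact ⟨b * a, χ, hb.mul ha, hχ, by rw [mul_smul]⟩
  | zero => rw [smul_zero]; exact zero_mem _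
  | add x y _ _ hx hy => rw [smul_add]; exact add_mem hx hy
  | neg x _ hx => rw [smul_neg]; exact neg_mem hx

theorem isCharacter_mem_charSpanA {χ : G → ℂ} (hχ : IsCharacter G χ) : χ ∈ charSpanA G := by
  apply AddSubgroup.subset_closure
  exact ⟨1, χ, isIntegral_one, hχ, by rw [one_smul]⟩

theorem charSpanA_isClassFunction {f : G → ℂ} (hf : f ∈ charSpanA G) : IsClassFunction G f := by
  induction hf using AddSubgroup.closure_induction with
  | mem h hh =>
    obtain ⟨a, χ, ha, hχ, rfl⟩ := hh
    exact isClassFunction_smul a (IsCharacter.isClassFunction hχ)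
  | zero => exact isClassFunction_zero
  | add x y _ _ hx hy => exact isClassFunction_add hx hy
  | neg x _ hx => exact isClassFunction_neg hx

theorem charSpanA_mul_character {f : G → ℂ} (hf : f ∈ charSpanA G) {χ : G → ℂ}
    (hχ : IsCharacter G χ) : f * χ ∈ charSpanA G := by
  induction hf using AddSubgroup.closure_induction with
  | mem h hh =>
    obtain ⟨a, θ, ha, hθ, rfl⟩ := hh
    apply AddSubgroup.subset_closure
    exact ⟨a, θ * χ, ha, IsCharacter.mul hθ hχ, by rw [smul_mul_assoc]⟩
  | zero => rw [zero_mul]; exact zero_mem _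
  | add x y _ _ hx hy => rw [add_mul]; exact add_mem hx hy
  | neg x _ hx => rw [neg_mul]; exact neg_mem hx

theorem charSpanA_mul {f f' : G → ℂ} (hf : f ∈ charSpanA G) (hf' : f' ∈ charSpanA G) :
    f * f' ∈ charSpanA G := by
  induction hf' using AddSubgroup.closure_induction with
  | mem h hh =>
    obtain ⟨a, θ, ha, hθ, rfl⟩ := hh
    rw [mul_smul_comm]
    exact charSpanA_smul (charSpanA_mul_character hf hθ) ha
  | zero => rw [mul_zero]; exact zero_mem _
  | add x y _ _ hx hy => rw [mul_add]; exact add_mem hx hy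
  | neg x _ hx => rw [mul_neg]; exact neg_mem hx

theorem charSpanA_restrict {f : G → ℂ} (hf : f ∈ charSpanA G) (C : Subgroup G) :
    (fun c : C => f c) ∈ charSpanA C := by
  induction hf using AddSubgroup.closure_induction with
  | mem h hh =>
    obtain ⟨a, θ, ha, hθ, rfl⟩ := hh
    apply AddSubgroup.subset_closure
    exact ⟨a, fun c : C => θ c, ha, Helper8.isCharacter_restrict C hθ, rfl⟩
  | zero => exact zero_mem _
  | add x y _ _ hx hy => exact add_mem hx hy
  | neg x _ hx => exact neg_mem hx

/-- Coefficients of an element of `charSpanA` with respect to the irreducible characters. -/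
theorem charSpanA_exists_coeff [Fintype G] [Fintype (IrrCharacter G)] {f : G → ℂ}
    (hf : f ∈ charSpanA G) :
    ∃ d : IrrCharacter G → ℂ, (∀ χ, IsIntegral ℤ (d χ)) ∧
      f = ∑ χ : IrrCharacter G, d χ • (χ : G → ℂ) := by
  induction hf using AddSubgroup.closure_induction with
  | mem h hh =>
    obtain ⟨a, θ, ha, hθ, rfl⟩ := hh
    obtain ⟨n, rfl⟩ := IsCharacter.exists_nat_coeff hθ
    refine ⟨fun χ => a * n χ, fun χ => ha.mul (isIntegral_algebraMap (R := ℤ) (A := ℂ)
      (x := (n χ : ℤ)) |> fun h => by simpa using h), ?_⟩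
    rw [Finset.smul_sum]
    refine Finset.sum_congr rfl ?_
    intro χ _
    rw [mul_smul]
  | zero => exact ⟨fun _ => 0, fun _ => isIntegral_zero, by simp⟩
  | add x y _ _ hx hy =>
    obtain ⟨d, hd, rfl⟩ := hx
    obtain ⟨e, he, rfl⟩ := hy
    refine ⟨fun χ => d χ + e χ, fun χ => (hd χ).add (he χ), ?_⟩
    rw [← Finset.sum_add_distrib]
    refine Finset.sum_congr rfl ?_
    intro χ _
    rw [add_smul]
  | neg x _ hx =>
    obtain ⟨d, hd, rfl⟩ := hx
    refine ⟨fun χ => - d χ, fun χ => (hd χ).neg, ?_⟩
    rw [← Finset.sum_neg_distrib]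
    refine Finset.sum_congr rfl ?_
    intro χ _
    rw [neg_smul]

variable [Fintype G]

theorem brauerVA_le_charSpanA (p : ℕ) : brauerVA p G ≤ charSpanA G := by
  unfold brauerVA
  rw [AddSubgroup.closure_le]
  rintro h ⟨a, E, ψ, ha, _, hψ, rfl⟩
  apply AddSubgroup.subset_closure
  exact ⟨a, indFun E ψ, ha, isCharacter_indFun E hψ, rfl⟩

theorem brauerVA_smul {p : ℕ} {f : G → ℂ} (hf : f ∈ brauerVA p G) {b : ℂ}
    (hb : IsIntegral ℤ b) : b • f ∈ brauerVA p G := by
  induction hf using AddSubgroup.closure_induction with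
  | mem h hh =>
    obtain ⟨a, E, ψ, ha, hE, hψ, rfl⟩ := hh
    apply AddSubgroup.subset_closure
    exact ⟨b * a, E, ψ, hb.mul ha, hE, hψ, by rw [mul_smul]⟩
  | zero => rw [smul_zero]; exact zero_mem _
  | add x y _ _ hx hy => rw [smul_add]; exact add_mem hx hy
  | neg x _ hx => rw [smul_neg]; exact neg_mem hx

theorem brauerVA_mul_character {p : ℕ} {f : G → ℂ} (hf : f ∈ brauerVA p G) {χ : G → ℂ}
    (hχ : IsCharacter G χ) : f * χ ∈ brauerVA p G := by
  induction hf using AddSubgroup.closure_induction with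
  | mem h hh =>
    obtain ⟨a, E, ψ, ha, hE, hψ, rfl⟩ := hh
    apply AddSubgroup.subset_closure
    refine ⟨a, E, ψ * fun e : E => χ e, ha, hE,
      IsCharacter.mul hψ (Helper8.isCharacter_restrict E hχ), ?_⟩
    rw [indFun_mul_restrict E ψ χ (IsCharacter.isClassFunction hχ), smul_mul_assoc]
  | zero => rw [zero_mul]; exact zero_mem _
  | add x y _ _ hx hy => rw [add_mul]; exact add_mem hx hy
  | neg x _ hx => rw [neg_mul]; exact neg_mem hx

theorem brauerVA_mul_charSpanA {p : ℕ} {f f' : G → ℂ} (hf : f ∈ brauerVA p G)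
    (hf' : f' ∈ charSpanA G) : f * f' ∈ brauerVA p G := by
  induction hf' using AddSubgroup.closure_induction with
  | mem h hh =>
    obtain ⟨a, θ, ha, hθ, rfl⟩ := hh
    rw [mul_smul_comm]
    exact brauerVA_smul (brauerVA_mul_character hf hθ) ha
  | zero => rw [mul_zero]; exact zero_mem _
  | add x y _ _ hx hy => rw [mul_add]; exact add_mem hx hy
  | neg x _ hx => rw [mul_neg]; exact neg_mem hx

theorem brauerVA_pow {p : ℕ} {f : G → ℂ} (hf : f ∈ brauerVA p G) (N : ℕ) :
    f ^ (N + 1) ∈ brauerVA p G := by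
  induction N with
  | zero => rwa [zero_add, pow_one]
  | succ k ih =>
    rw [pow_succ]
    exact brauerVA_mul_charSpanA ih (brauerVA_le_charSpanA p hf)

end BrauerA

end Cfsg.Agent.Helper24
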