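import Mathlib
import Cfsg.Prelude.Def_Characters
import Cfsg.Agent.Helper24.BrauerA
import Cfsg.Agent.Helper24.RealChar

/-!
Brauer induction: cyclic groups are elementary; class functions with values divisible by `|G|`
are combinations of characters induced from cyclic subgroups (Serre, Lemma 6).
-/

namespace Cfsg.Agent.Helper24

open Representation Module

universe u

section BrauerCyclic

/-- A finite cyclic group is `p`-elementary. -/
theorem isElementary_of_isCyclic (p : ℕ) [hp : Fact p.Prime] (C : Type u) [Group C] [Finite C]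
    [hC : IsCyclic C] : IsElementary p C := by
  obtain ⟨g, hg⟩ := hC.exists_generator
  have hcard : orderOf g = Nat.card C := orderOf_eq_card_of_forall_mem_zpowers hg
  have hpos : Nat.card C ≠ 0 := Nat.card_pos.ne'
  obtain ⟨e, m, hm, hn⟩ := Nat.exists_eq_pow_mul_and_not_dvd hpos p hp.out.ne_one
  have hcomm : ∀ a b : C, a * b = b * a := fun a b => mul_comm' a b
  refine ⟨g ^ (p ^ e), ?_, ?_, e, ?_⟩
  · rw [Subgroup.mem_center_iff]
    intro y
    exact hcomm _ _
  · have hord : orderOf (g ^ (p ^ e)) = m := by
      rw [orderOf_pow_of_dvd (pow_ne_zero _ hp.out.ne_zero), hcard, hn]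
      · exact Nat.mul_div_cancel_left _ (pow_pos hp.out.pos _)
      · rw [hcard, hn]; exact dvd_mul_right _ _
    rw [hord]
    exact Nat.Coprime.symm ((Nat.Prime.coprime_iff_not_dvd hp.out).mpr hm)
  · have hord : orderOf (g ^ (p ^ e)) = m := by
      rw [orderOf_pow_of_dvd (pow_ne_zero _ hp.out.ne_zero), hcard, hn]
      · exact Nat.mul_div_cancel_left _ (pow_pos hp.out.pos _)
      · rw [hcard, hn]; exact dvd_mul_right _ _
    have h1 := Subgroup.card_mul_index (Subgroup.zpowers (g ^ (p ^ e)))
    rw [Nat.card_zpowers, hord, hn] at h1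
    have hmpos : 0 < m := by
      rcases Nat.eq_zero_or_pos m with h | h
      · exfalso; apply hm; rw [h]; exact dvd_zero p
      · exact h
    have : m * (Subgroup.zpowers (g ^ (p ^ e))).index = m * p ^ e := by rw [h1]; ring
    exact Nat.eq_of_mul_eq_mul_left hmpos this

variable {G : Type u} [Group G] [Fintype G]

/-- Serre's Lemma 6: a class function all of whose values are divisible by `|G|` in the ring
of algebraic integers is a combination of characters induced from cyclic subgroups. -/
theorem mem_brauerVA_of_values (p : ℕ) [Fact p.Prime] (f : G → ℂ) (hf : IsClassFunction G f)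
    (hval : ∀ x, ∃ a : ℂ, IsIntegral ℤ a ∧ f x = (Nat.card G : ℂ) * a) :
    f ∈ brauerVA p G := by
  classical
  haveI : Fintype (Subgroup G) := Fintype.ofFinite _
  choose a ha hfa using hval
  have hG0 : (Nat.card G : ℂ) ≠ 0 := by
    have := Nat.card_pos (α := G)
    exact_mod_cast this.ne'
  have hacf : IsClassFunction G a := by
    intro g x
    have h1 := hfa (x * g * x⁻¹)
    rw [hf g x, hfa g] at h1
    exact (mul_left_cancel₀ hG0 h1).symm
  have h1 : f = ∑ C : Subgroup G, indFun C (genFun C * fun c : C => a c) := by
    funext g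
    rw [Finset.sum_apply, hfa g, ← sum_indFun_genFun g, Finset.sum_mul]
    refine Finset.sum_congr rfl ?_
    intro C _
    rw [indFun_mul_restrict C _ a hacf]
    rfl
  rw [h1]
  refine sum_mem ?_
  intro C _
  by_cases hC : IsCyclic C
  · haveI := hC
    haveI : Fintype C := Fintype.ofFinite C
    haveI : Fintype (IrrCharacter C) := Fintype.ofFinite _
    have hcomm : ∀ x y : C, x * y = y * x := fun x y => mul_comm' x y
    have hcf : IsClassFunction C (genFun C * fun c : C => a c) := by
      intro g x
      have : x * g * x⁻¹ = g := by rw [hcomm x g, mul_assoc, mul_inv_cancel, mul_one]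
      rw [this]
    rw [IsClassFunction.eq_sum_classInner hcf, Helper8.indFun_sum]
    refine sum_mem ?_
    intro μ _
    rw [Helper8.indFun_smul]
    apply AddSubgroup.subset_closure
    refine ⟨_, C, (μ : C → ℂ), ?_, isElementary_of_isCyclic p C,
      IsIrrCharacter.isCharacter μ.2, rfl⟩
    -- integrality of the coefficient
    unfold classInner
    have hC0 : (Nat.card C : ℂ) ≠ 0 := by
      have := Nat.card_pos (α := C)
      exact_mod_cast this.ne'
    have h2 : ∀ x : C, (genFun C * fun c : C => a c) x * (starRingEnd ℂ) ((μ : C → ℂ) x) =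
        (Nat.card C : ℂ) * ((if Subgroup.zpowers x = ⊤ then (1 : ℂ) else 0) * a x *
          (starRingEnd ℂ) ((μ : C → ℂ) x)) := by
      intro x
      rw [Pi.mul_apply]
      unfold genFun
      split_ifs <;> ring
    simp_rw [h2]
    rw [← Finset.mul_sum, ← mul_assoc, inv_mul_cancel₀ hC0, one_mul]
    refine IsIntegral.sum _ ?_
    intro x _
    refine IsIntegral.mul (IsIntegral.mul ?_ (ha x)) (map_isIntegral_int _ (irr_isIntegral μ x))
    split_ifs
    · exact isIntegral_one
    · exact isIntegral_zero
  · have h0 : genFun C = 0 := by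
      funext x
      unfold genFun
      rw [if_neg]
      · rfl
      · intro h
        refine hC ⟨⟨x, fun y => ?_⟩⟩
        have : y ∈ Subgroup.zpowers x := by rw [h]; trivial
        exact this
    rw [h0, zero_mul, Helper8.indFun_zero]
    exact zero_mem _

end BrauerCyclic

end Cfsg.Agent.Helper24
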