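import Mathlib
import Cfsg.Prelude.Def_Characters
import Cfsg.Agent.Helper24.BrauerA
import Cfsg.Agent.Helper24.RealChar
import Cfsg.Agent.Helper24.Integrality
import Cfsg.Agent.Helper5.LinChar

/-!
Brauer induction: the congruence `f(y) ≡ f(y_{p'}) (mod p)` for integer valued combinations of
characters with algebraic integer coefficients (Serre, Lemma 7).
-/

namespace Cfsg.Agent.Helper24

open Representation Module

universe u

section BrauerCong

/-- If an integer is `d` times an algebraic integer, then `d` divides it. -/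
theorem int_dvd_of_eq_mul_isIntegral {a : ℤ} {d : ℕ} (hd : d ≠ 0) {α : ℂ} (hα : IsIntegral ℤ α)
    (h : (a : ℂ) = (d : ℂ) * α) : (d : ℤ) ∣ a := by
  have hd0 : (d : ℂ) ≠ 0 := by exact_mod_cast hd
  have h1 : α = (((a : ℚ) / (d : ℚ) : ℚ) : ℂ) := by
    push_cast
    rw [h]
    field_simp
  rw [h1] at hα
  obtain ⟨m, hm⟩ := exists_int_of_isIntegral_ratCast hα
  refine ⟨m, ?_⟩
  have hd0' : (d : ℚ) ≠ 0 := by exact_mod_cast hd
  have h2 : (a : ℚ) = (d : ℚ) * m := by
    rw [← hm]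
    field_simp
  exact_mod_cast h2

/-- Freshman's dream modulo `p` in the ring of algebraic integers. -/
theorem sum_pow_sub_mem_span {ι : Type*} (p : ℕ) [hp : Fact p.Prime] (e : ℕ) (s : Finset ι)
    (x : ι → integralClosure ℤ ℂ) :
    ∃ α : integralClosure ℤ ℂ,
      (∑ i ∈ s, x i) ^ (p ^ e) - ∑ i ∈ s, x i ^ (p ^ e) = (p : integralClosure ℤ ℂ) * α := by
  have hnu : (p : integralClosure ℤ ℂ) ∈ nonunits (integralClosure ℤ ℂ) := by
    intro hu
    obtain ⟨v, hv⟩ := hu.exists_right_inv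
    have h1 : ((p : integralClosure ℤ ℂ) : ℂ) * (v : ℂ) = 1 := by
      have := congrArg (Subtype.val) hv
      simpa using this
    have h2 : ((1 : ℤ) : ℂ) = (p : ℂ) * (v : ℂ) := by
      have h1' : (p : ℂ) * (v : ℂ) = 1 := by simpa using h1
      rw [h1']; simp
    have := int_dvd_of_eq_mul_isIntegral hp.out.ne_zero v.2 h2
    have h3 : (p : ℤ) ≤ 1 := Int.le_of_dvd one_pos this
    have h4 : 1 < p := hp.out.one_lt
    omega
  haveI : CharP (integralClosure ℤ ℂ ⧸ Ideal.span ({(p : integralClosure ℤ ℂ)} : Set _)) p :=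
    CharP.quotient (integralClosure ℤ ℂ) p hnu
  have h1 : Ideal.Quotient.mk (Ideal.span ({(p : integralClosure ℤ ℂ)} : Set _))
      ((∑ i ∈ s, x i) ^ (p ^ e) - ∑ i ∈ s, x i ^ (p ^ e)) = 0 := by
    rw [map_sub, map_pow, map_sum, map_sum, sum_pow_char_pow]
    simp only [map_pow, sub_self]
  rw [Ideal.Quotient.eq_zero_iff_mem, Ideal.mem_span_singleton'] at h1
  obtain ⟨α, hα⟩ := h1
  exact ⟨α, by rw [← hα, mul_comm]⟩

variable {G : Type u} [Group G] [Fintype G]

/-- Serre's Lemma 7: an integer valued combination of characters with algebraic integer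
coefficients satisfies `f(y) ≡ f(s) (mod p)` for a suitable `p`-regular power `s` of `y`. -/
theorem brauer_congruence (p : ℕ) [hp : Fact p.Prime] (f : G → ℂ) (hf : f ∈ charSpanA G)
    (hint : ∀ g, ∃ n : ℤ, f g = n) (y : G) :
    ∃ s : G, (orderOf s).Coprime p ∧ ∃ n m : ℤ, f y = n ∧ f s = m ∧ (p : ℤ) ∣ n - m := by
  classical
  have ho : orderOf y ≠ 0 := (orderOf_pos y).ne'
  obtain ⟨e, r, hr, hor⟩ := Nat.exists_eq_pow_mul_and_not_dvd ho p hp.out.ne_one
  have hpr : Nat.Coprime p r := (Nat.Prime.coprime_iff_not_dvd hp.out).mpr hr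
  have hcop : Nat.Coprime (p ^ e) r := Nat.Coprime.pow_left _ hpr
  have hrpos : 0 < r := Nat.pos_of_ne_zero (by rintro rfl; exact hr (dvd_zero p))
  have hk1 : (p ^ e) ^ Nat.totient r ≡ 1 [MOD r] := Nat.ModEq.pow_totient hcop
  have hqk : p ^ e ∣ (p ^ e) ^ Nat.totient r :=
    dvd_pow_self _ (Nat.totient_pos.mpr hrpos).ne'
  obtain ⟨k, hk⟩ : ∃ k, k = (p ^ e) ^ Nat.totient r := ⟨_, rfl⟩
  rw [← hk] at hk1 hqk
  have hkpos : 1 ≤ k := by rw [hk]; exact Nat.one_le_pow _ _ (pow_pos hp.out.pos e)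
  haveI : Fintype (Subgroup.zpowers y) := Fintype.ofFinite _
  haveI : Fintype (IrrCharacter (Subgroup.zpowers y)) := Fintype.ofFinite _
  have hcomm : ∀ a b : Subgroup.zpowers y, a * b = b * a := fun a b => mul_comm' a b
  obtain ⟨d, hd, hfd⟩ := charSpanA_exists_coeff (charSpanA_restrict hf (Subgroup.zpowers y))
  have hμ1 : ∀ μ : IrrCharacter (Subgroup.zpowers y), (μ : Subgroup.zpowers y → ℂ) 1 = 1 :=
    comm_iff_forall_irr_one.mp hcomm
  have hμpow : ∀ (μ : IrrCharacter (Subgroup.zpowers y)) (j : ℕ),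
      (μ : Subgroup.zpowers y → ℂ) ((⟨y, Subgroup.mem_zpowers y⟩ : Subgroup.zpowers y) ^ j) =
        (μ : Subgroup.zpowers y → ℂ) ⟨y, Subgroup.mem_zpowers y⟩ ^ j :=
    fun μ j => Helper5.linChar_pow (IsIrrCharacter.isCharacter μ.2) (hμ1 μ) _ j
  refine ⟨y ^ k, ?_, ?_⟩
  · have h1 : (y ^ k) ^ r = 1 := by
      rw [← pow_mul]
      obtain ⟨c, hc⟩ := hqk
      have : k * r = orderOf y * c := by rw [hc, hor]; ring
      rw [this, pow_mul, pow_orderOf_eq_one, one_pow]
    exact Nat.Coprime.coprime_dvd_left (orderOf_dvd_of_pow_eq_one h1) hpr.symm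
  · obtain ⟨n, hn⟩ := hint y
    obtain ⟨m, hm⟩ := hint (y ^ k)
    refine ⟨n, m, hn, hm, ?_⟩
    have hfy : f y = ∑ μ : IrrCharacter (Subgroup.zpowers y),
        d μ * (μ : Subgroup.zpowers y → ℂ) ⟨y, Subgroup.mem_zpowers y⟩ := by
      have := congrFun hfd ⟨y, Subgroup.mem_zpowers y⟩
      simp only [Finset.sum_apply, Pi.smul_apply, smul_eq_mul] at this
      exact this
    have hfs : f (y ^ k) = ∑ μ : IrrCharacter (Subgroup.zpowers y),
        d μ * (μ : Subgroup.zpowers y → ℂ) ⟨y, Subgroup.mem_zpowers y⟩ ^ k := by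
      have := congrFun hfd ((⟨y, Subgroup.mem_zpowers y⟩ : Subgroup.zpowers y) ^ k)
      simp only [Finset.sum_apply, Pi.smul_apply, smul_eq_mul, hμpow] at this
      exact this
    obtain ⟨α, hα⟩ := sum_pow_sub_mem_span p e Finset.univ
      (fun μ : IrrCharacter (Subgroup.zpowers y) =>
        (⟨d μ, hd μ⟩ : integralClosure ℤ ℂ) *
          ⟨(μ : Subgroup.zpowers y → ℂ) ⟨y, Subgroup.mem_zpowers y⟩, irr_isIntegral μ _⟩)
    obtain ⟨β, hβ⟩ := sum_pow_sub_mem_span p e Finset.univ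
      (fun μ : IrrCharacter (Subgroup.zpowers y) =>
        (⟨d μ, hd μ⟩ : integralClosure ℤ ℂ) *
          ⟨(μ : Subgroup.zpowers y → ℂ) ⟨y, Subgroup.mem_zpowers y⟩, irr_isIntegral μ _⟩ ^ k)
    have hα' := congrArg (Subtype.val) hα
    have hβ' := congrArg (Subtype.val) hβ
    simp only [AddSubgroupClass.coe_sub, SubmonoidClass.coe_pow, AddSubmonoidClass.coe_finsetSum,
      MulMemClass.coe_mul, SubringClass.coe_natCast] at hα' hβ'
    rw [← hfy, hn] at hα'
    rw [← hfs, hm] at hβ'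
    -- the two sums agree
    have hsum : ∀ μ : IrrCharacter (Subgroup.zpowers y),
        (d μ * (μ : Subgroup.zpowers y → ℂ) ⟨y, Subgroup.mem_zpowers y⟩ ^ k) ^ p ^ e =
        (d μ * (μ : Subgroup.zpowers y → ℂ) ⟨y, Subgroup.mem_zpowers y⟩) ^ p ^ e := by
      intro μ
      rw [mul_pow, mul_pow]
      congr 1
      have h1 : (μ : Subgroup.zpowers y → ℂ) ⟨y, Subgroup.mem_zpowers y⟩ ^ orderOf y = 1 := by
        rw [← hμpow, show (⟨y, Subgroup.mem_zpowers y⟩ : Subgroup.zpowers y) ^ orderOf y = 1 from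
          Subtype.ext (pow_orderOf_eq_one y), hμ1]
      obtain ⟨j, hj⟩ := (Nat.modEq_iff_dvd' hkpos).mp hk1.symm
      have hkj : k = 1 + r * j := by omega
      rw [← pow_mul, hkj]
      have : (1 + r * j) * p ^ e = p ^ e + orderOf y * j := by rw [hor]; ring
      rw [this, pow_add, pow_mul, h1, one_pow, mul_one]
    rw [Finset.sum_congr rfl (fun μ _ => hsum μ)] at hβ'
    have hdiff : (((n ^ p ^ e - m ^ p ^ e : ℤ)) : ℂ) = (p : ℂ) * ((α : ℂ) - (β : ℂ)) := by
      push_cast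
      rw [mul_sub, ← hα', ← hβ']
      ring
    have hdvd := int_dvd_of_eq_mul_isIntegral hp.out.ne_zero (α.2.sub β.2) hdiff
    rw [← ZMod.intCast_zmod_eq_zero_iff_dvd] at hdvd ⊢
    push_cast at hdvd ⊢
    rw [ZMod.pow_card_pow, ZMod.pow_card_pow] at hdvd
    exact hdvd

end BrauerCong

end Cfsg.Agent.Helper24
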