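import Mathlib
import Cfsg.Prelude.Def_Characters
import Cfsg.Agent.Helper24.BrauerA
import Cfsg.Agent.Helper24.BrauerCong
import Cfsg.Agent.Helper24.ColumnOrth
import Cfsg.Agent.Helper8.CharComp

/-!
Brauer induction: the functions `ψ_x` of Serre's Lemma 8.
-/

namespace Cfsg.Agent.Helper24

open Representation Module

universe u

section BrauerPsi

variable {G : Type u} [Group G]

/-- A finite set stable under right multiplication by a subgroup has cardinality divisible by the
order of the subgroup. -/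
theorem card_dvd_card_of_right_invariant [Fintype G] (P : Subgroup G) (S : G → Prop)
    [DecidablePred S] (hS : ∀ y, ∀ v ∈ P, S y → S (y * v)) :
    Nat.card P ∣ (Finset.univ.filter S).card := by
  classical
  have hS' : ∀ y, ∀ v ∈ P, S (y * v) ↔ S y := by
    intro y v hv
    constructor
    · intro h
      have := hS (y * v) v⁻¹ (P.inv_mem hv) h
      rwa [mul_inv_cancel_right] at this
    · exact hS y v hv
  have h1 : ∀ y : G, S y ↔ S ((QuotientGroup.mk y : G ⧸ P).out) := by
    intro y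
    obtain ⟨h, hh⟩ := QuotientGroup.mk_out_eq_mul P y
    rw [hh, hS' y h h.2]
  haveI : Fintype P := Fintype.ofFinite P
  haveI : Fintype (G ⧸ P) := Fintype.ofFinite _
  have h2 : (Finset.univ.filter S).card =
      ∑ y : G, (if S ((QuotientGroup.mk y : G ⧸ P).out) then 1 else 0) := by
    rw [Finset.card_filter]
    refine Finset.sum_congr rfl ?_
    intro y _
    by_cases h : S y
    · rw [if_pos h, if_pos ((h1 y).mp h)]
    · rw [if_neg h, if_neg (fun h' => h ((h1 y).mpr h'))]
  have h3 : ∑ y : G, (if S ((QuotientGroup.mk y : G ⧸ P).out) then 1 else 0) =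
      ∑ z : (G ⧸ P) × P, (if S (z.1.out) then 1 else 0) := by
    refine Fintype.sum_equiv (Subgroup.groupEquivQuotientProdSubgroup (s := P)) _ _ ?_
    intro y
    rfl
  rw [h2, h3, Fintype.sum_prod_type]
  refine Finset.dvd_sum ?_
  intro c _
  show Nat.card P ∣ ∑ _y : P, if S (Quotient.out c) then 1 else 0
  rw [Finset.sum_const, Finset.card_univ, smul_eq_mul, Nat.card_eq_fintype_card]
  exact dvd_mul_right _ _

/-- The subgroup `⟨x⟩ P` for a subgroup `P` centralizing `x`. -/
def brauerH (x : G) (P : Subgroup G) (hP : ∀ u ∈ P, u * x = x * u) : Subgroup G where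
  carrier := {g | ∃ i : ℤ, ∃ u ∈ P, g = x ^ i * u}
  one_mem' := ⟨0, 1, P.one_mem, by simp⟩
  mul_mem' := by
    rintro _ _ ⟨i, u, hu, rfl⟩ ⟨j, v, hv, rfl⟩
    refine ⟨i + j, u * v, P.mul_mem hu hv, ?_⟩
    have hc : u * x ^ j = x ^ j * u := (Commute.zpow_right (hP u hu) j).eq
    calc x ^ i * u * (x ^ j * v) = x ^ i * (u * x ^ j) * v := by group
      _ = x ^ i * (x ^ j * u) * v := by rw [hc]
      _ = x ^ (i + j) * (u * v) := by rw [zpow_add]; group
  inv_mem' := by
    rintro _ ⟨i, u, hu, rfl⟩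
    refine ⟨-i, u⁻¹, P.inv_mem hu, ?_⟩
    have hc : u⁻¹ * x ^ (-i) = x ^ (-i) * u⁻¹ :=
      (Commute.zpow_right (Commute.inv_left (hP u hu)) (-i)).eq
    rw [mul_inv_rev, ← zpow_neg, hc]

theorem mem_brauerH {x : G} {P : Subgroup G} {hP : ∀ u ∈ P, u * x = x * u} {g : G} :
    g ∈ brauerH x P hP ↔ ∃ i : ℤ, ∃ u ∈ P, g = x ^ i * u := Iff.rfl

theorem le_brauerH (x : G) (P : Subgroup G) (hP : ∀ u ∈ P, u * x = x * u) :
    P ≤ brauerH x P hP := fun u hu => ⟨0, u, hu, by simp⟩

theorem self_mem_brauerH (x : G) (P : Subgroup G) (hP : ∀ u ∈ P, u * x = x * u) :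
    x ∈ brauerH x P hP := ⟨1, 1, P.one_mem, by simp⟩

/-- A `p`-regular element of the coset `x P` (with `P` a `p`-group centralizing the `p`-regular
element `x`) equals `x`. -/
theorem eq_of_coprime_of_mem_coset [Finite G] (p : ℕ) [hp : Fact p.Prime] (x t : G)
    (P : Subgroup G) (hPp : IsPGroup p P) (hP : ∀ u ∈ P, u * x = x * u)
    (hx : (orderOf x).Coprime p) (ht : (orderOf t).Coprime p) (hmem : x⁻¹ * t ∈ P) : t = x := by
  have hcomm : Commute x⁻¹ t := by
    have h1 : Commute (x⁻¹ * t) x := hP _ hmem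
    have h2 : Commute (x⁻¹ * t) x⁻¹ := h1.inv_right
    have h3 : Commute x⁻¹ x⁻¹ := Commute.refl _
    have h4 : Commute (x⁻¹ * (x⁻¹ * t)) x⁻¹ := h3.mul_left h2
    show x⁻¹ * t = t * x⁻¹
    have := h2.eq
    calc x⁻¹ * t = x * (x⁻¹ * (x⁻¹ * t)) := by group
      _ = x * ((x⁻¹ * t) * x⁻¹) := by rw [this]
      _ = t * x⁻¹ := by group
  have hdvd := hcomm.orderOf_mul_dvd_lcm
  rw [orderOf_inv] at hdvd
  obtain ⟨j, hj⟩ := (IsPGroup.iff_orderOf.mp hPp) ⟨x⁻¹ * t, hmem⟩
  rw [Subgroup.orderOf_mk] at hj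
  have hcop : ((orderOf x).lcm (orderOf t)).Coprime p := by
    apply Nat.Coprime.symm
    rw [Nat.Prime.coprime_iff_not_dvd hp.out]
    intro h
    rcases (Nat.Prime.dvd_mul hp.out).mp (h.trans (Nat.lcm_dvd_mul _ _)) with h1 | h1
    · exact (Nat.Prime.coprime_iff_not_dvd hp.out).mp hx.symm h1
    · exact (Nat.Prime.coprime_iff_not_dvd hp.out).mp ht.symm h1
  have hj0 : j = 0 := by
    by_contra hne
    have h1 : p ∣ orderOf (x⁻¹ * t) := by rw [hj]; exact dvd_pow_self p hne
    have h2 : p ∣ (orderOf x).lcm (orderOf t) := h1.trans hdvd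
    exact (Nat.Prime.coprime_iff_not_dvd hp.out).mp hcop.symm h2
  rw [hj0, pow_zero, orderOf_eq_one_iff] at hj
  calc t = x * (x⁻¹ * t) := by group
    _ = x := by rw [hj, mul_one]

instance brauerH_subgroupOf_normal (x : G) (P : Subgroup G) (hPx : ∀ u ∈ P, u * x = x * u) :
    (P.subgroupOf (brauerH x P hPx)).Normal := by
  constructor
  intro n hn g
  rw [Subgroup.mem_subgroupOf] at hn ⊢
  obtain ⟨i, u, hu, hg⟩ := g.2
  have hw : u * (n : G) * u⁻¹ ∈ P := P.mul_mem (P.mul_mem hu hn) (P.inv_mem hu)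
  have hc : (u * (n : G) * u⁻¹) * x ^ i = x ^ i * (u * (n : G) * u⁻¹) :=
    (Commute.zpow_right (hPx _ hw) i).eq
  have : ((g * n * g⁻¹ : brauerH x P hPx) : G) = u * (n : G) * u⁻¹ := by
    rw [Subgroup.coe_mul, Subgroup.coe_mul, Subgroup.coe_inv, hg]
    calc x ^ i * u * (n : G) * (x ^ i * u)⁻¹ = x ^ i * (u * (n : G) * u⁻¹) * (x ^ i)⁻¹ := by
          group
      _ = (u * (n : G) * u⁻¹) * x ^ i * (x ^ i)⁻¹ := by rw [hc]
      _ = u * (n : G) * u⁻¹ := by group
  rw [this]
  exact hw

/-- The quotient `⟨x⟩ P / P`. -/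
abbrev brauerQ (x : G) (P : Subgroup G) (hPx : ∀ u ∈ P, u * x = x * u) : Type u :=
  brauerH x P hPx ⧸ P.subgroupOf (brauerH x P hPx)

/-- Auxiliary form of Serre's Lemma 8, with the Sylow subgroup of the centralizer given. -/
theorem exists_brauer_psi_aux [Fintype G] (p : ℕ) [hp : Fact p.Prime] (x : G)
    (hx : (orderOf x).Coprime p) (P : Subgroup G) (hPx : ∀ u ∈ P, u * x = x * u)
    (hPp : IsPGroup p P) (m : ℕ)
    (hm : Nat.card (Subgroup.centralizer ({x} : Set G)) = Nat.card P * m) (hpm : ¬ p ∣ m) :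
    ∃ f : G → ℂ, f ∈ brauerVA p G ∧ (∀ g, ∃ n : ℤ, f g = n) ∧
      (∃ n : ℤ, f x = n ∧ ¬ (p : ℤ) ∣ n) ∧
      (∀ s, (orderOf s).Coprime p → ¬ IsConj s x → f s = 0) := by
  classical
  haveI : Fintype (brauerH x P hPx) := Fintype.ofFinite _
  have hPH : P ≤ brauerH x P hPx := le_brauerH x P hPx
  have hxH : x ∈ brauerH x P hPx := self_mem_brauerH x P hPx
  haveI : Fintype (brauerQ x P hPx) := Fintype.ofFinite _
  haveI : Fintype (IrrCharacter (brauerQ x P hPx)) :=
    Fintype.ofFinite _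
  -- every element of the quotient is a power of the image of x
  have hQpow : ∀ a : brauerQ x P hPx, ∃ i : ℤ,
      a = (QuotientGroup.mk (⟨x, hxH⟩ : brauerH x P hPx)) ^ i := by
    intro a
    induction a using QuotientGroup.induction_on with
    | H h =>
      obtain ⟨i, u, hu, hg⟩ := h.2
      refine ⟨i, ?_⟩
      rw [← QuotientGroup.mk_zpow, QuotientGroup.eq, Subgroup.mem_subgroupOf,
        Subgroup.coe_mul, Subgroup.coe_inv, Subgroup.coe_zpow, hg]
      have : (x ^ i * u)⁻¹ * x ^ i = u⁻¹ := by group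
      rw [this]
      exact P.inv_mem hu
  have hQcomm : ∀ a b : brauerQ x P hPx, a * b = b * a := by
    intro a b
    obtain ⟨i, rfl⟩ := hQpow a
    obtain ⟨j, rfl⟩ := hQpow b
    rw [← zpow_add, ← zpow_add, add_comm]
  -- the function ψ on H
  obtain ⟨ψ, hψdef⟩ : ∃ ψ : brauerH x P hPx → ℂ, ψ = fun h =>
      ∑ ν : IrrCharacter (brauerQ x P hPx),
        (starRingEnd ℂ) ((ν : brauerQ x P hPx → ℂ) (QuotientGroup.mk (⟨x, hxH⟩ : brauerH x P hPx))) *
          (ν : brauerQ x P hPx → ℂ) (QuotientGroup.mk h) := ⟨_, rfl⟩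
  have hψval : ∀ h : brauerH x P hPx, ψ h = if x⁻¹ * (h : G) ∈ P then
      (Nat.card (brauerQ x P hPx) : ℂ) else 0 := by
    intro h
    rw [hψdef]
    have h1 := sum_irr_mul_conj (QuotientGroup.mk h :
      brauerQ x P hPx)
      (QuotientGroup.mk (⟨x, hxH⟩ : brauerH x P hPx))
    have h2 : ∀ ν : IrrCharacter (brauerQ x P hPx),
        (starRingEnd ℂ) ((ν : brauerQ x P hPx → ℂ) (QuotientGroup.mk (⟨x, hxH⟩ : brauerH x P hPx))) *
          (ν : brauerQ x P hPx → ℂ) (QuotientGroup.mk h) =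
        (ν : brauerQ x P hPx → ℂ) (QuotientGroup.mk h) *
          (starRingEnd ℂ) ((ν : brauerQ x P hPx → ℂ) (QuotientGroup.mk (⟨x, hxH⟩ : brauerH x P hPx))) :=
      fun ν => mul_comm _ _
    simp only [h2]
    rw [h1]
    have h3 : IsConj (QuotientGroup.mk h : brauerQ x P hPx)
        (QuotientGroup.mk (⟨x, hxH⟩ : brauerH x P hPx)) ↔ x⁻¹ * (h : G) ∈ P := by
      rw [isConj_iff]
      constructor
      · rintro ⟨c, hc⟩
        rw [hQcomm c, mul_assoc, mul_inv_cancel, mul_one] at hc
        have := (QuotientGroup.eq.mp hc.symm)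
        rw [Subgroup.mem_subgroupOf] at this
        simpa using this
      · intro hmem
        refine ⟨1, ?_⟩
        rw [one_mul, inv_one, mul_one]
        symm
        rw [QuotientGroup.eq, Subgroup.mem_subgroupOf]
        simpa using hmem
    have h4 : Subgroup.centralizer ({(QuotientGroup.mk h :
        brauerQ x P hPx)} : Set _) = ⊤ := by
      rw [eq_top_iff]
      intro y _
      rw [Subgroup.mem_centralizer_iff]
      intro z _
      exact hQcomm z y
    by_cases hc : x⁻¹ * (h : G) ∈ P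
    · rw [if_pos hc, if_pos (h3.mpr hc), h4, Subgroup.card_top]
    · rw [if_neg hc, if_neg (fun h' => hc (h3.mp h'))]
  -- H is p-elementary
  have hHelem : IsElementary p (brauerH x P hPx) := by
    have hcen : (⟨x, hxH⟩ : brauerH x P hPx) ∈ Subgroup.center (brauerH x P hPx) := by
      rw [Subgroup.mem_center_iff]
      intro g
      apply Subtype.ext
      obtain ⟨i, u, hu, hg⟩ := g.2
      rw [Subgroup.coe_mul, Subgroup.coe_mul, hg]
      have hc : u * x = x * u := hPx u hu
      calc x ^ i * u * x = x ^ i * (u * x) := by group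
        _ = x ^ i * (x * u) := by rw [hc]
        _ = x * (x ^ i * u) := by
          rw [← mul_assoc, ← mul_assoc]
          congr 1
          exact (Commute.zpow_left (Commute.refl x) i).eq
    refine ⟨⟨x, hxH⟩, hcen, by rw [Subgroup.orderOf_mk]; exact hx, ?_⟩
    haveI hzn : (Subgroup.zpowers (⟨x, hxH⟩ : brauerH x P hPx)).Normal := by
      constructor
      intro n hn g
      obtain ⟨k, rfl⟩ := hn
      have hk : (⟨x, hxH⟩ : brauerH x P hPx) ^ k ∈ Subgroup.center (brauerH x P hPx) :=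
        Subgroup.zpow_mem _ hcen k
      have := Subgroup.mem_center_iff.mp hk g
      rw [this, mul_assoc, mul_inv_cancel, mul_one]
      exact ⟨k, rfl⟩
    have hpq : IsPGroup p (brauerH x P hPx ⧸ Subgroup.zpowers (⟨x, hxH⟩ : brauerH x P hPx)) := by
      intro a
      induction a using QuotientGroup.induction_on with
      | H h =>
        obtain ⟨i, u, hu, hg⟩ := h.2
        obtain ⟨k, hk⟩ := hPp ⟨u, hu⟩
        refine ⟨k, ?_⟩
        rw [← QuotientGroup.mk_pow, QuotientGroup.eq_one_iff]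
        have h1 : h = (⟨x, hxH⟩ : brauerH x P hPx) ^ i * ⟨u, hPH hu⟩ := Subtype.ext (by
          rw [Subgroup.coe_mul, Subgroup.coe_zpow]; exact hg)
        have hcomm : Commute ((⟨x, hxH⟩ : brauerH x P hPx) ^ i) ⟨u, hPH hu⟩ :=
          (Subgroup.mem_center_iff.mp (Subgroup.zpow_mem _ hcen i) _).symm
        rw [h1, hcomm.mul_pow]
        have h2 : (⟨u, hPH hu⟩ : brauerH x P hPx) ^ p ^ k = 1 := by
          apply Subtype.ext
          have := congrArg Subtype.val hk
          simpa using this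
        rw [h2, mul_one, ← zpow_natCast, ← zpow_mul]
        exact ⟨_, rfl⟩
    obtain ⟨k, hk⟩ := (IsPGroup.iff_card).mp hpq
    exact ⟨k, by rw [Subgroup.index_eq_card]; exact hk⟩
  -- membership in the Brauer span
  have hfmem : indFun (brauerH x P hPx) ψ ∈ brauerVA p G := by
    have h1 : ψ = ∑ ν : IrrCharacter (brauerQ x P hPx),
        (starRingEnd ℂ) ((ν : brauerQ x P hPx → ℂ)
          (QuotientGroup.mk (⟨x, hxH⟩ : brauerH x P hPx))) •
          (fun h : brauerH x P hPx => (ν : brauerQ x P hPx → ℂ) (QuotientGroup.mk h)) := by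
      rw [hψdef]
      funext h
      rw [Finset.sum_apply]
      rfl
    rw [h1, Helper8.indFun_sum]
    refine sum_mem ?_
    intro ν _
    rw [Helper8.indFun_smul]
    apply AddSubgroup.subset_closure
    refine ⟨_, brauerH x P hPx, _, map_isIntegral_int _ (irr_isIntegral ν _), hHelem, ?_, rfl⟩
    exact Helper8.isCharacter_comp (QuotientGroup.mk' (P.subgroupOf (brauerH x P hPx)))
      (IsIrrCharacter.isCharacter ν.2)
  -- extension by zero of ψ
  have hebz : ∀ t : G, extendByZero (brauerH x P hPx) ψ t =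
      if x⁻¹ * t ∈ P then (Nat.card (brauerQ x P hPx) : ℂ) else 0 := by
    intro t
    by_cases ht : t ∈ brauerH x P hPx
    · rw [Helper8.ebz_mem _ _ ht, hψval]
    · rw [Helper8.ebz_not_mem _ _ ht, if_neg]
      intro hmem
      apply ht
      have : t = x ^ (1 : ℤ) * (x⁻¹ * t) := by rw [zpow_one]; group
      exact ⟨1, x⁻¹ * t, hmem, this⟩
  have hcardH : Nat.card (brauerH x P hPx) = Nat.card (brauerQ x P hPx) * Nat.card P := by
    rw [Subgroup.card_eq_card_quotient_mul_card_subgroup (P.subgroupOf (brauerH x P hPx))]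
    congr 1
    exact Nat.card_congr (Subgroup.subgroupOfEquivOfLe hPH).toEquiv
  have hQ0 : (Nat.card (brauerQ x P hPx) : ℂ) ≠ 0 := by
    have := Nat.card_pos (α := brauerQ x P hPx)
    exact_mod_cast this.ne'
  have hP0 : (Nat.card P : ℂ) ≠ 0 := by
    have := Nat.card_pos (α := P)
    exact_mod_cast this.ne'
  have hfval : ∀ g : G, indFun (brauerH x P hPx) ψ g = (Nat.card P : ℂ)⁻¹ *
      ((Finset.univ.filter (fun y : G => x⁻¹ * (y⁻¹ * g * y) ∈ P)).card : ℂ) := by
    intro g
    unfold indFun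
    simp_rw [hebz]
    rw [← Finset.sum_filter, Finset.sum_const, nsmul_eq_mul, hcardH]
    push_cast
    field_simp
  have hconjord : ∀ s y : G, orderOf (y⁻¹ * s * y) = orderOf s := by
    intro s y
    exact (SemiconjBy.orderOf_eq y⁻¹ (show SemiconjBy y⁻¹ s (y⁻¹ * s * y) by
      unfold SemiconjBy; group)).symm
  refine ⟨indFun (brauerH x P hPx) ψ, hfmem, ?_, ?_, ?_⟩
  · intro g
    rw [hfval]
    obtain ⟨c, hc⟩ := card_dvd_card_of_right_invariant P
      (fun y : G => x⁻¹ * (y⁻¹ * g * y) ∈ P) (by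
        intro y v hv hy
        have hvx : v * x = x * v := hPx v hv
        have hvx' : x⁻¹ * v⁻¹ = v⁻¹ * x⁻¹ := by rw [← mul_inv_rev, ← mul_inv_rev, hvx]
        have : x⁻¹ * ((y * v)⁻¹ * g * (y * v)) = v⁻¹ * (x⁻¹ * (y⁻¹ * g * y)) * v := by
          calc x⁻¹ * ((y * v)⁻¹ * g * (y * v)) = (x⁻¹ * v⁻¹) * (y⁻¹ * g * y) * v := by group
            _ = (v⁻¹ * x⁻¹) * (y⁻¹ * g * y) * v := by rw [hvx']
            _ = v⁻¹ * (x⁻¹ * (y⁻¹ * g * y)) * v := by group
        show x⁻¹ * ((y * v)⁻¹ * g * (y * v)) ∈ P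
        rw [this]
        exact P.mul_mem (P.mul_mem (P.inv_mem hv) hy) hv)
    refine ⟨c, ?_⟩
    rw [hc]
    push_cast
    field_simp
  · have hfilter : Finset.univ.filter (fun y : G => x⁻¹ * (y⁻¹ * x * y) ∈ P) =
        Finset.univ.filter (fun y : G => y ∈ Subgroup.centralizer ({x} : Set G)) := by
      ext y
      simp only [Finset.mem_filter, Finset.mem_univ, true_and]
      constructor
      · intro hmem
        have := eq_of_coprime_of_mem_coset p x (y⁻¹ * x * y) P hPp hPx hx
          (by rw [hconjord]; exact hx) hmem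
        rw [Subgroup.mem_centralizer_iff]
        intro h hh
        rw [Set.mem_singleton_iff] at hh
        subst hh
        calc h * y = y * (y⁻¹ * h * y) := by group
          _ = y * h := by rw [this]
      · intro hy
        have := Subgroup.mem_centralizer_iff.mp hy x (Set.mem_singleton x)
        have e : y⁻¹ * x * y = x := by
          calc y⁻¹ * x * y = y⁻¹ * (x * y) := by group
            _ = y⁻¹ * (y * x) := by rw [this]
            _ = x := by group
        rw [e, inv_mul_cancel]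
        exact P.one_mem
    refine ⟨m, ?_, by exact_mod_cast hpm⟩
    rw [hfval, hfilter, ← Fintype.card_subtype, ← Nat.card_eq_fintype_card]
    have : Nat.card {y : G // y ∈ Subgroup.centralizer ({x} : Set G)} = Nat.card P * m := hm
    rw [this]
    push_cast
    field_simp
  · intro s hs hsx
    rw [hfval]
    have : Finset.univ.filter (fun y : G => x⁻¹ * (y⁻¹ * s * y) ∈ P) = ∅ := by
      rw [Finset.filter_eq_empty_iff]
      intro y _ hmem
      have := eq_of_coprime_of_mem_coset p x (y⁻¹ * s * y) P hPp hPx hx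
        (by rw [hconjord]; exact hs) hmem
      apply hsx
      rw [isConj_iff]
      exact ⟨y⁻¹, by rw [inv_inv]; exact this⟩
    rw [this, Finset.card_empty]
    simp

/-- Serre's Lemma 8. -/
theorem exists_brauer_psi [Fintype G] (p : ℕ) [hp : Fact p.Prime] (x : G)
    (hx : (orderOf x).Coprime p) :
    ∃ f : G → ℂ, f ∈ brauerVA p G ∧ (∀ g, ∃ n : ℤ, f g = n) ∧
      (∃ n : ℤ, f x = n ∧ ¬ (p : ℤ) ∣ n) ∧
      (∀ s, (orderOf s).Coprime p → ¬ IsConj s x → f s = 0) := by
  classical
  -- the centralizer and its Sylow subgroup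
  obtain ⟨P₀⟩ : Nonempty (Sylow p (Subgroup.centralizer ({x} : Set G))) := inferInstance
  obtain ⟨P, hPdef⟩ : ∃ P : Subgroup G,
      P = (P₀ : Subgroup (Subgroup.centralizer ({x} : Set G))).map
        (Subgroup.centralizer ({x} : Set G)).subtype := ⟨_, rfl⟩
  have hPx : ∀ u ∈ P, u * x = x * u := by
    intro u hu
    rw [hPdef] at hu
    obtain ⟨z, _, rfl⟩ := hu
    have := Subgroup.mem_centralizer_iff.mp z.2 x (Set.mem_singleton x)
    exact this.symm
  have hPp : IsPGroup p P := by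
    rw [hPdef]
    exact P₀.isPGroup'.map _
  have hPcard : Nat.card (Subgroup.centralizer ({x} : Set G)) =
      Nat.card P * (P₀ : Subgroup (Subgroup.centralizer ({x} : Set G))).index := by
    rw [hPdef, Subgroup.card_map_of_injective (Subgroup.subtype_injective _)]
    exact (Subgroup.card_mul_index _).symm
  have hPidx : ¬ p ∣ (P₀ : Subgroup (Subgroup.centralizer ({x} : Set G))).index :=
    P₀.not_dvd_index
  exact exists_brauer_psi_aux p x hx P hPx hPp _ hPcard hPidx

end BrauerPsi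

end Cfsg.Agent.Helper24
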