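import Mathlib
import Cfsg.Prelude.Def_Characters
import Cfsg.Agent.Helper24.BrauerPsi
import Cfsg.Agent.Helper24.BrauerCyclic

/-!
Brauer induction: an integer prime to `p` times the principal character lies in the span (with
algebraic integer coefficients) of characters induced from `p`-elementary subgroups.
-/

namespace Cfsg.Agent.Helper24

open Representation Module

universe u

section BrauerL

variable {G : Type u} [Group G] [Fintype G]

/-- Serre's Lemma 9: an integer valued element of the Brauer span with all values prime to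
`p`. -/
theorem exists_brauer_unit (p : ℕ) [hp : Fact p.Prime] :
    ∃ f : G → ℂ, f ∈ brauerVA p G ∧ ∀ g, ∃ n : ℤ, f g = n ∧ ¬ (p : ℤ) ∣ n := by
  classical
  haveI : Fintype (ConjClasses G) := Fintype.ofFinite _
  have hex : ∀ x : G, (orderOf x).Coprime p →
      ∃ f : G → ℂ, f ∈ brauerVA p G ∧ (∀ g, ∃ n : ℤ, f g = n) ∧
      (∃ n : ℤ, f x = n ∧ ¬ (p : ℤ) ∣ n) ∧
      (∀ s, (orderOf s).Coprime p → ¬ IsConj s x → f s = 0) :=
    fun x hx => exists_brauer_psi p x hx
  choose F hF1 hF2 hF3 hF4 using hex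
  -- the sum over p-regular classes
  let Ψ : G → ℂ := ∑ c : ConjClasses G,
    if h : (orderOf (Quotient.out c : G)).Coprime p then F (Quotient.out c) h else 0
  have hΨmem : Ψ ∈ brauerVA p G := by
    refine sum_mem ?_
    intro c _
    split_ifs with h
    · exact hF1 _ h
    · exact zero_mem _
  have hΨint : ∀ g, ∃ n : ℤ, Ψ g = n := by
    intro g
    have h1 : ∀ c : ConjClasses G, ∃ n : ℤ,
        (if h : (orderOf (Quotient.out c : G)).Coprime p then F (Quotient.out c) h else 0) g =
          n := by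
      intro c
      split_ifs with h
      · exact hF2 _ h g
      · exact ⟨0, by simp⟩
    choose n hn using h1
    refine ⟨∑ c, n c, ?_⟩
    show (∑ c : ConjClasses G,
      if h : (orderOf (Quotient.out c : G)).Coprime p then F (Quotient.out c) h else 0) g = _
    rw [Finset.sum_apply]
    push_cast
    exact Finset.sum_congr rfl (fun c _ => hn c)
  have hconjord : ∀ a b : G, IsConj a b → orderOf a = orderOf b := by
    intro a b hab
    obtain ⟨c, hc⟩ := isConj_iff.mp hab
    exact SemiconjBy.orderOf_eq c (show SemiconjBy c a b by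
      unfold SemiconjBy; rw [← hc]; group)
  -- values at p-regular elements
  have hΨreg : ∀ s : G, (orderOf s).Coprime p → ∃ n : ℤ, Ψ s = n ∧ ¬ (p : ℤ) ∣ n := by
    intro s hs
    have hout : IsConj s (Quotient.out (ConjClasses.mk s) : G) := by
      have : ConjClasses.mk (Quotient.out (ConjClasses.mk s) : G) = ConjClasses.mk s :=
        Quotient.out_eq _
      exact (ConjClasses.mk_eq_mk_iff_isConj.mp this).symm
    have hreg : (orderOf (Quotient.out (ConjClasses.mk s) : G)).Coprime p := by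
      rw [← hconjord _ _ hout]; exact hs
    obtain ⟨n, hn, hpn⟩ := hF3 _ hreg
    refine ⟨n, ?_, hpn⟩
    show (∑ c : ConjClasses G,
      if h : (orderOf (Quotient.out c : G)).Coprime p then F (Quotient.out c) h else 0) s = _
    rw [Finset.sum_apply, Finset.sum_eq_single (ConjClasses.mk s)]
    · rw [dif_pos hreg]
      have hcf : IsClassFunction G (F _ hreg) :=
        charSpanA_isClassFunction (brauerVA_le_charSpanA p (hF1 _ hreg))
      rw [IsClassFunction.eq_of_isConj hcf hout, hn]
    · intro c _ hc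
      split_ifs with h
      · apply hF4 _ h s hs
        intro hconj
        apply hc
        rw [← Quotient.out_eq c]
        exact (ConjClasses.mk_eq_mk_iff_isConj.mpr hconj).symm
      · rfl
    · intro h
      exact absurd (Finset.mem_univ _) h
  refine ⟨Ψ, hΨmem, ?_⟩
  intro y
  obtain ⟨s, hs, n, m, hn, hm, hdvd⟩ :=
    brauer_congruence p Ψ (brauerVA_le_charSpanA p hΨmem) hΨint y
  obtain ⟨m', hm', hpm'⟩ := hΨreg s hs
  refine ⟨n, hn, ?_⟩
  intro hpn
  apply hpm'
  have : (m : ℂ) = (m' : ℂ) := by rw [← hm, ← hm']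
  have hmm : m = m' := by exact_mod_cast this
  rw [← hmm]
  have := dvd_sub hpn hdvd
  simpa using this

/-- Serre's Theorem 18 (with algebraic integer coefficients): some integer prime to `p` times
the principal character is in the Brauer span. -/
theorem exists_coprime_smul_one_mem (p : ℕ) [hp : Fact p.Prime] :
    ∃ l : ℕ, ¬ p ∣ l ∧ ((l : ℂ) • (fun _ : G => (1 : ℂ))) ∈ brauerVA p G := by
  classical
  obtain ⟨f, hfmem, hfval⟩ := exists_brauer_unit (G := G) p
  have hG0 : Nat.card G ≠ 0 := Nat.card_pos.ne'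
  obtain ⟨n, l, hl, hGl⟩ := Nat.exists_eq_pow_mul_and_not_dvd hG0 p hp.out.ne_one
  refine ⟨l, hl, ?_⟩
  have hNpos : 0 < Nat.totient (p ^ n) := Nat.totient_pos.mpr (pow_pos hp.out.pos n)
  obtain ⟨N, hN⟩ : ∃ N, 2 * Nat.totient (p ^ n) = N + 1 := ⟨2 * Nat.totient (p ^ n) - 1, by omega⟩
  have hpow : f ^ (N + 1) ∈ brauerVA p G := brauerVA_pow hfmem N
  have hcf : IsClassFunction G f := charSpanA_isClassFunction (brauerVA_le_charSpanA p hfmem)
  -- values of f ^ (N+1) are ≡ 1 mod p^n
  have hval : ∀ g : G, ∃ t : ℤ, (f ^ (N + 1)) g - 1 = ((p ^ n : ℕ) : ℂ) * t := by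
    intro g
    obtain ⟨k, hk, hpk⟩ := hfval g
    have hcop : Nat.Coprime k.natAbs (p ^ n) := by
      apply Nat.Coprime.pow_right
      apply Nat.Coprime.symm
      rw [Nat.Prime.coprime_iff_not_dvd hp.out]
      intro h
      apply hpk
      exact Int.natCast_dvd.mpr h
    have h1 : (k.natAbs ^ Nat.totient (p ^ n)) ^ 2 ≡ 1 ^ 2 [MOD p ^ n] :=
      (Nat.ModEq.pow_totient hcop).pow 2
    rw [one_pow, ← pow_mul, mul_comm, hN] at h1
    have h2 : ((p ^ n : ℕ) : ℤ) ∣ ((k.natAbs ^ (N + 1) : ℕ) : ℤ) - ((1 : ℕ) : ℤ) :=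
      (Nat.modEq_iff_dvd.mp h1.symm)
    obtain ⟨t, ht⟩ := h2
    refine ⟨t, ?_⟩
    rw [Pi.pow_apply, hk]
    have h3 : (k : ℤ) ^ (N + 1) = ((k.natAbs ^ (N + 1) : ℕ) : ℤ) := by
      push_cast
      rw [← hN, pow_mul, pow_mul, sq_abs]
    have h4 : ((k : ℤ) ^ (N + 1) - 1 : ℤ) = ((p ^ n : ℕ) : ℤ) * t := by
      rw [h3, ← ht]; simp
    have := congrArg (fun z : ℤ => (z : ℂ)) h4
    push_cast at this ⊢
    exact this
  -- l (f^(N+1) - 1) has values divisible by |G|
  have hmem2 : (l : ℂ) • (f ^ (N + 1) - fun _ : G => (1 : ℂ)) ∈ brauerVA p G := by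
    apply mem_brauerVA_of_values
    · refine isClassFunction_smul _ (isClassFunction_sub ?_ (fun _ _ => rfl))
      intro g x
      rw [Pi.pow_apply, Pi.pow_apply, hcf g x]
    · intro g
      obtain ⟨t, ht⟩ := hval g
      refine ⟨t, isIntegral_algebraMap (R := ℤ) (A := ℂ) (x := t) |> fun h => by simpa using h,
        ?_⟩
      rw [Pi.smul_apply, Pi.sub_apply, smul_eq_mul, ht, hGl]
      push_cast
      ring
  have hmem1 : (l : ℂ) • f ^ (N + 1) ∈ brauerVA p G :=
    brauerVA_smul hpow (isIntegral_algebraMap (R := ℤ) (A := ℂ) (x := (l : ℤ)) |>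
      fun h => by simpa using h)
  have : (l : ℂ) • (fun _ : G => (1 : ℂ)) =
      (l : ℂ) • f ^ (N + 1) - (l : ℂ) • (f ^ (N + 1) - fun _ : G => (1 : ℂ)) := by
    rw [smul_sub]
    abel
  rw [this]
  exact sub_mem hmem1 hmem2

end BrauerL

end Cfsg.Agent.Helper24
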