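import Mathlib
import Cfsg.Prelude.Def_Characters
import Cfsg.Agent.Helper24.BrauerL
import Cfsg.Agent.Helper24.BrauerDescent

/-!
Brauer's induction theorem: the principal character is an integer combination of characters
induced from elementary subgroups.
-/

namespace Cfsg.Agent.Helper24

open Representation Module

universe u

section BrauerMain

/-- Characters induced from elementary subgroups. -/
def brauerIndSet (G : Type u) [Group G] [Fintype G] : Set (G → ℂ) :=
  {φ | ∃ (p : ℕ) (E : Subgroup G) (ψ : E → ℂ), p.Prime ∧ IsElementary p E ∧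
    IsCharacter E ψ ∧ φ = indFun E ψ}

variable {G : Type u} [Group G] [Fintype G]

theorem isCharacter_of_mem_brauerIndSet {φ : G → ℂ} (hφ : φ ∈ brauerIndSet G) :
    IsCharacter G φ := by
  obtain ⟨p, E, ψ, _, _, hψ, rfl⟩ := hφ
  exact isCharacter_indFun E hψ

/-- **Brauer's induction theorem** for the principal character. -/
theorem one_mem_closure_brauerIndSet :
    (fun _ : G => (1 : ℂ)) ∈ AddSubgroup.closure (brauerIndSet G) := by
  classical
  haveI : Fintype (IrrCharacter G) := Fintype.ofFinite _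
  obtain ⟨VAll, hVAll⟩ : ∃ V : AddSubgroup (G → ℂ), V = AddSubgroup.closure
      {h : G → ℂ | ∃ (a : ℂ) (φ : G → ℂ), IsIntegral ℤ a ∧ φ ∈ brauerIndSet G ∧ h = a • φ} :=
    ⟨_, rfl⟩
  have hle : ∀ p : ℕ, p.Prime → brauerVA p G ≤ VAll := by
    intro p hp
    unfold brauerVA
    rw [AddSubgroup.closure_le, hVAll]
    rintro h ⟨a, E, ψ, ha, hE, hψ, rfl⟩
    exact AddSubgroup.subset_closure ⟨a, indFun E ψ, ha, ⟨p, E, ψ, hp, hE, hψ, rfl⟩, rfl⟩
  let J : AddSubgroup ℤ :=
    { carrier := {n | (n : ℂ) • (fun _ : G => (1 : ℂ)) ∈ VAll}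
      zero_mem' := by
        show ((0 : ℤ) : ℂ) • (fun _ : G => (1 : ℂ)) ∈ VAll
        rw [Int.cast_zero, zero_smul]
        exact zero_mem _
      add_mem' := by
        intro a b ha hb
        show ((a + b : ℤ) : ℂ) • (fun _ : G => (1 : ℂ)) ∈ VAll
        rw [Int.cast_add, add_smul]
        exact add_mem ha hb
      neg_mem' := by
        intro a ha
        show ((-a : ℤ) : ℂ) • (fun _ : G => (1 : ℂ)) ∈ VAll
        rw [Int.cast_neg, neg_smul]
        exact neg_mem ha }
  have hJ : ∀ p : ℕ, p.Prime → ∃ l : ℕ, ¬ p ∣ l ∧ (l : ℤ) ∈ J := by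
    intro p hp
    haveI := Fact.mk hp
    obtain ⟨l, hl, hmem⟩ := exists_coprime_smul_one_mem (G := G) p
    refine ⟨l, hl, ?_⟩
    show (((l : ℤ) : ℂ)) • (fun _ : G => (1 : ℂ)) ∈ VAll
    rw [Int.cast_natCast]
    exact hle p hp hmem
  have h1J : (1 : ℤ) ∈ J := by
    obtain ⟨d, hd⟩ := Int.subgroup_cyclic J
    have hdvd : ∀ p : ℕ, p.Prime → ∃ l : ℕ, ¬ p ∣ l ∧ d ∣ (l : ℤ) := by
      intro p hp
      obtain ⟨l, hl, hmem⟩ := hJ p hp
      rw [hd, AddSubgroup.mem_closure_singleton] at hmem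
      obtain ⟨k, hk⟩ := hmem
      exact ⟨l, hl, ⟨k, by rw [← hk, smul_eq_mul, mul_comm]⟩⟩
    have hd1 : d.natAbs = 1 := by
      by_contra hne
      obtain ⟨r, hr, hrd⟩ := Nat.exists_prime_and_dvd hne
      obtain ⟨l, hl, hdl⟩ := hdvd r hr
      apply hl
      have h1 : (d.natAbs : ℤ) ∣ (l : ℤ) := Int.natAbs_dvd.mpr hdl
      have h2 : ((r : ℤ)) ∣ (l : ℤ) := (Int.natCast_dvd_natCast.mpr hrd).trans h1
      exact Int.natCast_dvd_natCast.mp h2
    rw [hd, AddSubgroup.mem_closure_singleton]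
    rcases Int.natAbs_eq d with h | h
    · exact ⟨1, by rw [h, hd1]; simp⟩
    · exact ⟨-1, by rw [h, hd1]; simp⟩
  have hone : (fun _ : G => (1 : ℂ)) = ∑ χ : IrrCharacter G,
      ((Pi.single (trivIrr G) (1 : ℤ) : IrrCharacter G → ℤ) χ : ℂ) • (χ : G → ℂ) := by
    rw [Finset.sum_eq_single (trivIrr G)]
    · rw [Pi.single_eq_same, Int.cast_one, one_smul]
      rfl
    · intro χ _ hχ
      rw [Pi.single_eq_of_ne hχ, Int.cast_zero, zero_smul]
    · intro h
      exact absurd (Finset.mem_univ _) h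
  have h1J' : (fun _ : G => (1 : ℂ)) ∈ VAll := by
    have : ((1 : ℤ) : ℂ) • (fun _ : G => (1 : ℂ)) ∈ VAll := h1J
    rwa [Int.cast_one, one_smul] at this
  rw [hVAll] at h1J'
  have := mem_closure_of_mem_closure_integral (brauerIndSet G)
    (fun φ hφ => isCharacter_of_mem_brauerIndSet hφ) (Pi.single (trivIrr G) (1 : ℤ))
    (by rw [← hone]; exact h1J')
  rw [← hone] at this
  exact this

end BrauerMain

end Cfsg.Agent.Helper24
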