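import Mathlib
import Cfsg.Prelude.Def_Characters
import Cfsg.Agent.Helper24.BrauerMain

/-!
Brauer's characterization of characters.
-/

namespace Cfsg.Agent.Helper24

open Representation Module

universe u

section BrauerChar

variable {G : Type u} [Group G] [Fintype G]

/-- **Brauer's characterization of characters.** -/
theorem isGeneralizedCharacter_of_restrict_elementary (θ : G → ℂ) (hθ : IsClassFunction G θ)
    (hE : ∀ (E : Subgroup G) (p : ℕ), p.Prime → IsElementary p E →
      IsGeneralizedCharacter E (fun e : E => θ e)) : IsGeneralizedCharacter G θ := by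
  have key : ∀ f ∈ AddSubgroup.closure (brauerIndSet G), IsGeneralizedCharacter G (f * θ) := by
    intro f hf
    induction hf using AddSubgroup.closure_induction with
    | mem φ hφ =>
      obtain ⟨p, E, ψ, hp, hEl, hψ, rfl⟩ := hφ
      rw [← indFun_mul_restrict E ψ θ hθ]
      exact IsGeneralizedCharacter.indFun E
        (IsGeneralizedCharacter.mul (IsCharacter.isGeneralizedCharacter hψ) (hE E p hp hEl))
    | zero => rw [zero_mul]; exact isGeneralizedCharacter_zero
    | add x y _ _ hx hy => rw [add_mul]; exact IsGeneralizedCharacter.add hx hy
    | neg x _ hx => rw [neg_mul]; exact IsGeneralizedCharacter.neg hx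
  have := key _ (one_mem_closure_brauerIndSet (G := G))
  have h1 : (fun _ : G => (1 : ℂ)) * θ = θ := by
    funext g
    simp
  rwa [h1] at this

end BrauerChar

end Cfsg.Agent.Helper24
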