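import Mathlib

/-!
An algebraic integer that is an average of roots of unity is zero or has absolute value one.
-/

namespace Cfsg.Agent.Helper24

open Module

/-- An algebraic integer `α` with `α * n = ∑ μ ∈ S, μ * d μ`, where the `μ` are roots of unity
and `∑ d μ = n > 0`, is zero or has norm one. -/
theorem eq_zero_or_norm_eq_one_of_avg (S : Finset ℂ) (d : ℂ → ℕ) (N : ℕ) (hN : 0 < N)
    (hS : ∀ μ ∈ S, μ ^ N = 1) (n : ℕ) (hn : 0 < n) (hsum : ∑ μ ∈ S, d μ = n) (α : ℂ)
    (hα : α * n = ∑ μ ∈ S, μ * d μ) (hint : IsIntegral ℤ α) : α = 0 ∨ ‖α‖ = 1 := by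
  classical
  have hn0 : (n : ℂ) ≠ 0 := by exact_mod_cast hn.ne'
  -- the field generated by the roots of unity involved
  let K : IntermediateField ℚ ℂ := IntermediateField.adjoin ℚ (S : Set ℂ)
  have hSint : ∀ μ ∈ (S : Set ℂ), IsIntegral ℚ μ := by
    intro μ hμ
    have h1 : IsIntegral ℤ μ := IsIntegral.of_pow hN (by rw [hS μ hμ]; exact isIntegral_one)
    exact h1.tower_top
  haveI : FiniteDimensional ℚ K := IntermediateField.finiteDimensional_adjoin hSint
  have hmemK : ∀ μ ∈ S, μ ∈ K := fun μ hμ => IntermediateField.subset_adjoin ℚ _ hμ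
  -- α lies in K
  have hαeq : α = (∑ μ ∈ S, μ * d μ) / n := by
    rw [← hα]; field_simp
  have hαK : α ∈ K := by
    rw [hαeq]
    refine div_mem (sum_mem ?_) (natCast_mem K n)
    intro μ hμ
    exact mul_mem (hmemK μ hμ) (natCast_mem K _)
  let x : K := ⟨α, hαK⟩
  have hxint : IsIntegral ℤ x := by
    have : IsIntegral ℤ ((algebraMap K ℂ) x) := hint
    exact (isIntegral_algebraMap_iff (algebraMap K ℂ).injective).mp this
  -- the norm is an integer
  have hnorm_int : IsIntegral ℤ (Algebra.norm ℚ x) := Algebra.isIntegral_norm ℚ hxint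
  obtain ⟨m, hm⟩ := (IsIntegrallyClosed.isIntegral_iff (R := ℤ) (K := ℚ)).mp hnorm_int
  have hprod := Algebra.norm_eq_prod_embeddings ℚ ℂ x
  -- every embedding of x has norm at most one
  have hbound : ∀ σ : K →ₐ[ℚ] ℂ, ‖σ x‖ ≤ 1 := by
    intro σ
    have hx : x = (∑ μ ∈ S.attach, (⟨μ.1, hmemK μ.1 μ.2⟩ : K) * (d μ.1 : K)) / (n : K) := by
      apply Subtype.ext
      simp only [x]
      rw [hαeq]
      push_cast
      congr 1
      rw [← Finset.sum_attach S (fun μ => μ * (d μ : ℂ))]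
    rw [hx, map_div₀, map_sum, map_natCast, norm_div, Complex.norm_natCast]
    rw [div_le_one (by exact_mod_cast hn)]
    refine (norm_sum_le _ _).trans ?_
    have hle : ∀ μ ∈ S.attach, ‖σ ((⟨μ.1, hmemK μ.1 μ.2⟩ : K) * (d μ.1 : K))‖ ≤ (d μ.1 : ℝ) := by
      intro μ _
      rw [map_mul, map_natCast, norm_mul, Complex.norm_natCast]
      have hpow : (σ (⟨μ.1, hmemK μ.1 μ.2⟩ : K)) ^ N = 1 := by
        rw [← map_pow]
        have : (⟨μ.1, hmemK μ.1 μ.2⟩ : K) ^ N = 1 := by
          apply Subtype.ext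
          push_cast
          exact hS μ.1 μ.2
        rw [this, map_one]
      rw [Complex.norm_eq_one_of_pow_eq_one hpow hN.ne', one_mul]
    refine (Finset.sum_le_sum hle).trans ?_
    rw [Finset.sum_attach S (fun μ => (d μ : ℝ))]
    have : (∑ μ ∈ S, (d μ : ℝ)) = (n : ℝ) := by exact_mod_cast hsum
    rw [this]
  -- compare with the identity embedding
  let σ₀ : K →ₐ[ℚ] ℂ := K.val
  have hσ₀ : σ₀ x = α := rfl
  by_cases hlt : ‖α‖ < 1
  · left
    have hmnorm : ‖((m : ℚ) : ℂ)‖ < 1 := by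
      have h1 : ((m : ℚ) : ℂ) = ∏ σ : K →ₐ[ℚ] ℂ, σ x := by
        rw [← hprod, ← hm]
        simp
      rw [h1, norm_prod, ← Finset.mul_prod_erase Finset.univ _ (Finset.mem_univ σ₀)]
      calc ‖σ₀ x‖ * ∏ σ ∈ Finset.univ.erase σ₀, ‖σ x‖ ≤ ‖σ₀ x‖ * 1 := by
            refine mul_le_mul_of_nonneg_left ?_ (norm_nonneg _)
            exact Finset.prod_le_one (fun σ _ => norm_nonneg _) (fun σ _ => hbound σ)
        _ < 1 := by rw [mul_one, hσ₀]; exact hlt
    have hm0 : m = 0 := by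
      have : |m| < 1 := by
        have h2 : ‖((m : ℚ) : ℂ)‖ = |(m : ℝ)| := by
          rw [show ((m : ℚ) : ℂ) = ((m : ℝ) : ℂ) by push_cast; rfl, Complex.norm_real]
          rfl
        rw [h2] at hmnorm
        exact_mod_cast hmnorm
      exact Int.abs_lt_one_iff.mp this
    have hnorm0 : Algebra.norm ℚ x = 0 := by
      rw [← hm, hm0]; simp
    have hx0 : x = 0 := Algebra.norm_eq_zero_iff.mp hnorm0
    have := congrArg (fun y : K => (y : ℂ)) hx0
    simpa [x] using this
  · right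
    have h1 : ‖α‖ ≤ 1 := by
      have := hbound σ₀
      rwa [hσ₀] at this
    exact le_antisymm h1 (not_lt.mp hlt)

end Cfsg.Agent.Helper24
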