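import Mathlib
import Cfsg.Prelude.Def_Characters
import Cfsg.Agent.Helper24.Integrality
import Cfsg.Agent.Helper24.AvgRoots
import Cfsg.Agent.Helper24.Linear

/-!
Burnside's lemma on coprime degree and class size, and the `p^a q^b` theorem.
-/

namespace Cfsg.Agent.Helper24

open Representation Module

universe u v

section Coprime

variable {G : Type u} [Group G] [Finite G]
variable {V : Type v} [AddCommGroup V] [Module ℂ V] [FiniteDimensional ℂ V]

/-- If the degree of an irreducible representation is coprime to the class size of `g`, then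
`χ g = 0` or `‖χ g‖ = χ 1`. -/
theorem char_eq_zero_or_norm_eq_of_coprime (ρ : Representation ℂ G V) [ρ.IsIrreducible] (g : G)
    (hcop : Nat.Coprime (finrank ℂ V) (Subgroup.centralizer ({g} : Set G)).index) :
    ρ.character g = 0 ∨ ‖ρ.character g‖ = (finrank ℂ V : ℝ) := by
  set n := finrank ℂ V with hn
  set h := (Subgroup.centralizer ({g} : Set G)).index with hh
  have hnpos : 0 < n := finrank_pos_of_isIrreducible ρ
  have hn0 : (n : ℂ) ≠ 0 := by exact_mod_cast hnpos.ne'
  set α : ℂ := ρ.character g / n with hα
  -- α is an algebraic integer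
  have hαint : IsIntegral ℤ α := by
    have hbez : (1 : ℤ) = n * Nat.gcdA n h + h * Nat.gcdB n h := by
      have := Nat.gcd_eq_gcd_ab n h
      rw [hcop.gcd_eq_one] at this
      exact_mod_cast this
    have h1 : α = (Nat.gcdA n h : ℂ) * ρ.character g +
        (Nat.gcdB n h : ℂ) * ((h : ℂ) * ρ.character g / (n : ℂ)) := by
      have hb : (1 : ℂ) = (n : ℂ) * (Nat.gcdA n h : ℂ) + (h : ℂ) * (Nat.gcdB n h : ℂ) := by
        exact_mod_cast hbez
      rw [hα]
      field_simp
      calc ρ.character g = ρ.character g * 1 := (mul_one _).symm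
        _ = ρ.character g * ((n : ℂ) * (Nat.gcdA n h : ℂ) + (h : ℂ) * (Nat.gcdB n h : ℂ)) := by
            rw [← hb]
        _ = _ := by ring
    rw [h1]
    refine IsIntegral.add (IsIntegral.mul ?_ (char_isIntegral ρ g))
      (IsIntegral.mul ?_ (isIntegral_index_mul_char_div ρ g))
    · exact isIntegral_algebraMap (R := ℤ) (A := ℂ) (x := Nat.gcdA n h) |> fun h => by simpa using h
    · exact isIntegral_algebraMap (R := ℤ) (A := ℂ) (x := Nat.gcdB n h) |> fun h => by simpa using h
  have hαn : α * n = ∑ μ ∈ eigenFinset (ρ g),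
      μ * (Module.finrank ℂ (Module.End.eigenspace (ρ g) μ) : ℂ) := by
    rw [hα, div_mul_cancel₀ _ hn0, char_eq_sum_eigen ρ g]
  have hsum : ∑ μ ∈ eigenFinset (ρ g), Module.finrank ℂ (Module.End.eigenspace (ρ g) μ) = n := by
    have := finrank_eq_sum_eigen ρ g
    exact_mod_cast this.symm
  have := eq_zero_or_norm_eq_one_of_avg (eigenFinset (ρ g))
    (fun μ => Module.finrank ℂ (Module.End.eigenspace (ρ g) μ)) (orderOf g) (orderOf_pos g)
    (fun μ hμ => rho_eigenvalue_pow ρ g (mem_eigenFinset.mp hμ)) n hnpos hsum α hαn hαint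
  rcases this with h0 | h1
  · left
    rw [hα, div_eq_zero_iff] at h0
    rcases h0 with h0 | h0
    · exact h0
    · exact absurd h0 hn0
  · right
    rw [hα, norm_div, Complex.norm_natCast, div_eq_one_iff_eq (by exact_mod_cast hnpos.ne')] at h1
    exact h1

end Coprime

section Simple

variable {G : Type u} [Group G] [Finite G]
variable {V : Type v} [AddCommGroup V] [Module ℂ V] [FiniteDimensional ℂ V]

omit [Finite G] [FiniteDimensional ℂ V] in
/-- In a non-commutative simple group, if a nontrivial element acts as a scalar in some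
representation, then the representation is trivial. -/
theorem rho_eq_id_of_scalar [IsSimpleGroup G] (hnc : ¬ ∀ a b : G, a * b = b * a)
    (ρ : Representation ℂ G V) (g : G) (hg : g ≠ 1) (c : ℂ)
    (hc : ρ g = c • (LinearMap.id : V →ₗ[ℂ] V)) : ∀ x, ρ x = LinearMap.id := by
  set φ : G →* Units (V →ₗ[ℂ] V) := ρ.asGroupHom with hφ
  have hφa : ∀ x, ((φ x : Units (V →ₗ[ℂ] V)) : V →ₗ[ℂ] V) = ρ x := fun x => rfl
  -- the preimage of the centre
  have hN2 := IsSimpleGroup.eq_bot_or_eq_top_of_normal
    ((Subgroup.center (Units (V →ₗ[ℂ] V))).comap φ) inferInstance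
  have hgN2 : g ∈ (Subgroup.center (Units (V →ₗ[ℂ] V))).comap φ := by
    rw [Subgroup.mem_comap, Subgroup.mem_center_iff]
    intro u
    apply Units.ext
    rw [Units.val_mul, Units.val_mul, hφa, hc]
    ext v
    simp
  have hN2top : (Subgroup.center (Units (V →ₗ[ℂ] V))).comap φ = ⊤ := by
    rcases hN2 with h | h
    · rw [h, Subgroup.mem_bot] at hgN2
      exact absurd hgN2 hg
    · exact h
  have hcomm : ∀ x y : G, φ x * φ y = φ y * φ x := by
    intro x y
    have hy : y ∈ (Subgroup.center (Units (V →ₗ[ℂ] V))).comap φ := by rw [hN2top]; trivial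
    rw [Subgroup.mem_comap, Subgroup.mem_center_iff] at hy
    exact hy (φ x)
  have hN1 := IsSimpleGroup.eq_bot_or_eq_top_of_normal φ.ker inferInstance
  rcases hN1 with h | h
  · exfalso
    apply hnc
    intro a b
    have : φ (a * b) = φ (b * a) := by rw [map_mul, map_mul, hcomm]
    have hinj : Function.Injective φ := (MonoidHom.ker_eq_bot_iff φ).mp h
    exact hinj this
  · intro x
    have hx : x ∈ φ.ker := by rw [h]; trivial
    rw [MonoidHom.mem_ker] at hx
    rw [← hφa, hx]
    rfl

/-- In a non-commutative simple group, if a nontrivial element acts as a scalar in some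
irreducible representation, then the character is the trivial character. -/
theorem char_eq_one_of_scalar [IsSimpleGroup G] (hnc : ¬ ∀ a b : G, a * b = b * a)
    (ρ : Representation ℂ G V) [ρ.IsIrreducible] (g : G) (hg : g ≠ 1) (c : ℂ)
    (hc : ρ g = c • (LinearMap.id : V →ₗ[ℂ] V)) : ρ.character = fun _ => 1 := by
  haveI : Fintype G := Fintype.ofFinite G
  have hid := rho_eq_id_of_scalar hnc ρ g hg c hc
  have hch : ∀ x, ρ.character x = (finrank ℂ V : ℂ) := by
    intro x
    unfold Representation.character
    rw [hid x, LinearMap.trace_id]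
  have h1 := classInner_character_of_irreducible ρ ρ
  rw [if_pos ⟨Representation.Equiv.refl ρ⟩] at h1
  unfold classInner at h1
  simp only [hch, Complex.conj_natCast] at h1
  rw [Finset.sum_const, Finset.card_univ, nsmul_eq_mul, ← Nat.card_eq_fintype_card,
    ← mul_assoc, inv_mul_cancel₀ card_ne_zero_complex, one_mul] at h1
  have h2 : finrank ℂ V * finrank ℂ V = 1 := by exact_mod_cast h1
  have h3 : finrank ℂ V = 1 := by
    have := Nat.eq_one_of_mul_eq_one_left h2
    exact this
  funext x
  rw [hch x, h3]
  simp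

end Simple

section PrimePowerClass

variable {G : Type u} [Group G] [Finite G]

/-- Burnside: a finite simple group with a nontrivial conjugacy class of prime power size has
prime order. -/
theorem prime_card_of_prime_pow_class [IsSimpleGroup G] (p k : ℕ) (hp : p.Prime) (g : G)
    (hg : g ≠ 1) (hclass : (Subgroup.centralizer ({g} : Set G)).index = p ^ k) :
    (Nat.card G).Prime := by
  by_cases hcomm : ∀ a b : G, a * b = b * a
  · letI : CommGroup G := { (inferInstance : Group G) with mul_comm := hcomm }
    exact IsSimpleGroup.prime_card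
  exfalso
  haveI : Fintype G := Fintype.ofFinite G
  haveI : Fintype (IrrCharacter G) := Fintype.ofFinite _
  have hp0 : (p : ℂ) ≠ 0 := by exact_mod_cast hp.ne_zero
  have key : ∀ χ : IrrCharacter G, ∃ β : ℂ, IsIntegral ℤ β ∧
      (χ ≠ trivIrr G → (χ : G → ℂ) 1 * (χ : G → ℂ) g = p * β) := by
    intro χ
    obtain ⟨n, ρ, hρ, hχ⟩ := χ.2
    haveI := hρ
    have h1 : (χ : G → ℂ) 1 = (finrank ℂ (Fin n → ℂ) : ℂ) := by
      rw [← hχ, Representation.char_one]
    by_cases hpd : p ∣ finrank ℂ (Fin n → ℂ)
    · obtain ⟨m, hm⟩ := hpd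
      refine ⟨m * (χ : G → ℂ) g, ?_, ?_⟩
      · refine IsIntegral.mul ?_ ?_
        · exact isIntegral_algebraMap (R := ℤ) (A := ℂ) (x := (m : ℤ)) |> fun h => by simpa using h
        · rw [← hχ]; exact char_isIntegral ρ g
      · intro _
        rw [h1, hm]
        push_cast
        ring
    · have hcop : Nat.Coprime (finrank ℂ (Fin n → ℂ))
          (Subgroup.centralizer ({g} : Set G)).index := by
        rw [hclass]
        exact Nat.Coprime.pow_right k ((Nat.Prime.coprime_iff_not_dvd hp).mpr hpd).symm
      rcases char_eq_zero_or_norm_eq_of_coprime ρ g hcop with h0 | hn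
      · refine ⟨0, isIntegral_zero, ?_⟩
        intro _
        rw [← hχ, h0]
        simp
      · refine ⟨0, isIntegral_zero, ?_⟩
        intro hne
        exfalso
        apply hne
        obtain ⟨ω, hω⟩ := (norm_char_eq_iff ρ g).mp hn
        have := char_eq_one_of_scalar hcomm ρ g hg ω hω
        apply Subtype.ext
        rw [← hχ, this]
        rfl
  choose β hβint hβ using key
  have hsum := sum_irr_one_mul_eq_zero (G := G) hg
  rw [← Finset.add_sum_erase Finset.univ _ (Finset.mem_univ (trivIrr G))] at hsum
  have hrest : ∑ χ ∈ Finset.univ.erase (trivIrr G), (χ : G → ℂ) 1 * (χ : G → ℂ) g =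
      p * ∑ χ ∈ Finset.univ.erase (trivIrr G), β χ := by
    rw [Finset.mul_sum]
    refine Finset.sum_congr rfl ?_
    intro χ hχ
    exact hβ χ (Finset.ne_of_mem_erase hχ)
  rw [hrest, trivIrr_apply, trivIrr_apply, mul_one] at hsum
  set B := ∑ χ ∈ Finset.univ.erase (trivIrr G), β χ with hB
  have hBint : IsIntegral ℤ B := IsIntegral.sum _ (fun χ _ => hβint χ)
  have hBval : B = ((-(1 / (p : ℚ)) : ℚ) : ℂ) := by
    push_cast
    field_simp
    linear_combination hsum
  rw [hBval] at hBint
  obtain ⟨m, hm⟩ := exists_int_of_isIntegral_ratCast hBint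
  have hpq : (p : ℚ) ≠ 0 := by exact_mod_cast hp.ne_zero
  have h2 : (-1 : ℚ) = m * p := by
    field_simp at hm
    linarith
  have h3 : (-1 : ℤ) = m * p := by exact_mod_cast h2
  have h4 : (p : ℤ) ∣ 1 := ⟨-m, by linarith⟩
  have h5 : p ∣ 1 := by exact_mod_cast h4
  exact hp.one_lt.ne' (Nat.dvd_one.mp h5)

end PrimePowerClass

section PaQb

theorem exists_normal_of_not_simple {G : Type u} [Group G] [Nontrivial G] (h : ¬ IsSimpleGroup G) :
    ∃ N : Subgroup G, N.Normal ∧ N ≠ ⊥ ∧ N ≠ ⊤ := by
  by_contra hcon
  push Not at hcon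
  apply h
  refine ⟨?_⟩
  intro N hN
  by_cases hb : N = ⊥
  · exact Or.inl hb
  · exact Or.inr (hcon N hN hb)

theorem dvd_prime_pow_mul_prime_pow {p q a b d : ℕ} (hp : p.Prime) (hq : q.Prime)
    (hd : d ∣ p ^ a * q ^ b) : ∃ a' b', d = p ^ a' * q ^ b' := by
  obtain ⟨d1, d2, h1, h2, rfl⟩ := (Nat.dvd_mul).mp hd
  obtain ⟨a', _, rfl⟩ := (Nat.dvd_prime_pow hp).mp h1
  obtain ⟨b', _, rfl⟩ := (Nat.dvd_prime_pow hq).mp h2
  exact ⟨a', b', rfl⟩

theorem isSolvable_of_card_prime_pow_mul (p q : ℕ) (hp : p.Prime) (hq : q.Prime) :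
    ∀ n : ℕ, ∀ (G : Type u) [Group G] [Finite G], Nat.card G = n →
      (∃ a b, n = p ^ a * q ^ b) → Group.IsSolvable G := by
  intro n
  induction n using Nat.strong_induction_on with
  | _ n ih =>
    intro G _ _ hcard hab
    obtain ⟨a, b, hab⟩ := hab
    by_cases htriv : Subsingleton G
    · infer_instance
    rw [not_subsingleton_iff_nontrivial] at htriv
    by_cases hsimple : IsSimpleGroup G
    · -- simple case
      by_cases hb : b = 0
      · -- p-group
        haveI : Fact p.Prime := ⟨hp⟩
        have hG : IsPGroup p G := IsPGroup.of_card (n := a) (by rw [hcard, hab, hb]; simp)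
        haveI := hG.isNilpotent
        infer_instance
      · haveI : Fact q.Prime := ⟨hq⟩
        have hqdvd : q ∣ Nat.card G := by
          rw [hcard, hab]
          exact Dvd.dvd.mul_left (dvd_pow_self q hb) _
        obtain Q : Sylow q G := default
        have hQne : (Q : Subgroup G) ≠ ⊥ := Q.ne_bot_of_dvd_card hqdvd
        haveI : Nontrivial (Q : Subgroup G) := (Subgroup.nontrivial_iff_ne_bot _).mpr hQne
        haveI := IsPGroup.center_nontrivial (Q.isPGroup')
        obtain ⟨z, hz⟩ := exists_ne (1 : Subgroup.center (Q : Subgroup G))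
        set g : G := ((z : (Q : Subgroup G)) : G) with hg
        have hg1 : g ≠ 1 := by
          intro h
          apply hz
          apply Subtype.ext
          apply Subtype.ext
          exact h
        have hle : (Q : Subgroup G) ≤ Subgroup.centralizer ({g} : Set G) := by
          intro x hx
          rw [Subgroup.mem_centralizer_iff]
          intro y hy
          rw [Set.mem_singleton_iff] at hy
          subst hy
          have := Subgroup.mem_center_iff.mp z.2 ⟨x, hx⟩
          have h2 := congrArg (Subtype.val) this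
          simpa [hg] using h2.symm
        have hdvd1 : (Subgroup.centralizer ({g} : Set G)).index ∣ (Q : Subgroup G).index :=
          Subgroup.index_dvd_of_le hle
        have hQidx : (Q : Subgroup G).index ∣ p ^ a := by
          have h1 : (Q : Subgroup G).index ∣ p ^ a * q ^ b := by
            rw [← hab, ← hcard]
            exact Subgroup.index_dvd_card _
          have h2 : Nat.Coprime ((Q : Subgroup G).index) (q ^ b) :=
            Nat.Coprime.pow_right b ((Nat.Prime.coprime_iff_not_dvd hq).mpr Q.not_dvd_index).symm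
          exact h2.dvd_of_dvd_mul_right h1
        obtain ⟨k, _, hk⟩ := (Nat.dvd_prime_pow hp).mp (hdvd1.trans hQidx)
        have hprime := prime_card_of_prime_pow_class p k hp g hg1 hk
        haveI : Fact (Nat.card G).Prime := ⟨hprime⟩
        haveI := isCyclic_of_prime_card (α := G) (p := Nat.card G) rfl
        exact Group.isSolvable_of_comm (isMulCommutative_iff.mp IsCyclic.isMulCommutative)
    · -- non-simple case
      obtain ⟨N, hN, hNbot, hNtop⟩ := exists_normal_of_not_simple hsimple
      have hmul : Nat.card N * N.index = n := by rw [← hcard]; exact Subgroup.card_mul_index N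
      have hn0 : 0 < n := by rw [← hcard]; exact Nat.card_pos
      have hN1 : 1 < Nat.card N := by
        rw [Subgroup.one_lt_card_iff_ne_bot]; exact hNbot
      have hN2 : 1 < N.index := by
        have h0 : N.index ≠ 0 := Subgroup.index_ne_zero_of_finite
        have h1 : N.index ≠ 1 := fun h => hNtop (Subgroup.index_eq_one.mp h)
        omega
      have hlt1 : Nat.card N < n := by
        rw [← hmul]
        have : 0 < Nat.card N := Nat.card_pos
        nlinarith
      have hlt2 : N.index < n := by
        rw [← hmul]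
        have : 0 < N.index := by omega
        nlinarith
      have hd1 : Nat.card N ∣ p ^ a * q ^ b := by rw [← hab, ← hmul]; exact dvd_mul_right _ _
      have hd2 : N.index ∣ p ^ a * q ^ b := by rw [← hab, ← hmul]; exact dvd_mul_left _ _
      haveI : Group.IsSolvable N := ih _ hlt1 N rfl (dvd_prime_pow_mul_prime_pow hp hq hd1)
      haveI : Group.IsSolvable (G ⧸ N) := ih _ hlt2 (G ⧸ N) (Subgroup.index_eq_card N).symm
        (dvd_prime_pow_mul_prime_pow hp hq hd2)
      refine Group.isSolvable_of_ker_le_range N.subtype (QuotientGroup.mk' N) ?_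
      rw [QuotientGroup.ker_mk', Subgroup.range_subtype]

/-- Burnside's `p^a q^b` theorem. -/
theorem isSolvable_of_card_eq_prime_pow_mul {G : Type u} [Group G] [Finite G] (p q a b : ℕ)
    (hp : p.Prime) (hq : q.Prime) (hcard : Nat.card G = p ^ a * q ^ b) : Group.IsSolvable G :=
  isSolvable_of_card_prime_pow_mul p q hp hq _ G rfl ⟨a, b, hcard⟩


end PaQb

end Cfsg.Agent.Helper24
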