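import Mathlib
import Cfsg.Prelude.Def_Characters
import Cfsg.Agent.Helper24.Codegree
import Cfsg.Agent.Helper24.Expansion
import Cfsg.Agent.Helper8.CharComp
import Cfsg.Agent.Helper8.PosDef
import Cfsg.Agent.Helper8.CliffordAb
import Cfsg.Agent.Helper5.LinChar
import Cfsg.Agent.Helper5.IndFun
import Cfsg.Agent.S1489

/-!
Linear characters and characters lying over an extendible character of a non-abelian minimal
normal subgroup.
-/

namespace Cfsg.Agent.Helper24

universe u

section Pullback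

variable {K M : Type u} [Group K] [Group M] [Fintype K] [Fintype M]

/-- A character whose pull-back along a homomorphism is irreducible is irreducible. -/
theorem isIrrCharacter_of_comp_irr (f : M →* K) {ψ : K → ℂ} (hψ : IsCharacter K ψ)
    (h : IsIrrCharacter M (fun m => ψ (f m))) : IsIrrCharacter K ψ := by
  classical
  haveI : Fintype (IrrCharacter K) := Fintype.ofFinite _
  haveI : Fintype (IrrCharacter M) := Fintype.ofFinite _
  obtain ⟨n, hn⟩ := IsCharacter.exists_nat_coeff hψ
  have ha : ∀ θ θ' : IrrCharacter K, ∃ a : ℕ,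
      classInner (fun m => (θ : K → ℂ) (f m)) (fun m => (θ' : K → ℂ) (f m)) = a := fun θ θ' =>
    IsCharacter.classInner_nat (Helper8.isCharacter_comp f (IsIrrCharacter.isCharacter θ.2))
      (Helper8.isCharacter_comp f (IsIrrCharacter.isCharacter θ'.2))
  choose a ha using ha
  have haa : ∀ θ : IrrCharacter K, 1 ≤ a θ θ := by
    intro θ
    rw [Nat.one_le_iff_ne_zero]
    intro h0
    have h1 := ha θ θ
    rw [h0, Nat.cast_zero] at h1
    have h2 := congrFun (Helper8.eq_zero_of_classInner_self_eq_zero h1) 1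
    simp only [map_one, Pi.zero_apply] at h2
    rw [irrDeg_spec] at h2
    have := irrDeg_pos θ
    have h3 : irrDeg θ = 0 := by exact_mod_cast h2
    omega
  have h1 : classInner (fun m => ψ (f m)) (fun m => ψ (f m)) = 1 :=
    (isIrrCharacter_iff_classInner_self.mp h).2
  have hexp : (fun m => ψ (f m)) =
      ∑ θ : IrrCharacter K, (n θ : ℂ) • (fun m => (θ : K → ℂ) (f m)) := by
    funext m
    rw [hn]
    simp only [Finset.sum_apply, Pi.smul_apply]
  have h2 : classInner (fun m => ψ (f m)) (fun m => ψ (f m)) =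
      ((∑ θ : IrrCharacter K, ∑ θ' : IrrCharacter K, n θ * n θ' * a θ θ' : ℕ) : ℂ) := by
    rw [hexp, classInner_sum_left]
    push_cast
    refine Finset.sum_congr rfl ?_
    intro θ _
    rw [classInner_smul_left, classInner_sum_right, Finset.mul_sum]
    refine Finset.sum_congr rfl ?_
    intro θ' _
    rw [classInner_smul_right, ha θ θ', Complex.conj_natCast]
    ring
  rw [h1] at h2
  have h3 : (∑ θ : IrrCharacter K, ∑ θ' : IrrCharacter K, n θ * n θ' * a θ θ') = 1 := by
    exact_mod_cast h2.symm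
  have h4 : ∑ θ : IrrCharacter K, n θ * n θ ≤ 1 := by
    rw [← h3]
    refine Finset.sum_le_sum ?_
    intro θ _
    calc n θ * n θ ≤ n θ * n θ * a θ θ := Nat.le_mul_of_pos_right _ (haa θ)
      _ ≤ ∑ θ' : IrrCharacter K, n θ * n θ' * a θ θ' :=
        Finset.single_le_sum (f := fun θ' => n θ * n θ' * a θ θ') (fun _ _ => Nat.zero_le _)
          (Finset.mem_univ θ)
  have h5 : classInner ψ ψ = ((∑ θ : IrrCharacter K, n θ * n θ : ℕ) : ℂ) := by
    conv_lhs => rw [hn]
    rw [classInner_sum_sum]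
    push_cast
    simp
  have h6 : ∑ θ : IrrCharacter K, n θ * n θ ≠ 0 := by
    intro h0
    rw [h0, Nat.cast_zero] at h5
    have h7 := congrFun (Helper8.eq_zero_of_classInner_self_eq_zero h5) (f 1)
    have h8 := (isIrrCharacter_iff_classInner_self.mp h).2
    have h9 : (fun m => ψ (f m)) = 0 := by
      funext m
      rw [Helper8.eq_zero_of_classInner_self_eq_zero h5]
      rfl
    rw [h9, classInner_zero_left] at h8
    exact zero_ne_one h8
  refine IsCharacter.isIrrCharacter_of_classInner_self hψ ?_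
  rw [h5]
  have : ∑ θ : IrrCharacter K, n θ * n θ = 1 := by omega
  rw [this, Nat.cast_one]

/-- If the pull-back of the irreducible character `ψ` along `f : M →* K` is irreducible, and `ν` is
a linear character trivial on the image of `f` with `ν ψ = ψ`, then `ν` is trivial. -/
theorem hom_eq_one_of_mul_eq (f : M →* K) (ψ : IrrCharacter K)
    (hirr : IsIrrCharacter M (fun m => (ψ : K → ℂ) (f m))) (ν : K →* ℂˣ)
    (hν : ∀ m : M, ν (f m) = 1)
    (h : ∀ x : K, ((ν x : ℂˣ) : ℂ) * (ψ : K → ℂ) x = (ψ : K → ℂ) x) (x : K) : ν x = 1 := by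
  classical
  haveI : Fintype ν.ker := Fintype.ofFinite _
  haveI : Fintype (IrrCharacter ν.ker) := Fintype.ofFinite _
  have hres : IsCharacter ν.ker (fun k : ν.ker => (ψ : K → ℂ) k) :=
    Helper8.isCharacter_restrict ν.ker (IsIrrCharacter.isCharacter ψ.2)
  have hirrK : IsIrrCharacter ν.ker (fun k : ν.ker => (ψ : K → ℂ) k) :=
    isIrrCharacter_of_comp_irr (f.codRestrict ν.ker (fun m => MonoidHom.mem_ker.mpr (hν m)))
      hres hirr
  have h1 := (isIrrCharacter_iff_classInner_self.mp hirrK).2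
  have h2 := classInner_irr_self ψ
  unfold classInner at h1 h2
  have hvan : ∀ y : K, y ∉ ν.ker → (ψ : K → ℂ) y = 0 := by
    intro y hy
    have h3 := h y
    have h4 : (((ν y : ℂˣ) : ℂ) - 1) * (ψ : K → ℂ) y = 0 := by
      rw [sub_mul, h3, one_mul, sub_self]
    rcases mul_eq_zero.mp h4 with h5 | h5
    · exfalso
      apply hy
      rw [MonoidHom.mem_ker]
      apply Units.ext
      rw [Units.val_one]
      exact sub_eq_zero.mp h5
    · exact h5
  have hsum : ∑ y : K, (ψ : K → ℂ) y * (starRingEnd ℂ) ((ψ : K → ℂ) y) =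
      ∑ k : ν.ker, (ψ : K → ℂ) k * (starRingEnd ℂ) ((ψ : K → ℂ) k) := by
    rw [← Finset.sum_subset (Finset.subset_univ (Finset.univ.filter (fun y : K => y ∈ ν.ker)))]
    · rw [Finset.sum_subtype (Finset.univ.filter (fun y : K => y ∈ ν.ker))
        (p := fun y => y ∈ ν.ker) (fun y => by simp)]
    · intro y _ hy
      rw [hvan y (fun hmem => hy (Finset.mem_filter.mpr ⟨Finset.mem_univ _, hmem⟩)), zero_mul]
  rw [hsum] at h2
  have hK0 : (Nat.card K : ℂ) ≠ 0 := by exact_mod_cast Nat.card_pos.ne'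
  have hk0 : (Nat.card ν.ker : ℂ) ≠ 0 := by exact_mod_cast Nat.card_pos.ne'
  have h3 : (Nat.card ν.ker : ℂ) = (Nat.card K : ℂ) := by
    have e1 : ∑ k : ν.ker, (ψ : K → ℂ) k * (starRingEnd ℂ) ((ψ : K → ℂ) k) =
        (Nat.card ν.ker : ℂ) := by
      field_simp at h1
      exact h1
    have e2 : ∑ k : ν.ker, (ψ : K → ℂ) k * (starRingEnd ℂ) ((ψ : K → ℂ) k) =
        (Nat.card K : ℂ) := by
      field_simp at h2
      exact h2
    rw [← e1, e2]
  have h4 : Nat.card ν.ker = Nat.card K := by exact_mod_cast h3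
  have h5 : ν.ker = ⊤ := (Subgroup.card_eq_iff_eq_top _).mp h4
  have h6 : x ∈ ν.ker := by rw [h5]; exact Subgroup.mem_top x
  exact MonoidHom.mem_ker.mp h6

end Pullback

section Linear

variable {G : Type u} [Group G] [Finite G]

omit [Finite G] in
theorem irr_one_of_charDegree_eq_one (χ : IrrCharacter G) (h : charDegree (χ : G → ℂ) = 1) :
    (χ : G → ℂ) 1 = 1 := by
  rw [irrDeg_spec, ← charDegree_irr, h, Nat.cast_one]

/-- A degree one irreducible character as a homomorphism to the units of `ℂ`. -/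
noncomputable def linHom (χ : {χ : IrrCharacter G // charDegree (χ : G → ℂ) = 1}) : G →* ℂˣ :=
  (Helper5.linCharHom (IsIrrCharacter.isCharacter χ.1.2)
    (irr_one_of_charDegree_eq_one χ.1 χ.2)).toHomUnits

omit [Finite G] in
theorem linHom_apply (χ : {χ : IrrCharacter G // charDegree (χ : G → ℂ) = 1}) (g : G) :
    ((linHom χ g : ℂˣ) : ℂ) = (χ.1 : G → ℂ) g := rfl

omit [Finite G] in
/-- A homomorphism to an abelian group is trivial on a non-abelian minimal normal subgroup. -/
theorem hom_eq_one_of_mem_minNormal (N : Subgroup G) [hN : N.Normal]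
    (hmin : ∀ M : Subgroup G, M.Normal → M ≤ N → M = ⊥ ∨ M = N)
    (hna : ¬ IsMulCommutative ↥N) (ν : G →* ℂˣ) (n : G) (hn : n ∈ N) : ν n = 1 := by
  have hKn : (N ⊓ ν.ker).Normal := inferInstance
  rcases hmin (N ⊓ ν.ker) hKn inf_le_left with h | h
  · exfalso
    apply hna
    refine ⟨⟨fun a b => ?_⟩⟩
    have h1 : (a : G) * b * ((b : G) * a)⁻¹ ∈ N ⊓ ν.ker := by
      rw [Subgroup.mem_inf]
      refine ⟨N.mul_mem (N.mul_mem a.2 b.2) (N.inv_mem (N.mul_mem b.2 a.2)), ?_⟩
      rw [MonoidHom.mem_ker, map_mul, map_mul, map_inv, map_mul, mul_comm (ν a) (ν b)]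
      exact mul_inv_cancel _
    rw [h, Subgroup.mem_bot] at h1
    apply Subtype.ext
    rw [Subgroup.coe_mul, Subgroup.coe_mul]
    exact mul_inv_eq_one.mp h1
  · have h1 : n ∈ N ⊓ ν.ker := by rw [h]; exact hn
    exact MonoidHom.mem_ker.mp h1.2

end Linear

section Count

variable {G : Type u} [Group G] [Fintype G]

/-- A character has at most `π 1` irreducible constituents. -/
theorem card_constituents_le {π : G → ℂ} (hπ : IsCharacter G π) (m : ℕ) (hm : π 1 = m) :
    Nat.card {χ : IrrCharacter G // classInner π (χ : G → ℂ) ≠ 0} ≤ m := by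
  classical
  haveI : Fintype (IrrCharacter G) := Fintype.ofFinite _
  obtain ⟨n, hn⟩ := IsCharacter.exists_nat_coeff hπ
  have hcoef : ∀ χ : IrrCharacter G, classInner π (χ : G → ℂ) = n χ := by
    intro χ
    rw [hn]
    exact classInner_sum_irr _ χ
  have h1 : (m : ℂ) = ((∑ χ : IrrCharacter G, n χ * irrDeg χ : ℕ) : ℂ) := by
    rw [← hm, hn]
    simp only [Finset.sum_apply, Pi.smul_apply, smul_eq_mul]
    push_cast
    refine Finset.sum_congr rfl ?_
    intro χ _
    rw [irrDeg_spec]
  have h2 : m = ∑ χ : IrrCharacter G, n χ * irrDeg χ := by exact_mod_cast h1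
  rw [Nat.card_eq_fintype_card, Fintype.card_subtype, h2, Finset.card_eq_sum_ones,
    Finset.sum_filter]
  refine Finset.sum_le_sum ?_
  intro χ _
  split_ifs with h
  · have h3 : n χ ≠ 0 := by
      intro h0
      apply h
      rw [hcoef, h0, Nat.cast_zero]
    have := irrDeg_pos χ
    have h4 : 1 ≤ n χ := Nat.one_le_iff_ne_zero.mpr h3
    nlinarith
  · exact Nat.zero_le _

end Count

section Main

variable {G : Type u} [Group G] [Fintype G] (N : Subgroup G) [hN : N.Normal]
  (φ : IrrCharacter N) (I : Subgroup G) [Fintype I] (hNI : N ≤ I) (ψ : IrrCharacter I)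

/-- The twist of `ψ` by the restriction of a linear character of `G`. -/
noncomputable def twistExt (ν : G →* ℂˣ) : IrrCharacter I :=
  ⟨fun x => ((ν x : ℂˣ) : ℂ) * (ψ : I → ℂ) x,
    Helper8.isIrrCharacter_linear_mul (ν.comp I.subtype) ψ.2⟩

omit [Fintype G] in
theorem twistExt_apply (ν : G →* ℂˣ) (x : I) :
    (twistExt I ψ ν : I → ℂ) x = ((ν x : ℂˣ) : ℂ) * (ψ : I → ℂ) x := rfl

omit hN in
/-- The twist lies over `φ`. -/
theorem twistExt_over (hψ : ∀ n : N, (ψ : I → ℂ) (Subgroup.inclusion hNI n) = (φ : N → ℂ) n)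
    (ν : G →* ℂˣ) (hν : ∀ n ∈ N, ν n = 1) :
    classInner (indFun (N.subgroupOf I)
      (fun x => (φ : N → ℂ) ⟨(x : I), Subgroup.mem_subgroupOf.mp x.2⟩))
      (twistExt I ψ ν : I → ℂ) ≠ 0 := by
  classical
  haveI : Fintype N := Fintype.ofFinite _
  haveI : Fintype (N.subgroupOf I) := Fintype.ofFinite _
  haveI : Fintype (IrrCharacter (N.subgroupOf I)) := Fintype.ofFinite _
  have hirr : IsIrrCharacter (N.subgroupOf I)
      (fun x => (φ : N → ℂ) ⟨(x : I), Subgroup.mem_subgroupOf.mp x.2⟩) :=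
    Helper8.isIrrCharacter_comp_surjective
      (Subgroup.subgroupOfEquivOfLe hNI).toMonoidHom (Subgroup.subgroupOfEquivOfLe hNI).surjective
      φ.2
  rw [Helper8.frobenius_reciprocity (N.subgroupOf I) _ _ (isClassFunction_irr (twistExt I ψ ν))]
  have hres : (fun h : N.subgroupOf I => (twistExt I ψ ν : I → ℂ) h) =
      (fun x : N.subgroupOf I => (φ : N → ℂ) ⟨(x : I), Subgroup.mem_subgroupOf.mp x.2⟩) := by
    funext x
    rw [twistExt_apply, hν _ (Subgroup.mem_subgroupOf.mp x.2), Units.val_one, one_mul]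
    exact hψ ⟨(x : I), Subgroup.mem_subgroupOf.mp x.2⟩
  rw [hres, (isIrrCharacter_iff_classInner_self.mp hirr).2]
  exact one_ne_zero

omit hN in
theorem charDegree_indFun_twistExt
    (hψ : ∀ n : N, (ψ : I → ℂ) (Subgroup.inclusion hNI n) = (φ : N → ℂ) n) (ν : G →* ℂˣ) :
    charDegree (indFun I (twistExt I ψ ν : I → ℂ)) = charDegree (φ : N → ℂ) * I.index := by
  have h1 : indFun I (twistExt I ψ ν : I → ℂ) 1 = ((irrDeg φ * I.index : ℕ) : ℂ) := by
    rw [Helper5.indFun_apply_one, twistExt_apply]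
    have h2 : (ψ : I → ℂ) 1 = (φ : N → ℂ) 1 := by
      have := hψ 1
      rwa [map_one] at this
    rw [OneMemClass.coe_one, map_one, Units.val_one, one_mul, h2, irrDeg_spec]
    push_cast
    ring
  unfold charDegree
  rw [h1, Complex.natCast_re, Nat.floor_natCast, irrDeg_spec, Complex.natCast_re,
    Nat.floor_natCast]

/-- Statement S4870, `Fintype` version. -/
theorem card_linear_le_index_mul (hmin : ∀ M : Subgroup G, M.Normal → M ≤ N → M = ⊥ ∨ M = N)
    (hna : ¬ IsMulCommutative ↥N)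
    (hI : ∀ g : G, g ∈ I ↔ ∀ n n' : ↥N, (n' : G) = g * (n : G) * g⁻¹ →
      (φ : ↥N → ℂ) n' = (φ : ↥N → ℂ) n)
    (hψ : ∀ n : N, (ψ : I → ℂ) (Subgroup.inclusion hNI n) = (φ : N → ℂ) n) :
    Nat.card {χ : IrrCharacter G // charDegree (χ : G → ℂ) = 1} ≤
      I.index * Nat.card {χ : IrrCharacter G //
        charDegree (χ : G → ℂ) = charDegree (φ : ↥N → ℂ) * I.index} := by
  classical
  haveI : Finite G := Finite.of_fintype G
  haveI : Fintype N := Fintype.ofFinite _
  haveI : Fintype (IrrCharacter G) := Fintype.ofFinite _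
  haveI : Fintype (IrrCharacter I) := Fintype.ofFinite _
  have hT : ∀ g : G, g ∈ I ↔ ∀ h : N,
      (φ : N → ℂ) ⟨g * h * g⁻¹, hN.conj_mem h h.2 g⟩ = (φ : N → ℂ) h := by
    intro g
    rw [hI g]
    constructor
    · intro H h
      exact H h ⟨g * h * g⁻¹, hN.conj_mem h h.2 g⟩ rfl
    · intro H n n' hn'
      have : n' = ⟨g * n * g⁻¹, hN.conj_mem n n.2 g⟩ := Subtype.ext hn'
      rw [this]
      exact H n
  have hker : ∀ (χ : {χ : IrrCharacter G // charDegree (χ : G → ℂ) = 1}) (n : G), n ∈ N →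
      linHom χ n = 1 := fun χ => hom_eq_one_of_mem_minNormal N hmin hna (linHom χ)
  have hS : ∀ χ μ : {χ : IrrCharacter G // charDegree (χ : G → ℂ) = 1},
      IsIrrCharacter G (indFun I (twistExt I ψ (linHom χ) : I → ℂ)) ∧
      (indFun I (twistExt I ψ (linHom χ) : I → ℂ) = indFun I (twistExt I ψ (linHom μ) : I → ℂ) →
        (twistExt I ψ (linHom χ) : I → ℂ) = (twistExt I ψ (linHom μ) : I → ℂ)) := fun χ μ =>
    Cfsg.Agent.S1489.result N I (φ : N → ℂ) φ.2 hT hNI _ _ (twistExt I ψ (linHom χ)).2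
      (twistExt I ψ (linHom μ)).2 (twistExt_over N φ I hNI ψ hψ _ (hker χ))
      (twistExt_over N φ I hNI ψ hψ _ (hker μ))
  obtain ⟨Φ, hΦ⟩ : ∃ Φ : {χ : IrrCharacter G // charDegree (χ : G → ℂ) = 1} →
      {χ : IrrCharacter G // charDegree (χ : G → ℂ) = charDegree (φ : ↥N → ℂ) * I.index},
      ∀ χ, ((Φ χ).1 : G → ℂ) = indFun I (twistExt I ψ (linHom χ) : I → ℂ) :=
    ⟨fun χ => ⟨⟨indFun I (twistExt I ψ (linHom χ) : I → ℂ), (hS χ χ).1⟩,
      charDegree_indFun_twistExt N φ I hNI ψ hψ _⟩, fun _ => rfl⟩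
  -- the fibers
  have hfiber : ∀ b ∈ (Finset.univ : Finset _).image Φ,
      (Finset.univ.filter (fun χ => Φ χ = b)).card ≤ I.index := by
    intro b hb
    obtain ⟨χ₀, _, rfl⟩ := Finset.mem_image.mp hb
    obtain ⟨π, hπdef⟩ : ∃ π : G → ℂ, π = indFun I (fun x : I => ((linHom χ₀ x : ℂˣ) : ℂ)) :=
      ⟨_, rfl⟩
    have hlamI : IsIrrCharacter I (fun x : I => ((linHom χ₀ x : ℂˣ) : ℂ)) :=
      isIrrCharacter_of_monoidHom ((Units.coeHom ℂ).comp ((linHom χ₀).comp I.subtype))
    have hπ : IsCharacter G π := by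
      rw [hπdef]
      exact isCharacter_indFun I (IsIrrCharacter.isCharacter hlamI)
    have hπ1 : π 1 = (I.index : ℂ) := by
      rw [hπdef, Helper5.indFun_apply_one, OneMemClass.coe_one, map_one, Units.val_one, mul_one]
    have hbound := card_constituents_le hπ I.index hπ1
    refine le_trans ?_ hbound
    rw [← Fintype.card_subtype, ← Nat.card_eq_fintype_card]
    have hmem : ∀ μ : {μ : {χ : IrrCharacter G // charDegree (χ : G → ℂ) = 1} // Φ μ = Φ χ₀},
        classInner π (μ.1.1 : G → ℂ) ≠ 0 := by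
      rintro ⟨μ, hμ⟩
      have h1 : indFun I (twistExt I ψ (linHom μ) : I → ℂ) =
          indFun I (twistExt I ψ (linHom χ₀) : I → ℂ) := by
        rw [← hΦ μ, ← hΦ χ₀, hμ]
      have h2 := (hS μ χ₀).2 h1
      have h3 : ∀ x : I, (linHom μ / linHom χ₀) (x : G) = 1 := by
        intro x
        refine hom_eq_one_of_mul_eq (Subgroup.inclusion hNI) ψ ?_
          ((linHom μ / linHom χ₀).comp I.subtype) ?_ ?_ x
        · have : (fun m : N => (ψ : I → ℂ) (Subgroup.inclusion hNI m)) = (φ : N → ℂ) :=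
            funext hψ
          rw [this]
          exact φ.2
        · intro m
          show (linHom μ / linHom χ₀) (m : G) = 1
          rw [MonoidHom.div_apply, hker μ _ m.2, hker χ₀ _ m.2, div_one]
        · intro y
          show (((linHom μ / linHom χ₀) (y : G) : ℂˣ) : ℂ) * (ψ : I → ℂ) y = (ψ : I → ℂ) y
          have h4 := congrFun h2 y
          rw [twistExt_apply, twistExt_apply] at h4
          rw [MonoidHom.div_apply, Units.val_div_eq_div_val, div_mul_eq_mul_div, h4,
            mul_div_assoc]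
          exact mul_div_cancel₀ _ (Units.ne_zero _)
      have h5 : (fun x : I => (μ.1 : G → ℂ) x) = fun x : I => ((linHom χ₀ x : ℂˣ) : ℂ) := by
        funext x
        have h6 := h3 x
        rw [MonoidHom.div_apply, div_eq_one] at h6
        rw [← linHom_apply μ, h6]
      rw [hπdef, Helper8.frobenius_reciprocity I _ _ (isClassFunction_irr μ.1), h5,
        (isIrrCharacter_iff_classInner_self.mp hlamI).2]
      exact one_ne_zero
    refine Nat.card_le_card_of_injective
      (fun μ : {μ : {χ : IrrCharacter G // charDegree (χ : G → ℂ) = 1} // Φ μ = Φ χ₀} =>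
        (⟨μ.1.1, hmem μ⟩ : {χ : IrrCharacter G // classInner π (χ : G → ℂ) ≠ 0})) ?_
    intro μ μ' h
    have := congrArg Subtype.val h
    exact Subtype.ext (Subtype.ext this)
  have hmain := Finset.card_le_mul_card_image (f := Φ) Finset.univ I.index hfiber
  rw [Nat.card_eq_fintype_card, Nat.card_eq_fintype_card]
  calc Fintype.card {χ : IrrCharacter G // charDegree (χ : G → ℂ) = 1}
      = (Finset.univ : Finset {χ : IrrCharacter G // charDegree (χ : G → ℂ) = 1}).card :=
        Finset.card_univ.symm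
    _ ≤ I.index * ((Finset.univ : Finset _).image Φ).card := hmain
    _ ≤ I.index * Fintype.card {χ : IrrCharacter G //
        charDegree (χ : G → ℂ) = charDegree (φ : ↥N → ℂ) * I.index} :=
        Nat.mul_le_mul_left _ (Finset.card_le_univ _)

end Main

end Cfsg.Agent.Helper24
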