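import Mathlib
import Cfsg.Prelude.Def_Characters
import Cfsg.Agent.Helper24.Orthogonality
import Cfsg.Agent.Helper24.MinNormalLinear
import Cfsg.Agent.Helper8.CharComp

/-!
An invariant irreducible character of a normal subgroup with cyclic quotient extends.
-/

namespace Cfsg.Agent.Helper24

universe u

open Representation

section CyclicExtension

variable {G : Type u} [Group G] (N : Subgroup G) [hN : N.Normal]
  {H : Type*} [Group H]

/-- The pairs `(g, a)` such that `a` implements conjugation by `g` on the representation. -/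
def conjPairs (Y : N →* H) : Subgroup (G × H) where
  carrier := {p | ∀ n : N, Y (MulAut.conjNormal p.1 n) = p.2 * Y n * p.2⁻¹}
  one_mem' := by
    intro n
    simp
  mul_mem' := by
    intro p q hp hq n
    simp only [Prod.fst_mul, Prod.snd_mul, map_mul, MulAut.mul_apply]
    rw [hp, hq]
    group
  inv_mem' := by
    intro p hp n
    show Y (MulAut.conjNormal p.1⁻¹ n) = p.2⁻¹ * Y n * p.2⁻¹⁻¹
    have h := hp (MulAut.conjNormal p.1⁻¹ n)
    have h2 : MulAut.conjNormal p.1 (MulAut.conjNormal p.1⁻¹ n) = n := by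
      rw [← MulAut.mul_apply, ← map_mul, mul_inv_cancel, map_one]
      rfl
    rw [h2] at h
    rw [h]
    group

theorem mem_conjPairs (Y : N →* H) (p : G × H) :
    p ∈ conjPairs N Y ↔ ∀ n : N, Y (MulAut.conjNormal p.1 n) = p.2 * Y n * p.2⁻¹ := Iff.rfl

theorem mem_conjPairs_of_mem (Y : N →* H) (n₀ : N) :
    ((n₀ : G), Y n₀) ∈ conjPairs N Y := by
  intro n
  have : MulAut.conjNormal (n₀ : G) n = n₀ * n * n₀⁻¹ := by
    apply Subtype.ext
    rw [MulAut.conjNormal_apply]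
    simp
  rw [this, map_mul, map_mul, map_inv]

/-- Extending a homomorphism from a normal subgroup with cyclic quotient. -/
theorem exists_hom_extension (g₀ : G)
    (hgen : ∀ q : G ⧸ N, q ∈ Subgroup.zpowers (g₀ : G ⧸ N))
    (Y : N →* H) (A : H) (hA : (g₀, A) ∈ conjPairs N Y)
    (hpow : ∀ (z : ℤ) (hz : g₀ ^ z ∈ N), A ^ z = Y ⟨g₀ ^ z, hz⟩) :
    ∃ X : G →* H, ∀ n : N, X (n : G) = Y n := by
  -- the semidirect product
  let φ : Multiplicative ℤ →* MulAut N := (MulAut.conjNormal (H := N)).comp (zpowersHom G g₀)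
  have hφ : ∀ z : Multiplicative ℤ, φ z = MulAut.conjNormal (g₀ ^ (Multiplicative.toAdd z)) :=
    fun z => rfl
  let π : N ⋊[φ] Multiplicative ℤ →* G := SemidirectProduct.lift N.subtype (zpowersHom G g₀) (by
    intro z
    ext n
    simp only [MonoidHom.comp_apply, MulEquiv.coe_toMonoidHom, Subgroup.coe_subtype,
      MulAut.conj_apply]
    rw [hφ, MulAut.conjNormal_apply]
    rfl)
  have hpairs : ∀ z : ℤ, (g₀ ^ z, A ^ z) ∈ conjPairs N Y := by
    intro z
    have := (conjPairs N Y).zpow_mem hA z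
    rwa [Prod.pow_mk] at this
  let F : N ⋊[φ] Multiplicative ℤ →* H := SemidirectProduct.lift Y (zpowersHom H A) (by
    intro z
    ext n
    simp only [MonoidHom.comp_apply, MulEquiv.coe_toMonoidHom, MulAut.conj_apply]
    rw [hφ]
    exact hpairs (Multiplicative.toAdd z) n)
  have hπ : ∀ s : N ⋊[φ] Multiplicative ℤ,
      π s = (s.left : G) * g₀ ^ (Multiplicative.toAdd s.right) := fun s => rfl
  have hF : ∀ s : N ⋊[φ] Multiplicative ℤ,
      F s = Y s.left * A ^ (Multiplicative.toAdd s.right) := fun s => rfl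
  have hsurj : Function.Surjective π := by
    intro g
    obtain ⟨z, hz⟩ := Subgroup.mem_zpowers_iff.mp (hgen (g : G ⧸ N))
    have hmem : g * (g₀ ^ z)⁻¹ ∈ N := by
      rw [← QuotientGroup.eq_one_iff, QuotientGroup.mk_mul, QuotientGroup.mk_inv,
        QuotientGroup.mk_zpow, hz, mul_inv_cancel]
    refine ⟨⟨⟨g * (g₀ ^ z)⁻¹, hmem⟩, Multiplicative.ofAdd z⟩, ?_⟩
    rw [hπ]
    simp
  have hker : π.ker ≤ F.ker := by
    intro s hs
    rw [MonoidHom.mem_ker, hπ] at hs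
    rw [MonoidHom.mem_ker, hF]
    have h1 : g₀ ^ (Multiplicative.toAdd s.right) = ((s.left)⁻¹ : N) := by
      rw [Subgroup.coe_inv]
      exact eq_inv_of_mul_eq_one_right hs
    have hz : g₀ ^ (Multiplicative.toAdd s.right) ∈ N := by
      rw [h1]; exact (s.left⁻¹).2
    rw [hpow _ hz]
    have h2 : (⟨g₀ ^ (Multiplicative.toAdd s.right), hz⟩ : N) = (s.left)⁻¹ := Subtype.ext h1
    rw [h2, map_inv, mul_inv_cancel]
  refine ⟨π.liftOfSurjective hsurj ⟨F, hker⟩, ?_⟩
  intro n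
  have h1 : (n : G) = π (SemidirectProduct.inl n) := by
    rw [hπ]
    simp
  rw [h1, MonoidHom.liftOfRightInverse_comp_apply]
  show F (SemidirectProduct.inl n) = Y n
  rw [hF]
  simp

end CyclicExtension

section Schur

/-- Schur's lemma: an endomorphism commuting with an irreducible complex representation is a
scalar. -/
theorem exists_scalar_of_commute {N V : Type*} [Group N] [AddCommGroup V] [Module ℂ V]
    [FiniteDimensional ℂ V] (Y : Representation ℂ N V) [Y.IsIrreducible] (f : V →ₗ[ℂ] V)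
    (hf : ∀ n : N, f ∘ₗ Y n = Y n ∘ₗ f) : ∃ c : ℂ, f = c • (LinearMap.id : V →ₗ[ℂ] V) := by
  obtain ⟨c, hc⟩ :=
    (IsIrreducible.algebraMap_intertwiningMap_bijective_of_isAlgClosed (ρ := Y)).2
      (⟨f, hf⟩ : IntertwiningMap Y Y)
  refine ⟨c, ?_⟩
  have := congrArg IntertwiningMap.toLinearMap hc
  rw [IntertwiningMap.algebraMap_apply] at this
  ext v
  have h2 := congrArg (fun f : V →ₗ[ℂ] V => f v) this
  simp only [IntertwiningMap.toLinearMap_smul] at h2
  exact h2.symm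

end Schur

section Main

variable {G : Type u} [Group G] [Finite G] (N : Subgroup G) [hN : N.Normal]

/-- An invariant irreducible character of a normal subgroup with cyclic quotient extends
(statement S0886). -/
theorem exists_extension_of_cyclic_quotient (hcyc : IsCyclic (G ⧸ N)) (ϑ : N → ℂ)
    (hϑ : IsIrrCharacter N ϑ)
    (hinv : ∀ (g : G) (n : N), ϑ ⟨g * n * g⁻¹, hN.conj_mem (n : G) n.2 g⟩ = ϑ n) :
    ∃ χ : G → ℂ, IsIrrCharacter G χ ∧ ∀ n : N, χ n = ϑ n := by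
  classical
  haveI : Fintype G := Fintype.ofFinite G
  haveI : Fintype N := Fintype.ofFinite N
  obtain ⟨d, Y, hY, hYχ⟩ := hϑ
  haveI := hY
  obtain ⟨q₀, hq₀⟩ := hcyc.exists_generator
  obtain ⟨g₀, rfl⟩ := QuotientGroup.mk_surjective q₀
  -- the conjugate representation is equivalent to `Y`
  have hY'irr : Representation.IsIrreducible
      (MonoidHom.comp Y (MulAut.conjNormal g₀ : N ≃* N).toMonoidHom :
        Representation ℂ N (Fin d → ℂ)) :=
    Helper8.isIrreducible_comp_surjective Y _ (MulEquiv.surjective _) hY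
  haveI := hY'irr
  have hchar : Representation.character (MonoidHom.comp Y (MulAut.conjNormal g₀ : N ≃* N).toMonoidHom :
      Representation ℂ N (Fin d → ℂ)) = Y.character := by
    funext n
    rw [Helper8.character_comp, hYχ]
    have : (MulAut.conjNormal g₀ : N ≃* N).toMonoidHom n =
        ⟨g₀ * n * g₀⁻¹, hN.conj_mem (n : G) n.2 g₀⟩ := by
      apply Subtype.ext
      exact MulAut.conjNormal_apply g₀ n
    rw [this]
    exact hinv g₀ n
  obtain ⟨E⟩ := nonempty_equiv_of_character_eq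
    (MonoidHom.comp Y (MulAut.conjNormal g₀ : N ≃* N).toMonoidHom :
      Representation ℂ N (Fin d → ℂ)) Y hchar
  -- units
  let Yu : N →* (Module.End ℂ (Fin d → ℂ))ˣ := MonoidHom.toHomUnits Y
  have hYu : ∀ n : N, ((Yu n : (Module.End ℂ (Fin d → ℂ))ˣ) : Module.End ℂ (Fin d → ℂ)) = Y n :=
    fun n => rfl
  let A₀ : (Module.End ℂ (Fin d → ℂ))ˣ := LinearMap.GeneralLinearGroup.ofLinearEquiv E.toLinearEquiv
  have hA₀val : ((A₀ : (Module.End ℂ (Fin d → ℂ))ˣ) : Module.End ℂ (Fin d → ℂ)) =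
      E.toLinearMap := rfl
  have hA₀ : (g₀, A₀) ∈ conjPairs N Yu := by
    intro n
    rw [eq_mul_inv_iff_mul_eq]
    apply Units.ext
    rw [Units.val_mul, Units.val_mul, hYu, hYu, hA₀val]
    exact (E.isIntertwining' n).symm
  -- the order of the generator
  obtain ⟨m, hmdef⟩ : ∃ m : ℕ, m = orderOf (g₀ : G ⧸ N) := ⟨_, rfl⟩
  have hmpos : 0 < m := by rw [hmdef]; exact orderOf_pos _
  have hmem : ∀ z : ℤ, g₀ ^ z ∈ N ↔ (m : ℤ) ∣ z := by
    intro z
    rw [hmdef, orderOf_dvd_iff_zpow_eq_one, ← QuotientGroup.mk_zpow, QuotientGroup.eq_one_iff]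
  have hgm : g₀ ^ (m : ℤ) ∈ N := (hmem m).mpr (dvd_refl _)
  -- the scalar
  have hB : ((1 : G), A₀ ^ (m : ℤ) * (Yu ⟨g₀ ^ (m : ℤ), hgm⟩)⁻¹) ∈ conjPairs N Yu := by
    have h1 : (g₀ ^ (m : ℤ), A₀ ^ (m : ℤ)) ∈ conjPairs N Yu := by
      have := (conjPairs N Yu).zpow_mem hA₀ (m : ℤ)
      rwa [Prod.pow_mk] at this
    have h2 := mem_conjPairs_of_mem N Yu ⟨g₀ ^ (m : ℤ), hgm⟩
    have h3 := (conjPairs N Yu).mul_mem h1 ((conjPairs N Yu).inv_mem h2)
    rw [Prod.inv_mk, Prod.mk_mul_mk] at h3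
    simpa using h3
  have hBcomm : ∀ n : N,
      ((A₀ ^ (m : ℤ) * (Yu ⟨g₀ ^ (m : ℤ), hgm⟩)⁻¹ : (Module.End ℂ (Fin d → ℂ))ˣ) :
        Module.End ℂ (Fin d → ℂ)) ∘ₗ Y n =
      Y n ∘ₗ ((A₀ ^ (m : ℤ) * (Yu ⟨g₀ ^ (m : ℤ), hgm⟩)⁻¹ : (Module.End ℂ (Fin d → ℂ))ˣ) :
        Module.End ℂ (Fin d → ℂ)) := by
    intro n
    have h1 := hB n
    simp only [map_one, MulAut.one_apply] at h1
    rw [eq_mul_inv_iff_mul_eq] at h1
    have h2 := congrArg Units.val h1
    rw [Units.val_mul, Units.val_mul, hYu] at h2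
    exact h2.symm
  obtain ⟨c, hc⟩ := exists_scalar_of_commute Y _ hBcomm
  have hc0 : c ≠ 0 := by
    intro h0
    rw [h0, zero_smul] at hc
    have h1 := (A₀ ^ (m : ℤ) * (Yu ⟨g₀ ^ (m : ℤ), hgm⟩)⁻¹).mul_inv
    rw [hc, zero_mul] at h1
    have hpos := finrank_pos_of_isIrreducible Y
    haveI : Nontrivial (Fin d → ℂ) := Module.finrank_pos_iff.mp hpos
    have h2 : (0 : Module.End ℂ (Fin d → ℂ)) ≠ 1 := zero_ne_one
    exact h2 h1
  obtain ⟨r, hr⟩ := IsAlgClosed.exists_pow_nat_eq c⁻¹ hmpos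
  have hr0 : r ≠ 0 := by
    intro h0
    rw [h0, zero_pow hmpos.ne'] at hr
    exact inv_ne_zero hc0 hr.symm
  let R : (Module.End ℂ (Fin d → ℂ))ˣ :=
    Units.map (algebraMap ℂ (Module.End ℂ (Fin d → ℂ))).toMonoidHom (Units.mk0 r hr0)
  have hRval : ((R : (Module.End ℂ (Fin d → ℂ))ˣ) : Module.End ℂ (Fin d → ℂ)) =
      algebraMap ℂ (Module.End ℂ (Fin d → ℂ)) r := rfl
  have hRcomm : ∀ x : (Module.End ℂ (Fin d → ℂ))ˣ, R * x = x * R := by
    intro x
    apply Units.ext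
    rw [Units.val_mul, Units.val_mul, hRval]
    exact Algebra.commutes r _
  have hR : ((1 : G), R) ∈ conjPairs N Yu := by
    intro n
    simp only [map_one, MulAut.one_apply]
    rw [hRcomm, mul_inv_cancel_right]
  have hA : (g₀, R * A₀) ∈ conjPairs N Yu := by
    have := (conjPairs N Yu).mul_mem hR hA₀
    rwa [Prod.mk_mul_mk, one_mul] at this
  -- the power condition
  have hAm : (R * A₀) ^ (m : ℤ) = Yu ⟨g₀ ^ (m : ℤ), hgm⟩ := by
    rw [Commute.mul_zpow (hRcomm A₀)]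
    have h1 : A₀ ^ (m : ℤ) = (A₀ ^ (m : ℤ) * (Yu ⟨g₀ ^ (m : ℤ), hgm⟩)⁻¹) *
        Yu ⟨g₀ ^ (m : ℤ), hgm⟩ := by group
    rw [h1, ← mul_assoc]
    have h2 : R ^ (m : ℤ) * (A₀ ^ (m : ℤ) * (Yu ⟨g₀ ^ (m : ℤ), hgm⟩)⁻¹) = 1 := by
      apply Units.ext
      rw [Units.val_mul, hc, zpow_natCast, Units.val_pow_eq_pow_val, hRval, ← map_pow, hr,
        Units.val_one]
      ext v
      simp [hc0]
    rw [h2, one_mul]
  have hpow : ∀ (z : ℤ) (hz : g₀ ^ z ∈ N), (R * A₀) ^ z = Yu ⟨g₀ ^ z, hz⟩ := by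
    intro z hz
    obtain ⟨k, rfl⟩ := (hmem z).mp hz
    rw [zpow_mul, hAm, ← map_zpow]
    congr 1
    apply Subtype.ext
    rw [Subgroup.coe_zpow, ← zpow_mul]
  obtain ⟨X', hX'⟩ := exists_hom_extension N g₀ hq₀ Yu (R * A₀) hA hpow
  -- the representation of G
  let X : Representation ℂ G (Fin d → ℂ) :=
    (Units.coeHom (Module.End ℂ (Fin d → ℂ))).comp X'
  have hXN : ∀ n : N, X.character (n : G) = Y.character n := by
    intro n
    show LinearMap.trace ℂ _ (((X' (n : G) : (Module.End ℂ (Fin d → ℂ))ˣ) :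
      Module.End ℂ (Fin d → ℂ))) = LinearMap.trace ℂ _ (Y n)
    rw [hX' n, hYu]
  refine ⟨X.character, ?_, ?_⟩
  · refine isIrrCharacter_of_comp_irr N.subtype ⟨d, X, rfl⟩ ?_
    have : (fun n : N => X.character (N.subtype n)) = Y.character := funext hXN
    rw [this]
    exact ⟨d, Y, hY, rfl⟩
  · intro n
    rw [hXN n, hYχ]

end Main

end Cfsg.Agent.Helper24
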