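import Mathlib
import Cfsg.Prelude.Def_CharExt
import Cfsg.Agent.Helper24.Decomp
import Cfsg.Agent.Helper24.Expansion
import Cfsg.Agent.Helper8.PosDef
import Cfsg.Agent.Helper8.CharComp
import Cfsg.Agent.Helper24.LinUnits
import Cfsg.Agent.Helper8.CliffordAb

/-!
The determinantal character `Cfsg.detChar` of an irreducible character.
-/

set_option autoImplicit false

namespace Cfsg.Agent.Helper24

open Representation Module Cfsg

universe u v w

section Irr

variable {G : Type u} [Group G] [Finite G]
variable {V : Type v} [AddCommGroup V] [Module ℂ V] [FiniteDimensional ℂ V]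

/-- A representation whose character is an irreducible character is irreducible. -/
theorem isIrreducible_of_isIrrCharacter (σ : Representation ℂ G V)
    (h : IsIrrCharacter G σ.character) : σ.IsIrreducible := by
  classical
  haveI : Fintype G := Fintype.ofFinite G
  haveI : Fintype (IrrCharacter G) := Fintype.ofFinite _
  haveI : NeZero (Nat.card G : ℂ) := ⟨by
    have : 0 < Nat.card G := Nat.card_pos
    exact_mod_cast this.ne'⟩
  have h11 : classInner σ.character σ.character = 1 := by
    rw [classInner_of_isIrrCharacter h h, if_pos rfl]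
  have hV : Nontrivial V := by
    by_contra hnt
    rw [not_nontrivial_iff_subsingleton] at hnt
    have h0 : finrank ℂ V = 0 := Module.finrank_zero_of_subsingleton
    have h1 := character_eq_zero_of_finrank_eq_zero σ h0
    rw [h1] at h11
    simp [classInner] at h11
  refine { exists_pair_ne := ⟨⊥, ⊤, ?_⟩, eq_bot_or_eq_top := ?_ }
  · intro hbt
    have h' := congrArg Subrepresentation.toSubmodule hbt
    change (⊥ : Submodule ℂ V) = ⊤ at h'
    exact bot_ne_top h'
  · intro U
    obtain ⟨U', hc⟩ := exists_isCompl U
    have hc' : IsCompl U.toSubmodule U'.toSubmodule := by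
      constructor
      · rw [disjoint_iff]
        exact congrArg Subrepresentation.toSubmodule hc.inf_eq_bot
      · rw [codisjoint_iff]
        exact congrArg Subrepresentation.toSubmodule hc.sup_eq_top
    have hsum := character_eq_add_of_isCompl σ U U' hc'
    have ha : IsCharacter G U.toRepresentation.character := isCharacter_character _
    have hb : IsCharacter G U'.toRepresentation.character := isCharacter_character _
    obtain ⟨naa, hnaa⟩ := IsCharacter.classInner_nat ha ha
    obtain ⟨nab, hnab⟩ := IsCharacter.classInner_nat ha hb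
    obtain ⟨nba, hnba⟩ := IsCharacter.classInner_nat hb ha
    obtain ⟨nbb, hnbb⟩ := IsCharacter.classInner_nat hb hb
    rw [hsum, classInner_add_left, classInner_add_right, classInner_add_right, hnaa, hnab, hnba,
      hnbb] at h11
    have h12 : naa + nab + (nba + nbb) = 1 := by exact_mod_cast h11
    have key : ∀ (W : Subrepresentation σ),
        classInner W.toRepresentation.character W.toRepresentation.character = 0 →
        W.toSubmodule = ⊥ := by
      intro W hW
      have h0 := Helper8.eq_zero_of_classInner_self_eq_zero hW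
      have h1 := congrFun h0 1
      rw [Representation.char_one, Pi.zero_apply] at h1
      have h2 : finrank ℂ W.toSubmodule = 0 := by exact_mod_cast h1
      exact Submodule.finrank_eq_zero.mp h2
    by_cases hz : naa = 0
    · left
      apply Subrepresentation.toSubmodule_injective
      apply key U
      rw [hnaa, hz, Nat.cast_zero]
    · right
      have hz' : nbb = 0 := by omega
      have hU' : U'.toSubmodule = ⊥ := by
        apply key U'
        rw [hnbb, hz', Nat.cast_zero]
      apply Subrepresentation.toSubmodule_injective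
      have := hc'.sup_eq_top
      rw [hU', sup_bot_eq] at this
      exact this

end Irr

section Det

variable {G : Type u} [Group G] [Finite G]

/-- The determinant homomorphism of a representation, with values in `ℂˣ`. -/
noncomputable def detUnits {n : ℕ} (ρ : Representation ℂ G (Fin n → ℂ)) : G →* ℂˣ :=
  ((LinearMap.det : Module.End ℂ (Fin n → ℂ) →* ℂ).comp ρ).toHomUnits

omit [Finite G] in
theorem detUnits_apply {n : ℕ} (ρ : Representation ℂ G (Fin n → ℂ)) (g : G) :
    ((detUnits ρ g : ℂˣ) : ℂ) = LinearMap.det (ρ g) := rfl

/-- The determinantal character of an irreducible character is computed by any representation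
affording it. -/
theorem detChar_eq_det {n : ℕ} (ρ : Representation ℂ G (Fin n → ℂ))
    (h : IsIrrCharacter G ρ.character) (g : G) :
    detChar ρ.character g = LinearMap.det (ρ g) := by
  classical
  haveI : Fintype G := Fintype.ofFinite G
  have hc : IsCharacter G ρ.character := ⟨n, ρ, rfl⟩
  unfold detChar
  simp only [dif_pos hc]
  obtain ⟨σ, hσ⟩ : ∃ σ, σ = Classical.choose (Classical.choose_spec hc) := ⟨_, rfl⟩
  rw [← hσ]
  have hσc : σ.character = ρ.character := by
    rw [hσ]
    exact Classical.choose_spec (Classical.choose_spec hc)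
  haveI : σ.IsIrreducible := isIrreducible_of_isIrrCharacter σ (hσc.symm ▸ h)
  haveI : ρ.IsIrreducible := isIrreducible_of_isIrrCharacter ρ h
  obtain ⟨E⟩ := nonempty_equiv_of_character_eq σ ρ hσc
  -- `E : ρ.Equiv σ`
  have h1 : σ g = (E.toLinearEquiv : _ →ₗ[ℂ] _) ∘ₗ ρ g ∘ₗ (E.toLinearEquiv.symm : _ →ₗ[ℂ] _) := by
    have h2 := E.isIntertwining' g
    refine LinearMap.ext fun v => ?_
    obtain ⟨w, rfl⟩ := E.toLinearEquiv.surjective v
    have h3 := congrArg (fun F => F w) h2
    simp only [LinearMap.coe_comp, Function.comp_apply, LinearEquiv.coe_coe,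
      LinearEquiv.symm_apply_apply] at h3 ⊢
    exact h3.symm
  rw [h1, LinearMap.det_conj]

theorem detChar_eq_detUnits {n : ℕ} (ρ : Representation ℂ G (Fin n → ℂ))
    (h : IsIrrCharacter G ρ.character) :
    detChar ρ.character = fun g => ((detUnits ρ g : ℂˣ) : ℂ) :=
  funext fun g => detChar_eq_det ρ h g

/-- The determinantal character of an irreducible character is a degree-one character. -/
theorem isLin_detChar {χ : G → ℂ} (h : IsIrrCharacter G χ) :
    IsCharacter G (detChar χ) ∧ detChar χ 1 = 1 := by
  obtain ⟨n, ρ, hρ, rfl⟩ := h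
  have h' : IsIrrCharacter G ρ.character := ⟨n, ρ, hρ, rfl⟩
  rw [detChar_eq_detUnits ρ h']
  exact isLin_coe (detUnits ρ)

/-- Compatibility of the determinantal character with composition by a homomorphism. -/
theorem detChar_comp {H : Type w} [Group H] [Finite H] (f : H →* G) {χ : G → ℂ}
    (hχ : IsIrrCharacter G χ) (hχf : IsIrrCharacter H (fun h => χ (f h))) (h : H) :
    detChar (fun h => χ (f h)) h = detChar χ (f h) := by
  obtain ⟨n, ρ, hρ, rfl⟩ := hχ
  have h' : IsIrrCharacter G ρ.character := ⟨n, ρ, hρ, rfl⟩
  have h1 : (fun h => ρ.character (f h)) =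
      Representation.character (MonoidHom.comp ρ f : Representation ℂ H (Fin n → ℂ)) := by
    funext x
    rw [Helper8.character_comp]
  rw [detChar_eq_det ρ h']
  have h2 : IsIrrCharacter H
      (Representation.character (MonoidHom.comp ρ f : Representation ℂ H (Fin n → ℂ))) := by
    rw [← h1]; exact hχf
  have h3 := detChar_eq_det (MonoidHom.comp ρ f : Representation ℂ H (Fin n → ℂ)) h2 h
  rw [← h1] at h3
  rw [h3]
  rfl

/-- The determinantal character of `β χ` for a degree-one `β`. -/
theorem detChar_linear_mul (β : G →* ℂˣ) {χ : G → ℂ} (hχ : IsIrrCharacter G χ) (d : ℕ)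
    (hd : χ 1 = d) (g : G) :
    detChar (fun g => ((β g : ℂˣ) : ℂ) * χ g) g = ((β g : ℂˣ) : ℂ) ^ d * detChar χ g := by
  haveI : Fintype G := Fintype.ofFinite G
  have hirr := Helper8.isIrrCharacter_linear_mul β hχ
  obtain ⟨n, ρ, hρ, rfl⟩ := hχ
  have h' : IsIrrCharacter G ρ.character := ⟨n, ρ, hρ, rfl⟩
  have hn : n = d := by
    rw [Representation.char_one, Module.finrank_fin_fun] at hd
    exact_mod_cast hd
  let ρ' : Representation ℂ G (Fin n → ℂ) :=
    { toFun := fun g => ((β g : ℂˣ) : ℂ) • ρ g
      map_one' := by rw [map_one, map_one, Units.val_one, one_smul]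
      map_mul' := fun a b => by
        rw [map_mul, map_mul, Units.val_mul, Module.End.mul_eq_comp, Module.End.mul_eq_comp,
          LinearMap.smul_comp, LinearMap.comp_smul, smul_smul] }
  have hρ' : ρ'.character = fun g => ((β g : ℂˣ) : ℂ) * ρ.character g := by
    funext x
    show LinearMap.trace ℂ _ (((β x : ℂˣ) : ℂ) • ρ x) = _
    rw [map_smul, smul_eq_mul]
    rfl
  rw [← hρ'] at hirr ⊢
  rw [detChar_eq_det ρ' hirr, detChar_eq_det ρ h']
  show LinearMap.det (((β g : ℂˣ) : ℂ) • ρ g) = _
  rw [LinearMap.det_smul, Module.finrank_fin_fun]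
  congr 2

end Det

end Cfsg.Agent.Helper24
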