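import Mathlib
import Cfsg.Prelude.Def_CharExt
import Cfsg.Agent.Helper24.DetChar
import Cfsg.Agent.Helper24.Gallagher

/-!
Extensions of an irreducible character of a normal subgroup with prescribed determinant
(Isaacs 6.24).
-/

set_option autoImplicit false

namespace Cfsg.Agent.Helper24

open Representation Module Cfsg

universe u

section Main

variable {G : Type u} [Group G] [Finite G] (N : Subgroup G) [hN : N.Normal]

/-- Isaacs 6.24 (statement S0862). -/
theorem extension_with_prescribed_det (ϑ : N → ℂ) (hϑ : IsIrrCharacter N ϑ) (d : ℕ)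
    (hd : ϑ 1 = d) (hcop : Nat.Coprime N.index d)
    (hext : ∃ η : G → ℂ, IsIrrCharacter G η ∧ (∀ n : N, η n = ϑ n)) (μ : G → ℂ)
    (hμ : IsCharacter G μ ∧ μ 1 = 1) (hμN : ∀ n : N, μ n = detChar ϑ n) :
    ∃! χ : G → ℂ, IsIrrCharacter G χ ∧ (∀ n : N, χ n = ϑ n) ∧ detChar χ = μ := by
  classical
  haveI : Fintype G := Fintype.ofFinite G
  haveI : Fintype N := Fintype.ofFinite N
  obtain ⟨η, hη, hηN⟩ := hext
  have hηN' : (fun n : N => η n) = ϑ := funext hηN
  have hη1 : η 1 = d := by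
    have := hηN 1
    rw [hd] at this
    exact this
  have hd0 : (d : ℂ) ≠ 0 := by
    rw [← hd]
    exact irr_one_ne_zero (⟨ϑ, hϑ⟩ : IrrCharacter N)
  have hηNirr : IsIrrCharacter N (fun n : N => η (N.subtype n)) := by
    have : (fun n : N => η (N.subtype n)) = ϑ := hηN'
    rw [this]; exact hϑ
  have hDN : ∀ n : N, detChar η n = detChar ϑ n := by
    intro n
    have h1 := detChar_comp N.subtype hη hηNirr n
    have : (fun n : N => η (N.subtype n)) = ϑ := hηN'
    rw [this] at h1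
    exact h1.symm
  obtain ⟨M, hM⟩ : ∃ M : G →* ℂˣ, M = linUnits hμ.1 hμ.2 := ⟨_, rfl⟩
  obtain ⟨D, hD⟩ : ∃ D : G →* ℂˣ, D = linUnits (isLin_detChar hη).1 (isLin_detChar hη).2 :=
    ⟨_, rfl⟩
  have hMval : ∀ g, ((M g : ℂˣ) : ℂ) = μ g := fun g => by rw [hM]; rfl
  have hDval : ∀ g, ((D g : ℂˣ) : ℂ) = detChar η g := fun g => by rw [hD]; rfl
  have hEN : ∀ n : N, (M / D) n = 1 := by
    intro n
    rw [MonoidHom.div_apply, div_eq_one]
    apply Units.ext
    rw [hMval, hDval, hμN, hDN]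
  have hEi : ∀ g, (M / D) g ^ N.index = 1 := pow_index_eq_one_of_trivial N (M / D) hEN
  obtain ⟨u, v, huv⟩ := Nat.isCoprime_iff_coprime.mpr hcop
  have hBN : ∀ n : N, ((M / D) ^ v) n = 1 := by
    intro n
    rw [MonoidHom.zpow_apply, hEN, one_zpow]
  have hBd : ∀ g, ((M / D) ^ v) g ^ d = (M / D) g := by
    intro g
    rw [MonoidHom.zpow_apply, ← zpow_natCast, ← zpow_mul]
    have h1 : v * (d : ℤ) = 1 - (N.index : ℤ) * u := by linarith
    rw [h1, zpow_sub, zpow_one, zpow_mul, zpow_natCast, hEi, one_zpow, inv_one, mul_one]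
  have key : ∀ (B' : G →* ℂˣ), detChar (fun g => ((B' g : ℂˣ) : ℂ) * η g) =
      fun g => ((B' g : ℂˣ) : ℂ) ^ d * detChar η g :=
    fun B' => funext (detChar_linear_mul B' hη d hη1)
  refine ⟨fun g => ((((M / D) ^ v) g : ℂˣ) : ℂ) * η g,
    ⟨Helper8.isIrrCharacter_linear_mul _ hη, ?_, ?_⟩, ?_⟩
  · intro n
    show ((((M / D) ^ v) (n : G) : ℂˣ) : ℂ) * η n = ϑ n
    rw [hBN, Units.val_one, one_mul, hηN]
  · rw [key]
    funext g
    rw [← Units.val_pow_eq_pow_val, hBd, ← hDval, ← Units.val_mul, MonoidHom.div_apply,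
      div_mul_cancel, hMval]
  · rintro χ' ⟨hχ', hχ'N, hdet'⟩
    have hne : classInner (fun n : N => ((⟨χ', hχ'⟩ : IrrCharacter G) : G → ℂ) n)
        (fun n : N => ((⟨η, hη⟩ : IrrCharacter G) : G → ℂ) n) ≠ 0 := by
      have h1 : (fun n : N => χ' n) = ϑ := funext hχ'N
      show classInner (fun n : N => χ' n) (fun n : N => η n) ≠ 0
      rw [h1, hηN', classInner_of_isIrrCharacter hϑ hϑ, if_pos rfl]
      exact one_ne_zero
    obtain ⟨β', hβ'⟩ := exists_gallagherTwist_eq N ⟨η, hη⟩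
      (by show IsIrrCharacter N (fun n : N => η n); rw [hηN']; exact hϑ) ⟨χ', hχ'⟩ hne
    have hβ'g : ∀ g : G, χ' g = (β' : G ⧸ N → ℂ) (g : G ⧸ N) * η g := fun g => congrFun hβ' g
    have hβ'1 : (β' : G ⧸ N → ℂ) 1 = 1 := by
      have h1 := hβ'g 1
      have h2 : χ' 1 = d := by
        have := hχ'N 1
        rw [hd] at this
        exact this
      rw [h2, hη1, QuotientGroup.mk_one] at h1
      have h3 : ((β' : G ⧸ N → ℂ) 1 - 1) * (d : ℂ) = 0 := by rw [sub_mul, ← h1]; ring
      rcases mul_eq_zero.mp h3 with h | h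
      · exact sub_eq_zero.mp h
      · exact absurd h hd0
    obtain ⟨B', hB'⟩ : ∃ B' : G →* ℂˣ, B' =
        (linUnits (IsIrrCharacter.isCharacter β'.2) hβ'1).comp (QuotientGroup.mk' N) := ⟨_, rfl⟩
    have hB'val : ∀ g : G, ((B' g : ℂˣ) : ℂ) = (β' : G ⧸ N → ℂ) (g : G ⧸ N) := fun g => by
      rw [hB']; rfl
    have hχ'eq : χ' = fun g => ((B' g : ℂˣ) : ℂ) * η g := by
      funext g
      rw [hβ'g, hB'val]
    have hB'N : ∀ n : N, B' n = 1 := by
      intro n
      rw [hB']
      show linUnits _ _ (((n : G) : G ⧸ N)) = 1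
      rw [(QuotientGroup.eq_one_iff _).mpr n.2, map_one]
    have h1 : ∀ g, B' g ^ d = (M / D) g := by
      intro g
      have h2 := congrFun hdet' g
      rw [hχ'eq, key] at h2
      rw [MonoidHom.div_apply, eq_div_iff_mul_eq']
      apply Units.ext
      rw [Units.val_mul, Units.val_pow_eq_pow_val, hMval, hDval]
      exact h2
    have h2 : ∀ g, B' g = ((M / D) ^ v) g := by
      intro g
      have a1 : (B' g / ((M / D) ^ v) g) ^ d = 1 := by rw [div_pow, h1, hBd, div_self']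
      have a2 : (B' g / ((M / D) ^ v) g) ^ N.index = 1 := by
        have := pow_index_eq_one_of_trivial N (B' / ((M / D) ^ v))
          (fun n => by rw [MonoidHom.div_apply, hB'N, hBN, div_one]) g
        rwa [MonoidHom.div_apply] at this
      have := (pow_gcd_eq_one (a := B' g / ((M / D) ^ v) g)).mpr ⟨a2, a1⟩
      rw [hcop, pow_one, div_eq_one] at this
      exact this
    rw [hχ'eq]
    funext g
    rw [h2]

end Main

end Cfsg.Agent.Helper24
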