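import Mathlib
import Cfsg.Prelude.Def_CharExt
import Cfsg.Agent.Helper24.DetExtension
import Cfsg.Agent.Helper24.CyclicExtension
import Cfsg.Agent.Helper10.TransferSec

/-!
Isaacs 6.25: for `G/N` solvable and `ϑ` invariant of degree coprime to `|G:N|`, `ϑ` extends iff
`det ϑ` extends.
-/

set_option autoImplicit false

namespace Cfsg.Agent.Helper24

open Representation Module Cfsg

universe u

section Prelim

variable {G : Type u} [Group G] [Finite G] (N : Subgroup G) [hN : N.Normal]

omit hN in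
/-- The determinant of an extension extends the determinant. -/
theorem det_extends_of_extends (ϑ : N → ℂ) (hϑ : IsIrrCharacter N ϑ)
    (h : ∃ χ : G → ℂ, IsIrrCharacter G χ ∧ (∀ n : N, χ n = ϑ n)) :
    ∃ μ : G → ℂ, IsCharacter G μ ∧ μ 1 = 1 ∧ ∀ n : N, μ n = detChar ϑ n := by
  obtain ⟨χ, hχ, hχN⟩ := h
  refine ⟨detChar χ, (isLin_detChar hχ).1, (isLin_detChar hχ).2, ?_⟩
  intro n
  have h1 : (fun n : N => χ (N.subtype n)) = ϑ := funext hχN
  have h2 := detChar_comp N.subtype hχ (by rw [h1]; exact hϑ) n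
  rw [h1] at h2
  exact h2.symm

/-- A proper normal subgroup with solvable quotient lies in a normal subgroup of prime index. -/
theorem exists_normal_prime_index (hsolv : Group.IsSolvable (G ⧸ N)) (hne : N ≠ ⊤) :
    ∃ K : Subgroup G, K.Normal ∧ N ≤ K ∧ K.index.Prime := by
  classical
  haveI : Nontrivial (G ⧸ N) := by
    rw [← Finite.one_lt_card_iff_nontrivial, ← Subgroup.index_eq_card]
    have h1 : N.index ≠ 1 := fun h => hne (Subgroup.index_eq_one.mp h)
    have h2 : N.index ≠ 0 := Subgroup.index_ne_zero_of_finite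
    omega
  have hlt := Group.IsSolvable.commutator_lt_top_of_nontrivial (G ⧸ N)
  have hcard : Nat.card (Abelianization (G ⧸ N)) ≠ 1 := by
    intro h1
    have : (commutator (G ⧸ N)).index = 1 := by
      rw [Subgroup.index_eq_card]; exact h1
    exact hlt.ne (Subgroup.index_eq_one.mp this)
  obtain ⟨p, hp, hpd⟩ := Nat.exists_prime_and_dvd hcard
  haveI : Fact p.Prime := ⟨hp⟩
  obtain ⟨B, hB⟩ := Helper10.exists_index_eq_prime_of_comm hpd
  haveI : B.Normal := ⟨fun n hn g => by rw [mul_inv_cancel_comm]; exact hn⟩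
  refine ⟨(B.comap Abelianization.of).comap (QuotientGroup.mk' N), inferInstance, ?_, ?_⟩
  · intro n hn
    rw [Subgroup.mem_comap, Subgroup.mem_comap]
    have : (QuotientGroup.mk' N) n = 1 := (QuotientGroup.eq_one_iff n).mpr hn
    rw [this, map_one]
    exact B.one_mem
  · rw [Subgroup.index_comap_of_surjective _ (QuotientGroup.mk'_surjective N),
      Subgroup.index_comap_of_surjective _
        (show Function.Surjective (Abelianization.of : (G ⧸ N) →* Abelianization (G ⧸ N)) from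
          QuotientGroup.mk_surjective), hB]
    exact hp

end Prelim

section Main

theorem extends_of_det_extends_solvable_aux : ∀ (k : ℕ) (G : Type u) [Group G] [Finite G]
    (N : Subgroup G) [hN : N.Normal], N.index = k → Group.IsSolvable (G ⧸ N) →
    ∀ (ϑ : N → ℂ), IsIrrCharacter N ϑ →
    (∀ (g : G) (n : N), ϑ ⟨g * n * g⁻¹, hN.conj_mem (n : G) n.2 g⟩ = ϑ n) → ∀ d : ℕ, ϑ 1 = d →
    Nat.Coprime N.index d →
    (∃ μ : G → ℂ, IsCharacter G μ ∧ μ 1 = 1 ∧ ∀ n : N, μ n = detChar ϑ n) →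
    ∃ χ : G → ℂ, IsIrrCharacter G χ ∧ ∀ n : N, χ n = ϑ n := by
  intro k
  induction k using Nat.strong_induction_on with
  | _ k ih =>
    intro G _ _ N hN hk hsolv ϑ hϑ hinv d hd hcop hμ
    by_cases hNtop : N = ⊤
    · have hmem : ∀ g : G, g ∈ N := fun g => hNtop ▸ Subgroup.mem_top g
      let f : G →* N :=
        { toFun := fun g => ⟨g, hmem g⟩, map_one' := rfl, map_mul' := fun _ _ => rfl }
      refine ⟨fun g => ϑ (f g),
        Helper8.isIrrCharacter_comp_surjective f (fun n => ⟨n, Subtype.ext rfl⟩) hϑ, fun n => ?_⟩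
      rfl
    · obtain ⟨K, hKn, hNK, hKp⟩ := exists_normal_prime_index N hsolv hNtop
      haveI := hKn
      obtain ⟨μ, hμc, hμ1, hμN⟩ := hμ
      let e : N.subgroupOf K ≃* N := Subgroup.subgroupOfEquivOfLe hNK
      have he : ∀ x : N.subgroupOf K, ((e x : N) : G) = ((x : K) : G) := fun x => rfl
      obtain ⟨ϑ', hϑ'def⟩ : ∃ ϑ' : N.subgroupOf K → ℂ, ϑ' = fun x => ϑ (e x) := ⟨_, rfl⟩
      have hϑ'val : ∀ x, ϑ' x = ϑ (e x) := fun x => by rw [hϑ'def]
      have hϑ' : IsIrrCharacter (N.subgroupOf K) ϑ' := by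
        rw [hϑ'def]
        exact Helper8.isIrrCharacter_comp_surjective e.toMonoidHom e.surjective hϑ
      have hinv' : ∀ (g : K) (n : N.subgroupOf K),
          ϑ' ⟨g * n * g⁻¹, (inferInstance : (N.subgroupOf K).Normal).conj_mem (n : K) n.2 g⟩ =
            ϑ' n := by
        intro g n
        have := hinv (g : G) (e n)
        rw [hϑ'val, hϑ'val, ← this]
        congr 1
      have hd' : ϑ' 1 = d := by rw [hϑ'val, map_one]; exact hd
      have hidx : (N.subgroupOf K).index * K.index = N.index := Subgroup.relIndex_mul_index hNK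
      have hcop' : Nat.Coprime (N.subgroupOf K).index d :=
        Nat.Coprime.coprime_dvd_left (Dvd.intro _ hidx) hcop
      have hlt : (N.subgroupOf K).index < k := by
        rw [← hk, ← hidx]
        have h1 : 0 < (N.subgroupOf K).index := Nat.pos_of_ne_zero Subgroup.index_ne_zero_of_finite
        have h2 := hKp.two_le
        nlinarith
      have hsolv' : Group.IsSolvable (K ⧸ N.subgroupOf K) := by
        let φ : K ⧸ N.subgroupOf K →* G ⧸ N :=
          QuotientGroup.map (N.subgroupOf K) N K.subtype (fun x hx => hx)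
        refine Group.isSolvable_of_isSolvable_injective (f := φ) ?_
        rw [injective_iff_map_eq_one]
        intro x hx
        obtain ⟨y, rfl⟩ := QuotientGroup.mk_surjective x
        have hx' : ((K.subtype y : G) : G ⧸ N) = 1 := hx
        rw [QuotientGroup.eq_one_iff] at hx'
        exact (QuotientGroup.eq_one_iff y).mpr hx'
      obtain ⟨μ', hμ'def⟩ : ∃ μ' : K → ℂ, μ' = fun x : K => μ (x : G) := ⟨_, rfl⟩
      have hμ'val : ∀ x : K, μ' x = μ x := fun x => by rw [hμ'def]
      have hμ'c : IsCharacter K μ' := by rw [hμ'def]; exact Helper8.isCharacter_restrict K hμc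
      have hμ'1 : μ' 1 = 1 := by rw [hμ'val]; exact hμ1
      have hμ'N : ∀ n : N.subgroupOf K, μ' n = detChar ϑ' n := by
        intro n
        have h1 := detChar_comp e.toMonoidHom hϑ (by rw [hϑ'def] at hϑ'; exact hϑ') n
        have h1' : detChar ϑ' n = detChar ϑ (e n) := by rw [hϑ'def]; exact h1
        rw [h1', hμ'val]
        exact hμN (e n)
      obtain ⟨ψ₀, hψ₀, hψ₀N⟩ := ih _ hlt K (N.subgroupOf K) rfl hsolv' ϑ' hϑ' hinv' d hd' hcop'
        ⟨μ', hμ'c, hμ'1, hμ'N⟩
      obtain ⟨ψ, ⟨hψ, hψN, hψdet⟩, hψuniq⟩ := extension_with_prescribed_det (N.subgroupOf K) ϑ' hϑ'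
        d hd' hcop' ⟨ψ₀, hψ₀, hψ₀N⟩ μ' ⟨hμ'c, hμ'1⟩ hμ'N
      have hψinv : ∀ (g : G) (x : K), ψ ⟨g * x * g⁻¹, hKn.conj_mem (x : G) x.2 g⟩ = ψ x := by
        intro g x
        obtain ⟨c, hcdef⟩ : ∃ c : K →* K, c = (MulAut.conjNormal g : K ≃* K).toMonoidHom :=
          ⟨_, rfl⟩
        have hc : ∀ y : K, ((c y : K) : G) = g * y * g⁻¹ := fun y => by
          rw [hcdef]; exact MulAut.conjNormal_apply g y
        have hcirr : IsIrrCharacter K (fun y => ψ (c y)) := by
          rw [hcdef]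
          exact Helper8.isIrrCharacter_comp_surjective _ (MulEquiv.surjective _) hψ
        have h1 : (fun y => ψ (c y)) = ψ := by
          apply hψuniq
          refine ⟨hcirr, ?_, ?_⟩
          · intro n
            have hmem : c (n : K) ∈ N.subgroupOf K := by
              rw [Subgroup.mem_subgroupOf, hc]
              exact hN.conj_mem _ n.2 g
            have h2 := hψN ⟨c (n : K), hmem⟩
            show ψ (c (n : K)) = ϑ' n
            rw [show ψ (c (n : K)) = ϑ' ⟨c (n : K), hmem⟩ from h2, hϑ'val, hϑ'val, ← hinv g (e n)]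
            congr 1
            apply Subtype.ext
            exact hc _
          · funext y
            rw [detChar_comp c hψ hcirr y, hψdet, hμ'val, hμ'val, hc]
            exact IsCharacter.isClassFunction hμc _ _
        have h2 := congrFun h1 x
        rw [← h2]
        congr 1
        exact Subtype.ext (hc x).symm
      haveI : Fact K.index.Prime := ⟨hKp⟩
      have hcyc : IsCyclic (G ⧸ K) :=
        isCyclic_of_prime_card (p := K.index) (by rw [Subgroup.index_eq_card])
      obtain ⟨χ, hχ, hχK⟩ := exists_extension_of_cyclic_quotient K hcyc ψ hψ hψinv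
      refine ⟨χ, hχ, fun n => ?_⟩
      have h1 := hχK ⟨n, hNK n.2⟩
      have h2 := hψN ⟨⟨n, hNK n.2⟩, n.2⟩
      rw [show χ (n : G) = ψ ⟨n, hNK n.2⟩ from h1,
        show ψ ⟨n, hNK n.2⟩ = ϑ' ⟨⟨n, hNK n.2⟩, n.2⟩ from h2, hϑ'val]
      congr 1

/-- Isaacs 6.25 (statement S0863). -/
theorem extendible_iff_det_extendible_solvable {G : Type u} [Group G] [Finite G] (N : Subgroup G)
    [hN : N.Normal] (hsolv : Group.IsSolvable (G ⧸ N)) (ϑ : N → ℂ) (hϑ : IsIrrCharacter N ϑ)
    (hinv : ∀ (g : G) (n : N), ϑ ⟨g * n * g⁻¹, hN.conj_mem (n : G) n.2 g⟩ = ϑ n) (d : ℕ)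
    (hd : ϑ 1 = d) (hcop : Nat.Coprime N.index d) :
    (∃ χ : G → ℂ, IsIrrCharacter G χ ∧ (∀ n : N, χ n = ϑ n)) ↔
      ∃ μ : G → ℂ, IsCharacter G μ ∧ μ 1 = 1 ∧ ∀ n : N, μ n = detChar ϑ n :=
  ⟨det_extends_of_extends N ϑ hϑ,
    extends_of_det_extends_solvable_aux _ G N rfl hsolv ϑ hϑ hinv d hd hcop⟩

end Main

end Cfsg.Agent.Helper24
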