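import Mathlib
import Cfsg.Prelude.Def_CharExt
import Cfsg.Agent.Helper24.DetSolvable
import Cfsg.Agent.Helper24.BrauerChar
import Cfsg.Agent.Helper24.CosetAverage
import Cfsg.Agent.Helper24.MinNormalLinear
import Cfsg.Agent.Helper24.Generalized

/-!
Gallagher's theorem (Isaacs 8.15): an invariant irreducible character `ϑ` of `N ⊲ G` with
`(|G:N|, ϑ(1)) = 1` extends to `G` iff `det ϑ` does.  The proof glues the canonical extensions to
the subgroups `H ≥ N` with `H/N` solvable, using Brauer's characterization of characters.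
-/

set_option autoImplicit false

namespace Cfsg.Agent.Helper24

open Representation Module Cfsg

universe u

section Can

variable {G : Type u} [Group G] [Finite G] (N : Subgroup G) [hN : N.Normal]

/-- `ψ` is an irreducible character of `H ≥ N` extending `ϑ` with determinant `μ`. -/
def IsCanExt (ϑ : N → ℂ) (μ : G → ℂ) (H : Subgroup G) (hNH : N ≤ H) (ψ : H → ℂ) : Prop :=
  IsIrrCharacter H ψ ∧ (∀ n : N, ψ ⟨n, hNH n.2⟩ = ϑ n) ∧ ∀ h : H, detChar ψ h = μ h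

omit [Finite G] hN in
theorem irr_subgroupOf {ϑ : N → ℂ} (hϑ : IsIrrCharacter N ϑ) {H : Subgroup G} (hNH : N ≤ H) :
    IsIrrCharacter (N.subgroupOf H) (fun x => ϑ (Subgroup.subgroupOfEquivOfLe hNH x)) :=
  Helper8.isIrrCharacter_comp_surjective (Subgroup.subgroupOfEquivOfLe hNH).toMonoidHom
    (Subgroup.subgroupOfEquivOfLe hNH).surjective hϑ

omit [Finite G] in
theorem inv_subgroupOf {ϑ : N → ℂ}
    (hinv : ∀ (g : G) (n : N), ϑ ⟨g * n * g⁻¹, hN.conj_mem (n : G) n.2 g⟩ = ϑ n)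
    {H : Subgroup G} (hNH : N ≤ H) (g : H) (n : N.subgroupOf H) :
    (fun x => ϑ (Subgroup.subgroupOfEquivOfLe hNH x))
      ⟨g * n * g⁻¹, (inferInstance : (N.subgroupOf H).Normal).conj_mem (n : H) n.2 g⟩ =
    (fun x => ϑ (Subgroup.subgroupOfEquivOfLe hNH x)) n := by
  have := hinv (g : G) (Subgroup.subgroupOfEquivOfLe hNH n)
  show ϑ _ = ϑ _
  rw [← this]
  congr 1

omit [Finite G] hN in
theorem coprime_subgroupOf {d : ℕ} (hcop : Nat.Coprime N.index d) {H : Subgroup G} (hNH : N ≤ H) :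
    Nat.Coprime (N.subgroupOf H).index d :=
  Nat.Coprime.coprime_dvd_left (Dvd.intro _ (Subgroup.relIndex_mul_index hNH)) hcop

omit hN in
theorem detChar_subgroupOf {ϑ : N → ℂ} (hϑ : IsIrrCharacter N ϑ) {H : Subgroup G} (hNH : N ≤ H)
    (n : N.subgroupOf H) :
    detChar (fun x => ϑ (Subgroup.subgroupOfEquivOfLe hNH x)) n =
      detChar ϑ (Subgroup.subgroupOfEquivOfLe hNH n) :=
  detChar_comp (Subgroup.subgroupOfEquivOfLe hNH).toMonoidHom hϑ (irr_subgroupOf N hϑ hNH) n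

variable {ϑ : N → ℂ} {μ : G → ℂ}

/-- Uniqueness of the canonical extension. -/
theorem IsCanExt.unique (hϑ : IsIrrCharacter N ϑ) (d : ℕ) (hd : ϑ 1 = d)
    (hcop : Nat.Coprime N.index d) {H : Subgroup G} {hNH : N ≤ H} {ψ₁ ψ₂ : H → ℂ}
    (h₁ : IsCanExt N ϑ μ H hNH ψ₁) (h₂ : IsCanExt N ϑ μ H hNH ψ₂) : ψ₁ = ψ₂ := by
  have hd' : (fun x => ϑ (Subgroup.subgroupOfEquivOfLe hNH x)) 1 = d := by
    show ϑ (Subgroup.subgroupOfEquivOfLe hNH 1) = d
    rw [map_one]; exact hd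
  have hres : ∀ (ψ : H → ℂ), IsCanExt N ϑ μ H hNH ψ → ∀ n : N.subgroupOf H,
      ψ n = (fun x => ϑ (Subgroup.subgroupOfEquivOfLe hNH x)) n := by
    intro ψ hψ n
    exact hψ.2.1 (Subgroup.subgroupOfEquivOfLe hNH n)
  have hμN : ∀ n : N.subgroupOf H,
      detChar ψ₁ n = detChar (fun x => ϑ (Subgroup.subgroupOfEquivOfLe hNH x)) n := by
    intro n
    have h1 : (fun x : N.subgroupOf H => ψ₁ ((N.subgroupOf H).subtype x)) =
        fun x => ϑ (Subgroup.subgroupOfEquivOfLe hNH x) := funext (hres ψ₁ h₁)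
    have h2 := detChar_comp (N.subgroupOf H).subtype h₁.1
      (by rw [h1]; exact irr_subgroupOf N hϑ hNH) n
    rw [h1] at h2
    exact h2.symm
  have key := extension_with_prescribed_det (N.subgroupOf H)
    (fun x => ϑ (Subgroup.subgroupOfEquivOfLe hNH x)) (irr_subgroupOf N hϑ hNH) d hd'
    (coprime_subgroupOf N hcop hNH) ⟨ψ₁, h₁.1, hres ψ₁ h₁⟩ (detChar ψ₁) (isLin_detChar h₁.1) hμN
  refine key.unique ⟨h₁.1, hres ψ₁ h₁, rfl⟩ ⟨h₂.1, hres ψ₂ h₂, ?_⟩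
  funext h
  rw [h₂.2.2 h, h₁.2.2 h]

/-- Existence of the canonical extension for solvable quotients. -/
theorem exists_isCanExt (hϑ : IsIrrCharacter N ϑ)
    (hinv : ∀ (g : G) (n : N), ϑ ⟨g * n * g⁻¹, hN.conj_mem (n : G) n.2 g⟩ = ϑ n)
    (d : ℕ) (hd : ϑ 1 = d) (hcop : Nat.Coprime N.index d)
    (hμc : IsCharacter G μ) (hμ1 : μ 1 = 1) (hμN : ∀ n : N, μ n = detChar ϑ n)
    (H : Subgroup G) (hNH : N ≤ H) (hsolv : Group.IsSolvable (H ⧸ N.subgroupOf H)) :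
    ∃ ψ : H → ℂ, IsCanExt N ϑ μ H hNH ψ := by
  have hd' : (fun x => ϑ (Subgroup.subgroupOfEquivOfLe hNH x)) 1 = d := by
    show ϑ (Subgroup.subgroupOfEquivOfLe hNH 1) = d
    rw [map_one]; exact hd
  have hμ'c : IsCharacter H (fun x : H => μ (x : G)) := Helper8.isCharacter_restrict H hμc
  have hμ'N : ∀ n : N.subgroupOf H, (fun x : H => μ (x : G)) n =
      detChar (fun x => ϑ (Subgroup.subgroupOfEquivOfLe hNH x)) n := by
    intro n
    rw [detChar_subgroupOf N hϑ hNH n]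
    exact hμN (Subgroup.subgroupOfEquivOfLe hNH n)
  obtain ⟨ψ₀, hψ₀, hψ₀N⟩ := extends_of_det_extends_solvable_aux _ H (N.subgroupOf H) rfl hsolv
    (fun x => ϑ (Subgroup.subgroupOfEquivOfLe hNH x)) (irr_subgroupOf N hϑ hNH)
    (inv_subgroupOf N hinv hNH) d hd' (coprime_subgroupOf N hcop hNH)
    ⟨fun x : H => μ (x : G), hμ'c, hμ1, hμ'N⟩
  obtain ⟨ψ, ⟨hψ, hψN, hψdet⟩, -⟩ := extension_with_prescribed_det (N.subgroupOf H)
    (fun x => ϑ (Subgroup.subgroupOfEquivOfLe hNH x)) (irr_subgroupOf N hϑ hNH) d hd'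
    (coprime_subgroupOf N hcop hNH) ⟨ψ₀, hψ₀, hψ₀N⟩ (fun x : H => μ (x : G)) ⟨hμ'c, hμ1⟩ hμ'N
  refine ⟨ψ, hψ, fun n => ?_, fun h => ?_⟩
  · exact hψN ⟨⟨n, hNH n.2⟩, n.2⟩
  · rw [hψdet]

omit hN in
/-- Restriction of a canonical extension to an intermediate subgroup. -/
theorem IsCanExt.restrict (hϑ : IsIrrCharacter N ϑ) {H₁ H₂ : Subgroup G} (hNH₁ : N ≤ H₁)
    (h12 : H₁ ≤ H₂) {ψ : H₂ → ℂ} (h : IsCanExt N ϑ μ H₂ (hNH₁.trans h12) ψ) :
    IsCanExt N ϑ μ H₁ hNH₁ (fun x => ψ ⟨x, h12 x.2⟩) := by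
  classical
  haveI : Fintype H₁ := Fintype.ofFinite _
  haveI : Fintype N := Fintype.ofFinite _
  have hc : IsCharacter H₁ (fun x : H₁ => ψ (Subgroup.inclusion h12 x)) :=
    Helper8.isCharacter_comp (Subgroup.inclusion h12) (IsIrrCharacter.isCharacter h.1)
  have hirr : IsIrrCharacter H₁ (fun x : H₁ => ψ (Subgroup.inclusion h12 x)) := by
    refine isIrrCharacter_of_comp_irr (Subgroup.inclusion hNH₁) hc ?_
    have : (fun m : N => ψ (Subgroup.inclusion h12 (Subgroup.inclusion hNH₁ m))) = ϑ :=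
      funext fun n => h.2.1 n
    rw [this]
    exact hϑ
  refine ⟨hirr, fun n => h.2.1 n, fun x => ?_⟩
  have h1 := detChar_comp (Subgroup.inclusion h12) h.1 hirr x
  rw [show detChar (fun x : H₁ => ψ ⟨x, h12 x.2⟩) x =
    detChar ψ (Subgroup.inclusion h12 x) from h1, h.2.2]
  rfl

/-- Conjugation of a canonical extension. -/
theorem IsCanExt.conj
    (hinv : ∀ (g : G) (n : N), ϑ ⟨g * n * g⁻¹, hN.conj_mem (n : G) n.2 g⟩ = ϑ n)
    (hμcl : IsClassFunction G μ) {H : Subgroup G} {hNH : N ≤ H} {ψ : H → ℂ}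
    (h : IsCanExt N ϑ μ H hNH ψ) (x : G) :
    ∃ (hNH' : N ≤ H.map (MulAut.conj x).toMonoidHom)
      (ψ' : H.map (MulAut.conj x).toMonoidHom → ℂ),
      IsCanExt N ϑ μ _ hNH' ψ' ∧
      ∀ (g : G) (hg : g ∈ H), ψ' ⟨x * g * x⁻¹, ⟨g, hg, MulAut.conj_apply x g⟩⟩ = ψ ⟨g, hg⟩ := by
  have hφ : Function.Injective (MulAut.conj x).toMonoidHom := (MulAut.conj x).injective
  obtain ⟨E, hE⟩ : ∃ E : H ≃* H.map (MulAut.conj x).toMonoidHom,
      E = H.equivMapOfInjective _ hφ := ⟨_, rfl⟩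
  have hEval : ∀ y : H, ((E y : H.map (MulAut.conj x).toMonoidHom) : G) = x * y * x⁻¹ := by
    intro y
    rw [hE, Subgroup.coe_equivMapOfInjective_apply]
    exact MulAut.conj_apply x y
  have hNH' : N ≤ H.map (MulAut.conj x).toMonoidHom := by
    intro n hn
    refine ⟨x⁻¹ * n * x, hNH ?_, ?_⟩
    · have := hN.conj_mem n hn x⁻¹
      rwa [inv_inv] at this
    · show (MulAut.conj x) (x⁻¹ * n * x) = n
      rw [MulAut.conj_apply]
      group
  refine ⟨hNH', fun y => ψ (E.symm y), ⟨?_, ?_, ?_⟩, ?_⟩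
  · exact Helper8.isIrrCharacter_comp_surjective E.symm.toMonoidHom E.symm.surjective h.1
  · intro n
    have hm : x⁻¹ * (n : G) * x ∈ N := by
      have := hN.conj_mem n n.2 x⁻¹
      rwa [inv_inv] at this
    have h1 : E.symm ⟨n, hNH' n.2⟩ = ⟨x⁻¹ * n * x, hNH hm⟩ := by
      rw [MulEquiv.symm_apply_eq]
      apply Subtype.ext
      rw [hEval]
      show (n : G) = x * (x⁻¹ * n * x) * x⁻¹
      group
    show ψ (E.symm ⟨n, hNH' n.2⟩) = ϑ n
    rw [h1]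
    have h2 := h.2.1 ⟨x⁻¹ * n * x, hm⟩
    rw [show ψ ⟨x⁻¹ * n * x, hNH hm⟩ = ϑ ⟨x⁻¹ * n * x, hm⟩ from h2]
    have h3 := hinv x⁻¹ n
    rw [← h3]
    congr 1
    apply Subtype.ext
    show x⁻¹ * (n : G) * x = x⁻¹ * n * x⁻¹⁻¹
    rw [inv_inv]
  · intro y
    have hirr : IsIrrCharacter (H.map (MulAut.conj x).toMonoidHom)
        (fun y => ψ (E.symm.toMonoidHom y)) :=
      Helper8.isIrrCharacter_comp_surjective E.symm.toMonoidHom E.symm.surjective h.1
    have h1 := detChar_comp E.symm.toMonoidHom h.1 hirr y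
    rw [show detChar (fun y => ψ (E.symm y)) y = detChar ψ (E.symm.toMonoidHom y) from h1, h.2.2]
    have h2 : (y : G) = x * ((E.symm y : H) : G) * x⁻¹ := by
      rw [← hEval, MulEquiv.apply_symm_apply]
    rw [h2]
    exact (hμcl _ x).symm
  · intro g hg
    show ψ (E.symm _) = ψ ⟨g, hg⟩
    congr 1
    rw [MulEquiv.symm_apply_eq]
    apply Subtype.ext
    rw [hEval]

omit [Finite G] in
/-- The quotient `N E / N` is solvable when `E` is. -/
theorem isSolvable_quotient_sup (E : Subgroup G) (hE : Group.IsSolvable E) :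
    Group.IsSolvable ((N ⊔ E : Subgroup G) ⧸ N.subgroupOf (N ⊔ E)) := by
  let f : E →* (N ⊔ E : Subgroup G) ⧸ N.subgroupOf (N ⊔ E) :=
    (QuotientGroup.mk' (N.subgroupOf (N ⊔ E))).comp (Subgroup.inclusion le_sup_right)
  refine Group.isSolvable_of_surjective (f := f) ?_
  intro q
  obtain ⟨y, rfl⟩ := QuotientGroup.mk_surjective q
  obtain ⟨n, hn, e, he, hne⟩ := Subgroup.mem_sup_of_normal_left.mp y.2
  refine ⟨⟨e, he⟩, ?_⟩
  show (QuotientGroup.mk (Subgroup.inclusion le_sup_right ⟨e, he⟩) :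
    (N ⊔ E : Subgroup G) ⧸ N.subgroupOf (N ⊔ E)) = QuotientGroup.mk y
  rw [QuotientGroup.eq]
  rw [Subgroup.mem_subgroupOf]
  have : (((Subgroup.inclusion le_sup_right ⟨e, he⟩ : (N ⊔ E : Subgroup G))⁻¹ * y :
      (N ⊔ E : Subgroup G)) : G) = e⁻¹ * (n * e) := by
    rw [Subgroup.coe_mul, Subgroup.coe_inv, ← hne]
    rfl
  rw [this]
  have := hN.conj_mem n hn e⁻¹
  rw [inv_inv] at this
  convert this using 1
  group

end Can

section Glue

variable {G : Type u} [Group G] [Finite G] (N : Subgroup G) [hN : N.Normal]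

/-- The hypotheses of Gallagher's theorem. -/
structure GDHyp (ϑ : N → ℂ) (μ : G → ℂ) (d : ℕ) : Prop where
  irr : IsIrrCharacter N ϑ
  inv : ∀ (g : G) (n : N), ϑ ⟨g * n * g⁻¹, hN.conj_mem (n : G) n.2 g⟩ = ϑ n
  deg : ϑ 1 = d
  cop : Nat.Coprime N.index d
  μc : IsCharacter G μ
  μ1 : μ 1 = 1
  μN : ∀ n : N, μ n = detChar ϑ n

variable (ϑ : N → ℂ) (μ : G → ℂ)

/-- `v` is the value at `g` of some canonical extension. -/
def CanVal (g : G) (v : ℂ) : Prop :=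
  ∃ (H : Subgroup G) (hNH : N ≤ H) (hg : g ∈ H) (ψ : H → ℂ),
    IsCanExt N ϑ μ H hNH ψ ∧ ψ ⟨g, hg⟩ = v

variable {ϑ μ} {d : ℕ}

theorem canVal_unique (hyp : GDHyp N ϑ μ d) {g : G} {v v' : ℂ} (h : CanVal N ϑ μ g v)
    (h' : CanVal N ϑ μ g v') : v = v' := by
  obtain ⟨H₁, hNH₁, hg₁, ψ₁, hc₁, rfl⟩ := h
  obtain ⟨H₂, hNH₂, hg₂, ψ₂, hc₂, rfl⟩ := h'
  have h01 : N ⊔ Subgroup.zpowers g ≤ H₁ := sup_le hNH₁ (Subgroup.zpowers_le.mpr hg₁)
  have h02 : N ⊔ Subgroup.zpowers g ≤ H₂ := sup_le hNH₂ (Subgroup.zpowers_le.mpr hg₂)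
  have r₁ := IsCanExt.restrict N hyp.irr (le_sup_left : N ≤ N ⊔ Subgroup.zpowers g) h01 hc₁
  have r₂ := IsCanExt.restrict N hyp.irr (le_sup_left : N ≤ N ⊔ Subgroup.zpowers g) h02 hc₂
  have := IsCanExt.unique N hyp.irr d hyp.deg hyp.cop r₁ r₂
  exact congrFun this ⟨g, (le_sup_right : Subgroup.zpowers g ≤ N ⊔ Subgroup.zpowers g)
    (Subgroup.mem_zpowers g)⟩

theorem exists_canVal (hyp : GDHyp N ϑ μ d) (g : G) : ∃ v, CanVal N ϑ μ g v := by
  have hcomm : Group.IsSolvable (Subgroup.zpowers g) := by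
    apply Group.isSolvable_of_comm
    rintro ⟨a, ha⟩ ⟨b, hb⟩
    obtain ⟨i, rfl⟩ := Subgroup.mem_zpowers_iff.mp ha
    obtain ⟨j, rfl⟩ := Subgroup.mem_zpowers_iff.mp hb
    apply Subtype.ext
    exact zpow_mul_comm g i j
  obtain ⟨ψ, hψ⟩ := exists_isCanExt N hyp.irr hyp.inv d hyp.deg hyp.cop hyp.μc hyp.μ1 hyp.μN
    (N ⊔ Subgroup.zpowers g) le_sup_left (isSolvable_quotient_sup N _ hcomm)
  exact ⟨_, _, le_sup_left, (le_sup_right : Subgroup.zpowers g ≤ N ⊔ Subgroup.zpowers g)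
    (Subgroup.mem_zpowers g), ψ, hψ, rfl⟩

variable (ϑ μ) in
open Classical in
/-- The glued function. -/
noncomputable def canFun : G → ℂ :=
  fun g => if h : ∃ v, CanVal N ϑ μ g v then Classical.choose h else 0

theorem canFun_eq (hyp : GDHyp N ϑ μ d) {g : G} {v : ℂ} (h : CanVal N ϑ μ g v) :
    canFun N ϑ μ g = v := by
  unfold canFun
  rw [dif_pos ⟨v, h⟩]
  exact canVal_unique N hyp (Classical.choose_spec (⟨v, h⟩ : ∃ v, CanVal N ϑ μ g v)) h

theorem canFun_eq_of_isCanExt (hyp : GDHyp N ϑ μ d) {H : Subgroup G} {hNH : N ≤ H} {ψ : H → ℂ}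
    (h : IsCanExt N ϑ μ H hNH ψ) (x : H) : canFun N ϑ μ x = ψ x :=
  canFun_eq N hyp ⟨H, hNH, x.2, ψ, h, rfl⟩

theorem isClassFunction_canFun (hyp : GDHyp N ϑ μ d) : IsClassFunction G (canFun N ϑ μ) := by
  intro g x
  obtain ⟨v, hv⟩ := exists_canVal N hyp g
  rw [canFun_eq N hyp hv]
  obtain ⟨H, hNH, hg, ψ, hc, rfl⟩ := hv
  obtain ⟨hNH', ψ', hc', hval⟩ := hc.conj N hyp.inv (IsCharacter.isClassFunction hyp.μc) x
  exact canFun_eq N hyp ⟨_, hNH', _, ψ', hc', hval g hg⟩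

theorem canFun_coe (hyp : GDHyp N ϑ μ d) (n : N) : canFun N ϑ μ n = ϑ n := by
  obtain ⟨v, hv⟩ := exists_canVal N hyp (n : G)
  rw [canFun_eq N hyp hv]
  obtain ⟨H, hNH, hg, ψ, hc, rfl⟩ := hv
  exact hc.2.1 n

theorem isCharacter_canFun_restrict (hyp : GDHyp N ϑ μ d) (E : Subgroup G)
    (hE : Group.IsSolvable E) : IsCharacter E (fun e : E => canFun N ϑ μ e) := by
  obtain ⟨ψ, hψ⟩ := exists_isCanExt N hyp.irr hyp.inv d hyp.deg hyp.cop hyp.μc hyp.μ1 hyp.μN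
    (N ⊔ E) le_sup_left (isSolvable_quotient_sup N E hE)
  have : (fun e : E => canFun N ϑ μ e) =
      fun e : E => ψ (Subgroup.inclusion (le_sup_right : E ≤ N ⊔ E) e) := by
    funext e
    exact canFun_eq_of_isCanExt N hyp hψ (Subgroup.inclusion (le_sup_right : E ≤ N ⊔ E) e)
  rw [this]
  exact Helper8.isCharacter_comp _ (IsIrrCharacter.isCharacter hψ.1)

theorem isSolvable_of_isElementary {E : Type u} [Group E] [Finite E] (p : ℕ) (hp : p.Prime)
    (h : IsElementary p E) : Group.IsSolvable E := by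
  obtain ⟨x, hx, -, k, hk⟩ := h
  haveI : Fact p.Prime := ⟨hp⟩
  haveI : (Subgroup.zpowers x).Normal := ⟨fun n hn g => by
    have hc : n ∈ Subgroup.center E := (Subgroup.zpowers_le.mpr hx) hn
    rw [Subgroup.mem_center_iff] at hc
    rw [hc g, mul_inv_cancel_right]
    exact hn⟩
  haveI : Group.IsSolvable (Subgroup.zpowers x) := by
    apply Group.isSolvable_of_comm
    rintro ⟨a, ha⟩ ⟨b, hb⟩
    obtain ⟨i, rfl⟩ := Subgroup.mem_zpowers_iff.mp ha
    obtain ⟨j, rfl⟩ := Subgroup.mem_zpowers_iff.mp hb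
    apply Subtype.ext
    exact zpow_mul_comm x i j
  haveI : Group.IsSolvable (E ⧸ Subgroup.zpowers x) := by
    have hpg : IsPGroup p (E ⧸ Subgroup.zpowers x) :=
      IsPGroup.of_card (n := k) (by rw [← Subgroup.index_eq_card]; exact hk)
    haveI := hpg.isNilpotent
    infer_instance
  exact Group.isSolvable_of_ker_le_range (Subgroup.zpowers x).subtype
    (QuotientGroup.mk' (Subgroup.zpowers x))
    (by rw [QuotientGroup.ker_mk', Subgroup.range_subtype])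

theorem sum_coset_canFun [Fintype N] (hyp : GDHyp N ϑ μ d) (g : G) :
    ∑ n : N, canFun N ϑ μ ((n : G) * g) * (starRingEnd ℂ) (canFun N ϑ μ ((n : G) * g)) =
      (Nat.card N : ℂ) := by
  classical
  obtain ⟨v, H, hNH, hg, ψ, hc, -⟩ := exists_canVal N hyp g
  haveI : Fintype H := Fintype.ofFinite _
  haveI : Fintype (N.subgroupOf H) := Fintype.ofFinite _
  have hψN' : IsIrrCharacter (N.subgroupOf H) (fun n : N.subgroupOf H => ψ n) := by
    have : (fun n : N.subgroupOf H => ψ n) =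
        fun x => ϑ (Subgroup.subgroupOfEquivOfLe hNH x) :=
      funext fun n => hc.2.1 (Subgroup.subgroupOfEquivOfLe hNH n)
    rw [this]
    exact irr_subgroupOf N hyp.irr hNH
  have key := (coset_average_theorem (N.subgroupOf H) ψ hc.1 hψN' ψ hc.1 _ rfl).2.2 rfl
  have key' := congrFun key ⟨g, hg⟩
  have hcard : Nat.card (N.subgroupOf H) = Nat.card N :=
    Nat.card_congr (Subgroup.subgroupOfEquivOfLe hNH).toEquiv
  have hNc : (Nat.card N : ℂ) ≠ 0 := by exact_mod_cast Nat.card_pos.ne'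
  rw [hcard, inv_mul_eq_iff_eq_mul₀ hNc, mul_one] at key'
  rw [← key']
  refine (Fintype.sum_equiv (Subgroup.subgroupOfEquivOfLe hNH).toEquiv _ _ ?_).symm
  intro n'
  have h1 : canFun N ϑ μ ((((n' : H) * ⟨g, hg⟩ : H)) : G) = ψ ((n' : H) * ⟨g, hg⟩) :=
    canFun_eq_of_isCanExt N hyp hc _
  have h2 : ((((n' : H) * ⟨g, hg⟩ : H)) : G) =
      ((Subgroup.subgroupOfEquivOfLe hNH).toEquiv n' : G) * g := rfl
  rw [← h2, h1]

theorem classInner_canFun [Fintype G] (hyp : GDHyp N ϑ μ d) :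
    classInner (canFun N ϑ μ) (canFun N ϑ μ) = 1 := by
  classical
  haveI : Fintype N := Fintype.ofFinite _
  unfold classInner
  have hNc : (Nat.card N : ℂ) ≠ 0 := by exact_mod_cast Nat.card_pos.ne'
  have hGc : (Nat.card G : ℂ) ≠ 0 := by exact_mod_cast Nat.card_pos.ne'
  have h1 : (Nat.card N : ℂ) * ∑ g : G, canFun N ϑ μ g * (starRingEnd ℂ) (canFun N ϑ μ g) =
      (Nat.card G : ℂ) * (Nat.card N : ℂ) := by
    have h2 : ∀ n : N, ∑ g : G, canFun N ϑ μ ((n : G) * g) *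
        (starRingEnd ℂ) (canFun N ϑ μ ((n : G) * g)) =
        ∑ g : G, canFun N ϑ μ g * (starRingEnd ℂ) (canFun N ϑ μ g) := by
      intro n
      exact Fintype.sum_equiv (Equiv.mulLeft (n : G)) _ _ (fun g => rfl)
    have h3 : ∑ n : N, ∑ g : G, canFun N ϑ μ ((n : G) * g) *
        (starRingEnd ℂ) (canFun N ϑ μ ((n : G) * g)) =
        (Nat.card N : ℂ) * ∑ g : G, canFun N ϑ μ g * (starRingEnd ℂ) (canFun N ϑ μ g) := by
      rw [Finset.sum_congr rfl (fun n _ => h2 n), Finset.sum_const, Finset.card_univ,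
        nsmul_eq_mul, Nat.card_eq_fintype_card]
    rw [← h3, Finset.sum_comm, Finset.sum_congr rfl (fun g _ => sum_coset_canFun N hyp g),
      Finset.sum_const, Finset.card_univ, nsmul_eq_mul, Nat.card_eq_fintype_card,
      Nat.card_eq_fintype_card]
  have h4 : ∑ g : G, canFun N ϑ μ g * (starRingEnd ℂ) (canFun N ϑ μ g) = (Nat.card G : ℂ) := by
    apply mul_left_cancel₀ hNc
    rw [h1, mul_comm]
  rw [h4, inv_mul_cancel₀ hGc]

/-- Gallagher's theorem, the hard direction. -/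
theorem extends_of_det_extends (hyp : GDHyp N ϑ μ d) :
    ∃ χ : G → ℂ, IsIrrCharacter G χ ∧ ∀ n : N, χ n = ϑ n := by
  classical
  haveI : Fintype G := Fintype.ofFinite G
  haveI : Fintype (IrrCharacter G) := Fintype.ofFinite _
  refine ⟨canFun N ϑ μ, ?_, canFun_coe N hyp⟩
  have hgen : IsGeneralizedCharacter G (canFun N ϑ μ) :=
    isGeneralizedCharacter_of_restrict_elementary _ (isClassFunction_canFun N hyp)
      (fun E p hp hE => IsCharacter.isGeneralizedCharacter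
        (isCharacter_canFun_restrict N hyp E (isSolvable_of_isElementary p hp hE)))
  refine IsGeneralizedCharacter.isIrrCharacter_of_classInner_self hgen
    (classInner_canFun N hyp) ?_
  have h1 := canFun_coe N hyp 1
  rw [Subgroup.coe_one] at h1
  rw [h1, hyp.deg]
  have hd0 : (d : ℂ) ≠ 0 := by
    rw [← hyp.deg]
    exact irr_one_ne_zero (⟨ϑ, hyp.irr⟩ : IrrCharacter N)
  have hdpos : 0 < d := Nat.pos_of_ne_zero (fun h => hd0 (by rw [h]; simp))
  simpa using hdpos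

/-- Gallagher's theorem, Isaacs 8.15 (statement S0866). -/
theorem gallagher_extendible_iff_det_extendible (ϑ : N → ℂ) (hϑ : IsIrrCharacter N ϑ)
    (hinv : ∀ (g : G) (n : N), ϑ ⟨g * n * g⁻¹, hN.conj_mem (n : G) n.2 g⟩ = ϑ n) (d : ℕ)
    (hd : ϑ 1 = d) (hcop : Nat.Coprime N.index d) :
    (∃ χ : G → ℂ, IsIrrCharacter G χ ∧ (∀ n : N, χ n = ϑ n)) ↔
      ∃ μ : G → ℂ, IsCharacter G μ ∧ μ 1 = 1 ∧ ∀ n : N, μ n = detChar ϑ n :=
  ⟨det_extends_of_extends N ϑ hϑ, fun ⟨_, hμc, hμ1, hμN⟩ =>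
    extends_of_det_extends N ⟨hϑ, hinv, hd, hcop, hμc, hμ1, hμN⟩⟩

/-- Isaacs 8.16 (statement S0867). -/
theorem coprime_unique_extension (ϑ : N → ℂ) (hϑ : IsIrrCharacter N ϑ)
    (hinv : ∀ (g : G) (n : N), ϑ ⟨g * n * g⁻¹, hN.conj_mem (n : G) n.2 g⟩ = ϑ n) (d : ℕ)
    (hd : ϑ 1 = d) (hcop : Nat.Coprime N.index (detOrder ϑ * d)) :
    ∃ χ : G → ℂ, (IsIrrCharacter G χ ∧ (∀ n : N, χ n = ϑ n) ∧ detOrder χ = detOrder ϑ) ∧
      ∀ χ' : G → ℂ, IsIrrCharacter G χ' → (∀ n : N, χ' n = ϑ n) →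
        Nat.Coprime N.index (detOrder χ') → χ' = χ := by
  have hcop1 : Nat.Coprime N.index (orderOf (detChar ϑ)) := Nat.Coprime.coprime_mul_right_right hcop
  have hcop2 : Nat.Coprime N.index d := Nat.Coprime.coprime_mul_left_right hcop
  have hinvL : ∀ (g : G) (n : N),
      detChar ϑ ⟨g * n * g⁻¹, hN.conj_mem (n : G) n.2 g⟩ = detChar ϑ n := by
    intro g n
    have hfun : (fun y : N => ϑ ((MulAut.conjNormal g : N ≃* N).toMonoidHom y)) = ϑ := by
      funext y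
      rw [← hinv g y]
      congr 1
    have h1 := detChar_comp (MulAut.conjNormal g : N ≃* N).toMonoidHom hϑ (by rw [hfun]; exact hϑ) n
    rw [hfun] at h1
    rw [h1]
    congr 1
  obtain ⟨μ, ⟨hμc, hμ1, hμN, hμo⟩, hμuniq⟩ :=
    linear_coprime_unique_extension N (detChar ϑ) (isLin_detChar hϑ) hinvL hcop1
  have hext := extends_of_det_extends N ⟨hϑ, hinv, hd, hcop2, hμc, hμ1, hμN⟩
  obtain ⟨χ, ⟨hχ, hχN, hχdet⟩, hχuniq⟩ :=
    extension_with_prescribed_det N ϑ hϑ d hd hcop2 hext μ ⟨hμc, hμ1⟩ hμN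
  refine ⟨χ, ⟨hχ, hχN, ?_⟩, ?_⟩
  · unfold detOrder
    rw [hχdet, hμo]
  · intro χ' hχ' hχ'N hcop'
    apply hχuniq
    refine ⟨hχ', hχ'N, ?_⟩
    apply hμuniq _ (isLin_detChar hχ') _ hcop'
    intro n
    have h1 : (fun n : N => χ' (N.subtype n)) = ϑ := funext hχ'N
    have h2 := detChar_comp N.subtype hχ' (by rw [h1]; exact hϑ) n
    rw [h1] at h2
    exact h2.symm

end Glue

end Cfsg.Agent.Helper24
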