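import Mathlib
import Cfsg.Prelude.Def_Characters
import Cfsg.Agent.Lead.Coprime

/-!
Group theory of the coset `G s` where `s` normalizes `G` and has order coprime to `|G|`
(Isaacs, Lemma 13.8): every element of `G s` is `G`-conjugate to an element of `C s`,
`C = C_G(s)`, and two elements `c s`, `c' s` are conjugate under `G` only via elements of `C`.
Consequence: a sum formula for class functions on the coset.
-/

set_option autoImplicit false

namespace Cfsg.Agent.Helper24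

open scoped Pointwise

universe u

section Coset

variable {Γ : Type u} [Group Γ] (G : Subgroup Γ) (s : Γ)

/-- The fixed points of `s` on `G`. -/
def fixC : Subgroup Γ := G ⊓ Subgroup.centralizer ({s} : Set Γ)

theorem mem_fixC {c : Γ} : c ∈ fixC G s ↔ c ∈ G ∧ c * s = s * c := by
  unfold fixC
  rw [Subgroup.mem_inf, Subgroup.mem_centralizer_iff]
  constructor
  · rintro ⟨h1, h2⟩
    exact ⟨h1, (h2 s rfl).symm⟩
  · rintro ⟨h1, h2⟩
    refine ⟨h1, ?_⟩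
    intro h hh
    rw [Set.mem_singleton_iff] at hh
    subst hh
    exact h2.symm

theorem fixC_le : fixC G s ≤ G := inf_le_left

/-- CRT exponent: `≡ j` modulo the order of `s`, `≡ i` modulo `|G|`. -/
theorem exists_crt [Finite Γ] (hcop : (Nat.card G).Coprime (orderOf s)) (i j : ℕ) :
    ∃ a : ℕ, a ≡ j [MOD orderOf s] ∧ a ≡ i [MOD Nat.card G] := by
  obtain ⟨a, ha1, ha2⟩ := Nat.chineseRemainder hcop.symm j i
  exact ⟨a, ha1, ha2⟩

variable {G s}

theorem pow_eq_one_of_mem [Finite Γ] {c : Γ} (hc : c ∈ G) {a : ℕ}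
    (ha : a ≡ 0 [MOD Nat.card G]) : c ^ a = 1 := by
  have h1 : orderOf c ∣ a := by
    have h2 : Nat.card G ∣ a := (Nat.modEq_zero_iff_dvd).mp ha
    exact (G.orderOf_dvd_natCard hc).trans h2
  exact orderOf_dvd_iff_pow_eq_one.mp h1

theorem pow_eq_self_of_mem [Finite Γ] {c : Γ} (hc : c ∈ G) {a : ℕ}
    (ha : a ≡ 1 [MOD Nat.card G]) : c ^ a = c := by
  have h1 : a ≡ 1 [MOD orderOf c] := ha.of_dvd (G.orderOf_dvd_natCard hc)
  have := (pow_eq_pow_iff_modEq (x := c)).mpr h1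
  rwa [pow_one] at this

theorem pow_eq_self_of_modEq {a : ℕ} (ha : a ≡ 1 [MOD orderOf s]) : s ^ a = s := by
  have := (pow_eq_pow_iff_modEq (x := s)).mpr ha
  rwa [pow_one] at this

/-- `(c s)^a = s` for `a ≡ 1 mod o(s)`, `a ≡ 0 mod |G|`. -/
theorem mul_pow_eq [Finite Γ] {c : Γ} (hc : c ∈ fixC G s) {a : ℕ}
    (ha1 : a ≡ 1 [MOD orderOf s]) (ha0 : a ≡ 0 [MOD Nat.card G]) : (c * s) ^ a = s := by
  obtain ⟨hcG, hcs⟩ := (mem_fixC G s).mp hc
  have hcomm : Commute c s := hcs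
  rw [hcomm.mul_pow, pow_eq_one_of_mem hcG ha0, one_mul, pow_eq_self_of_modEq ha1]

/-- `(c s)^a = c s^j` for `a ≡ j mod o(s)`, `a ≡ 1 mod |G|`. -/
theorem mul_pow_eq' [Finite Γ] {c : Γ} (hc : c ∈ fixC G s) {a j : ℕ}
    (ha1 : a ≡ j [MOD orderOf s]) (ha0 : a ≡ 1 [MOD Nat.card G]) :
    (c * s) ^ a = c * s ^ j := by
  obtain ⟨hcG, hcs⟩ := (mem_fixC G s).mp hc
  have hcomm : Commute c s := hcs
  rw [hcomm.mul_pow, pow_eq_self_of_mem hcG ha0, (pow_eq_pow_iff_modEq (x := s)).mpr ha1]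

/-- Conjugacy inside `C s` is controlled by `C`. -/
theorem conj_mem_fixC [Finite Γ] (hcop : (Nat.card G).Coprime (orderOf s)) {u c c' : Γ}
    (hu : u ∈ G) (hc : c ∈ fixC G s) (hc' : c' ∈ fixC G s)
    (h : u * (c * s) * u⁻¹ = c' * s) : u ∈ fixC G s ∧ u * c * u⁻¹ = c' := by
  obtain ⟨a, ha1, ha0⟩ := exists_crt G s hcop 0 1
  have h1 : u * s * u⁻¹ = s := by
    have := congrArg (fun x => x ^ a) h
    simp only [conj_pow, mul_pow_eq hc ha1 ha0, mul_pow_eq hc' ha1 ha0] at this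
    exact this
  have hus : u * s = s * u := by
    calc u * s = u * s * u⁻¹ * u := by group
      _ = s * u := by rw [h1]
  refine ⟨(mem_fixC G s).mpr ⟨hu, hus⟩, ?_⟩
  have h2 : u * c * u⁻¹ * (u * s * u⁻¹) = c' * s := by
    rw [← h]; group
  rw [h1] at h2
  exact mul_right_cancel h2

/-- Every element of the coset `G s` is `G`-conjugate to an element of `C s`. -/
theorem exists_conj_mem_fixC_mul [Finite Γ] [hG : G.Normal]
    (hcop : (Nat.card G).Coprime (orderOf s)) {x : Γ} (hx : x * s⁻¹ ∈ G) :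
    ∃ g ∈ G, ∃ c ∈ fixC G s, g * x * g⁻¹ = c * s := by
  classical
  obtain ⟨a, ha1, ha0⟩ := exists_crt G s hcop 0 1
  -- quotient bookkeeping
  have hπ : ∀ z w : Γ, z * w⁻¹ ∈ G → ((z : Γ ⧸ G) = (w : Γ ⧸ G)) := by
    intro z w h
    rw [QuotientGroup.eq_iff_div_mem, div_eq_mul_inv]
    exact h
  have hπ' : ∀ z w : Γ, ((z : Γ ⧸ G) = (w : Γ ⧸ G)) → z * w⁻¹ ∈ G := by
    intro z w h
    rw [QuotientGroup.eq_iff_div_mem, div_eq_mul_inv] at h
    exact h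
  have hxs : (x : Γ ⧸ G) = (s : Γ ⧸ G) := hπ x s hx
  obtain ⟨y, hy⟩ : ∃ y, y = x ^ a := ⟨_, rfl⟩
  have hys : (y : Γ ⧸ G) = (s : Γ ⧸ G) := by
    rw [hy, QuotientGroup.mk_pow, hxs, ← QuotientGroup.mk_pow, pow_eq_self_of_modEq ha1]
  have hdisj : ∀ z : Γ, z ∈ G → z ∈ Subgroup.zpowers s → z = 1 := by
    intro z hz1 hz2
    have h1 : orderOf z ∣ Nat.card G := G.orderOf_dvd_natCard hz1
    have h2 : orderOf z ∣ orderOf s := by
      have := (Subgroup.zpowers s).orderOf_dvd_natCard hz2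
      rwa [Nat.card_zpowers] at this
    have h3 : orderOf z ∣ 1 := by
      have := Nat.dvd_gcd h1 h2
      rwa [Nat.Coprime.gcd_eq_one hcop] at this
    exact orderOf_eq_one_iff.mp (Nat.dvd_one.mp h3)
  -- the order of `y`
  have hxm : x ^ orderOf s ∈ G := by
    rw [← QuotientGroup.eq_one_iff, QuotientGroup.mk_pow, hxs, ← QuotientGroup.mk_pow,
      pow_orderOf_eq_one, QuotientGroup.mk_one]
  have hym : y ^ orderOf s = 1 := by
    rw [hy, ← pow_mul, mul_comm, pow_mul]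
    exact pow_eq_one_of_mem hxm ha0
  have hyord : orderOf y = orderOf s := by
    apply Nat.dvd_antisymm (orderOf_dvd_of_pow_eq_one hym)
    have h1 : s ^ orderOf y ∈ G := by
      rw [← QuotientGroup.eq_one_iff, QuotientGroup.mk_pow, ← hys, ← QuotientGroup.mk_pow,
        pow_orderOf_eq_one, QuotientGroup.mk_one]
    have h2 : s ^ orderOf y = 1 :=
      hdisj _ h1 (Subgroup.pow_mem _ (Subgroup.mem_zpowers s) _)
    exact orderOf_dvd_of_pow_eq_one h2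
  -- Schur–Zassenhaus
  have hA : Subgroup.zpowers s ≤ Subgroup.normalizer (G : Set Γ) := by
    rw [Subgroup.normalizer_eq_top]; exact le_top
  have hcopA : (Nat.card (Subgroup.zpowers s)).Coprime (Nat.card G) := by
    rw [Nat.card_zpowers]; exact hcop.symm
  have hsolv : Group.IsSolvable (Subgroup.zpowers s) ∨ Group.IsSolvable G := by
    left
    have : IsMulCommutative (Subgroup.zpowers s) := ⟨⟨fun a b => by
      obtain ⟨g, hg⟩ := IsCyclic.exists_generator (α := Subgroup.zpowers s)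
      obtain ⟨m, rfl⟩ := Subgroup.mem_zpowers_iff.mp (hg a)
      obtain ⟨n, rfl⟩ := Subgroup.mem_zpowers_iff.mp (hg b)
      exact (Commute.zpow_zpow_self g m n)⟩⟩
    infer_instance
  have hyG : y * s⁻¹ ∈ G := hπ' y s hys
  have hB : Subgroup.zpowers y ≤ G ⊔ Subgroup.zpowers s := by
    rw [Subgroup.zpowers_le]
    have : y = (y * s⁻¹) * s := by group
    rw [this]
    exact Subgroup.mul_mem _ ((le_sup_left : G ≤ _) hyG)
      ((le_sup_right : Subgroup.zpowers s ≤ _) (Subgroup.mem_zpowers s))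
  have hBcard : Nat.card (Subgroup.zpowers y) = Nat.card (Subgroup.zpowers s) := by
    rw [Nat.card_zpowers, Nat.card_zpowers, hyord]
  obtain ⟨k, hkG, hk⟩ := Cfsg.Agent.Lead.sz_conj_rel hA hcopA hsolv hB hBcard
  have hyk : k⁻¹ * y * k ∈ Subgroup.zpowers s := by
    have : y ∈ MulAut.conj k • Subgroup.zpowers s := by
      rw [hk]; exact Subgroup.mem_zpowers y
    rwa [Cfsg.Agent.Lead.mem_conj_smul_iff] at this
  have hk1 : (k : Γ ⧸ G) = 1 := (QuotientGroup.eq_one_iff k).mpr hkG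
  have hyks : k⁻¹ * y * k = s := by
    have h1 : ((k⁻¹ * y * k : Γ) : Γ ⧸ G) = (s : Γ ⧸ G) := by
      rw [QuotientGroup.mk_mul, QuotientGroup.mk_mul, QuotientGroup.mk_inv, hk1, hys]
      simp
    have h2 : (k⁻¹ * y * k) * s⁻¹ ∈ G := hπ' _ _ h1
    have h3 : (k⁻¹ * y * k) * s⁻¹ ∈ Subgroup.zpowers s :=
      Subgroup.mul_mem _ hyk (Subgroup.inv_mem _ (Subgroup.mem_zpowers s))
    have h4 := hdisj _ h2 h3
    exact mul_inv_eq_one.mp h4
  refine ⟨k⁻¹, G.inv_mem hkG, k⁻¹ * x * k * s⁻¹, ?_, by group⟩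
  rw [mem_fixC]
  have hx' : ((k⁻¹ * x * k : Γ) : Γ ⧸ G) = (s : Γ ⧸ G) := by
    rw [QuotientGroup.mk_mul, QuotientGroup.mk_mul, QuotientGroup.mk_inv, hk1, hxs]
    simp
  refine ⟨hπ' _ _ hx', ?_⟩
  -- `k⁻¹ x k` commutes with `s = k⁻¹ y k`
  have hcomm : (k⁻¹ * x * k) * s = s * (k⁻¹ * x * k) := by
    rw [← hyks, hy]
    have hxy : x * x ^ a = x ^ a * x := by rw [← pow_succ', ← pow_succ]
    calc k⁻¹ * x * k * (k⁻¹ * x ^ a * k) = k⁻¹ * (x * x ^ a) * k := by group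
      _ = k⁻¹ * (x ^ a * x) * k := by rw [hxy]
      _ = k⁻¹ * x ^ a * k * (k⁻¹ * x * k) := by group
  have h5 : s * (k⁻¹ * x * k * s⁻¹) = (s * (k⁻¹ * x * k)) * s⁻¹ := by group
  rw [h5, ← hcomm]
  group

/-- The conjugation map `(g, c) ↦ g c s g⁻¹ s⁻¹` from `G × C` to `G`. -/
def cosetConj [hG : G.Normal] (p : G × fixC G s) : G :=
  ⟨(p.1 : Γ) * (p.2 : Γ) * s * (p.1 : Γ)⁻¹ * s⁻¹, by
    have h1 : s * (p.1 : Γ)⁻¹ * s⁻¹ ∈ G := hG.conj_mem _ (G.inv_mem p.1.2) s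
    have h2 : (p.1 : Γ) * (p.2 : Γ) * s * (p.1 : Γ)⁻¹ * s⁻¹ =
        (p.1 : Γ) * (p.2 : Γ) * (s * (p.1 : Γ)⁻¹ * s⁻¹) := by group
    rw [h2]
    exact G.mul_mem (G.mul_mem p.1.2 (fixC_le G s p.2.2)) h1⟩

theorem cosetConj_mul [hG : G.Normal] (p : G × fixC G s) :
    ((cosetConj p : G) : Γ) * s = (p.1 : Γ) * ((p.2 : Γ) * s) * (p.1 : Γ)⁻¹ := by
  unfold cosetConj
  simp only
  group

theorem card_fiber_cosetConj [Finite Γ] [hG : G.Normal] [Fintype G] [Fintype (fixC G s)]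
    [DecidableEq G]
    (hcop : (Nat.card G).Coprime (orderOf s)) (h : G) :
    (Finset.univ.filter (fun p : G × fixC G s => cosetConj p = h)).card =
      Fintype.card (fixC G s) := by
  classical
  have hx : ((h : Γ) * s) * s⁻¹ ∈ G := by
    rw [mul_inv_cancel_right]; exact h.2
  obtain ⟨g₀, hg₀, c₀, hc₀, h0⟩ := exists_conj_mem_fixC_mul hcop hx
  -- `h s = g₀⁻¹ c₀ s g₀`
  have h0' : (h : Γ) * s = g₀⁻¹ * (c₀ * s) * g₀ := by
    rw [← h0]; group
  rw [← Finset.card_univ]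
  symm
  refine Finset.card_bij (fun (u : fixC G s) _ =>
    ((⟨g₀⁻¹ * (u : Γ)⁻¹, G.mul_mem (G.inv_mem hg₀) (G.inv_mem (fixC_le G s u.2))⟩ : G),
     (⟨(u : Γ) * c₀ * (u : Γ)⁻¹, (fixC G s).mul_mem ((fixC G s).mul_mem u.2 hc₀)
        ((fixC G s).inv_mem u.2)⟩ : fixC G s))) ?_ ?_ ?_
  · intro u _
    rw [Finset.mem_filter]
    refine ⟨Finset.mem_univ _, ?_⟩
    apply Subtype.ext
    have hus : (u : Γ) * s = s * (u : Γ) := ((mem_fixC G s).mp u.2).2
    have hus' : (u : Γ)⁻¹ * s = s * (u : Γ)⁻¹ := by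
      calc (u : Γ)⁻¹ * s = (u : Γ)⁻¹ * (s * (u : Γ)) * (u : Γ)⁻¹ := by group
        _ = (u : Γ)⁻¹ * ((u : Γ) * s) * (u : Γ)⁻¹ := by rw [hus]
        _ = s * (u : Γ)⁻¹ := by group
    have h1 := cosetConj_mul (G := G) (s := s)
      ((⟨g₀⁻¹ * (u : Γ)⁻¹, G.mul_mem (G.inv_mem hg₀) (G.inv_mem (fixC_le G s u.2))⟩ : G),
       (⟨(u : Γ) * c₀ * (u : Γ)⁻¹, (fixC G s).mul_mem ((fixC G s).mul_mem u.2 hc₀)
        ((fixC G s).inv_mem u.2)⟩ : fixC G s))
    simp only at h1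
    apply mul_right_cancel (b := s)
    rw [h1, h0']
    calc g₀⁻¹ * (u : Γ)⁻¹ * ((u : Γ) * c₀ * (u : Γ)⁻¹ * s) * (g₀⁻¹ * (u : Γ)⁻¹)⁻¹
        = g₀⁻¹ * c₀ * ((u : Γ)⁻¹ * s) * (u : Γ) * g₀ := by group
      _ = g₀⁻¹ * c₀ * (s * (u : Γ)⁻¹) * (u : Γ) * g₀ := by rw [hus']
      _ = g₀⁻¹ * (c₀ * s) * g₀ := by group
  · intro u _ u' _ huu
    have h1 := congrArg (fun p : G × fixC G s => ((p.1 : G) : Γ)) huu
    simp only at h1
    apply Subtype.ext
    have h2 : (u : Γ)⁻¹ = (u' : Γ)⁻¹ := mul_left_cancel h1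
    exact inv_injective h2
  · intro p hp
    rw [Finset.mem_filter] at hp
    have hp2 := hp.2
    have h1 := cosetConj_mul (G := G) (s := s) p
    rw [hp2, h0'] at h1
    -- `u = p.1⁻¹ g₀⁻¹`
    have hu : (p.1 : Γ)⁻¹ * g₀⁻¹ ∈ G := G.mul_mem (G.inv_mem p.1.2) (G.inv_mem hg₀)
    have h2 : ((p.1 : Γ)⁻¹ * g₀⁻¹) * (c₀ * s) * ((p.1 : Γ)⁻¹ * g₀⁻¹)⁻¹ = (p.2 : Γ) * s := by
      calc ((p.1 : Γ)⁻¹ * g₀⁻¹) * (c₀ * s) * ((p.1 : Γ)⁻¹ * g₀⁻¹)⁻¹
          = (p.1 : Γ)⁻¹ * (g₀⁻¹ * (c₀ * s) * g₀) * (p.1 : Γ) := by group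
        _ = (p.1 : Γ)⁻¹ * ((p.1 : Γ) * ((p.2 : Γ) * s) * (p.1 : Γ)⁻¹) * (p.1 : Γ) := by rw [h1]
        _ = (p.2 : Γ) * s := by group
    obtain ⟨huC, huc⟩ := conj_mem_fixC hcop hu hc₀ p.2.2 h2
    refine ⟨⟨(p.1 : Γ)⁻¹ * g₀⁻¹, huC⟩, Finset.mem_univ _, ?_⟩
    apply Prod.ext
    · apply Subtype.ext
      simp only
      group
    · apply Subtype.ext
      simp only
      exact huc

/-- Sum formula on the coset `G s` for class functions. -/
theorem sum_coset_eq [Finite Γ] [hG : G.Normal] [Fintype G] [Fintype (fixC G s)]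
    (hcop : (Nat.card G).Coprime (orderOf s)) (F : Γ → ℂ) (hF : Cfsg.IsClassFunction Γ F) :
    (Nat.card (fixC G s) : ℂ) * ∑ g : G, F ((g : Γ) * s) =
      (Nat.card G : ℂ) * ∑ c : fixC G s, F ((c : Γ) * s) := by
  classical
  have h1 : ∑ p : G × fixC G s, F (((cosetConj p : G) : Γ) * s) =
      (Nat.card G : ℂ) * ∑ c : fixC G s, F ((c : Γ) * s) := by
    rw [Fintype.sum_prod_type]
    have h3 : ∀ (x : G) (y : fixC G s), F (((cosetConj (x, y) : G) : Γ) * s) = F ((y : Γ) * s) := by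
      intro x y
      rw [cosetConj_mul]
      exact hF _ _
    simp_rw [h3]
    rw [Finset.sum_const, Finset.card_univ, nsmul_eq_mul, Nat.card_eq_fintype_card]
  have h2 : ∑ p : G × fixC G s, F (((cosetConj p : G) : Γ) * s) =
      (Nat.card (fixC G s) : ℂ) * ∑ g : G, F ((g : Γ) * s) := by
    rw [← Finset.sum_fiberwise Finset.univ (fun p : G × fixC G s => cosetConj p)
      (fun p => F (((cosetConj p : G) : Γ) * s)), Finset.mul_sum]
    refine Finset.sum_congr rfl ?_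
    intro h _
    have h3 : ∀ p ∈ Finset.univ.filter (fun p : G × fixC G s => cosetConj p = h),
        F (((cosetConj p : G) : Γ) * s) = F ((h : Γ) * s) := by
      intro p hp
      rw [(Finset.mem_filter.mp hp).2]
    rw [Finset.sum_congr rfl h3, Finset.sum_const, card_fiber_cosetConj hcop h, nsmul_eq_mul,
      Nat.card_eq_fintype_card]
  rw [← h1, h2]

end Coset

end Cfsg.Agent.Helper24
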