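import Mathlib

/-!
Cyclotomic residue lemma: an integer polynomial taking the same value `a` at all primitive
`m`-th roots of unity is `≡ a` modulo the `m`-th cyclotomic polynomial, and `a` is an integer.
This replaces the Galois-theoretic argument `ℚ(ζ_m)^{Gal} = ℚ` in the Glauberman correspondence.
-/

set_option autoImplicit false

namespace Cfsg.Agent.Helper24

open Polynomial

theorem cyclotomic_residue (m : ℕ) (hm : 0 < m) (f : Polynomial ℤ) (a : ℂ)
    (h : ∀ μ : ℂ, IsPrimitiveRoot μ m → Polynomial.aeval μ f = a) :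
    ∃ (a' : ℤ) (q : Polynomial ℤ), a = a' ∧ f = Polynomial.cyclotomic m ℤ * q + Polynomial.C a' := by
  classical
  haveI : NeZero m := ⟨hm.ne'⟩
  have hmon : (cyclotomic m ℤ).Monic := cyclotomic.monic m ℤ
  have hdeg : (cyclotomic m ℤ).natDegree = Nat.totient m := natDegree_cyclotomic m ℤ
  have hne1 : cyclotomic m ℤ ≠ 1 := by
    intro h1
    have : (cyclotomic m ℤ).natDegree = 0 := by rw [h1]; exact natDegree_one
    rw [hdeg] at this
    exact (Nat.totient_pos.mpr hm).ne' this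
  obtain ⟨r, hr⟩ : ∃ r, r = f %ₘ cyclotomic m ℤ := ⟨_, rfl⟩
  obtain ⟨q, hq⟩ : ∃ q, q = f /ₘ cyclotomic m ℤ := ⟨_, rfl⟩
  have hfq : r + cyclotomic m ℤ * q = f := by rw [hr, hq]; exact modByMonic_add_div f _
  have hrdeg : r.natDegree < Nat.totient m := by
    rw [hr, ← hdeg]; exact natDegree_modByMonic_lt f hmon hne1
  -- the complex polynomial `map r - C a` vanishes at all primitive roots
  have hζ : IsPrimitiveRoot (Complex.exp (2 * Real.pi * Complex.I / m)) m :=
    Complex.isPrimitiveRoot_exp m hm.ne'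
  have hcard : (primitiveRoots m ℂ).card = Nat.totient m := hζ.card_primitiveRoots
  have hR : r.map (Int.castRingHom ℂ) - C a = 0 := by
    apply eq_zero_of_natDegree_lt_card_of_eval_eq_zero' _ (primitiveRoots m ℂ)
    · intro μ hμ
      have hμ' : IsPrimitiveRoot μ m := (mem_primitiveRoots hm).mp hμ
      have h1 := h μ hμ'
      rw [← hfq, map_add, map_mul] at h1
      have h2 : aeval μ (cyclotomic m ℤ) = 0 := by
        rw [aeval_def, eval₂_eq_eval_map, map_cyclotomic]
        exact hμ'.isRoot_cyclotomic hm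
      rw [h2, zero_mul, add_zero] at h1
      rw [eval_sub, eval_C, eval_map, ← h1]
      simp [aeval_def]
    · rw [hcard]
      calc (r.map (Int.castRingHom ℂ) - C a).natDegree
          ≤ max (r.map (Int.castRingHom ℂ)).natDegree (C a).natDegree := natDegree_sub_le _ _
        _ ≤ r.natDegree := by
            rw [natDegree_C, max_eq_left (Nat.zero_le _)]
            exact natDegree_map_le
        _ < Nat.totient m := hrdeg
  have hmap : r.map (Int.castRingHom ℂ) = C a := sub_eq_zero.mp hR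
  have hinj : Function.Injective (Int.castRingHom ℂ) := Int.cast_injective
  have hr0 : r.natDegree = 0 := by
    rw [← natDegree_map_eq_of_injective hinj r, hmap, natDegree_C]
  have hrC : r = C (r.coeff 0) := eq_C_of_natDegree_eq_zero hr0
  refine ⟨r.coeff 0, q, ?_, ?_⟩
  · have := congrArg (fun p => p.coeff 0) hmap
    simp only [coeff_map, coeff_C_zero] at this
    rw [← this]
    rfl
  · rw [← hfq, add_comm]
    congr 1

theorem rootSum_int {ι : Type*} [Fintype ι] (m : ℕ) (hm : 0 < m) (w : ι → ℕ) (ω : ι → ℂ)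
    (hω : ∀ i, ω i ^ m = 1) (a : ℂ)
    (h : ∀ j : ℕ, j.Coprime m → ∑ i, (w i : ℂ) * ω i ^ j = a) :
    ∃ (a' : ℤ) (t : ℤ), a = a' ∧
      (∑ i, (w i : ℤ)) = (Polynomial.cyclotomic m ℤ).eval 1 * t + a' := by
  classical
  haveI : NeZero m := ⟨hm.ne'⟩
  have hζ : IsPrimitiveRoot (Complex.exp (2 * Real.pi * Complex.I / m)) m :=
    Complex.isPrimitiveRoot_exp m hm.ne'
  obtain ⟨ζ, hζd⟩ : ∃ ζ, ζ = Complex.exp (2 * Real.pi * Complex.I / m) := ⟨_, rfl⟩
  rw [← hζd] at hζ
  have hex : ∀ i, ∃ e : ℕ, ζ ^ e = ω i := by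
    intro i
    obtain ⟨e, -, he⟩ := hζ.eq_pow_of_pow_eq_one (hω i)
    exact ⟨e, he⟩
  choose e he using hex
  obtain ⟨f, hf⟩ : ∃ f : Polynomial ℤ, f = ∑ i, C (w i : ℤ) * X ^ e i := ⟨_, rfl⟩
  have hval : ∀ μ : ℂ, IsPrimitiveRoot μ m → aeval μ f = a := by
    intro μ hμ
    obtain ⟨j, -, hj⟩ := hζ.eq_pow_of_pow_eq_one hμ.pow_eq_one
    have hjc : j.Coprime m := by
      rw [← hj] at hμ
      exact (hζ.pow_iff_coprime hm j).mp hμ
    rw [← h j hjc, hf, map_sum]
    refine Finset.sum_congr rfl ?_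
    intro i _
    rw [map_mul, map_pow, aeval_X, aeval_C, ← hj, ← he i, ← pow_mul, ← pow_mul, mul_comm (e i) j]
    simp
  obtain ⟨a', q, ha, hfq⟩ := cyclotomic_residue m hm f a hval
  refine ⟨a', q.eval 1, ha, ?_⟩
  have h1 := congrArg (fun p => p.eval 1) hfq
  simp only [eval_add, eval_mul, eval_C] at h1
  rw [← h1, hf, eval_finsetSum]
  refine Finset.sum_congr rfl ?_
  intro i _
  simp

/-- For a prime power `m = p ^ (k+1)` the total weight is congruent to the value modulo `p`. -/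
theorem rootSum_int_prime_pow {ι : Type*} [Fintype ι] (p : ℕ) [hp : Fact p.Prime] (k : ℕ)
    (w : ι → ℕ) (ω : ι → ℂ)
    (hω : ∀ i, ω i ^ (p ^ (k + 1)) = 1) (a : ℂ)
    (h : ∀ j : ℕ, j.Coprime (p ^ (k + 1)) → ∑ i, (w i : ℂ) * ω i ^ j = a) :
    ∃ (a' : ℤ), a = a' ∧ (∑ i, (w i : ℤ)) ≡ a' [ZMOD p] := by
  obtain ⟨a', t, ha, ht⟩ := rootSum_int (p ^ (k + 1)) (pow_pos hp.out.pos _) w ω hω a h
  refine ⟨a', ha, ?_⟩
  rw [ht, eval_one_cyclotomic_prime_pow]
  have : ((p : ℤ) * t + a') ≡ (0 * t + a') [ZMOD p] := by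
    apply Int.ModEq.add_right
    apply Int.ModEq.mul_right
    exact (Int.modEq_zero_iff_dvd).mpr (dvd_refl _)
  simpa using this

end Cfsg.Agent.Helper24
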