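import Mathlib
import Cfsg.Prelude.Def_CharExt
import Cfsg.Agent.Helper24.GlaubCoset
import Cfsg.Agent.Helper24.GlaubPoly
import Cfsg.Agent.Helper24.GallagherDet
import Cfsg.Agent.Helper24.CosetAverage
import Cfsg.Agent.Helper24.BrauerPerm
import Cfsg.Agent.Helper24.ColumnOrth
import Cfsg.Agent.Helper24.SmallDegree
import Cfsg.Agent.Helper24.Generalized
import Cfsg.Agent.Helper8.GaloisChar
import Cfsg.Agent.Helper8.FixedClasses
import Cfsg.Agent.Helper24.Ito

/-!
The Glauberman correspondence, cyclic case (Isaacs, Theorem 13.6).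
`Γ = G ⟨s⟩` with `G` normal and `(|G|, o(s)) = 1`; `C = C_G(s)`.
-/

set_option autoImplicit false

namespace Cfsg.Agent.Helper24

open Cfsg

universe u

section DetGalois

variable {G : Type u} [Group G] [Finite G]

/-- The determinantal character commutes with ring automorphisms of `ℂ`. -/
theorem detChar_ringHom_comp (τ : ℂ →+* ℂ) {χ : G → ℂ}
    (hχ : IsIrrCharacter G χ) (hτχ : IsIrrCharacter G (fun g => τ (χ g))) (g : G) :
    detChar (fun g => τ (χ g)) g = τ (detChar χ g) := by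
  obtain ⟨n, ρ, hρ, rfl⟩ := hχ
  have h' : IsIrrCharacter G ρ.character := ⟨n, ρ, hρ, rfl⟩
  have hc : (Helper8.repMapRingHom τ ρ).character = fun g => τ (ρ.character g) :=
    funext (Helper8.repMapRingHom_character τ ρ)
  rw [← hc] at hτχ ⊢
  rw [detChar_eq_det _ hτχ, detChar_eq_det ρ h']
  show LinearMap.det (Matrix.toLin' ((LinearMap.toMatrix' (ρ g)).map τ)) = τ (LinearMap.det (ρ g))
  rw [LinearMap.det_toLin', ← LinearMap.det_toMatrix' (ρ g), RingHom.map_det]
  rfl

theorem detOrder_ringEquiv_comp (τ : ℂ ≃+* ℂ) {χ : G → ℂ}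
    (hχ : IsIrrCharacter G χ) (hτχ : IsIrrCharacter G (fun g => τ (χ g))) :
    detOrder (fun g => τ (χ g)) = detOrder χ := by
  unfold detOrder
  have h1 : detChar (fun g => τ (χ g)) = (MonoidHom.compLeft (τ : ℂ →* ℂ) G) (detChar χ) := by
    funext g
    exact detChar_ringHom_comp (τ : ℂ →+* ℂ) hχ hτχ g
  rw [h1]
  apply orderOf_injective
  intro f₁ f₂ h
  funext g
  have := congrFun h g
  exact τ.injective this

end DetGalois

section Cyc

variable {Γ : Type u} [Group Γ] [Finite Γ] (G : Subgroup Γ) [hG : G.Normal] (s : Γ)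

/-- The twisted restriction `c ↦ ψ (c s)` to `C = C_G(s)`. -/
def tw (ψ : Γ → ℂ) : fixC G s → ℂ := fun c => ψ ((c : Γ) * s)

omit [Finite Γ] hG in
theorem isClassFunction_tw {ψ : Γ → ℂ} (hψ : IsClassFunction Γ ψ) :
    IsClassFunction (fixC G s) (tw G s ψ) := by
  intro c u
  unfold tw
  have hus : (u : Γ) * s = s * (u : Γ) := ((mem_fixC G s).mp u.2).2
  have h1 : ((u * c * u⁻¹ : fixC G s) : Γ) * s = (u : Γ) * ((c : Γ) * s) * (u : Γ)⁻¹ := by
    simp only [Subgroup.coe_mul, Subgroup.coe_inv]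
    calc (u : Γ) * (c : Γ) * (u : Γ)⁻¹ * s = (u : Γ) * (c : Γ) * (u : Γ)⁻¹ * (s * (u : Γ)) * (u : Γ)⁻¹ := by
          group
      _ = (u : Γ) * (c : Γ) * (u : Γ)⁻¹ * ((u : Γ) * s) * (u : Γ)⁻¹ := by rw [hus]
      _ = (u : Γ) * ((c : Γ) * s) * (u : Γ)⁻¹ := by group
  rw [h1, hψ]

variable {G s}

/-- If `Γ = G ⟨s⟩` then `|Γ : G| = o(s)`. -/
theorem index_eq_orderOf (hcop : (Nat.card G).Coprime (orderOf s))
    (htop : G ⊔ Subgroup.zpowers s = ⊤) : G.index = orderOf s := by
  have hdisj : Disjoint G (Subgroup.zpowers s) := by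
    apply Subgroup.disjoint_of_coprime_natCard
    rw [Nat.card_zpowers]; exact hcop
  have hc : Subgroup.IsComplement' G (Subgroup.zpowers s) := by
    apply Subgroup.isComplement'_of_disjoint_and_mul_eq_univ hdisj
    have := Subgroup.normal_mul G (Subgroup.zpowers s)
    rw [← Subgroup.normal_mul, htop]
    rfl
  rw [hc.symm.index_eq_card, Nat.card_zpowers]

theorem card_eq_mul (hcop : (Nat.card G).Coprime (orderOf s))
    (htop : G ⊔ Subgroup.zpowers s = ⊤) : Nat.card Γ = Nat.card G * orderOf s := by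
  rw [← index_eq_orderOf hcop htop, mul_comm, Subgroup.index_mul_card]

/-- The determinantal order of an irreducible character divides the group order. -/
theorem detOrder_dvd_card {H : Type u} [Group H] [Finite H] {χ : H → ℂ}
    (hχ : IsIrrCharacter H χ) : detOrder χ ∣ Nat.card H := by
  unfold detOrder
  obtain ⟨h, h1⟩ := isLin_detChar hχ
  rw [← orderOf_linUnits h h1]
  apply orderOf_dvd_of_pow_eq_one
  ext g
  rw [MonoidHom.pow_apply, MonoidHom.one_apply, ← map_pow, pow_card_eq_one', map_one]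

/-- The canonical extension is invariant under the power maps `x ↦ x ^ k`, `k ≡ 1 mod |G|`. -/
theorem canonical_pow_eq (hidx : (Nat.card G).Coprime G.index) (ψ : Γ → ℂ)
    (hψ : IsIrrCharacter Γ ψ) (hψG : IsIrrCharacter G (fun g : G => ψ g))
    (hdet : (detOrder ψ).Coprime G.index)
    (k : ℕ) (hk : k.Coprime (Nat.card Γ)) (hk1 : k ≡ 1 [MOD Nat.card G]) (x : Γ) :
    ψ (x ^ k) = ψ x := by
  obtain ⟨τ, -, hτ⟩ := Helper8.exists_complex_aut_char Γ k hk
  have hψc : IsCharacter Γ ψ := IsIrrCharacter.isCharacter hψ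
  have e : (fun x => τ (ψ x)) = fun x => ψ (x ^ k) := funext (hτ ψ hψc)
  have hψ' : IsIrrCharacter Γ (fun x => τ (ψ x)) := by
    rw [e]; exact Helper8.isIrrCharacter_pow_of_coprime k hk hψ
  have hres : ∀ g : G, (fun x => τ (ψ x)) g = (fun g : G => ψ g) g := by
    intro g
    show τ (ψ g) = ψ g
    rw [hτ ψ hψc, pow_eq_self_of_mem g.2 hk1]
  have hdo : detOrder (fun x => τ (ψ x)) = detOrder ψ := detOrder_ringEquiv_comp τ hψ hψ'
  have hinv : ∀ (g : Γ) (n : G), (fun g : G => ψ g) ⟨g * n * g⁻¹, hG.conj_mem (n : Γ) n.2 g⟩ =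
      (fun g : G => ψ g) n := by
    intro g n
    exact IsCharacter.isClassFunction hψc n g
  have hd : (fun g : G => ψ g) 1 = (irrDeg (⟨_, hψG⟩ : IrrCharacter G) : ℂ) :=
    irrDeg_spec (⟨_, hψG⟩ : IrrCharacter G)
  have hcop : Nat.Coprime G.index
      (detOrder (fun g : G => ψ g) * irrDeg (⟨_, hψG⟩ : IrrCharacter G)) := by
    apply Nat.Coprime.mul_right
    · exact (Nat.Coprime.coprime_dvd_left (detOrder_dvd_card hψG) hidx).symm
    · exact (Nat.Coprime.coprime_dvd_left (irrDeg_dvd_card _) hidx).symm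
  obtain ⟨χ₀, -, huniq⟩ := coprime_unique_extension G (fun g : G => ψ g) hψG hinv _ hd hcop
  have h1 : ψ = χ₀ := huniq ψ hψ (fun n => rfl) hdet.symm
  have h2 : (fun x => τ (ψ x)) = χ₀ := huniq _ hψ' hres (by rw [hdo]; exact hdet.symm)
  have h3 : (fun x => τ (ψ x)) = ψ := by rw [h2, ← h1]
  rw [← congrFun e x]
  exact congrFun h3 x

/-- Orthogonality relations for the twisted restrictions of extensions. -/
theorem classInner_tw [Fintype (fixC G s)] [Fintype G] (hcop : (Nat.card G).Coprime (orderOf s))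
    (ψ ψ' : Γ → ℂ) (hψ : IsIrrCharacter Γ ψ) (hψ' : IsIrrCharacter Γ ψ')
    (hψ'G : IsIrrCharacter G (fun g : G => ψ' g)) :
    (ψ = ψ' → classInner (tw G s ψ) (tw G s ψ') = 1) ∧
    (classInner (fun g : G => ψ g) (fun g : G => ψ' g) = 0 →
      classInner (tw G s ψ) (tw G s ψ') = 0) := by
  classical
  haveI : Fintype Γ := Fintype.ofFinite Γ
  obtain ⟨η, hη⟩ : ∃ η : Γ → ℂ, η = fun g => (Nat.card G : ℂ)⁻¹ *
      ∑ n : G, ψ ((n : Γ) * g) * (starRingEnd ℂ) (ψ' ((n : Γ) * g)) := ⟨_, rfl⟩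
  have key := coset_average_theorem G ψ' hψ' hψ'G ψ hψ η hη
  have hF : IsClassFunction Γ (fun x => ψ x * (starRingEnd ℂ) (ψ' x)) := by
    intro g h
    show ψ _ * (starRingEnd ℂ) (ψ' _) = _
    rw [IsCharacter.isClassFunction (IsIrrCharacter.isCharacter hψ) g h,
      IsCharacter.isClassFunction (IsIrrCharacter.isCharacter hψ') g h]
  have hsum := sum_coset_eq hcop _ hF
  have hCc : (Nat.card (fixC G s) : ℂ) ≠ 0 := by exact_mod_cast Nat.card_pos.ne'
  have hGc : (Nat.card G : ℂ) ≠ 0 := by exact_mod_cast Nat.card_pos.ne'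
  have hval : classInner (tw G s ψ) (tw G s ψ') = η s := by
    rw [hη]
    unfold classInner tw
    simp only
    have h1 : ∑ c : fixC G s, ψ ((c : Γ) * s) * (starRingEnd ℂ) (ψ' ((c : Γ) * s)) =
        (Nat.card G : ℂ)⁻¹ * ((Nat.card (fixC G s) : ℂ) *
          ∑ g : G, ψ ((g : Γ) * s) * (starRingEnd ℂ) (ψ' ((g : Γ) * s))) := by
      rw [hsum, ← mul_assoc, inv_mul_cancel₀ hGc, one_mul]
    rw [h1]
    field_simp
  rw [hval]
  constructor
  · intro h
    rw [key.2.2 h]
  · intro h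
    rw [key.2.1 h]
    rfl

end Cyc

section Central

variable {D : Type u} [Group D] [Finite D]

/-- Central elements act by roots of unity on irreducible characters. -/
theorem exists_central_scalar (η : IrrCharacter D) (z : D) (hz : ∀ d : D, d * z = z * d) :
    ∃ ω : ℂ, ω ^ orderOf z = 1 ∧ ∀ (d : D) (j : ℕ), (η : D → ℂ) (d * z ^ j) = ω ^ j * (η : D → ℂ) d := by
  obtain ⟨m, ρ, hρ, hρη⟩ := η.2
  haveI := hρ
  have hcomm : ∀ d : D, ρ z ∘ₗ ρ d = ρ d ∘ₗ ρ z := by
    intro d
    have h1 : ρ z ∘ₗ ρ d = ρ (z * d) := by rw [map_mul]; rfl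
    have h2 : ρ d ∘ₗ ρ z = ρ (d * z) := by rw [map_mul]; rfl
    rw [h1, h2, hz d]
  obtain ⟨ω, hω⟩ := exists_scalar_of_commute ρ (ρ z) hcomm
  have hpow : ∀ j : ℕ, ρ (z ^ j) = (ω ^ j) • (LinearMap.id : (Fin m → ℂ) →ₗ[ℂ] (Fin m → ℂ)) := by
    intro j
    induction j with
    | zero => simp [Module.End.one_eq_id]
    | succ j ih =>
      rw [pow_succ, map_mul, ih, hω]
      ext v
      simp [pow_succ, mul_smul]
      ring
  refine ⟨ω, ?_, ?_⟩
  · have h1 := hpow (orderOf z)
    rw [pow_orderOf_eq_one, map_one] at h1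
    -- the space is nontrivial
    have hne : Nontrivial (Fin m → ℂ) := by
      by_contra hcon
      rw [not_nontrivial_iff_subsingleton] at hcon
      have h0 : (η : D → ℂ) 1 = 0 := by
        rw [← hρη, Representation.char_one]
        have : Module.finrank ℂ (Fin m → ℂ) = 0 := Module.finrank_zero_of_subsingleton
        rw [this]; simp
      exact irr_one_ne_zero η h0
    obtain ⟨v, hv⟩ := exists_ne (0 : Fin m → ℂ)
    have h2 := congrArg (fun f : (Fin m → ℂ) →ₗ[ℂ] (Fin m → ℂ) => f v) h1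
    simp only [Module.End.one_apply, LinearMap.smul_apply, LinearMap.id_apply] at h2
    by_contra hne1
    have h3 : (1 - ω ^ orderOf z) • v = 0 := by rw [sub_smul, one_smul, ← h2, sub_self]
    rcases smul_eq_zero.mp h3 with h4 | h4
    · exact hne1 (sub_eq_zero.mp h4).symm
    · exact hv h4
  · intro d j
    rw [← hρη]
    exact char_mul_of_scalar ρ d (z ^ j) (ω ^ j) (hpow j)

end Central

section Cyc2

variable {Γ : Type u} [Group Γ] [Finite Γ] {G : Subgroup Γ} [hG : G.Normal] {s : Γ}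

omit hG in
/-- Root-sum representation of the multiplicities `[ψ(· s^j)|_C, β]`. -/
theorem exists_rootSum [Fintype (fixC G s)] (ψ : Γ → ℂ) (hψ : IsCharacter Γ ψ)
    (β : IrrCharacter (fixC G s)) :
    ∃ (ι : Type u) (_ : Fintype ι) (w : ι → ℕ) (ω : ι → ℂ), (∀ i, ω i ^ orderOf s = 1) ∧
      ∀ j : ℕ, classInner (fun c : fixC G s => ψ ((c : Γ) * s ^ j)) (β : fixC G s → ℂ) =
        ∑ i, (w i : ℂ) * ω i ^ j := by
  classical
  obtain ⟨D, hD⟩ : ∃ D : Subgroup Γ, D = Subgroup.centralizer ({s} : Set Γ) := ⟨_, rfl⟩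
  have hCD : fixC G s ≤ D := by rw [hD]; exact inf_le_right
  have hsD : s ∈ D := by
    rw [hD, Subgroup.mem_centralizer_iff]
    intro h hh
    rw [Set.mem_singleton_iff] at hh
    rw [hh]
  have hDc : ∀ x ∈ D, s * x = x * s := by
    intro x hx
    rw [hD, Subgroup.mem_centralizer_iff] at hx
    exact hx s rfl
  have hzc : ∀ d : D, d * (⟨s, hsD⟩ : D) = (⟨s, hsD⟩ : D) * d := by
    intro d
    apply Subtype.ext
    exact (hDc d d.2).symm
  haveI : Fintype D := Fintype.ofFinite D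
  haveI : Fintype (IrrCharacter D) := Fintype.ofFinite _
  haveI : Fintype (IrrCharacter (fixC G s)) := Fintype.ofFinite _
  have hψD : IsCharacter D (fun d : D => ψ d) := Helper8.isCharacter_restrict D hψ
  obtain ⟨n, hn⟩ := IsCharacter.exists_nat_coeff hψD
  have hord : orderOf (⟨s, hsD⟩ : D) = orderOf s := by
    rw [← Subgroup.orderOf_coe]
  have hex : ∀ η : IrrCharacter D, ∃ ω : ℂ, ω ^ orderOf s = 1 ∧
      ∀ (d : D) (j : ℕ), (η : D → ℂ) (d * (⟨s, hsD⟩ : D) ^ j) = ω ^ j * (η : D → ℂ) d := by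
    intro η
    obtain ⟨ω, h1, h2⟩ := exists_central_scalar η (⟨s, hsD⟩ : D) hzc
    rw [hord] at h1
    exact ⟨ω, h1, h2⟩
  choose ω hω1 hω2 using hex
  have hk : ∀ η : IrrCharacter D, ∃ k : ℕ,
      classInner (fun c : fixC G s => (η : D → ℂ) ⟨c, hCD c.2⟩) (β : fixC G s → ℂ) = k := by
    intro η
    exact IsCharacter.classInner_irr_nat
      (Helper8.isCharacter_comp (Subgroup.inclusion hCD) (IsIrrCharacter.isCharacter η.2)) β
  choose k hk using hk
  refine ⟨IrrCharacter D, inferInstance, fun η => n η * k η, ω, hω1, ?_⟩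
  intro j
  have h1 : (fun c : fixC G s => ψ ((c : Γ) * s ^ j)) =
      ∑ η : IrrCharacter D, ((n η : ℂ) * ω η ^ j) •
        (fun c : fixC G s => (η : D → ℂ) ⟨c, hCD c.2⟩) := by
    funext c
    have h2 : ψ ((c : Γ) * s ^ j) =
        (fun d : D => ψ d) ((⟨c, hCD c.2⟩ : D) * (⟨s, hsD⟩ : D) ^ j) := by
      simp only [Subgroup.coe_mul, Subgroup.coe_pow]
    rw [h2, hn]
    simp only [Finset.sum_apply, Pi.smul_apply, smul_eq_mul]
    refine Finset.sum_congr rfl ?_
    intro η _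
    rw [hω2 η]
    ring
  rw [h1, classInner_sum_left]
  refine Finset.sum_congr rfl ?_
  intro η _
  rw [classInner_smul_left, hk η]
  push_cast
  ring

/-- Hypotheses: `ψ` is the canonical extension to `Γ = G⟨s⟩` of its irreducible restriction. -/
structure IsCanon (G : Subgroup Γ) (s : Γ) (ψ : Γ → ℂ) : Prop where
  cop : (Nat.card G).Coprime (orderOf s)
  top : G ⊔ Subgroup.zpowers s = ⊤
  irr : IsIrrCharacter Γ ψ
  irrG : IsIrrCharacter G (fun g : G => ψ g)
  det : (detOrder ψ).Coprime (orderOf s)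

/-- The canonical extension takes the same values on `c s^j` for all `j` prime to `o(s)`. -/
theorem IsCanon.pow_eq {ψ : Γ → ℂ} (h : IsCanon G s ψ) (j : ℕ) (hj : j.Coprime (orderOf s))
    (c : fixC G s) : ψ ((c : Γ) * s ^ j) = ψ ((c : Γ) * s) := by
  obtain ⟨k, hk1, hk0⟩ := exists_crt G s h.cop 1 j
  have hidx := index_eq_orderOf h.cop h.top
  have hkG : k.Coprime (Nat.card G) := by
    have := hk0.gcd_eq
    rw [Nat.Coprime, this]
    exact Nat.gcd_one_left _
  have hks : k.Coprime (orderOf s) := by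
    have := hk1.gcd_eq
    rw [Nat.Coprime, this]
    exact hj
  have hkΓ : k.Coprime (Nat.card Γ) := by
    rw [card_eq_mul h.cop h.top]
    exact Nat.Coprime.mul_right hkG hks
  have h1 := canonical_pow_eq (by rw [hidx]; exact h.cop) ψ h.irr h.irrG
    (by rw [hidx]; exact h.det) k hkΓ hk0 ((c : Γ) * s)
  rw [mul_pow_eq' c.2 hk1 hk0] at h1
  exact h1

/-- Integrality of the multiplicities of the twisted restriction, with the congruence for
prime-power order. -/
theorem IsCanon.classInner_tw_int [Fintype (fixC G s)] {ψ : Γ → ℂ} (h : IsCanon G s ψ)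
    (β : IrrCharacter (fixC G s)) :
    ∃ (N : ℕ) (a : ℤ), classInner (fun c : fixC G s => ψ c) (β : fixC G s → ℂ) = N ∧
      classInner (tw G s ψ) (β : fixC G s → ℂ) = a ∧ (N = 0 → a = 0) ∧
      ∀ (p k : ℕ), p.Prime → orderOf s = p ^ (k + 1) → (N : ℤ) ≡ a [ZMOD p] := by
  classical
  obtain ⟨ι, _, w, ω, hω, hsum⟩ :=
    exists_rootSum (G := G) (s := s) ψ (IsIrrCharacter.isCharacter h.irr) β
  have h1 : classInner (tw G s ψ) (β : fixC G s → ℂ) = ∑ i, (w i : ℂ) * ω i ^ 1 := by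
    rw [← hsum 1]
    congr 1
    funext c
    unfold tw
    rw [pow_one]
  have hj : ∀ j : ℕ, j.Coprime (orderOf s) →
      ∑ i, (w i : ℂ) * ω i ^ j = classInner (tw G s ψ) (β : fixC G s → ℂ) := by
    intro j hj
    rw [← hsum j]
    congr 1
    funext c
    exact h.pow_eq j hj c
  obtain ⟨a', t, ha, ht⟩ := rootSum_int (orderOf s) (orderOf_pos s) w ω hω _ hj
  have h0 : classInner (fun c : fixC G s => ψ c) (β : fixC G s → ℂ) = ((∑ i, w i : ℕ) : ℂ) := by
    have := hsum 0
    simp only [pow_zero, mul_one] at this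
    rw [this]
    push_cast
    rfl
  refine ⟨∑ i, w i, a', h0, ha, ?_, ?_⟩
  · intro hN
    have hw : ∀ i, w i = 0 := by
      intro i
      exact (Finset.sum_eq_zero_iff.mp hN) i (Finset.mem_univ i)
    have : classInner (tw G s ψ) (β : fixC G s → ℂ) = 0 := by
      rw [h1]
      apply Finset.sum_eq_zero
      intro i _
      rw [hw i]; simp
    rw [this] at ha
    exact_mod_cast ha.symm
  · intro p k hp hs
    haveI : Fact p.Prime := ⟨hp⟩
    rw [hs, Polynomial.eval_one_cyclotomic_prime_pow] at ht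
    push_cast
    rw [ht]
    have : ((p : ℤ) * t + a') ≡ (0 * t + a') [ZMOD p] := by
      apply Int.ModEq.add_right
      apply Int.ModEq.mul_right
      exact (Int.modEq_zero_iff_dvd).mpr (dvd_refl _)
    simpa using this

/-- Isaacs 13.6: the twisted restriction of the canonical extension is `±` an irreducible
character of `C`. -/
theorem IsCanon.exists_sign_irr [Fintype (fixC G s)] {ψ : Γ → ℂ} (h : IsCanon G s ψ) :
    ∃ (β : IrrCharacter (fixC G s)) (ε : ℤ), (ε = 1 ∨ ε = -1) ∧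
      ∀ c : fixC G s, ψ ((c : Γ) * s) = (ε : ℂ) * (β : fixC G s → ℂ) c := by
  classical
  haveI : Fintype G := Fintype.ofFinite G
  haveI : Fintype (IrrCharacter (fixC G s)) := Fintype.ofFinite _
  have hcf : IsClassFunction (fixC G s) (tw G s ψ) :=
    isClassFunction_tw G s (IsCharacter.isClassFunction (IsIrrCharacter.isCharacter h.irr))
  have hgen : IsGeneralizedCharacter (fixC G s) (tw G s ψ) := by
    apply isGeneralizedCharacter_of_classInner_int hcf
    intro β
    obtain ⟨N, a, -, ha, -⟩ := h.classInner_tw_int β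
    exact ⟨a, ha⟩
  have hnorm : classInner (tw G s ψ) (tw G s ψ) = 1 :=
    (classInner_tw h.cop ψ ψ h.irr h.irr h.irrG).1 rfl
  obtain ⟨β, hβ | hβ⟩ := IsGeneralizedCharacter.eq_or_eq_neg_of_classInner_self hgen hnorm
  · refine ⟨β, 1, Or.inl rfl, ?_⟩
    intro c
    have := congrFun hβ c
    unfold tw at this
    rw [this]; simp
  · refine ⟨β, -1, Or.inr rfl, ?_⟩
    intro c
    have := congrFun hβ c
    unfold tw at this
    rw [this]; simp

/-- `s`-invariance of a function on `G`. -/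
def IsSInv (G : Subgroup Γ) [hG : G.Normal] (s : Γ) (χ : G → ℂ) : Prop :=
  ∀ g : G, χ ⟨s * g * s⁻¹, hG.conj_mem g g.2 s⟩ = χ g

/-- Existence of the canonical extension. -/
theorem exists_isCanon (hcop : (Nat.card G).Coprime (orderOf s))
    (htop : G ⊔ Subgroup.zpowers s = ⊤) (χ : IrrCharacter G) (hinv : IsSInv G s (χ : G → ℂ)) :
    ∃ ψ : Γ → ℂ, IsCanon G s ψ ∧ ∀ g : G, ψ g = (χ : G → ℂ) g := by
  have hidx := index_eq_orderOf hcop htop
  have hT : inertiaSubgroup G (χ : G → ℂ) = ⊤ := by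
    rw [eq_top_iff, ← htop, sup_le_iff]
    constructor
    · exact le_inertiaSubgroup G _ (isClassFunction_irr χ)
    · rw [Subgroup.zpowers_le, mem_inertiaSubgroup]
      exact hinv
  have hinvΓ : ∀ (g : Γ) (n : G), (χ : G → ℂ) ⟨g * n * g⁻¹, hG.conj_mem (n : Γ) n.2 g⟩ =
      (χ : G → ℂ) n := by
    intro g
    have : g ∈ inertiaSubgroup G (χ : G → ℂ) := by rw [hT]; exact Subgroup.mem_top g
    exact (mem_inertiaSubgroup G _ g).mp this
  have hcop' : Nat.Coprime G.index (detOrder (χ : G → ℂ) * irrDeg χ) := by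
    rw [hidx]
    apply Nat.Coprime.mul_right
    · exact (Nat.Coprime.coprime_dvd_left (detOrder_dvd_card χ.2) hcop).symm
    · exact (Nat.Coprime.coprime_dvd_left (irrDeg_dvd_card _) hcop).symm
  obtain ⟨χ₀, ⟨h1, h2, h3⟩, -⟩ :=
    coprime_unique_extension G (χ : G → ℂ) χ.2 hinvΓ _ (irrDeg_spec χ) hcop'
  refine ⟨χ₀, ⟨hcop, htop, h1, ?_, ?_⟩, h2⟩
  · have : (fun g : G => χ₀ g) = (χ : G → ℂ) := funext h2
    rw [this]; exact χ.2
  · rw [h3]
    exact Nat.Coprime.coprime_dvd_left (detOrder_dvd_card χ.2) hcop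

/-- Uniqueness of the canonical extension. -/
theorem IsCanon.unique {ψ ψ' : Γ → ℂ} (h : IsCanon G s ψ) (h' : IsCanon G s ψ')
    (hres : ∀ g : G, ψ g = ψ' g) : ψ = ψ' := by
  have hidx := index_eq_orderOf h.cop h.top
  have hψc : IsCharacter Γ ψ := IsIrrCharacter.isCharacter h.irr
  have hinv : ∀ (g : Γ) (n : G), (fun g : G => ψ g) ⟨g * n * g⁻¹, hG.conj_mem (n : Γ) n.2 g⟩ =
      (fun g : G => ψ g) n := by
    intro g n
    exact IsCharacter.isClassFunction hψc n g
  have hcop' : Nat.Coprime G.index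
      (detOrder (fun g : G => ψ g) * irrDeg (⟨_, h.irrG⟩ : IrrCharacter G)) := by
    rw [hidx]
    apply Nat.Coprime.mul_right
    · exact (Nat.Coprime.coprime_dvd_left (detOrder_dvd_card h.irrG) h.cop).symm
    · exact (Nat.Coprime.coprime_dvd_left (irrDeg_dvd_card _) h.cop).symm
  obtain ⟨χ₀, -, huniq⟩ := coprime_unique_extension G (fun g : G => ψ g) h.irrG hinv _
    (irrDeg_spec (⟨_, h.irrG⟩ : IrrCharacter G)) hcop'
  have h1 : ψ = χ₀ := huniq ψ h.irr (fun n => rfl) (by rw [hidx]; exact h.det.symm)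
  have h2 : ψ' = χ₀ := huniq ψ' h'.irr (fun n => (hres n).symm) (by rw [hidx]; exact h'.det.symm)
  rw [h1, h2]

/-- The number of `s`-invariant irreducible characters of `G` is the class number of `C`. -/
theorem card_invariant_irr (hcop : (Nat.card G).Coprime (orderOf s)) :
    Nat.card {χ : IrrCharacter G // IsSInv G s (χ : G → ℂ)} =
      Nat.card (IrrCharacter (fixC G s)) := by
  have h1 := card_fixed_conjClasses_eq_card_fixed_irr (MulAut.conjNormal s : G ≃* G)
  have h2 := Helper8.card_fixed_conjClasses_coprime G s hcop.symm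
  have h3 := card_irr_eq_card_conjClasses (G := fixC G s)
  rw [h3]
  have h4 : Nat.card {χ : IrrCharacter G // IsSInv G s (χ : G → ℂ)} =
      Nat.card {χ : IrrCharacter G //
        (χ : G → ℂ) ∘ (MulAut.conjNormal s : G ≃* G) = (χ : G → ℂ)} := by
    apply Nat.card_congr
    apply Equiv.subtypeEquivRight
    intro χ
    constructor
    · intro h
      funext g
      have := h g
      rw [Function.comp_apply, ← this]
      congr 1
    · intro h g
      have := congrFun h g
      rw [Function.comp_apply] at this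
      rw [← this]
      congr 1
  rw [h4, ← h1, h2]
  rfl

/-- The Glauberman correspondence relation (cyclic case). -/
def GlaubRel (G : Subgroup Γ) (s : Γ) (χ : G → ℂ) (β : fixC G s → ℂ) : Prop :=
  ∃ (ψ : Γ → ℂ) (ε : ℤ), IsCanon G s ψ ∧ (∀ g : G, ψ g = χ g) ∧ (ε = 1 ∨ ε = -1) ∧
    ∀ c : fixC G s, ψ ((c : Γ) * s) = (ε : ℂ) * β c

theorem exists_glaubRel (hcop : (Nat.card G).Coprime (orderOf s))
    (htop : G ⊔ Subgroup.zpowers s = ⊤) (χ : IrrCharacter G) (hinv : IsSInv G s (χ : G → ℂ)) :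
    ∃ β : IrrCharacter (fixC G s), GlaubRel G s (χ : G → ℂ) (β : fixC G s → ℂ) := by
  classical
  haveI : Fintype (fixC G s) := Fintype.ofFinite _
  obtain ⟨ψ, hψ, hres⟩ := exists_isCanon hcop htop χ hinv
  obtain ⟨β, ε, hε, h⟩ := hψ.exists_sign_irr
  exact ⟨β, ψ, ε, hψ, hres, hε, h⟩

theorem GlaubRel.inj {χ χ' : IrrCharacter G} {β : IrrCharacter (fixC G s)}
    (h : GlaubRel G s (χ : G → ℂ) (β : fixC G s → ℂ))
    (h' : GlaubRel G s (χ' : G → ℂ) (β : fixC G s → ℂ)) : χ = χ' := by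
  classical
  haveI : Fintype (fixC G s) := Fintype.ofFinite _
  haveI : Fintype G := Fintype.ofFinite _
  obtain ⟨ψ, ε, hψ, hres, hε, hval⟩ := h
  obtain ⟨ψ', ε', hψ', hres', hε', hval'⟩ := h'
  by_contra hne
  have h1 : classInner (fun g : G => ψ g) (fun g : G => ψ' g) = 0 := by
    have e1 : (fun g : G => ψ g) = (χ : G → ℂ) := funext hres
    have e2 : (fun g : G => ψ' g) = (χ' : G → ℂ) := funext hres'
    rw [e1, e2, classInner_of_isIrrCharacter χ.2 χ'.2, if_neg]
    intro h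
    exact hne (Subtype.ext h)
  have h2 := (classInner_tw hψ.cop ψ ψ' hψ.irr hψ'.irr hψ'.irrG).2 h1
  have e3 : tw G s ψ = (ε : ℂ) • (β : fixC G s → ℂ) := by
    funext c
    exact hval c
  have e4 : tw G s ψ' = (ε' : ℂ) • (β : fixC G s → ℂ) := by
    funext c
    exact hval' c
  rw [e3, e4, classInner_smul_left, classInner_smul_right,
    classInner_of_isIrrCharacter β.2 β.2, if_pos rfl] at h2
  rcases hε with rfl | rfl <;> rcases hε' with rfl | rfl <;> simp at h2

theorem GlaubRel.surj (hcop : (Nat.card G).Coprime (orderOf s))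
    (htop : G ⊔ Subgroup.zpowers s = ⊤) (β : IrrCharacter (fixC G s)) :
    ∃ χ : IrrCharacter G, IsSInv G s (χ : G → ℂ) ∧
      GlaubRel G s (χ : G → ℂ) (β : fixC G s → ℂ) := by
  classical
  have hex : ∀ χ : {χ : IrrCharacter G // IsSInv G s (χ : G → ℂ)},
      ∃ β : IrrCharacter (fixC G s), GlaubRel G s ((χ : IrrCharacter G) : G → ℂ)
        (β : fixC G s → ℂ) := fun χ => exists_glaubRel hcop htop χ.1 χ.2
  choose f hf using hex
  have hinj : Function.Injective f := by
    intro χ χ' h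
    have h1 := hf χ
    have h2 := hf χ'
    rw [← h] at h2
    exact Subtype.ext (GlaubRel.inj h1 h2)
  have hbij := hinj.bijective_of_nat_card_le (card_invariant_irr hcop).ge
  obtain ⟨χ, hχ⟩ := hbij.2 β
  refine ⟨χ.1, χ.2, ?_⟩
  rw [← hχ]
  exact hf χ

end Cyc2

section Bridge

variable {Γ : Type u} [Group Γ]

/-- If `S` normalizes `G` and `G ⊔ S = ⊤` then `G` is normal. -/
theorem normal_of_sup_eq_top {G S : Subgroup Γ} (hnorm : ∀ s ∈ S, ∀ g ∈ G, s * g * s⁻¹ ∈ G)
    (htop : G ⊔ S = ⊤) : G.Normal := by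
  rw [← Subgroup.normalizer_eq_top_iff, eq_top_iff, ← htop, sup_le_iff]
  refine ⟨Subgroup.le_normalizer, ?_⟩
  intro s hs
  rw [Subgroup.mem_normalizer_iff]
  intro h
  constructor
  · exact hnorm s hs h
  · intro hh
    have := hnorm s⁻¹ (S.inv_mem hs) _ hh
    simpa [mul_assoc] using this

/-- Generators of a finite cyclic group are coprime powers of each other. -/
theorem exists_pow_of_zpowers_eq [Finite Γ] {s s₀ : Γ}
    (h : Subgroup.zpowers s = Subgroup.zpowers s₀) :
    ∃ j : ℕ, j.Coprime (orderOf s₀) ∧ s = s₀ ^ j := by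
  have h1 : s ∈ Subgroup.zpowers s₀ := by rw [← h]; exact Subgroup.mem_zpowers s
  rw [← mem_powers_iff_mem_zpowers, Submonoid.mem_powers_iff] at h1
  obtain ⟨j, hj⟩ := h1
  refine ⟨j, ?_, hj.symm⟩
  have h2 : orderOf s = orderOf s₀ := by
    rw [← Nat.card_zpowers, ← Nat.card_zpowers, h]
  rw [← hj, orderOf_pow] at h2
  have hpos : 0 < orderOf s₀ := orderOf_pos s₀
  have hg : Nat.gcd (orderOf s₀) j ∣ orderOf s₀ := Nat.gcd_dvd_left _ _
  have h3 : orderOf s₀ = orderOf s₀ / Nat.gcd (orderOf s₀) j * Nat.gcd (orderOf s₀) j :=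
    (Nat.div_mul_cancel hg).symm
  rw [h2] at h3
  have h4 : Nat.gcd (orderOf s₀) j = 1 := by
    have : orderOf s₀ * 1 = orderOf s₀ * Nat.gcd (orderOf s₀) j := by rw [mul_one]; exact h3
    exact (Nat.eq_of_mul_eq_mul_left hpos this).symm
  rw [Nat.Coprime, Nat.gcd_comm]
  exact h4

/-- `C_G(S) = C_G(s₀)` for a generator `s₀` of `S`. -/
theorem inf_centralizer_eq_fixC (G : Subgroup Γ) {S : Subgroup Γ} {s₀ : Γ}
    (h : Subgroup.zpowers s₀ = S) :
    G ⊓ Subgroup.centralizer (S : Set Γ) = fixC G s₀ := by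
  unfold fixC
  congr 1
  rw [← h, Subgroup.zpowers_eq_closure, Subgroup.centralizer_closure]

end Bridge

end Cfsg.Agent.Helper24
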