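import Mathlib
import Cfsg.Prelude.Def_Characters
import Cfsg.Agent.Helper24.Expansion
import Cfsg.Agent.Helper24.Induced
import Cfsg.Agent.Helper8.Ind
import Cfsg.Agent.Helper8.IndTrans
import Cfsg.Agent.Helper8.CharComp
import Cfsg.Agent.S1489

/-!
Clifford correspondence: surjectivity and multiplicities.
-/

namespace Cfsg.Agent.Helper24

universe u

section

/-- `classInner` is invariant under transport along a group isomorphism. -/
theorem classInner_comp_mulEquiv {A B : Type*} [Group A] [Group B] [Fintype A] [Fintype B]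
    (e : A ≃* B) (f g : B → ℂ) :
    classInner (fun a => f (e a)) (fun a => g (e a)) = classInner f g := by
  unfold classInner
  rw [Nat.card_congr e.toEquiv]
  congr 1
  exact Fintype.sum_equiv e.toEquiv _ _ (fun a => rfl)

variable {G : Type u} [Group G] [Fintype G] (H : Subgroup G) [hN : H.Normal] [Fintype H]

/-- Clifford correspondence, surjectivity and multiplicities (statement S0854). -/
theorem clifford_correspondence_surj (ϑ : H → ℂ) (hϑ : IsIrrCharacter H ϑ)
    (T : Subgroup G) [Fintype T]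
    (hT : ∀ g : G, g ∈ T ↔ ∀ n : H, ϑ ⟨g * n * g⁻¹, hN.conj_mem (n : G) n.2 g⟩ = ϑ n)
    (hHT : H ≤ T) (χ : G → ℂ) (hχ : IsIrrCharacter G χ)
    (hcon : classInner (fun n : H => χ n) ϑ ≠ 0) :
    ∃ ψ : T → ℂ, IsIrrCharacter T ψ ∧ indFun T ψ = χ ∧
      classInner (fun n : H => ψ ⟨(n : G), hHT n.2⟩) ϑ = classInner (fun n : H => χ n) ϑ := by
  classical
  haveI : Fintype (IrrCharacter T) := Fintype.ofFinite _
  haveI : Fintype (IrrCharacter G) := Fintype.ofFinite _
  haveI : Fintype (H.subgroupOf T) := Fintype.ofFinite _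
  have hcf : IsClassFunction G χ := IsCharacter.isClassFunction (IsIrrCharacter.isCharacter hχ)
  -- notation
  obtain ⟨Φ, hΦ⟩ : ∃ Φ : T → ℂ, Φ = indFun (H.subgroupOf T)
      (fun x => ϑ ⟨(x : T), Subgroup.mem_subgroupOf.mp x.2⟩) := ⟨_, rfl⟩
  have htrans : indFun T Φ = indFun H ϑ := by
    rw [hΦ]
    exact Helper8.indFun_trans H T hHT ϑ
  -- inner products with Φ
  have hΦψ : ∀ ψ : IrrCharacter T, classInner Φ (ψ : T → ℂ) =
      (starRingEnd ℂ) (classInner (fun n : H => (ψ : T → ℂ) ⟨(n : G), hHT n.2⟩) ϑ) := by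
    intro ψ
    rw [hΦ, Helper8.frobenius_reciprocity (H.subgroupOf T) _ _ (isClassFunction_irr ψ),
      classInner_conj_symm]
    have := classInner_comp_mulEquiv (Subgroup.subgroupOfEquivOfLe hHT)
      ϑ (fun n : H => (ψ : T → ℂ) ⟨(n : G), hHT n.2⟩)
    rw [← this]
    rfl
  -- step 1: a constituent of χ_T over ϑ
  have hresT : IsCharacter T (fun t : T => χ t) :=
    Helper8.isCharacter_restrict T (IsIrrCharacter.isCharacter hχ)
  obtain ⟨a, ha⟩ := IsCharacter.exists_nat_coeff hresT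
  have hχH : (fun n : H => χ n) =
      ∑ ψ : IrrCharacter T, (a ψ : ℂ) • (fun n : H => (ψ : T → ℂ) ⟨(n : G), hHT n.2⟩) := by
    funext n
    have := congrFun ha ⟨(n : G), hHT n.2⟩
    simp only [Finset.sum_apply, Pi.smul_apply] at this ⊢
    exact this
  have hsum : classInner (fun n : H => χ n) ϑ = ∑ ψ : IrrCharacter T, (a ψ : ℂ) *
      classInner (fun n : H => (ψ : T → ℂ) ⟨(n : G), hHT n.2⟩) ϑ := by
    conv_lhs => rw [hχH]
    rw [classInner_sum_left]
    refine Finset.sum_congr rfl ?_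
    intro ψ _
    rw [classInner_smul_left]
  obtain ⟨ψ, hψne⟩ : ∃ ψ : IrrCharacter T, (a ψ : ℂ) *
      classInner (fun n : H => (ψ : T → ℂ) ⟨(n : G), hHT n.2⟩) ϑ ≠ 0 := by
    by_contra hall
    push Not at hall
    apply hcon
    rw [hsum]
    exact Finset.sum_eq_zero (fun ψ _ => hall ψ)
  have haψ : (a ψ : ℂ) ≠ 0 := left_ne_zero_of_mul hψne
  have hfψ : classInner (fun n : H => (ψ : T → ℂ) ⟨(n : G), hHT n.2⟩) ϑ ≠ 0 :=
    right_ne_zero_of_mul hψne
  -- step 2: induced characters of constituents of Φ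
  have hS : ∀ ψ₁ ψ₂ : IrrCharacter T, classInner Φ (ψ₁ : T → ℂ) ≠ 0 →
      classInner Φ (ψ₂ : T → ℂ) ≠ 0 →
      IsIrrCharacter G (indFun T (ψ₁ : T → ℂ)) ∧
        (indFun T (ψ₁ : T → ℂ) = indFun T (ψ₂ : T → ℂ) → (ψ₁ : T → ℂ) = (ψ₂ : T → ℂ)) := by
    intro ψ₁ ψ₂ h1 h2
    rw [hΦ] at h1 h2
    exact Cfsg.Agent.S1489.result H T ϑ hϑ hT hHT _ _ ψ₁.2 ψ₂.2 h1 h2
  have hcψ : classInner Φ (ψ : T → ℂ) ≠ 0 := by
    rw [hΦψ]
    intro h0
    apply hfψ
    have := congrArg (starRingEnd ℂ) h0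
    simpa using this
  have hirr := (hS ψ ψ hcψ hcψ).1
  -- step 3: the induced character is χ
  have hindχ : indFun T (ψ : T → ℂ) = χ := by
    have h1 : classInner (indFun T (ψ : T → ℂ)) χ ≠ 0 := by
      rw [Helper8.frobenius_reciprocity T _ _ hcf, ← classInner_conj_symm]
      have h2 : classInner (fun t : T => χ t) (ψ : T → ℂ) = a ψ := by
        rw [ha]
        exact classInner_sum_irr _ ψ
      rw [h2, Complex.conj_natCast]
      exact haψ
    by_contra hne
    apply h1
    rw [classInner_of_isIrrCharacter hirr hχ, if_neg hne]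
  refine ⟨ψ, ψ.2, hindχ, ?_⟩
  -- step 4: multiplicities
  have hΦchar : IsCharacter T Φ := by
    rw [hΦ]
    refine isCharacter_indFun _ (IsIrrCharacter.isCharacter ?_)
    exact Helper8.isIrrCharacter_comp_surjective
      (Subgroup.subgroupOfEquivOfLe hHT).toMonoidHom (Subgroup.subgroupOfEquivOfLe hHT).surjective hϑ
  have hΦexp := IsCharacter.eq_sum_classInner hΦchar
  have h1 : classInner (indFun H ϑ) χ =
      ∑ ψ' : IrrCharacter T, classInner Φ (ψ' : T → ℂ) *
        classInner (indFun T (ψ' : T → ℂ)) χ := by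
    rw [← htrans]
    conv_lhs => rw [hΦexp]
    rw [Helper8.indFun_sum, classInner_sum_left]
    refine Finset.sum_congr rfl ?_
    intro ψ' _
    rw [Helper8.indFun_smul, classInner_smul_left]
  rw [Finset.sum_eq_single ψ] at h1
  rotate_left
  · intro ψ' _ hne
    by_cases h0 : classInner Φ (ψ' : T → ℂ) = 0
    · rw [h0, zero_mul]
    · have h2 := hS ψ' ψ h0 hcψ
      rw [classInner_of_isIrrCharacter h2.1 hχ, if_neg, mul_zero]
      intro h3
      apply hne
      apply Subtype.ext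
      exact h2.2 (h3.trans hindχ.symm)
  · intro h
    exact absurd (Finset.mem_univ _) h
  rw [hindχ, (isIrrCharacter_iff_classInner_self.mp hχ).2, mul_one, hΦψ,
    Helper8.frobenius_reciprocity H ϑ χ hcf, ← classInner_conj_symm] at h1
  have := congrArg (starRingEnd ℂ) h1
  simpa using this.symm

end

end Cfsg.Agent.Helper24
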