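import Mathlib

/-!
Weighted orbit counting for `p`-groups: an invariant integer-valued function on a finite set
acted on by a `p`-group has total sum congruent mod `p` to its sum over the fixed points.
-/

set_option autoImplicit false

namespace Cfsg.Agent.Helper24

open MulAction

section PGroupSum

variable {R : Type*} {X : Type*} [Group R] [MulAction R X] [DecidableEq X]

theorem sum_modEq_sum_fixed_aux {p : ℕ} [hp : Fact p.Prime] (hR : IsPGroup p R) [Finite R]
    (f : X → ℤ) (hf : ∀ (r : R) (x : X), f (r • x) = f x) :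
    ∀ (n : ℕ) (s : Finset X), s.card = n → (∀ (r : R), ∀ x ∈ s, r • x ∈ s) →
      ∀ t : Finset X, (∀ x, x ∈ t ↔ x ∈ s ∧ ∀ r : R, r • x = x) →
      ∑ x ∈ s, f x ≡ ∑ x ∈ t, f x [ZMOD p] := by
  classical
  intro n
  induction n using Nat.strong_induction_on with
  | _ n ih =>
  intro s hn hs t ht
  by_cases hall : ∀ x ∈ s, ∀ r : R, r • x = x
  · have : t = s := by
      ext x
      rw [ht]
      exact ⟨fun h => h.1, fun h => ⟨h, hall x h⟩⟩
    rw [this]
  · push Not at hall
    obtain ⟨x, hxs, r₀, hr₀⟩ := hall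
    haveI : Finite (orbit R x) := (Set.finite_range fun r : R => r • x).to_subtype
    haveI : Fintype (orbit R x) := Fintype.ofFinite _
    obtain ⟨O, hO⟩ : ∃ O : Finset X, O = (orbit R x).toFinset := ⟨_, rfl⟩
    have hmemO : ∀ y, y ∈ O ↔ y ∈ orbit R x := by
      intro y; rw [hO, Set.mem_toFinset]
    have hOs : O ⊆ s := by
      intro y hy
      obtain ⟨r, rfl⟩ := (hmemO y).mp hy
      exact hs r x hxs
    have hxO : x ∈ O := (hmemO x).mpr (mem_orbit_self x)
    -- the orbit contributes a multiple of `p`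
    have hcardO : (p : ℤ) ∣ (O.card : ℤ) := by
      obtain ⟨k, hk⟩ := hR.card_orbit x
      have hcard : O.card = p ^ k := by
        rw [hO, Set.toFinset_card, ← Nat.card_eq_fintype_card, hk]
      have hk0 : k ≠ 0 := by
        intro h0
        rw [h0, pow_zero] at hcard
        obtain ⟨y, hy⟩ := Finset.card_eq_one.mp hcard
        have h1 : x = y := Finset.mem_singleton.mp (hy ▸ hxO)
        have h2 : r₀ • x ∈ O := (hmemO _).mpr ⟨r₀, rfl⟩
        have h3 : r₀ • x = y := Finset.mem_singleton.mp (hy ▸ h2)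
        exact hr₀ (h3.trans h1.symm)
      rw [hcard]
      exact_mod_cast dvd_pow_self p hk0
    have hsumO : (p : ℤ) ∣ ∑ y ∈ O, f y := by
      have : ∑ y ∈ O, f y = ∑ _y ∈ O, f x := by
        refine Finset.sum_congr rfl ?_
        intro y hy
        obtain ⟨r, rfl⟩ := (hmemO y).mp hy
        exact hf r x
      rw [this, Finset.sum_const, nsmul_eq_mul]
      exact Dvd.dvd.mul_right hcardO _
    -- the rest
    have hs' : ∀ (r : R), ∀ y ∈ s \ O, r • y ∈ s \ O := by
      intro r y hy
      rw [Finset.mem_sdiff] at hy ⊢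
      refine ⟨hs r y hy.1, ?_⟩
      intro hmem
      apply hy.2
      rw [hmemO] at hmem ⊢
      have : y = r⁻¹ • (r • y) := by rw [inv_smul_smul]
      rw [this]
      exact mem_orbit_of_mem_orbit r⁻¹ hmem
    have hlt : (s \ O).card < n := by
      rw [← hn]
      apply Finset.card_lt_card
      refine ⟨Finset.sdiff_subset, ?_⟩
      intro hsub
      have := hsub hxs
      rw [Finset.mem_sdiff] at this
      exact this.2 hxO
    have ht' : ∀ y, y ∈ t ↔ y ∈ s \ O ∧ ∀ r : R, r • y = y := by
      intro y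
      rw [ht, Finset.mem_sdiff]
      constructor
      · rintro ⟨h1, h2⟩
        refine ⟨⟨h1, ?_⟩, h2⟩
        intro hyO
        obtain ⟨r, hr⟩ := (hmemO y).mp hyO
        -- `y` fixed and in the orbit of `x` forces `x = y` fixed
        have hxy : x = y := by
          have : r⁻¹ • y = x := by
            rw [← hr]
            exact inv_smul_smul r x
          rw [← this, h2]
        apply hr₀
        rw [hxy]
        exact h2 r₀
      · rintro ⟨⟨h1, -⟩, h2⟩
        exact ⟨h1, h2⟩
    have key := ih _ hlt (s \ O) rfl hs' t ht'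
    have hsplit : ∑ y ∈ s, f y = ∑ y ∈ s \ O, f y + ∑ y ∈ O, f y :=
      (Finset.sum_sdiff hOs).symm
    rw [hsplit]
    have h0 : ∑ y ∈ O, f y ≡ 0 [ZMOD p] := (Int.modEq_zero_iff_dvd).mpr hsumO
    simpa using key.add h0

/-- An invariant weight summed over a finite set acted on by a `p`-group is congruent mod `p`
to its sum over the fixed points. -/
theorem sum_modEq_sum_fixed [Fintype X] {p : ℕ} [hp : Fact p.Prime] (hR : IsPGroup p R) [Finite R]
    (f : X → ℤ) (hf : ∀ (r : R) (x : X), f (r • x) = f x)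
    [DecidablePred fun x : X => ∀ r : R, r • x = x] :
    ∑ x, f x ≡ ∑ x ∈ Finset.univ.filter (fun x : X => ∀ r : R, r • x = x), f x [ZMOD p] := by
  apply sum_modEq_sum_fixed_aux hR f hf _ Finset.univ rfl (fun _ _ _ => Finset.mem_univ _)
  intro x
  simp

end PGroupSum

section General

variable {Q : Type*} {X : Type*} [Group Q] [MulAction Q X] [Fintype X] [DecidableEq X]

/-- The same congruence for any group each of whose elements acts with `p`-power order. -/
theorem sum_modEq_sum_fixed' {p : ℕ} [hp : Fact p.Prime]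
    (hQ : ∀ q : Q, ∃ a : ℕ, ∀ x : X, q ^ (p ^ a) • x = x)
    (f : X → ℤ) (hf : ∀ (q : Q) (x : X), f (q • x) = f x)
    [DecidablePred fun x : X => ∀ q : Q, q • x = x] :
    ∑ x, f x ≡ ∑ x ∈ Finset.univ.filter (fun x : X => ∀ q : Q, q • x = x), f x [ZMOD p] := by
  classical
  obtain ⟨R, hRdef⟩ : ∃ R : Subgroup (Equiv.Perm X), R = (MulAction.toPermHom Q X).range :=
    ⟨_, rfl⟩
  have hmemR : ∀ r : R, ∃ q : Q, ∀ x : X, (r : Equiv.Perm X) x = q • x := by
    intro r
    have hle : R ≤ (MulAction.toPermHom Q X).range := le_of_eq hRdef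
    obtain ⟨q, hq⟩ := hle r.2
    refine ⟨q, fun x => ?_⟩
    rw [← hq]
    rfl
  have hRp : IsPGroup p R := by
    intro r
    obtain ⟨q, hq⟩ := hmemR r
    obtain ⟨a, ha⟩ := hQ q
    refine ⟨a, ?_⟩
    apply Subtype.ext
    apply Equiv.ext
    intro x
    have hpow : ∀ n : ℕ, ∀ y : X, ((r : Equiv.Perm X) ^ n) y = q ^ n • y := by
      intro n
      induction n with
      | zero => intro y; simp
      | succ n ih =>
        intro y
        rw [pow_succ, Equiv.Perm.mul_apply, hq, ih, pow_succ, mul_smul]
    rw [Subgroup.coe_pow, hpow, ha]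
    rfl
  have hsm : ∀ (r : R) (x : X), r • x = (r : Equiv.Perm X) x := fun r x => rfl
  have key := sum_modEq_sum_fixed hRp f (by
    intro r x
    obtain ⟨q, hq⟩ := hmemR r
    rw [hsm, hq]
    exact hf q x)
  have hfilter : Finset.univ.filter (fun x : X => ∀ r : R, r • x = x) =
      Finset.univ.filter (fun x : X => ∀ q : Q, q • x = x) := by
    ext x
    simp only [Finset.mem_filter, Finset.mem_univ, true_and]
    constructor
    · intro h q
      have hq : MulAction.toPermHom Q X q ∈ R := by rw [hRdef]; exact ⟨q, rfl⟩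
      exact h ⟨_, hq⟩
    · intro h r
      obtain ⟨q, hq⟩ := hmemR r
      rw [hsm, hq]
      exact h q
  rw [hfilter] at key
  exact key

end General

end Cfsg.Agent.Helper24
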