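import Mathlib
import Cfsg.Prelude.Def_Characters
import Cfsg.Agent.Helper24.BrauerPerm
import Cfsg.Agent.Helper24.Span

/-!
Orbits of `G` on the real irreducible characters and on the real classes of a normal subgroup
of odd index.
-/

namespace Cfsg.Agent.Helper24

universe u

section Abstract

/-- Equal fixed point counts give equal numbers of orbits (Burnside). -/
theorem card_orbits_eq_of_card_fixedBy_eq {G X Y : Type*} [Group G] [Finite G] [Finite X]
    [Finite Y] [MulAction G X] [MulAction G Y]
    (h : ∀ g : G, Nat.card (MulAction.fixedBy X g) = Nat.card (MulAction.fixedBy Y g)) :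
    Nat.card (MulAction.orbitRel.Quotient G X) = Nat.card (MulAction.orbitRel.Quotient G Y) := by
  classical
  haveI : Fintype G := Fintype.ofFinite G
  haveI : Fintype X := Fintype.ofFinite X
  haveI : Fintype Y := Fintype.ofFinite Y
  haveI : Fintype (Quotient (MulAction.orbitRel G X)) := Fintype.ofFinite _
  haveI : Fintype (Quotient (MulAction.orbitRel G Y)) := Fintype.ofFinite _
  have h1 := MulAction.sum_card_fixedBy_eq_card_orbits_mul_card_group G X
  have h2 := MulAction.sum_card_fixedBy_eq_card_orbits_mul_card_group G Y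
  have h3 : (∑ g : G, Fintype.card (MulAction.fixedBy X g)) =
      ∑ g : G, Fintype.card (MulAction.fixedBy Y g) := by
    refine Finset.sum_congr rfl ?_
    intro g _
    have := h g
    rwa [Nat.card_eq_fintype_card, Nat.card_eq_fintype_card] at this
  rw [h1, h2] at h3
  have h4 : Fintype.card G ≠ 0 := Fintype.card_ne_zero
  have h5 := Nat.eq_of_mul_eq_mul_right (Nat.pos_of_ne_zero h4) h3
  show Nat.card (Quotient (MulAction.orbitRel G X)) = Nat.card (Quotient (MulAction.orbitRel G Y))
  rw [Nat.card_eq_fintype_card, Nat.card_eq_fintype_card]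
  exact h5

/-- Odd order trick: a point fixed by `σ ∘ g` is fixed by `σ` and by `g`, if `σ` is an
involution commuting with the action and a normal subgroup of odd index acts trivially. -/
theorem twisted_fixed_iff {G X : Type*} [Group G] [MulAction G X] (K : Subgroup G) [K.Normal]
    (hodd : Odd K.index) (σ : X → X) (hσ : ∀ x, σ (σ x) = x)
    (hcomm : ∀ (g : G) (x : X), σ (g • x) = g • σ x)
    (htriv : ∀ k ∈ K, ∀ x : X, k • x = x) (g : G) (x : X) :
    σ (g • x) = x ↔ (σ x = x ∧ g • x = x) := by
  constructor
  · intro h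
    have h1 : g • x = σ x := by rw [← hσ (g • x), h]
    have h2 : (g ^ 2) • x = x := by
      rw [pow_two, mul_smul, h1, ← hcomm, h]
    have h3 : g ^ 2 ∈ MulAction.stabilizer G x := h2
    have h4 : g ^ K.index ∈ MulAction.stabilizer G x :=
      htriv _ (Subgroup.pow_index_mem K g) x
    obtain ⟨j, hj⟩ := hodd
    have h5 : g ∈ MulAction.stabilizer G x := by
      have : g = ((g ^ 2) ^ j)⁻¹ * g ^ K.index := by
        rw [hj, pow_succ (g) (2 * j), ← pow_mul]
        group
      rw [this]
      exact mul_mem (inv_mem (pow_mem h3 j)) h4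
    have h6 : g • x = x := h5
    exact ⟨by rw [← h1, h6], h6⟩
  · rintro ⟨h1, h2⟩
    rw [hcomm, h1, h2]

end Abstract

section Actions

variable {G : Type u} [Group G] (K : Subgroup G) [hK : K.Normal]

/-- The conjugation action of `G` on the irreducible characters of a normal subgroup. -/
@[reducible] noncomputable def irrConjAction : MulAction G (IrrCharacter K) where
  smul g θ := ⟨fun k => (θ : K → ℂ) (MulAut.conjNormal g⁻¹ k),
    Cfsg.Agent.Helper8.isIrrCharacter_comp_surjective
      (MulAut.conjNormal (H := K) g⁻¹).toMonoidHom (MulEquiv.surjective _) θ.2⟩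
  one_smul θ := by
    apply Subtype.ext
    funext k
    show (θ : K → ℂ) (MulAut.conjNormal (1 : G)⁻¹ k) = (θ : K → ℂ) k
    rw [inv_one, map_one]
    rfl
  mul_smul g h θ := by
    apply Subtype.ext
    funext k
    show (θ : K → ℂ) (MulAut.conjNormal (g * h)⁻¹ k) =
      (θ : K → ℂ) (MulAut.conjNormal h⁻¹ (MulAut.conjNormal g⁻¹ k))
    rw [mul_inv_rev, map_mul]
    rfl

/-- The conjugation action of `G` on the conjugacy classes of a normal subgroup. -/
@[reducible] noncomputable def classConjAction : MulAction G (ConjClasses K) where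
  smul g C := ConjClasses.map (MulAut.conjNormal (H := K) g).toMonoidHom C
  one_smul C := by
    obtain ⟨k, rfl⟩ := ConjClasses.mk_surjective C
    show ConjClasses.mk (MulAut.conjNormal (1 : G) k) = ConjClasses.mk k
    rw [map_one]
    rfl
  mul_smul g h C := by
    obtain ⟨k, rfl⟩ := ConjClasses.mk_surjective C
    show ConjClasses.mk (MulAut.conjNormal (g * h) k) =
      ConjClasses.mk (MulAut.conjNormal g (MulAut.conjNormal h k))
    rw [map_mul]
    rfl

theorem irrConjAction_apply (g : G) (θ : IrrCharacter K) (k : K) :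
    ((irrConjAction K).smul g θ : K → ℂ) k = (θ : K → ℂ) (MulAut.conjNormal g⁻¹ k) := rfl

theorem classConjAction_mk (g : G) (k : K) :
    (classConjAction K).smul g (ConjClasses.mk k) = ConjClasses.mk (MulAut.conjNormal g k) := rfl

theorem irrStar_eq_iff {H : Type u} [Group H] [Finite H] (θ : IrrCharacter H) :
    irrStar θ = θ ↔ ∀ k : H, ((θ : H → ℂ) k).im = 0 := by
  constructor
  · intro h k
    have := congrFun (congrArg Subtype.val h) k
    exact Complex.conj_eq_iff_im.mp this
  · intro h
    apply Subtype.ext
    funext k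
    exact Complex.conj_eq_iff_im.mpr (h k)

theorem conjClassesInv_conjClassesInv {H : Type u} [Group H] (C : ConjClasses H) :
    conjClassesInv (conjClassesInv C) = C := by
  obtain ⟨k, rfl⟩ := ConjClasses.mk_surjective C
  rw [conjClassesInv_mk, conjClassesInv_mk, inv_inv]

variable [Finite G]

theorem irrStar_smul (g : G) (θ : IrrCharacter K) :
    irrStar ((irrConjAction K).smul g θ) = (irrConjAction K).smul g (irrStar θ) := rfl

omit [Finite G] in
theorem irr_smul_of_mem (k : G) (hk : k ∈ K) (θ : IrrCharacter K) :
    (irrConjAction K).smul k θ = θ := by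
  apply Subtype.ext
  funext x
  show (θ : K → ℂ) (MulAut.conjNormal k⁻¹ x) = (θ : K → ℂ) x
  have h := isClassFunction_irr θ x (⟨k, hk⟩ : K)⁻¹
  rw [← h]
  congr 1

omit [Finite G] in
theorem conjClassesInv_smul (g : G) (C : ConjClasses K) :
    conjClassesInv ((classConjAction K).smul g C) =
      (classConjAction K).smul g (conjClassesInv C) := by
  obtain ⟨k, rfl⟩ := ConjClasses.mk_surjective C
  rw [classConjAction_mk, conjClassesInv_mk, conjClassesInv_mk, classConjAction_mk, map_inv]

omit [Finite G] in
theorem class_smul_of_mem (k : G) (hk : k ∈ K) (C : ConjClasses K) :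
    (classConjAction K).smul k C = C := by
  obtain ⟨x, rfl⟩ := ConjClasses.mk_surjective C
  rw [classConjAction_mk, ConjClasses.mk_eq_mk_iff_isConj, isConj_comm, isConj_iff]
  refine ⟨⟨k, hk⟩, ?_⟩
  apply Subtype.ext
  rfl

end Actions

section Count

variable {G : Type u} [Group G] [Finite G] (K : Subgroup G) [hK : K.Normal]

/-- For a normal subgroup of odd index, each `g` fixes equally many real irreducible characters
and real classes. -/
theorem card_fixed_real_irr_eq_card_fixed_real_classes (hodd : Odd K.index) (g : G) :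
    Nat.card {θ : IrrCharacter K //
      (∀ k : K, ((θ : K → ℂ) k).im = 0) ∧ (irrConjAction K).smul g θ = θ} =
    Nat.card {C : ConjClasses K //
      conjClassesInv C = C ∧ (classConjAction K).smul g C = C} := by
  haveI : Fintype K := Fintype.ofFinite K
  letI a1 := irrConjAction K
  letI a2 := classConjAction K
  obtain ⟨β, hβ⟩ : ∃ β : K → K, β = fun k => (MulAut.conjNormal g⁻¹ k)⁻¹ := ⟨_, rfl⟩
  have e1 : Nat.card {θ : IrrCharacter K //
      (∀ k : K, ((θ : K → ℂ) k).im = 0) ∧ (irrConjAction K).smul g θ = θ} =
      Nat.card {θ : IrrCharacter K // (fun k => (θ : K → ℂ) (β k)) = (θ : K → ℂ)} := by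
    refine Nat.card_congr (Equiv.subtypeEquivRight ?_)
    intro θ
    rw [← irrStar_eq_iff]
    have h := twisted_fixed_iff K hodd (irrStar : IrrCharacter K → IrrCharacter K)
      irrStar_irrStar (irrStar_smul K) (irr_smul_of_mem K) g θ
    refine h.symm.trans ?_
    constructor
    · intro h1
      funext k
      have := congrFun (congrArg Subtype.val h1) k
      rw [← this, hβ]
      exact irr_inv θ _
    · intro h1
      apply Subtype.ext
      funext k
      have := congrFun h1 k
      rw [← this, hβ]
      exact (irr_inv θ _).symm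
  have e2 : Nat.card {C : ConjClasses K //
      conjClassesInv C = C ∧ (classConjAction K).smul g C = C} =
      Nat.card {C : ConjClasses K // conjClassesInv ((classConjAction K).smul g⁻¹ C) = C} := by
    refine Nat.card_congr (Equiv.subtypeEquivRight ?_)
    intro C
    have h := twisted_fixed_iff K hodd (conjClassesInv : ConjClasses K → ConjClasses K)
      conjClassesInv_conjClassesInv (conjClassesInv_smul K) (class_smul_of_mem K) g⁻¹ C
    refine Iff.trans ?_ h.symm
    have h2 : g⁻¹ • C = C ↔ g • C = C := by
      rw [inv_smul_eq_iff, eq_comm]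
    exact and_congr Iff.rfl h2.symm
  rw [e1, e2]
  have h1 := card_fixed_irr_general β (fun θ => by
    have : (fun k => (θ : K → ℂ) (β k)) =
        ((irrStar ((irrConjAction K).smul g θ) : IrrCharacter K) : K → ℂ) := by
      funext k
      rw [hβ]
      exact irr_inv θ _
    rw [this]
    exact (irrStar ((irrConjAction K).smul g θ)).2)
  have h2 := card_fixed_conjClasses_general β
    (fun C => conjClassesInv ((classConjAction K).smul g⁻¹ C)) (fun k => by
      rw [classConjAction_mk, conjClassesInv_mk, hβ])
  have h3 : (Nat.card {θ : IrrCharacter K // (fun k => (θ : K → ℂ) (β k)) = (θ : K → ℂ)} : ℂ) =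
      (Nat.card {C : ConjClasses K //
        conjClassesInv ((classConjAction K).smul g⁻¹ C) = C} : ℂ) := by
    rw [h1, ← h2]
  exact_mod_cast h3

/-- The action of `G` on the real irreducible characters of `K`. -/
@[reducible] noncomputable def realIrrAction :
    MulAction G {θ : IrrCharacter K // ∀ k : K, ((θ : K → ℂ) k).im = 0} where
  smul g θ := ⟨(irrConjAction K).smul g θ.1, fun _ => θ.2 _⟩
  one_smul θ := Subtype.ext ((irrConjAction K).one_smul θ.1)
  mul_smul g h θ := Subtype.ext ((irrConjAction K).mul_smul g h θ.1)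

omit [Finite G] in
/-- The action of `G` on the real classes of `K`. -/
@[reducible] noncomputable def realClassAction :
    MulAction G {C : ConjClasses K // conjClassesInv C = C} where
  smul g C := ⟨(classConjAction K).smul g C.1, by rw [conjClassesInv_smul, C.2]⟩
  one_smul C := Subtype.ext ((classConjAction K).one_smul C.1)
  mul_smul g h C := Subtype.ext ((classConjAction K).mul_smul g h C.1)

theorem card_orbits_real_irr_eq_card_orbits_real_classes (hodd : Odd K.index) :
    Nat.card (Quot (fun θ η : {θ : IrrCharacter K // ∀ k : K, ((θ : K → ℂ) k).im = 0} =>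
      ∃ g : G, ∀ k k' : K, (k' : G) = g * (k : G) * g⁻¹ →
        (η.1 : K → ℂ) k' = (θ.1 : K → ℂ) k)) =
    Nat.card (Quot (fun x y : {x : K // IsConj x x⁻¹} =>
      ∃ g : G, (y.1 : G) = g * x.1 * g⁻¹)) := by
  letI A1 := realIrrAction K
  letI A2 := realClassAction K
  -- step 1
  have s1 : Nat.card (Quot (fun θ η : {θ : IrrCharacter K // ∀ k : K, ((θ : K → ℂ) k).im = 0} =>
      ∃ g : G, ∀ k k' : K, (k' : G) = g * (k : G) * g⁻¹ →
        (η.1 : K → ℂ) k' = (θ.1 : K → ℂ) k)) =
      Nat.card (MulAction.orbitRel.Quotient G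
        {θ : IrrCharacter K // ∀ k : K, ((θ : K → ℂ) k).im = 0}) := by
    refine Nat.card_congr (Quot.congrRight ?_)
    intro θ η
    have hsymm : (MulAction.orbitRel G _) θ η ↔ (MulAction.orbitRel G _) η θ :=
      ⟨fun h => (MulAction.orbitRel G _).symm h, fun h => (MulAction.orbitRel G _).symm h⟩
    refine Iff.trans ?_ hsymm.symm
    rw [MulAction.orbitRel_apply, MulAction.mem_orbit_iff]
    constructor
    · rintro ⟨g, hg⟩
      refine ⟨g, ?_⟩
      apply Subtype.ext
      apply Subtype.ext
      funext k'
      show (θ.1 : K → ℂ) (MulAut.conjNormal g⁻¹ k') = (η.1 : K → ℂ) k'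
      refine (hg (MulAut.conjNormal g⁻¹ k') k' ?_).symm
      rw [MulAut.conjNormal_apply]
      group
    · rintro ⟨g, hg⟩
      refine ⟨g, ?_⟩
      intro k k' hk
      rw [← hg]
      show (θ.1 : K → ℂ) (MulAut.conjNormal g⁻¹ k') = (θ.1 : K → ℂ) k
      have hkk : MulAut.conjNormal g⁻¹ k' = k := by
        apply Subtype.ext
        rw [MulAut.conjNormal_apply, hk]
        group
      rw [hkk]
  -- step 2
  have hreal : ∀ x : K, IsConj x x⁻¹ ↔
      conjClassesInv (ConjClasses.mk x) = ConjClasses.mk x := by
    intro x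
    rw [conjClassesInv_mk, ConjClasses.mk_eq_mk_iff_isConj, isConj_comm]
  have s2 : Nat.card (Quot (fun x y : {x : K // IsConj x x⁻¹} =>
      ∃ g : G, (y.1 : G) = g * x.1 * g⁻¹)) =
      Nat.card (MulAction.orbitRel.Quotient G
        {C : ConjClasses K // conjClassesInv C = C}) := by
    let F : Quot (fun x y : {x : K // IsConj x x⁻¹} => ∃ g : G, (y.1 : G) = g * x.1 * g⁻¹) →
        MulAction.orbitRel.Quotient G {C : ConjClasses K // conjClassesInv C = C} :=
      Quot.lift (fun x => Quotient.mk _ ⟨ConjClasses.mk x.1, (hreal x.1).mp x.2⟩) (by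
        rintro x y ⟨g, hg⟩
        apply Quotient.sound
        show _ ∈ MulAction.orbit G _
        refine ⟨g⁻¹, ?_⟩
        apply Subtype.ext
        show ConjClasses.mk (MulAut.conjNormal g⁻¹ y.1) = ConjClasses.mk x.1
        have hkk : MulAut.conjNormal g⁻¹ y.1 = x.1 := by
          apply Subtype.ext
          rw [MulAut.conjNormal_apply, hg]
          group
        rw [hkk])
    refine Nat.card_congr (Equiv.ofBijective F ⟨?_, ?_⟩)
    · rintro ⟨x⟩ ⟨y⟩ h
      have h1 := Quotient.exact h
      obtain ⟨g, hg⟩ := h1
      have h2 : ConjClasses.mk (MulAut.conjNormal g y.1) = ConjClasses.mk x.1 :=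
        congrArg Subtype.val hg
      rw [ConjClasses.mk_eq_mk_iff_isConj, isConj_iff] at h2
      obtain ⟨c, hc⟩ := h2
      apply Quot.sound
      refine ⟨((c : G) * g)⁻¹, ?_⟩
      have hc' := congrArg Subtype.val hc
      rw [Subgroup.coe_mul, Subgroup.coe_mul, MulAut.conjNormal_apply, Subgroup.coe_inv] at hc'
      rw [← hc']
      group
    · intro q
      induction q using Quotient.inductionOn with
      | _ C =>
        obtain ⟨C, hC⟩ := C
        obtain ⟨x, rfl⟩ := ConjClasses.mk_surjective C
        exact ⟨Quot.mk _ ⟨x, (hreal x).mpr hC⟩, rfl⟩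
  rw [s1, s2]
  -- step 3
  apply card_orbits_eq_of_card_fixedBy_eq
  intro g
  have h := card_fixed_real_irr_eq_card_fixed_real_classes K hodd g
  have t1 : Nat.card (MulAction.fixedBy
      {θ : IrrCharacter K // ∀ k : K, ((θ : K → ℂ) k).im = 0} g) =
      Nat.card {θ : IrrCharacter K //
        (∀ k : K, ((θ : K → ℂ) k).im = 0) ∧ (irrConjAction K).smul g θ = θ} := by
    refine Nat.card_congr (Equiv.trans (Equiv.subtypeEquivRight ?_)
      (Equiv.subtypeSubtypeEquivSubtypeInter
        (fun θ : IrrCharacter K => ∀ k : K, ((θ : K → ℂ) k).im = 0)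
        (fun θ : IrrCharacter K => (irrConjAction K).smul g θ = θ)))
    intro θ
    rw [MulAction.mem_fixedBy]
    exact Subtype.ext_iff
  have t2 : Nat.card (MulAction.fixedBy {C : ConjClasses K // conjClassesInv C = C} g) =
      Nat.card {C : ConjClasses K //
        conjClassesInv C = C ∧ (classConjAction K).smul g C = C} := by
    refine Nat.card_congr (Equiv.trans (Equiv.subtypeEquivRight ?_)
      (Equiv.subtypeSubtypeEquivSubtypeInter
        (fun C : ConjClasses K => conjClassesInv C = C)
        (fun C : ConjClasses K => (classConjAction K).smul g C = C)))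
    intro C
    rw [MulAction.mem_fixedBy]
    exact Subtype.ext_iff
  rw [t1, t2, h]

end Count

end Cfsg.Agent.Helper24
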