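import Mathlib
import Cfsg.Prelude.Def_CharExt
import Cfsg.Prelude.Def_Blocks
import Cfsg.Prelude.Def_Transfer
import Cfsg.Agent.Helper24.GallagherDet
import Cfsg.Agent.Helper24.OrbitSum
import Cfsg.Agent.Helper23.OrbitSumIndex
import Cfsg.Agent.Helper24.RealOrbits
import Cfsg.Agent.Helper24.CliffordSurj
import Cfsg.Agent.Helper24.SmallDegree
import Cfsg.Agent.Helper24.Abelian
import Cfsg.Agent.Helper18.IsolatedTransfer

/-!
`|O^p(G)| ≡ ∑ χ(1)²` over the irreducible characters of `p'`-degree and `p'`-determinantal order.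
-/

set_option autoImplicit false

namespace Cfsg.Agent.Helper24

open Representation Module Cfsg

universe u

section PPrime

variable {G : Type u} [Group G] [Finite G] (K : Subgroup G) [hK : K.Normal]

/-- Canonical extension for a normal subgroup of `p`-power index. -/
theorem exists_ext_pprime (p : ℕ) (hp : p.Prime) (a : ℕ) (hKa : K.index = p ^ a)
    (hLP : ∀ lam : K → ℂ, IsCharacter K lam → lam 1 = 1 → ¬ p ∣ orderOf lam)
    (θ : K → ℂ) (hθ : IsIrrCharacter K θ)
    (hinv : ∀ (g : G) (k : K), θ ⟨g * k * g⁻¹, hK.conj_mem (k : G) k.2 g⟩ = θ k) (d : ℕ)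
    (hd : θ 1 = d) (hpd : ¬ p ∣ d) :
    ∃ χ : G → ℂ, (IsIrrCharacter G χ ∧ (∀ k : K, χ k = θ k) ∧ ¬ p ∣ detOrder χ) ∧
      ∀ χ' : G → ℂ, IsIrrCharacter G χ' → (∀ k : K, χ' k = θ k) → ¬ p ∣ detOrder χ' →
        χ' = χ := by
  have hcopy : ∀ m : ℕ, ¬ p ∣ m → Nat.Coprime K.index m := by
    intro m hm
    rw [hKa]
    exact Nat.Coprime.pow_left a ((Nat.Prime.coprime_iff_not_dvd hp).mpr hm)
  have hoθ : ¬ p ∣ detOrder θ := hLP _ (isLin_detChar hθ).1 (isLin_detChar hθ).2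
  have hcop : Nat.Coprime K.index (detOrder θ * d) := by
    apply hcopy
    rw [Nat.Prime.dvd_mul hp]
    push Not
    exact ⟨hoθ, hpd⟩
  obtain ⟨χ, ⟨hχ, hχK, hχo⟩, huniq⟩ := coprime_unique_extension K θ hθ hinv d hd hcop
  refine ⟨χ, ⟨hχ, hχK, by rw [hχo]; exact hoθ⟩, ?_⟩
  intro χ' hχ' hχ'K ho'
  exact huniq χ' hχ' hχ'K (hcopy _ ho')

omit [Finite G] in
/-- Invariance under the conjugation action in the `hinv` form. -/
theorem inv_of_smul_eq (θ : IrrCharacter K)
    (h : ∀ g : G, (irrConjAction K).smul g θ = θ) (g : G) (k : K) :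
    (θ : K → ℂ) ⟨g * k * g⁻¹, hK.conj_mem (k : G) k.2 g⟩ = (θ : K → ℂ) k := by
  have h1 := congrFun (congrArg Subtype.val (h g⁻¹)) k
  rw [irrConjAction_apply] at h1
  have h2 : (MulAut.conjNormal g⁻¹⁻¹ : K ≃* K) k =
      ⟨g * k * g⁻¹, hK.conj_mem (k : G) k.2 g⟩ :=
    Subtype.ext (by rw [MulAut.conjNormal_apply, inv_inv])
  rw [h2] at h1
  exact h1

omit [Finite G] in
theorem smul_eq_of_inv (θ : IrrCharacter K)
    (h : ∀ (g : G) (k : K), (θ : K → ℂ) ⟨g * k * g⁻¹, hK.conj_mem (k : G) k.2 g⟩ =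
      (θ : K → ℂ) k) (g : G) : (irrConjAction K).smul g θ = θ := by
  apply Subtype.ext
  funext k
  rw [irrConjAction_apply, ← h g⁻¹ k]
  have h2 : (MulAut.conjNormal g⁻¹ : K ≃* K) k =
      ⟨g⁻¹ * k * g⁻¹⁻¹, hK.conj_mem (k : G) k.2 g⁻¹⟩ :=
    Subtype.ext (by rw [MulAut.conjNormal_apply])
  rw [h2]

omit [Finite G] in
theorem irrDeg_smul (g : G) (θ : IrrCharacter K) :
    irrDeg ((irrConjAction K).smul g θ) = irrDeg θ := by
  have h1 : (((irrConjAction K).smul g θ : IrrCharacter K) : K → ℂ) 1 = (θ : K → ℂ) 1 := by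
    rw [irrConjAction_apply, map_one]
  rw [irrDeg_spec, irrDeg_spec] at h1
  exact_mod_cast h1

/-- An irreducible character of `p'`-degree restricts irreducibly to a normal subgroup of
`p`-power index all of whose linear characters have `p'`-order. -/
theorem restrict_irr_of_not_dvd (p : ℕ) (hp : p.Prime) (a : ℕ) (hKa : K.index = p ^ a)
    (hLP : ∀ lam : K → ℂ, IsCharacter K lam → lam 1 = 1 → ¬ p ∣ orderOf lam)
    (χ : IrrCharacter G) (hpχ : ¬ p ∣ irrDeg χ) :
    IsIrrCharacter K (fun k : K => (χ : G → ℂ) k) := by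
  classical
  haveI : Fintype G := Fintype.ofFinite G
  haveI : Fintype K := Fintype.ofFinite K
  haveI : Fintype (IrrCharacter K) := Fintype.ofFinite _
  letI := irrConjAction K
  have hφ : IsCharacter K (fun k : K => (χ : G → ℂ) k) :=
    Helper8.isCharacter_restrict K (IsIrrCharacter.isCharacter χ.2)
  obtain ⟨m, hm⟩ : ∃ m : IrrCharacter K → ℕ,
      ∀ θ : IrrCharacter K, classInner (fun k : K => (χ : G → ℂ) k) (θ : K → ℂ) = m θ :=
    ⟨fun θ => (IsCharacter.classInner_irr_nat hφ θ).choose,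
      fun θ => (IsCharacter.classInner_irr_nat hφ θ).choose_spec⟩
  have hsum := IsCharacter.eq_sum_classInner hφ
  have hdeg : (irrDeg χ : ℤ) = ∑ θ : IrrCharacter K, (m θ : ℤ) * (irrDeg θ : ℤ) := by
    have h1 := congrFun hsum 1
    rw [Finset.sum_apply] at h1
    simp only [Pi.smul_apply, smul_eq_mul, hm, irrDeg_spec] at h1
    have h2 : (χ : G → ℂ) ((1 : K) : G) = (irrDeg χ : ℂ) := by
      rw [Subgroup.coe_one, irrDeg_spec]
    rw [h2] at h1
    exact_mod_cast h1
  have hf : ∀ (g : G) (θ : IrrCharacter K),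
      (m (g • θ) : ℤ) * (irrDeg (g • θ) : ℤ) = (m θ : ℤ) * (irrDeg θ : ℤ) := by
    intro g θ
    have h1 : m (g • θ) = m θ := by
      have h2 := classInner_comp_mulEquiv (MulAut.conjNormal g⁻¹ : K ≃* K)
        (fun k : K => (χ : G → ℂ) k) (θ : K → ℂ)
      have h3 : (fun k : K => (χ : G → ℂ) ((MulAut.conjNormal g⁻¹ : K ≃* K) k)) =
          fun k : K => (χ : G → ℂ) k := by
        funext k
        rw [MulAut.conjNormal_apply]
        exact isClassFunction_irr χ k g⁻¹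
      rw [h3] at h2
      have h4 : classInner (fun k : K => (χ : G → ℂ) k) ((g • θ : IrrCharacter K) : K → ℂ) =
          classInner (fun k : K => (χ : G → ℂ) k) (θ : K → ℂ) := h2
      rw [hm, hm] at h4
      exact_mod_cast h4
    have h5 : irrDeg (g • θ) = irrDeg θ := irrDeg_smul K g θ
    rw [h1, h5]
  have hmod := Cfsg.Agent.Helper23.OSI.sum_modEq_sum_fixed (G := G) (X := IrrCharacter K) p hp K a hKa
    (fun k hk θ => irr_smul_of_mem K k hk θ)
    (fun θ => (m θ : ℤ) * (irrDeg θ : ℤ)) hf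
  rw [← hdeg] at hmod
  -- some fixed `θ` has `p ∤ m θ * irrDeg θ`
  have hex : ∃ θ : IrrCharacter K, (∀ g : G, g • θ = θ) ∧ ¬ (p : ℤ) ∣ (m θ : ℤ) * (irrDeg θ : ℤ) := by
    by_contra hcon
    push Not at hcon
    have h0 : (p : ℤ) ∣ ∑ θ ∈ Finset.univ.filter (fun θ : IrrCharacter K => ∀ g : G, g • θ = θ),
        (m θ : ℤ) * (irrDeg θ : ℤ) := by
      apply Finset.dvd_sum
      intro θ hθ
      exact hcon θ (Finset.mem_filter.mp hθ).2
    have h1 : (irrDeg χ : ℤ) ≡ 0 [ZMOD p] := hmod.trans ((Int.modEq_zero_iff_dvd).mpr h0)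
    have h2 : (p : ℤ) ∣ (irrDeg χ : ℤ) := (Int.modEq_zero_iff_dvd).mp h1
    exact hpχ (by exact_mod_cast h2)
  obtain ⟨θ, hθfix, hθp⟩ := hex
  have hmθ : m θ ≠ 0 := by
    intro h0
    apply hθp
    rw [h0]
    simp
  have hpθ : ¬ p ∣ irrDeg θ := by
    intro h
    apply hθp
    exact Dvd.dvd.mul_left (by exact_mod_cast h) _
  obtain ⟨χh, ⟨hχh, hχhK, -⟩, -⟩ := exists_ext_pprime K p hp a hKa hLP (θ : K → ℂ) θ.2
    (inv_of_smul_eq K θ hθfix) (irrDeg θ) (irrDeg_spec θ) hpθ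
  have hχhK' : (fun k : K => χh k) = (θ : K → ℂ) := funext hχhK
  have hne : classInner (fun n : K => (χ : G → ℂ) n)
      (fun n : K => ((⟨χh, hχh⟩ : IrrCharacter G) : G → ℂ) n) ≠ 0 := by
    show classInner (fun n : K => (χ : G → ℂ) n) (fun n : K => χh n) ≠ 0
    rw [hχhK', hm]
    exact_mod_cast hmθ
  obtain ⟨β, hβ⟩ := exists_gallagherTwist_eq K ⟨χh, hχh⟩
    (by show IsIrrCharacter K (fun k : K => χh k); rw [hχhK']; exact θ.2) χ hne
  have hβg : ∀ g : G, (χ : G → ℂ) g = (β : G ⧸ K → ℂ) (g : G ⧸ K) * χh g := fun g => congrFun hβ g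
  -- degrees
  have hχh1 : χh 1 = (irrDeg θ : ℂ) := by
    have := hχhK 1
    rw [Subgroup.coe_one] at this
    rw [this, irrDeg_spec]
  have hdegβ : irrDeg χ = irrDeg β * irrDeg θ := by
    have h1 := hβg 1
    rw [QuotientGroup.mk_one, irrDeg_spec, irrDeg_spec, hχh1] at h1
    exact_mod_cast h1
  have hβdvd : irrDeg β ∣ p ^ a := by
    have := irrDeg_dvd_card β
    rwa [← Subgroup.index_eq_card, hKa] at this
  obtain ⟨b, -, hb⟩ := (Nat.dvd_prime_pow hp).mp hβdvd
  have hb0 : b = 0 := by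
    by_contra hne0
    apply hpχ
    rw [hdegβ, hb]
    exact Dvd.dvd.mul_right (dvd_pow_self p hne0) _
  have hβ1 : (β : G ⧸ K → ℂ) 1 = 1 := by
    rw [irrDeg_spec, hb, hb0, pow_zero, Nat.cast_one]
  have : (fun k : K => (χ : G → ℂ) k) = (θ : K → ℂ) := by
    funext k
    rw [hβg, (QuotientGroup.eq_one_iff (k : G)).mpr k.2, hβ1, one_mul, hχhK]
  rw [this]
  exact θ.2

end PPrime

section Main

variable {G : Type u} [Group G] [Finite G]

/-- Linear characters of `O^p(G)` have order prime to `p`. -/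
theorem not_dvd_orderOf_linear_pResidual (p : ℕ) (hp : p.Prime) (lam : pResidual p G → ℂ)
    (hc : IsCharacter (pResidual p G) lam) (h1 : lam 1 = 1) : ¬ p ∣ orderOf lam := by
  rw [← orderOf_linUnits hc h1]
  obtain ⟨L, hL⟩ : ∃ L : pResidual p G →* ℂˣ, L = linUnits hc h1 := ⟨_, rfl⟩
  rw [← hL]
  intro hdvd
  have hLcard : orderOf L ∣ Nat.card (pResidual p G) := by
    apply orderOf_dvd_of_pow_eq_one
    refine MonoidHom.ext fun k => ?_
    rw [MonoidHom.pow_apply, ← map_pow, pow_card_eq_one', map_one, MonoidHom.one_apply]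
  have hopos : 0 < orderOf L :=
    Nat.pos_of_ne_zero fun h0 => by
      have := hLcard
      rw [h0, Nat.zero_dvd] at this
      exact Nat.card_pos.ne' this
  obtain ⟨c, hc'⟩ := hdvd
  have hcpos : 0 < c := by
    rcases Nat.eq_zero_or_pos c with h | h
    · rw [h, mul_zero] at hc'; omega
    · exact h
  have hclt : c < orderOf L := by
    rw [hc']
    have := hp.two_le
    nlinarith
  have hne : L ^ c ≠ 1 := pow_ne_one_of_lt_orderOf hcpos.ne' hclt
  apply hne
  have hp1 : ∀ k, ((L ^ c) k) ^ p = 1 := by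
    intro k
    rw [MonoidHom.pow_apply, ← pow_mul, mul_comm, ← hc', ← MonoidHom.pow_apply,
      pow_orderOf_eq_one, MonoidHom.one_apply]
  have key : ∀ (y : G) (hy : y ∈ pResidual p G), (L ^ c) ⟨y, hy⟩ = 1 := by
    intro y hy
    unfold pResidual at hy
    induction hy using Subgroup.closure_induction with
    | mem y hy =>
      have hy' : y ∈ pResidual p G := Subgroup.subset_closure hy
      have h2 : ((L ^ c) ⟨y, hy'⟩) ^ orderOf y = 1 := by
        rw [← map_pow]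
        have : (⟨y, hy'⟩ : pResidual p G) ^ orderOf y = 1 := by
          apply Subtype.ext
          rw [Subgroup.coe_pow, Subgroup.coe_one]
          exact pow_orderOf_eq_one y
        rw [this, map_one]
      have h3 := (pow_gcd_eq_one (a := (L ^ c) ⟨y, hy'⟩)).mpr ⟨h2, hp1 _⟩
      have h4 : Nat.gcd (orderOf y) p = 1 := hy
      rw [h4, pow_one] at h3
      exact h3
    | one => exact map_one _
    | mul x y hx hy ihx ihy =>
      have hx' : x ∈ pResidual p G := hx
      have hy' : y ∈ pResidual p G := hy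
      have : (⟨x * y, (pResidual p G).mul_mem hx' hy'⟩ : pResidual p G) =
          ⟨x, hx'⟩ * ⟨y, hy'⟩ := rfl
      show (L ^ c) ⟨x * y, (pResidual p G).mul_mem hx' hy'⟩ = 1
      rw [this, map_mul]
      have e1 : (L ^ c) ⟨x, hx'⟩ = 1 := ihx
      have e2 : (L ^ c) ⟨y, hy'⟩ = 1 := ihy
      rw [e1, e2, mul_one]
    | inv x hx ihx =>
      have hx' : x ∈ pResidual p G := hx
      have : (⟨x⁻¹, (pResidual p G).inv_mem hx'⟩ : pResidual p G) = (⟨x, hx'⟩)⁻¹ := rfl
      show (L ^ c) ⟨x⁻¹, (pResidual p G).inv_mem hx'⟩ = 1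
      rw [this, map_inv]
      have e1 : (L ^ c) ⟨x, hx'⟩ = 1 := ihx
      rw [e1, inv_one]
  refine MonoidHom.ext fun k => ?_
  rw [MonoidHom.one_apply]
  exact key k k.2

/-- Statement S4455. -/
theorem card_pResidual_modEq (p : ℕ) (hp : p.Prime) :
    (Nat.card (pResidual p G) : ℤ) ≡
      (∑ᶠ χ ∈ {χ : IrrCharacter G | ¬ p ∣ charDegree (χ : G → ℂ) ∧
        ¬ p ∣ detOrder (χ : G → ℂ)}, (charDegree (χ : G → ℂ) : ℤ) ^ 2) [ZMOD p] := by
  classical
  haveI : Fintype G := Fintype.ofFinite G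
  haveI : Fintype (IrrCharacter G) := Fintype.ofFinite _
  haveI : Fintype (pResidual p G) := Fintype.ofFinite _
  haveI : Fintype (IrrCharacter (pResidual p G)) := Fintype.ofFinite _
  haveI : Fact p.Prime := ⟨hp⟩
  haveI hKn : (pResidual p G).Normal := Helper18.pResidual_normal p
  letI := irrConjAction (pResidual p G)
  obtain ⟨a, ha⟩ := (IsPGroup.iff_card).mp (Helper18.isPGroup_quotient_pResidual (G := G) p)
  have hKa : (pResidual p G).index = p ^ a := by rw [Subgroup.index_eq_card]; exact ha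
  have hLP := not_dvd_orderOf_linear_pResidual (G := G) p hp
  -- finsum to finset sum
  have hset : {χ : IrrCharacter G | ¬ p ∣ charDegree (χ : G → ℂ) ∧ ¬ p ∣ detOrder (χ : G → ℂ)} =
      ↑(Finset.univ.filter (fun χ : IrrCharacter G =>
        ¬ p ∣ irrDeg χ ∧ ¬ p ∣ detOrder (χ : G → ℂ))) := by
    ext χ
    simp [charDegree_irr]
  rw [hset, finsum_mem_coe_finset]
  simp only [charDegree_irr]
  -- the bijection
  have hST : ∑ χ ∈ Finset.univ.filter (fun χ : IrrCharacter G =>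
        ¬ p ∣ irrDeg χ ∧ ¬ p ∣ detOrder (χ : G → ℂ)), (irrDeg χ : ℤ) ^ 2 =
      ∑ θ ∈ Finset.univ.filter (fun θ : IrrCharacter (pResidual p G) =>
        (∀ g : G, g • θ = θ) ∧ ¬ p ∣ irrDeg θ), (irrDeg θ : ℤ) ^ 2 := by
    have hres : ∀ χ : IrrCharacter G, ¬ p ∣ irrDeg χ →
        IsIrrCharacter (pResidual p G) (fun k : pResidual p G => (χ : G → ℂ) k) :=
      fun χ h => restrict_irr_of_not_dvd (pResidual p G) p hp a hKa hLP χ h
    have hdegres : ∀ (χ : IrrCharacter G) (h : ¬ p ∣ irrDeg χ),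
        irrDeg (⟨fun k : pResidual p G => (χ : G → ℂ) k, hres χ h⟩ :
          IrrCharacter (pResidual p G)) = irrDeg χ := by
      intro χ h
      have h1 : ((⟨fun k : pResidual p G => (χ : G → ℂ) k, hres χ h⟩ :
          IrrCharacter (pResidual p G)) : pResidual p G → ℂ) 1 = (χ : G → ℂ) 1 := by
        show (χ : G → ℂ) ((1 : pResidual p G) : G) = _
        rw [Subgroup.coe_one]
      rw [irrDeg_spec, irrDeg_spec] at h1
      exact_mod_cast h1
    refine Finset.sum_bij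
      (fun χ hχ => (⟨fun k : pResidual p G => (χ : G → ℂ) k,
        hres χ (Finset.mem_filter.mp hχ).2.1⟩ : IrrCharacter (pResidual p G))) ?_ ?_ ?_ ?_
    · intro χ hχ
      rw [Finset.mem_filter]
      refine ⟨Finset.mem_univ _, ?_, ?_⟩
      · intro g
        apply smul_eq_of_inv
        intro g k
        exact isClassFunction_irr χ k g
      · rw [hdegres χ (Finset.mem_filter.mp hχ).2.1]
        exact (Finset.mem_filter.mp hχ).2.1
    · intro χ₁ h₁ χ₂ h₂ heq
      have hχ₁ := (Finset.mem_filter.mp h₁).2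
      have hχ₂ := (Finset.mem_filter.mp h₂).2
      have heq' : ∀ k : pResidual p G, (χ₂ : G → ℂ) k = (χ₁ : G → ℂ) k := fun k =>
        (congrFun (congrArg Subtype.val heq) k).symm
      obtain ⟨χ₀, -, huniq⟩ := exists_ext_pprime (pResidual p G) p hp a hKa hLP
        (fun k : pResidual p G => (χ₁ : G → ℂ) k) (hres χ₁ hχ₁.1)
        (fun g k => isClassFunction_irr χ₁ k g) (irrDeg χ₁)
        (by show (χ₁ : G → ℂ) ((1 : pResidual p G) : G) = _; rw [Subgroup.coe_one, irrDeg_spec])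
        hχ₁.1
      have e1 := huniq χ₁ χ₁.2 (fun k => rfl) hχ₁.2
      have e2 := huniq χ₂ χ₂.2 heq' hχ₂.2
      exact Subtype.ext (e1.trans e2.symm)
    · intro θ hθ
      have hθ' := (Finset.mem_filter.mp hθ).2
      obtain ⟨χ₀, ⟨hχ₀, hχ₀K, hχ₀o⟩, -⟩ := exists_ext_pprime (pResidual p G) p hp a hKa hLP
        (θ : pResidual p G → ℂ) θ.2 (inv_of_smul_eq (pResidual p G) θ hθ'.1) (irrDeg θ)
        (irrDeg_spec θ) hθ'.2
      have hdeg0 : irrDeg (⟨χ₀, hχ₀⟩ : IrrCharacter G) = irrDeg θ := by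
        have h1 : χ₀ 1 = (θ : pResidual p G → ℂ) 1 := by
          have := hχ₀K 1
          rwa [Subgroup.coe_one] at this
        have h2 := irrDeg_spec (⟨χ₀, hχ₀⟩ : IrrCharacter G)
        rw [show ((⟨χ₀, hχ₀⟩ : IrrCharacter G) : G → ℂ) 1 = χ₀ 1 from rfl, h1, irrDeg_spec] at h2
        exact_mod_cast h2.symm
      refine ⟨⟨χ₀, hχ₀⟩, ?_, ?_⟩
      · rw [Finset.mem_filter]
        exact ⟨Finset.mem_univ _, by rw [hdeg0]; exact hθ'.2, hχ₀o⟩
      · apply Subtype.ext
        funext k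
        exact hχ₀K k
    · intro χ hχ
      rw [hdegres χ (Finset.mem_filter.mp hχ).2.1]
  rw [hST]
  -- the count
  have hK : (Nat.card (pResidual p G) : ℤ) =
      ∑ θ : IrrCharacter (pResidual p G), (irrDeg θ : ℤ) ^ 2 := by
    have := sum_irrDeg_sq (G := pResidual p G)
    rw [← this]
    push_cast
    rfl
  rw [hK]
  have hmod1 := Cfsg.Agent.Helper23.OSI.sum_modEq_sum_fixed (G := G) (X := IrrCharacter (pResidual p G)) p hp
    (pResidual p G) a hKa (fun k hk θ => irr_smul_of_mem (pResidual p G) k hk θ)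
    (fun θ => (irrDeg θ : ℤ) ^ 2)
    (fun g θ => by
      show (irrDeg (g • θ) : ℤ) ^ 2 = (irrDeg θ : ℤ) ^ 2
      rw [show irrDeg (g • θ) = irrDeg θ from irrDeg_smul (pResidual p G) g θ])
  refine hmod1.trans ?_
  rw [← Finset.sum_filter_add_sum_filter_not
    (Finset.univ.filter (fun θ : IrrCharacter (pResidual p G) => ∀ g : G, g • θ = θ))
    (fun θ => ¬ p ∣ irrDeg θ), Finset.filter_filter, Finset.filter_filter]
  have h0 : (p : ℤ) ∣ ∑ θ ∈ Finset.univ.filter (fun θ : IrrCharacter (pResidual p G) =>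
      (∀ g : G, g • θ = θ) ∧ ¬ ¬ p ∣ irrDeg θ), (irrDeg θ : ℤ) ^ 2 := by
    apply Finset.dvd_sum
    intro θ hθ
    have h := (Finset.mem_filter.mp hθ).2.2
    push Not at h
    exact Dvd.dvd.pow (by exact_mod_cast h) two_ne_zero
  have h1 := Int.ModEq.add_left (∑ θ ∈ Finset.univ.filter
    (fun θ : IrrCharacter (pResidual p G) => (∀ g : G, g • θ = θ) ∧ ¬ p ∣ irrDeg θ),
      (irrDeg θ : ℤ) ^ 2) ((Int.modEq_zero_iff_dvd).mpr h0)
  rwa [add_zero] at h1

end Main

end Cfsg.Agent.Helper24
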