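import Mathlib
import Cfsg.Prelude.Def_CharExt
import Cfsg.Prelude.Def_Blocks
import Cfsg.Prelude.Def_Transfer
import Cfsg.Agent.Helper24.PResidualCount
import Cfsg.Agent.Helper24.Linear

/-!
Thompson: if `p` divides the degree of every nonlinear irreducible character of `G`, then `G` has a
normal `p`-complement.  Derived from the congruence for `|O^p(G)|`.
-/

set_option autoImplicit false

namespace Cfsg.Agent.Helper24

open Representation Module Cfsg

universe u

section

variable {G : Type u} [Group G] [Finite G]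

/-- The determinantal character of a degree-one irreducible character is the character itself. -/
theorem detChar_of_linear {χ : G → ℂ} (hχ : IsIrrCharacter G χ) (h1 : χ 1 = 1) :
    detChar χ = χ := by
  obtain ⟨n, ρ, hρ, rfl⟩ := hχ
  have h' : IsIrrCharacter G ρ.character := ⟨n, ρ, hρ, rfl⟩
  have hn : n = 1 := by
    rw [Representation.char_one, Module.finrank_fin_fun] at h1
    exact_mod_cast h1
  subst hn
  funext g
  rw [detChar_eq_det ρ h']
  unfold Representation.character
  rw [← LinearMap.det_toMatrix (Pi.basisFun ℂ (Fin 1)),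
    LinearMap.trace_eq_matrix_trace ℂ (Pi.basisFun ℂ (Fin 1)), Matrix.det_fin_one,
    Matrix.trace_fin_one]

/-- The homomorphisms to `ℂˣ` of order prime to `p`. -/
def pPrimeHoms (G : Type u) [Group G] (p : ℕ) (hp : p.Prime) : Subgroup (G →* ℂˣ) where
  carrier := {f | ¬ p ∣ orderOf f}
  one_mem' := by
    show ¬ p ∣ orderOf (1 : G →* ℂˣ)
    rw [orderOf_one]
    exact hp.one_lt.ne' ∘ Nat.dvd_one.mp
  mul_mem' := by
    intro a b ha hb
    show ¬ p ∣ orderOf (a * b)
    intro h
    have h1 := h.trans (Commute.orderOf_mul_dvd_lcm (Commute.all a b))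
    rcases (Nat.Prime.dvd_mul hp).mp (h1.trans (Nat.lcm_dvd_mul _ _)) with h2 | h2
    · exact ha h2
    · exact hb h2
  inv_mem' := by
    intro a ha
    show ¬ p ∣ orderOf a⁻¹
    have h : orderOf a⁻¹ = orderOf a := orderOf_inv a
    intro h2
    apply ha
    show p ∣ orderOf a
    rw [← h]
    exact h2

omit [Finite G] in
theorem not_dvd_card_pPrimeHoms (p : ℕ) (hp : p.Prime) [Finite (pPrimeHoms G p hp)] :
    ¬ p ∣ Nat.card (pPrimeHoms G p hp) := by
  intro h
  haveI : Fact p.Prime := ⟨hp⟩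
  obtain ⟨x, hx⟩ := exists_prime_orderOf_dvd_card' p h
  have h1 : orderOf (x : G →* ℂˣ) = p := by rw [Subgroup.orderOf_coe, hx]
  exact x.2 (by rw [h1])

/-- Statement S4456. -/
theorem normal_pComplement_of_dvd_nonlinear (p : ℕ) (hp : p.Prime)
    (hdeg : ∀ χ : IrrCharacter G, charDegree (χ : G → ℂ) ≠ 1 → p ∣ charDegree (χ : G → ℂ)) :
    ∃ N : Subgroup G, N.Normal ∧ (Nat.card N).Coprime p ∧ ∃ k : ℕ, N.index = p ^ k := by
  classical
  haveI : Fintype G := Fintype.ofFinite G
  haveI : Fintype (IrrCharacter G) := Fintype.ofFinite _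
  haveI : Fact p.Prime := ⟨hp⟩
  haveI hKn : (pResidual p G).Normal := Helper18.pResidual_normal p
  obtain ⟨a, ha⟩ := (IsPGroup.iff_card).mp (Helper18.isPGroup_quotient_pResidual (G := G) p)
  have hKa : (pResidual p G).index = p ^ a := by rw [Subgroup.index_eq_card]; exact ha
  refine ⟨pResidual p G, hKn, ?_, a, hKa⟩
  have hmod := card_pResidual_modEq (G := G) p hp
  have hset : {χ : IrrCharacter G | ¬ p ∣ charDegree (χ : G → ℂ) ∧ ¬ p ∣ detOrder (χ : G → ℂ)} =
      ↑(Finset.univ.filter (fun χ : IrrCharacter G =>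
        (χ : G → ℂ) 1 = 1 ∧ ¬ p ∣ orderOf (χ : G → ℂ))) := by
    ext χ
    simp only [Set.mem_ofPred_eq, Finset.coe_filter, Finset.mem_univ, true_and]
    constructor
    · rintro ⟨h1, h2⟩
      have hd1 : charDegree (χ : G → ℂ) = 1 := by
        by_contra hne
        exact h1 (hdeg χ hne)
      have hχ1 : (χ : G → ℂ) 1 = 1 := by
        rw [irrDeg_spec, ← charDegree_irr, hd1, Nat.cast_one]
      refine ⟨hχ1, ?_⟩
      unfold detOrder at h2
      rwa [detChar_of_linear χ.2 hχ1] at h2
    · rintro ⟨h1, h2⟩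
      have hd1 : charDegree (χ : G → ℂ) = 1 := by
        rw [charDegree_irr]
        have := irrDeg_spec χ
        rw [h1] at this
        exact_mod_cast this.symm
      refine ⟨?_, ?_⟩
      · rw [hd1]
        exact hp.one_lt.ne' ∘ Nat.dvd_one.mp
      · unfold detOrder
        rwa [detChar_of_linear χ.2 h1]
  rw [hset, finsum_mem_coe_finset] at hmod
  have hsum : ∑ χ ∈ Finset.univ.filter (fun χ : IrrCharacter G =>
      (χ : G → ℂ) 1 = 1 ∧ ¬ p ∣ orderOf (χ : G → ℂ)), (charDegree (χ : G → ℂ) : ℤ) ^ 2 =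
      ((Finset.univ.filter (fun χ : IrrCharacter G =>
      (χ : G → ℂ) 1 = 1 ∧ ¬ p ∣ orderOf (χ : G → ℂ))).card : ℤ) := by
    rw [Finset.sum_congr rfl (g := fun _ => (1 : ℤ)), Finset.sum_const, nsmul_eq_mul, mul_one]
    intro χ hχ
    have h1 := (Finset.mem_filter.mp hχ).2.1
    have hd1 : charDegree (χ : G → ℂ) = 1 := by
      rw [charDegree_irr]
      have := irrDeg_spec χ
      rw [h1] at this
      exact_mod_cast this.symm
    rw [hd1]
    norm_num
  rw [hsum] at hmod
  -- the bijection with `pPrimeHoms`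
  let e : {χ : IrrCharacter G // (χ : G → ℂ) 1 = 1 ∧ ¬ p ∣ orderOf (χ : G → ℂ)} ≃
      pPrimeHoms G p hp :=
    { toFun := fun χ => ⟨linUnits (IsIrrCharacter.isCharacter χ.1.2) χ.2.1, by
        show ¬ p ∣ orderOf (linUnits (IsIrrCharacter.isCharacter χ.1.2) χ.2.1)
        rw [orderOf_linUnits]
        exact χ.2.2⟩
      invFun := fun f => ⟨⟨fun g => (((f : G →* ℂˣ) g : ℂˣ) : ℂ),
        isIrrCharacter_of_monoidHom ((Units.coeHom ℂ).comp (f : G →* ℂˣ))⟩, by
          show (((f : G →* ℂˣ) 1 : ℂˣ) : ℂ) = 1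
          rw [map_one, Units.val_one], by
          show ¬ p ∣ orderOf (fun g => (((f : G →* ℂˣ) g : ℂˣ) : ℂ))
          rw [orderOf_coe_fun]
          exact f.2⟩
      left_inv := fun χ => by
        apply Subtype.ext
        apply Subtype.ext
        rfl
      right_inv := fun f => by
        apply Subtype.ext
        refine MonoidHom.ext fun g => Units.ext ?_
        rfl }
  haveI : Finite (pPrimeHoms G p hp) := Finite.of_equiv _ e
  have hcard : (Finset.univ.filter (fun χ : IrrCharacter G =>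
      (χ : G → ℂ) 1 = 1 ∧ ¬ p ∣ orderOf (χ : G → ℂ))).card = Nat.card (pPrimeHoms G p hp) := by
    rw [← Nat.card_congr e, Nat.card_eq_fintype_card, Fintype.card_subtype]
  have hnd := not_dvd_card_pPrimeHoms (G := G) p hp
  rw [← hcard] at hnd
  have hnK : ¬ p ∣ Nat.card (pResidual p G) := by
    intro h
    have h1 : (Nat.card (pResidual p G) : ℤ) ≡ 0 [ZMOD p] :=
      (Int.modEq_zero_iff_dvd).mpr (by exact_mod_cast h)
    have h2 := (Int.modEq_zero_iff_dvd).mp (hmod.symm.trans h1)
    exact hnd (by exact_mod_cast h2)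
  exact ((Nat.Prime.coprime_iff_not_dvd hp).mpr hnK).symm

end

end Cfsg.Agent.Helper24
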