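import Mathlib
import Cfsg.Prelude.Def_Characters
import Cfsg.Agent.Helper24.Regular

/-!
The Burnside–Brauer theorem on powers of a faithful character.
-/

namespace Cfsg.Agent.Helper24

open Representation Module Polynomial

universe u v

section

variable {G : Type u} [Group G] [Fintype G]
variable {V : Type v} [AddCommGroup V] [Module ℂ V] [FiniteDimensional ℂ V]

omit [Group G] in
theorem card_range_eq_card_image [DecidableEq ℂ] (f : G → ℂ) :
    Nat.card (Set.range f) = (Finset.univ.image f).card := by
  rw [_root_.Nat.card_coe_set_eq]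
  have : Set.range f = ↑(Finset.univ.image f) := by simp
  rw [this, Set.ncard_coe_finset]

/-- Burnside–Brauer: if `χ` is a faithful character taking `m` distinct values, every irreducible
character is a constituent of `χ ^ i` for some `i < m`. -/
theorem exists_pow_classInner_ne_zero (ρ : Representation ℂ G V)
    (hfaithful : Function.Injective ρ) (ψ : G → ℂ) (hψ : IsIrrCharacter G ψ) :
    ∃ i : ℕ, i < Nat.card (Set.range ρ.character) ∧
      classInner (fun g => ρ.character g ^ i) ψ ≠ 0 := by
  classical
  by_contra hcon
  push Not at hcon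
  rw [card_range_eq_card_image] at hcon
  set T : Finset ℂ := Finset.univ.image ρ.character with hT
  set a₁ : ℂ := ρ.character 1 with ha₁
  have ha₁T : a₁ ∈ T := Finset.mem_image_of_mem _ (Finset.mem_univ 1)
  set P : ℂ[X] := ∏ a ∈ T.erase a₁, (X - C a) with hP
  have hPdeg : P.natDegree < T.card := by
    rw [hP, Polynomial.natDegree_prod_of_monic _ _ (fun a _ => monic_X_sub_C a)]
    simp only [natDegree_X_sub_C, Finset.sum_const, smul_eq_mul, mul_one]
    rw [Finset.card_erase_of_mem ha₁T]
    have : 0 < T.card := Finset.card_pos.mpr ⟨a₁, ha₁T⟩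
    omega
  have hPa₁ : P.eval a₁ ≠ 0 := by
    rw [hP, Polynomial.eval_prod]
    refine Finset.prod_ne_zero_iff.mpr ?_
    intro a ha
    rw [eval_sub, eval_X, eval_C]
    exact sub_ne_zero.mpr (Finset.ne_of_mem_erase ha).symm
  have hPother : ∀ g : G, g ≠ 1 → P.eval (ρ.character g) = 0 := by
    intro g hg
    rw [hP, Polynomial.eval_prod]
    refine Finset.prod_eq_zero (i := ρ.character g) ?_ (by simp)
    rw [Finset.mem_erase]
    refine ⟨?_, Finset.mem_image_of_mem _ (Finset.mem_univ g)⟩
    intro heq
    apply hg
    have h1 : ρ.character g = (finrank ℂ V : ℂ) := by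
      rw [heq, ha₁, Representation.char_one]
    have h2 := (char_eq_finrank_iff ρ g).mp h1
    apply hfaithful
    rw [h2, map_one]
    rfl
  -- the weighted sum
  have hsum1 : ∑ g : G, P.eval (ρ.character g) * (starRingEnd ℂ) (ψ g) =
      P.eval a₁ * (starRingEnd ℂ) (ψ 1) := by
    rw [Finset.sum_eq_single (1 : G)]
    · intro g _ hg
      rw [hPother g hg, zero_mul]
    · intro h; exact absurd (Finset.mem_univ _) h
  have hsum2 : ∑ g : G, P.eval (ρ.character g) * (starRingEnd ℂ) (ψ g) = 0 := by
    have : ∀ g : G, P.eval (ρ.character g) * (starRingEnd ℂ) (ψ g) =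
        ∑ i ∈ Finset.range (P.natDegree + 1),
          P.coeff i * (ρ.character g ^ i * (starRingEnd ℂ) (ψ g)) := by
      intro g
      rw [Polynomial.eval_eq_sum_range, Finset.sum_mul]
      refine Finset.sum_congr rfl ?_
      intro i _
      ring
    simp_rw [this]
    rw [Finset.sum_comm]
    refine Finset.sum_eq_zero ?_
    intro i hi
    rw [← Finset.mul_sum]
    have hi' : i < T.card := by
      have := Finset.mem_range.mp hi
      omega
    have h0 := hcon i hi'
    unfold classInner at h0
    have hcard : (Nat.card G : ℂ)⁻¹ ≠ 0 := inv_ne_zero card_ne_zero_complex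
    have := (mul_eq_zero.mp h0).resolve_left hcard
    rw [this, mul_zero]
  rw [hsum1] at hsum2
  rcases mul_eq_zero.mp hsum2 with h | h
  · exact hPa₁ h
  · have : ψ 1 = 0 := by
      have := congrArg (starRingEnd ℂ) h
      simpa using this
    exact irr_one_ne_zero ⟨ψ, hψ⟩ this

end

end Cfsg.Agent.Helper24
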