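import Mathlib
import Cfsg.Prelude.Def_Characters
import Cfsg.Agent.Helper24.CyclicExtension
import Cfsg.Agent.Helper24.Gallagher
import Cfsg.Agent.Helper24.Ito
import Cfsg.Agent.Helper24.CliffordSurj

/-!
A finite central extension lifting the projective representation attached to an invariant
irreducible character of a normal subgroup, and the divisibility `χ(1)/ϑ(1) ∣ |G : N|`.
-/

namespace Cfsg.Agent.Helper24

universe u

open Representation

section ProjLift

/-- The general linear group in the form used here. -/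
abbrev GLd (d : ℕ) := (Module.End ℂ (Fin d → ℂ))ˣ

/-- The determinant as a homomorphism to the units. -/
noncomputable def detHom (d : ℕ) : GLd d →* ℂˣ :=
  Units.map (LinearMap.det : Module.End ℂ (Fin d → ℂ) →* ℂ)

/-- Scalar matrices. -/
noncomputable def scalarHom (d : ℕ) : ℂˣ →* GLd d :=
  Units.map (algebraMap ℂ (Module.End ℂ (Fin d → ℂ))).toMonoidHom

theorem scalarHom_val (d : ℕ) (c : ℂˣ) :
    ((scalarHom d c : GLd d) : Module.End ℂ (Fin d → ℂ)) =
      (c : ℂ) • (LinearMap.id : (Fin d → ℂ) →ₗ[ℂ] (Fin d → ℂ)) := by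
  show algebraMap ℂ (Module.End ℂ (Fin d → ℂ)) (c : ℂ) = _
  rw [Algebra.algebraMap_eq_smul_one]
  rfl

theorem scalarHom_comm (d : ℕ) (c : ℂˣ) (x : GLd d) : scalarHom d c * x = x * scalarHom d c := by
  apply Units.ext
  rw [Units.val_mul, Units.val_mul]
  exact Algebra.commutes (c : ℂ) _

theorem detHom_scalarHom (d : ℕ) (c : ℂˣ) : detHom d (scalarHom d c) = c ^ d := by
  apply Units.ext
  show LinearMap.det ((scalarHom d c : GLd d) : Module.End ℂ (Fin d → ℂ)) = _
  rw [scalarHom_val, LinearMap.det_smul, LinearMap.det_id, mul_one, Module.finrank_fin_fun,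
    Units.val_pow_eq_pow_val]

variable {G : Type u} [Group G] (N : Subgroup G) [hN : N.Normal] {d : ℕ}

/-- Elements of the form `(1, A)` in `conjPairs` are scalar. -/
theorem exists_scalar_of_one_mem_conjPairs (Y : Representation ℂ N (Fin d → ℂ))
    [Y.IsIrreducible] (A : GLd d) (hA : ((1 : G), A) ∈ conjPairs N (MonoidHom.toHomUnits Y)) :
    ∃ c : ℂˣ, A = scalarHom d c := by
  have hcomm : ∀ n : N, (A : Module.End ℂ (Fin d → ℂ)) ∘ₗ Y n =
      Y n ∘ₗ (A : Module.End ℂ (Fin d → ℂ)) := by
    intro n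
    have h1 := hA n
    simp only [map_one, MulAut.one_apply] at h1
    rw [eq_mul_inv_iff_mul_eq] at h1
    have h2 := congrArg Units.val h1
    rw [Units.val_mul, Units.val_mul] at h2
    exact h2.symm
  obtain ⟨c, hc⟩ := exists_scalar_of_commute Y _ hcomm
  have hc0 : c ≠ 0 := by
    intro h0
    rw [h0, zero_smul] at hc
    have h1 := A.mul_inv
    rw [hc, zero_mul] at h1
    have hpos := finrank_pos_of_isIrreducible Y
    haveI : Nontrivial (Fin d → ℂ) := Module.finrank_pos_iff.mp hpos
    have h2 : (0 : Module.End ℂ (Fin d → ℂ)) ≠ 1 := zero_ne_one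
    exact h2 h1
  refine ⟨Units.mk0 c hc0, ?_⟩
  apply Units.ext
  rw [scalarHom_val, hc]
  rfl

/-- For an invariant irreducible representation, every group element has an intertwiner. -/
theorem exists_mem_conjPairs [Finite G] (Y : Representation ℂ N (Fin d → ℂ)) [hY : Y.IsIrreducible]
    (hinv : ∀ (g : G) (n : N),
      Y.character ⟨g * n * g⁻¹, hN.conj_mem (n : G) n.2 g⟩ = Y.character n) (g₀ : G) :
    ∃ A : GLd d, (g₀, A) ∈ conjPairs N (MonoidHom.toHomUnits Y) ∧ detHom d A = 1 := by
  classical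
  haveI : Fintype G := Fintype.ofFinite G
  haveI : Fintype N := Fintype.ofFinite N
  have hY'irr : Representation.IsIrreducible
      (MonoidHom.comp Y (MulAut.conjNormal g₀ : N ≃* N).toMonoidHom :
        Representation ℂ N (Fin d → ℂ)) :=
    Helper8.isIrreducible_comp_surjective Y _ (MulEquiv.surjective _) hY
  haveI := hY'irr
  have hchar : Representation.character
      (MonoidHom.comp Y (MulAut.conjNormal g₀ : N ≃* N).toMonoidHom :
      Representation ℂ N (Fin d → ℂ)) = Y.character := by
    funext n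
    rw [Helper8.character_comp]
    have : (MulAut.conjNormal g₀ : N ≃* N).toMonoidHom n =
        ⟨g₀ * n * g₀⁻¹, hN.conj_mem (n : G) n.2 g₀⟩ := by
      apply Subtype.ext
      exact MulAut.conjNormal_apply g₀ n
    rw [this]
    exact hinv g₀ n
  obtain ⟨E⟩ := nonempty_equiv_of_character_eq
    (MonoidHom.comp Y (MulAut.conjNormal g₀ : N ≃* N).toMonoidHom :
      Representation ℂ N (Fin d → ℂ)) Y hchar
  let Yu : N →* GLd d := MonoidHom.toHomUnits Y
  have hYu : ∀ n : N, ((Yu n : GLd d) : Module.End ℂ (Fin d → ℂ)) = Y n := fun n => rfl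
  let A₀ : GLd d := LinearMap.GeneralLinearGroup.ofLinearEquiv E.toLinearEquiv
  have hA₀val : ((A₀ : GLd d) : Module.End ℂ (Fin d → ℂ)) = E.toLinearMap := rfl
  have hA₀ : (g₀, A₀) ∈ conjPairs N Yu := by
    intro n
    rw [eq_mul_inv_iff_mul_eq]
    apply Units.ext
    rw [Units.val_mul, Units.val_mul, hYu, hYu, hA₀val]
    exact (E.isIntertwining' n).symm
  -- normalize the determinant
  have hdpos : 0 < d := by
    have := finrank_pos_of_isIrreducible Y
    rwa [Module.finrank_fin_fun] at this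
  obtain ⟨r, hr⟩ := IsAlgClosed.exists_pow_nat_eq ((detHom d A₀ : ℂˣ) : ℂ)⁻¹ hdpos
  have hr0 : r ≠ 0 := by
    intro h0
    rw [h0, zero_pow hdpos.ne'] at hr
    exact inv_ne_zero (Units.ne_zero _) hr.symm
  refine ⟨scalarHom d (Units.mk0 r hr0) * A₀, ?_, ?_⟩
  · have hR : ((1 : G), scalarHom d (Units.mk0 r hr0)) ∈ conjPairs N Yu := by
      intro n
      simp only [map_one, MulAut.one_apply]
      rw [scalarHom_comm, mul_inv_cancel_right]
    have := (conjPairs N Yu).mul_mem hR hA₀
    rwa [Prod.mk_mul_mk, one_mul] at this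
  · rw [map_mul, detHom_scalarHom]
    apply Units.ext
    rw [Units.val_mul, Units.val_pow_eq_pow_val, Units.val_mk0, hr, Units.val_one]
    exact inv_mul_cancel₀ (Units.ne_zero _)

/-- The finite central extension. -/
noncomputable def liftGroup (Y : N →* GLd d) (k : ℕ) : Subgroup (G × GLd d) :=
  conjPairs N Y ⊓ ((powMonoidHom k).comp ((detHom d).comp (MonoidHom.snd G (GLd d)))).ker

theorem mem_liftGroup (Y : N →* GLd d) (k : ℕ) (p : G × GLd d) :
    p ∈ liftGroup N Y k ↔ p ∈ conjPairs N Y ∧ (detHom d p.2) ^ k = 1 := by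
  unfold liftGroup
  rw [Subgroup.mem_inf, MonoidHom.mem_ker]
  rfl

/-- The projection of the extension onto `G`. -/
noncomputable def liftProj (Y : N →* GLd d) (k : ℕ) : liftGroup N Y k →* G :=
  (MonoidHom.fst G (GLd d)).comp (liftGroup N Y k).subtype

theorem liftProj_apply (Y : N →* GLd d) (k : ℕ) (γ : liftGroup N Y k) :
    liftProj N Y k γ = (γ : G × GLd d).1 := rfl

section Group

variable (Y : Representation ℂ N (Fin d → ℂ)) (k : ℕ)

/-- The projection is surjective for invariant irreducible `Y`. -/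
theorem liftProj_surjective [Finite G] [hY : Y.IsIrreducible]
    (hinv : ∀ (g : G) (n : N),
      Y.character ⟨g * n * g⁻¹, hN.conj_mem (n : G) n.2 g⟩ = Y.character n) :
    Function.Surjective (liftProj N (MonoidHom.toHomUnits Y) k) := by
  intro g
  obtain ⟨A, hA, hdet⟩ := exists_mem_conjPairs N Y hinv g
  refine ⟨⟨(g, A), ?_⟩, rfl⟩
  rw [mem_liftGroup]
  exact ⟨hA, by rw [hdet, one_pow]⟩

/-- Elements of the kernel of the projection are scalar. -/
theorem exists_scalar_of_mem_ker [hY : Y.IsIrreducible]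
    (γ : liftGroup N (MonoidHom.toHomUnits Y) k)
    (hγ : γ ∈ (liftProj N (MonoidHom.toHomUnits Y) k).ker) :
    ∃ c : ℂˣ, (γ : G × GLd d) = (1, scalarHom d c) ∧ c ^ (d * k) = 1 := by
  rw [MonoidHom.mem_ker, liftProj_apply] at hγ
  have hmem := (mem_liftGroup N _ k _).mp γ.2
  have h1 : ((1 : G), (γ : G × GLd d).2) ∈ conjPairs N (MonoidHom.toHomUnits Y) := by
    rw [← hγ]
    exact hmem.1
  obtain ⟨c, hc⟩ := exists_scalar_of_one_mem_conjPairs N Y _ h1
  refine ⟨c, Prod.ext hγ hc, ?_⟩
  have h2 := hmem.2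
  rw [hc, detHom_scalarHom, ← pow_mul] at h2
  exact h2

/-- The kernel of the projection is central. -/
theorem ker_liftProj_le_center [hY : Y.IsIrreducible] :
    (liftProj N (MonoidHom.toHomUnits Y) k).ker ≤
      Subgroup.center (liftGroup N (MonoidHom.toHomUnits Y) k) := by
  intro γ hγ
  obtain ⟨c, hc, -⟩ := exists_scalar_of_mem_ker N Y k γ hγ
  rw [Subgroup.mem_center_iff]
  intro δ
  apply Subtype.ext
  rw [Subgroup.coe_mul, Subgroup.coe_mul, hc]
  apply Prod.ext
  · simp
  · show (δ : G × GLd d).2 * scalarHom d c = scalarHom d c * (δ : G × GLd d).2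
    rw [scalarHom_comm]

/-- The extension is finite. -/
theorem finite_liftGroup [Finite G] [hY : Y.IsIrreducible] (hk : 0 < k) :
    Finite (liftGroup N (MonoidHom.toHomUnits Y) k) := by
  have hdpos : 0 < d := by
    have := finrank_pos_of_isIrreducible Y
    rwa [Module.finrank_fin_fun] at this
  haveI : NeZero (d * k) := ⟨(Nat.mul_pos hdpos hk).ne'⟩
  set f := liftProj N (MonoidHom.toHomUnits Y) k with hf
  have hker : (f.ker : Set (liftGroup N (MonoidHom.toHomUnits Y) k)).Finite := by
    have hfin : ((fun c : ℂˣ => scalarHom d c) '' (rootsOfUnity (d * k) ℂ : Set ℂˣ)).Finite :=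
      Set.Finite.image _ (Set.finite_coe_iff.mp
        (inferInstanceAs (Finite (rootsOfUnity (d * k) ℂ))))
    refine Set.Finite.of_finite_image
      (f := fun γ : liftGroup N (MonoidHom.toHomUnits Y) k => (γ : G × GLd d).2)
      (hfin.subset ?_) ?_
    · rintro _ ⟨γ, hγ, rfl⟩
      obtain ⟨c, hc, hck⟩ := exists_scalar_of_mem_ker N Y k γ hγ
      refine ⟨c, ?_, ?_⟩
      · rw [SetLike.mem_coe, mem_rootsOfUnity]
        exact hck
      · show scalarHom d c = (γ : G × GLd d).2
        rw [hc]
    · intro γ hγ δ hδ h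
      apply Subtype.ext
      apply Prod.ext
      · have h1 := MonoidHom.mem_ker.mp hγ
        have h2 := MonoidHom.mem_ker.mp hδ
        rw [liftProj_apply] at h1 h2
        rw [h1, h2]
      · exact h
  haveI : Finite f.ker := hker
  haveI : Finite (liftGroup N (MonoidHom.toHomUnits Y) k ⧸ f.ker) :=
    Finite.of_equiv _ (QuotientGroup.quotientKerEquivRange f).symm.toEquiv
  exact Finite.of_equiv _ (Subgroup.groupEquivQuotientProdSubgroup (s := f.ker)).symm

/-- The embedding of `N` in the extension. -/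
noncomputable def liftIncl (hk : ∀ n : N, n ^ k = 1) :
    N →* liftGroup N (MonoidHom.toHomUnits Y) k where
  toFun n := ⟨((n : G), MonoidHom.toHomUnits Y n), by
    rw [mem_liftGroup]
    refine ⟨mem_conjPairs_of_mem N _ n, ?_⟩
    show (detHom d (MonoidHom.toHomUnits Y n)) ^ k = 1
    rw [← map_pow, ← map_pow, hk n, map_one, map_one]⟩
  map_one' := by
    apply Subtype.ext
    simp
  map_mul' a b := by
    apply Subtype.ext
    simp

theorem liftIncl_apply (hk : ∀ n : N, n ^ k = 1) (n : N) :
    (liftIncl N Y k hk n : G × GLd d) = ((n : G), MonoidHom.toHomUnits Y n) := rfl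

theorem liftIncl_injective (hk : ∀ n : N, n ^ k = 1) : Function.Injective (liftIncl N Y k hk) := by
  intro a b h
  have h1 := congrArg (fun γ : liftGroup N (MonoidHom.toHomUnits Y) k => (γ : G × GLd d).1) h
  exact Subtype.ext h1

/-- The image of `N` is normal. -/
theorem liftIncl_range_normal (hk : ∀ n : N, n ^ k = 1) : (liftIncl N Y k hk).range.Normal := by
  constructor
  rintro _ ⟨n, rfl⟩ γ
  have hγ := ((mem_liftGroup N _ k _).mp γ.2).1
  refine ⟨MulAut.conjNormal (γ : G × GLd d).1 n, ?_⟩
  apply Subtype.ext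
  rw [liftIncl_apply, Subgroup.coe_mul, Subgroup.coe_mul, liftIncl_apply, Subgroup.coe_inv]
  apply Prod.ext
  · show ((MulAut.conjNormal (γ : G × GLd d).1 n : N) : G) = _
    rw [MulAut.conjNormal_apply]
    rfl
  · show MonoidHom.toHomUnits Y (MulAut.conjNormal (γ : G × GLd d).1 n) = _
    rw [hγ n]
    rfl

/-- The preimage of `N` is generated by the kernel and the image of `N`. -/
theorem exists_ker_mul_liftIncl (hk : ∀ n : N, n ^ k = 1)
    (γ : liftGroup N (MonoidHom.toHomUnits Y) k)
    (hγ : liftProj N (MonoidHom.toHomUnits Y) k γ ∈ N) :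
    ∃ z ∈ (liftProj N (MonoidHom.toHomUnits Y) k).ker, ∃ n : N, γ = z * liftIncl N Y k hk n := by
  refine ⟨γ * (liftIncl N Y k hk ⟨_, hγ⟩)⁻¹, ?_, ⟨_, hγ⟩, ?_⟩
  · rw [MonoidHom.mem_ker, map_mul, map_inv]
    have : liftProj N (MonoidHom.toHomUnits Y) k (liftIncl N Y k hk ⟨_, hγ⟩) =
        liftProj N (MonoidHom.toHomUnits Y) k γ := rfl
    rw [this, mul_inv_cancel]
  · rw [inv_mul_cancel_right]

/-- The tautological representation of the extension. -/
noncomputable def liftRep : Representation ℂ (liftGroup N (MonoidHom.toHomUnits Y) k) (Fin d → ℂ) :=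
  (Units.coeHom (Module.End ℂ (Fin d → ℂ))).comp
    ((MonoidHom.snd G (GLd d)).comp (liftGroup N (MonoidHom.toHomUnits Y) k).subtype)

theorem liftRep_liftIncl (hk : ∀ n : N, n ^ k = 1) (n : N) :
    liftRep N Y k (liftIncl N Y k hk n) = Y n := rfl

end Group

end ProjLift

section Main

variable {G : Type u} [Group G] [Fintype G] (N : Subgroup G) [hN : N.Normal] [Fintype N]

/-- If `ϑ ∈ Irr(N)` is `G`-invariant and `χ ∈ Irr(G)` lies over `ϑ`, then `χ(1) = e ϑ(1)` with
`e` dividing `|G : N|`. -/
theorem degree_ratio_dvd_index_of_invariant (χ : G → ℂ) (hχ : IsIrrCharacter G χ) (ϑ : N → ℂ)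
    (hϑ : IsIrrCharacter N ϑ)
    (hinv : ∀ (g : G) (n : N), ϑ ⟨g * n * g⁻¹, hN.conj_mem (n : G) n.2 g⟩ = ϑ n)
    (hcon : classInner (fun n : N => χ n) ϑ ≠ 0) :
    ∃ e : ℕ, χ 1 = e * ϑ 1 ∧ e ∣ N.index := by
  classical
  obtain ⟨d, Y, hY, hYϑ⟩ := hϑ
  haveI := hY
  subst hYϑ
  obtain ⟨k, hkdef⟩ : ∃ k : ℕ, k = Nat.card N := ⟨_, rfl⟩
  have hk : ∀ n : N, n ^ k = 1 := fun n => by rw [hkdef]; exact pow_card_eq_one'
  have hkpos : 0 < k := by rw [hkdef]; exact Nat.card_pos
  haveI : Finite (liftGroup N (MonoidHom.toHomUnits Y) k) := finite_liftGroup N Y k hkpos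
  haveI : Fintype (liftGroup N (MonoidHom.toHomUnits Y) k) := Fintype.ofFinite _
  have hp : Function.Surjective (liftProj N (MonoidHom.toHomUnits Y) k) :=
    liftProj_surjective N Y k hinv
  haveI hNn : (liftIncl N Y k hk).range.Normal := liftIncl_range_normal N Y k hk
  haveI : Fintype (liftIncl N Y k hk).range := Fintype.ofFinite _
  -- the isomorphism of `N` with its image
  let e : N ≃* (liftIncl N Y k hk).range := MonoidHom.ofInjective (liftIncl_injective N Y k hk)
  have he : ∀ n : N, ((e n : (liftIncl N Y k hk).range) :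
      liftGroup N (MonoidHom.toHomUnits Y) k) = liftIncl N Y k hk n := fun n => rfl
  -- the characters of the extension
  have hπirr : IsIrrCharacter (liftGroup N (MonoidHom.toHomUnits Y) k)
      (liftRep N Y k).character := by
    refine isIrrCharacter_of_comp_irr (liftIncl N Y k hk) ⟨d, liftRep N Y k, rfl⟩ ?_
    exact ⟨d, Y, hY, rfl⟩
  have hχ'irr : IsIrrCharacter (liftGroup N (MonoidHom.toHomUnits Y) k)
      (fun γ => χ (liftProj N (MonoidHom.toHomUnits Y) k γ)) :=
    Helper8.isIrrCharacter_comp_surjective _ hp hχ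
  have hπN : IsIrrCharacter (liftIncl N Y k hk).range
      (fun n : (liftIncl N Y k hk).range => (liftRep N Y k).character n) := by
    have h1 := Helper8.isIrrCharacter_comp_surjective e.symm.toMonoidHom e.symm.surjective
      (⟨d, Y, hY, rfl⟩ : IsIrrCharacter N Y.character)
    convert h1 using 1
    funext n
    obtain ⟨m, rfl⟩ := e.surjective n
    show (liftRep N Y k).character (liftIncl N Y k hk m) = Y.character (e.symm (e m))
    rw [MulEquiv.symm_apply_apply]
    rfl
  have hcon' : classInner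
      (fun n : (liftIncl N Y k hk).range => χ (liftProj N (MonoidHom.toHomUnits Y) k n))
      (fun n : (liftIncl N Y k hk).range => (liftRep N Y k).character n) ≠ 0 := by
    rw [← classInner_comp_mulEquiv e]
    exact hcon
  obtain ⟨β, hβ⟩ := exists_gallagherTwist_eq (liftIncl N Y k hk).range
    ⟨(liftRep N Y k).character, hπirr⟩ hπN
    ⟨fun γ => χ (liftProj N (MonoidHom.toHomUnits Y) k γ), hχ'irr⟩ hcon'
  obtain ⟨m, ρ, hρ, hρβ⟩ := β.2
  haveI := hρ
  refine ⟨m, ?_, ?_⟩
  · have h1 := congrFun hβ 1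
    simp only [gallagherTwist] at h1
    rw [map_one] at h1
    rw [h1, ← hρβ, QuotientGroup.mk_one, Representation.char_one, Module.finrank_fin_fun,
      Representation.char_one, Representation.char_one]
  · -- the subgroup acting by scalars
    have hscal : ∀ b ∈ Subgroup.map (QuotientGroup.mk' (liftIncl N Y k hk).range)
        (N.comap (liftProj N (MonoidHom.toHomUnits Y) k)),
        ∃ c : ℂ, ρ b = c • (LinearMap.id : (Fin m → ℂ) →ₗ[ℂ] (Fin m → ℂ)) := by
      rintro _ ⟨γ, hγ, rfl⟩
      obtain ⟨z, hz, n, rfl⟩ := exists_ker_mul_liftIncl N Y k hk γ hγ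
      have hzc := ker_liftProj_le_center N Y k hz
      have hmk : QuotientGroup.mk' (liftIncl N Y k hk).range (z * liftIncl N Y k hk n) =
          QuotientGroup.mk' (liftIncl N Y k hk).range z := by
        rw [map_mul]
        have : QuotientGroup.mk' (liftIncl N Y k hk).range (liftIncl N Y k hk n) = 1 := by
          rw [QuotientGroup.mk'_apply, QuotientGroup.eq_one_iff]
          exact ⟨n, rfl⟩
        rw [this, mul_one]
      rw [hmk]
      apply exists_scalar_of_commute ρ
      intro x
      obtain ⟨x', rfl⟩ := QuotientGroup.mk'_surjective (liftIncl N Y k hk).range x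
      have hcomm := (Subgroup.mem_center_iff.mp hzc) x'
      show ρ (QuotientGroup.mk' _ z) * ρ (QuotientGroup.mk' _ x') =
        ρ (QuotientGroup.mk' _ x') * ρ (QuotientGroup.mk' _ z)
      rw [← map_mul, ← map_mul, ← map_mul, ← map_mul, hcomm]
    have h1 := finrank_dvd_index_of_scalar ρ _ hscal
    rw [Module.finrank_fin_fun] at h1
    have h2 : (Subgroup.map (QuotientGroup.mk' (liftIncl N Y k hk).range)
        (N.comap (liftProj N (MonoidHom.toHomUnits Y) k))).index = N.index := by
      rw [Subgroup.index_map_eq _ (QuotientGroup.mk'_surjective _),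
        Subgroup.index_comap_of_surjective _ hp]
      rw [QuotientGroup.ker_mk']
      rintro _ ⟨n, rfl⟩
      exact n.2
    rw [h2] at h1
    exact h1

end Main

end Cfsg.Agent.Helper24
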