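import Mathlib
import Cfsg.Prelude.Def_Characters
import Cfsg.Agent.Helper24.ProjLift
import Cfsg.Agent.Helper24.CliffordCorr
import Cfsg.Agent.Helper5.IndFun

/-!
`χ(1)/ϑ(1)` divides `|G : N|` for `χ ∈ Irr(G)` lying over `ϑ ∈ Irr(N)`, `N` normal in `G`.
-/

namespace Cfsg.Agent.Helper24

universe u

open Representation

section DegreeRatio

variable {G : Type u} [Group G] [Fintype G]

/-- Existence part of the Clifford correspondence, with the constituent information. -/
theorem exists_irr_inertia_over (A : Subgroup G) [hA : A.Normal]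
    (χ : G → ℂ) (hχ : IsIrrCharacter G χ) (lam : A → ℂ) (hlamirr : IsIrrCharacter A lam)
    [Fintype A] (hlam : classInner (fun a : A => χ a) lam ≠ 0)
    [Fintype (inertiaSubgroup A lam)] [Fintype (A.subgroupOf (inertiaSubgroup A lam))] :
    ∃ ψ : inertiaSubgroup A lam → ℂ, IsIrrCharacter (inertiaSubgroup A lam) ψ ∧
      indFun (inertiaSubgroup A lam) ψ = χ ∧
      classInner (fun n : A.subgroupOf (inertiaSubgroup A lam) => ψ n)
        (Helper8.toSubgroupOf A (inertiaSubgroup A lam) lam) ≠ 0 := by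
  classical
  have hχc : IsCharacter G χ := IsIrrCharacter.isCharacter hχ
  have hχcf : IsClassFunction G χ := IsCharacter.isClassFunction hχc
  have hlamc : IsCharacter A lam := IsIrrCharacter.isCharacter hlamirr
  haveI : Fintype (IrrCharacter (inertiaSubgroup A lam)) := Fintype.ofFinite _
  have hT : ∀ g : G, g ∈ inertiaSubgroup A lam ↔ ∀ h : A,
      lam ⟨g * h * g⁻¹, hA.conj_mem h h.2 g⟩ = lam h :=
    mem_inertiaSubgroup A _
  have hAT : A ≤ inertiaSubgroup A lam :=
    le_inertiaSubgroup A _ (IsCharacter.isClassFunction hlamc)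
  have hlam'irr : IsIrrCharacter (A.subgroupOf (inertiaSubgroup A lam))
      (Helper8.toSubgroupOf A (inertiaSubgroup A lam) lam) :=
    Helper8.isIrrCharacter_comp_surjective (Subgroup.subgroupOfEquivOfLe hAT).toMonoidHom
      (Subgroup.subgroupOfEquivOfLe hAT).surjective hlamirr
  have hΦc : IsCharacter (inertiaSubgroup A lam)
      (indFun (A.subgroupOf (inertiaSubgroup A lam))
        (Helper8.toSubgroupOf A (inertiaSubgroup A lam) lam)) :=
    isCharacter_indFun _ (IsIrrCharacter.isCharacter hlam'irr)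
  have hχT : IsCharacter (inertiaSubgroup A lam) (fun t : inertiaSubgroup A lam => χ t) :=
    Helper8.isCharacter_restrict (inertiaSubgroup A lam) hχc
  have h1 : classInner (indFun (A.subgroupOf (inertiaSubgroup A lam))
      (Helper8.toSubgroupOf A (inertiaSubgroup A lam) lam))
      (fun t : inertiaSubgroup A lam => χ t) ≠ 0 := by
    rw [Helper8.frobenius_reciprocity (A.subgroupOf (inertiaSubgroup A lam)) _
      (fun t : inertiaSubgroup A lam => χ t) (IsCharacter.isClassFunction hχT)]
    have : classInner (Helper8.toSubgroupOf A (inertiaSubgroup A lam) lam)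
        (fun n : A.subgroupOf (inertiaSubgroup A lam) =>
          χ ((n : inertiaSubgroup A lam) : G)) =
        classInner lam (fun a : A => χ a) := by
      unfold classInner
      rw [Helper8.card_subgroupOf_of_le hAT]
      congr 1
      exact Fintype.sum_equiv (Subgroup.subgroupOfEquivOfLe hAT).toEquiv _ _ (fun n => rfl)
    rw [this, ← classInner_conj_symm]
    exact (map_ne_zero _).mpr hlam
  obtain ⟨ψ, hψΦ, hψχ⟩ : ∃ ψ : IrrCharacter (inertiaSubgroup A lam),
      classInner (indFun (A.subgroupOf (inertiaSubgroup A lam))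
        (Helper8.toSubgroupOf A (inertiaSubgroup A lam) lam))
        (ψ : inertiaSubgroup A lam → ℂ) ≠ 0 ∧
      classInner (fun t : inertiaSubgroup A lam => χ t)
        (ψ : inertiaSubgroup A lam → ℂ) ≠ 0 := by
    by_contra hcon
    push Not at hcon
    apply h1
    have e1 := IsCharacter.eq_sum_classInner hΦc
    have e2 := IsCharacter.eq_sum_classInner hχT
    rw [e1, e2, classInner_sum_sum]
    apply Finset.sum_eq_zero
    intro ψ _
    by_cases h : classInner (indFun (A.subgroupOf (inertiaSubgroup A lam))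
        (Helper8.toSubgroupOf A (inertiaSubgroup A lam) lam))
        (ψ : inertiaSubgroup A lam → ℂ) = 0
    · rw [h, zero_mul]
    · rw [hcon ψ h, map_zero, mul_zero]
  have hirr : IsIrrCharacter G (indFun (inertiaSubgroup A lam)
      (ψ : inertiaSubgroup A lam → ℂ)) :=
    (Cfsg.Agent.S1489.result A (inertiaSubgroup A lam) lam hlamirr hT hAT
      (ψ : inertiaSubgroup A lam → ℂ) (ψ : inertiaSubgroup A lam → ℂ) ψ.2 ψ.2
      hψΦ hψΦ).1
  refine ⟨ψ, ψ.2, ?_, ?_⟩
  · by_contra hne
    have := classInner_of_isIrrCharacter hirr hχ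
    rw [if_neg hne, Helper8.frobenius_reciprocity (inertiaSubgroup A lam) _ χ hχcf] at this
    apply hψχ
    rw [← classInner_conj_symm, this, map_zero]
  · rw [Helper8.frobenius_reciprocity (A.subgroupOf (inertiaSubgroup A lam)) _ _
      (isClassFunction_irr ψ)] at hψΦ
    rw [← classInner_conj_symm]
    exact (map_ne_zero _).mpr hψΦ

/-- `χ(1)/ϑ(1)` divides `|G : N|` (statement S0887). -/
theorem degree_ratio_dvd_index (N : Subgroup G) [hN : N.Normal] [Fintype N] (χ : G → ℂ)
    (hχ : IsIrrCharacter G χ) (ϑ : N → ℂ) (hϑ : IsIrrCharacter N ϑ)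
    (hcon : classInner (fun n : N => χ n) ϑ ≠ 0) :
    ∃ e : ℕ, χ 1 = e * ϑ 1 ∧ e ∣ N.index := by
  classical
  haveI : Fintype (inertiaSubgroup N ϑ) := Fintype.ofFinite _
  haveI : Fintype (N.subgroupOf (inertiaSubgroup N ϑ)) := Fintype.ofFinite _
  have hϑcf : IsClassFunction N ϑ := IsCharacter.isClassFunction (IsIrrCharacter.isCharacter hϑ)
  have hNT : N ≤ inertiaSubgroup N ϑ := le_inertiaSubgroup N _ hϑcf
  obtain ⟨ψ, hψ, hind, hover⟩ := exists_irr_inertia_over N χ hχ ϑ hϑ hcon
  have hϑ'irr : IsIrrCharacter (N.subgroupOf (inertiaSubgroup N ϑ))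
      (Helper8.toSubgroupOf N (inertiaSubgroup N ϑ) ϑ) :=
    Helper8.isIrrCharacter_comp_surjective (Subgroup.subgroupOfEquivOfLe hNT).toMonoidHom
      (Subgroup.subgroupOfEquivOfLe hNT).surjective hϑ
  haveI : (N.subgroupOf (inertiaSubgroup N ϑ)).Normal := Subgroup.normal_subgroupOf
  have hinv : ∀ (t : inertiaSubgroup N ϑ) (n : N.subgroupOf (inertiaSubgroup N ϑ)),
      Helper8.toSubgroupOf N (inertiaSubgroup N ϑ) ϑ
        ⟨t * n * t⁻¹, Subgroup.Normal.conj_mem inferInstance
          (n : inertiaSubgroup N ϑ) n.2 t⟩ =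
      Helper8.toSubgroupOf N (inertiaSubgroup N ϑ) ϑ n := by
    intro t n
    have h1 := (mem_inertiaSubgroup N ϑ t).mp t.2
      ⟨((n : inertiaSubgroup N ϑ) : G), Subgroup.mem_subgroupOf.mp n.2⟩
    exact h1
  obtain ⟨e, he1, he2⟩ := degree_ratio_dvd_index_of_invariant
    (N.subgroupOf (inertiaSubgroup N ϑ)) ψ hψ _ hϑ'irr hinv hover
  refine ⟨(inertiaSubgroup N ϑ).index * e, ?_, ?_⟩
  · rw [← hind, Helper5.indFun_apply_one, he1]
    have : Helper8.toSubgroupOf N (inertiaSubgroup N ϑ) ϑ 1 = ϑ 1 := rfl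
    rw [this]
    push_cast
    ring
  · rw [← Subgroup.relIndex_mul_index hNT, mul_comm]
    exact Nat.mul_dvd_mul_right he2 _

end DegreeRatio

end Cfsg.Agent.Helper24
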