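import Mathlib
import Cfsg.Agent.Helper24.ColumnOrth

set_option autoImplicit false

/-!
Piece (PG) of the defect-one cluster: the Gram formula from column orthogonality and control of
fusion.
-/

namespace Cfsg.Agent.Helper24.D1PG

open Cfsg Cfsg.Agent.Helper24

section Fiber

variable {G : Type*} [Group G] [Fintype G]

/-- The number of `g` with `g c g⁻¹ = x` is `|C_G(c)|` if `x` is conjugate to `c`, else `0`. -/
theorem card_conj_fiber (c x : G) [DecidablePred (fun g : G => g * c * g⁻¹ = x)] :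
    ((Finset.univ.filter (fun g : G => g * c * g⁻¹ = x)).card : ℂ) =
      (Nat.card (Subgroup.centralizer ({c} : Set G)) : ℂ) * classIndicator c x := by
  classical
  by_cases hx : IsConj c x
  · rw [classIndicator_of_isConj hx, mul_one]
    obtain ⟨g₀, hg₀⟩ := isConj_iff.mp hx
    have hset : Finset.univ.filter (fun g : G => g * c * g⁻¹ = x) =
        (Finset.univ.filter (fun z : G => z ∈ Subgroup.centralizer ({c} : Set G))).map
          (mulLeftEmbedding g₀) := by
      ext g
      simp only [Finset.mem_filter, Finset.mem_univ, true_and, Finset.mem_map,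
        mulLeftEmbedding_apply]
      constructor
      · intro hg
        refine ⟨g₀⁻¹ * g, ?_, by group⟩
        rw [Subgroup.mem_centralizer_iff]
        intro y hy
        rw [Set.mem_singleton_iff] at hy
        subst hy
        have h1 : g * y * g⁻¹ = g₀ * y * g₀⁻¹ := by rw [hg, hg₀]
        have h2 : y * (g₀⁻¹ * g) = g₀⁻¹ * (g₀ * y * g₀⁻¹) * g := by group
        rw [h2, ← h1]
        group
      · rintro ⟨z, hz, rfl⟩
        rw [Subgroup.mem_centralizer_iff] at hz
        have h1 := hz c rfl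
        rw [← hg₀]
        have h2 : g₀ * z * c * (g₀ * z)⁻¹ = g₀ * (z * c) * z⁻¹ * g₀⁻¹ := by group
        rw [h2, ← h1]
        group
    rw [hset, Finset.card_map, Nat.card_eq_fintype_card, Fintype.card_subtype]
  · rw [classIndicator_of_not_isConj hx, mul_zero]
    have : Finset.univ.filter (fun g : G => g * c * g⁻¹ = x) = ∅ := by
      rw [Finset.filter_eq_empty_iff]
      intro g _ hg
      exact hx (isConj_iff.mpr ⟨g, hg⟩)
    rw [this, Finset.card_empty, Nat.cast_zero]

/-- Summing a function over the conjugates `g c g⁻¹`, `g ∈ G`. -/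
theorem sum_conj_eq (c : G) (F : G → ℂ) :
    ∑ g : G, F (g * c * g⁻¹) =
      (Nat.card (Subgroup.centralizer ({c} : Set G)) : ℂ) * ∑ x : G, classIndicator c x * F x := by
  classical
  rw [← Finset.sum_fiberwise (s := Finset.univ) (g := fun g : G => g * c * g⁻¹)
    (f := fun g => F (g * c * g⁻¹)), Finset.mul_sum]
  refine Finset.sum_congr rfl ?_
  intro x _
  have h1 : ∑ g ∈ Finset.univ.filter (fun g : G => g * c * g⁻¹ = x), F (g * c * g⁻¹) =
      ∑ _g ∈ Finset.univ.filter (fun g : G => g * c * g⁻¹ = x), F x := by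
    refine Finset.sum_congr rfl ?_
    intro g hg
    rw [(Finset.mem_filter.mp hg).2]
  rw [h1, Finset.sum_const, nsmul_eq_mul, card_conj_fiber, mul_assoc]

end Fiber

/-- (PG) Gram formula from column orthogonality and fusion control -/
theorem gram_of_ti {G : Type*} [Group G] [Fintype G] [Fintype (IrrCharacter G)] (C N : Subgroup G)
    [Fintype C] [Fintype N]
    (hnorm : ∀ n ∈ N, ∀ c ∈ C, n * c * n⁻¹ ∈ C) (A : Set G)
    (hti : ∀ a ∈ A, ∀ g : G, g * a * g⁻¹ ∈ C → g ∈ N)
    (φ φ' : G → ℂ) (hφA : ∀ g, g ∉ A → φ g = 0) :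
    ∑ χ : IrrCharacter G,
      ((Nat.card C : ℂ)⁻¹ * ∑ c : C, (χ : G → ℂ) c * (starRingEnd ℂ) (φ c)) *
        (starRingEnd ℂ) ((Nat.card C : ℂ)⁻¹ * ∑ c : C, (χ : G → ℂ) c * (starRingEnd ℂ) (φ' c)) =
    (Nat.card C : ℂ)⁻¹ * ∑ n : N, ((Nat.card C : ℂ)⁻¹ *
      ∑ c : C, φ' ((n : G) * (c : G) * (n : G)⁻¹) * (starRingEnd ℂ) (φ c)) := by
  classical
  -- the key identity for a single `c ∈ C`
  have key : ∀ c : C, (starRingEnd ℂ) (φ c) *
      ∑ c' : C, φ' c' * ∑ χ : IrrCharacter G, (χ : G → ℂ) c * (starRingEnd ℂ) ((χ : G → ℂ) c') =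
      (starRingEnd ℂ) (φ c) * ∑ n : N, φ' ((n : G) * (c : G) * (n : G)⁻¹) := by
    intro c
    by_cases hcA : (c : G) ∈ A
    · congr 1
      -- both sides equal `∑ g, [g c g⁻¹ ∈ C] φ'(g c g⁻¹)`
      have h1 : ∑ n : N, φ' ((n : G) * (c : G) * (n : G)⁻¹) =
          ∑ g : G, (if g * (c : G) * g⁻¹ ∈ C then φ' (g * (c : G) * g⁻¹) else 0) := by
        rw [← Finset.sum_subtype (Finset.univ.filter (fun g : G => g ∈ N))
          (by intro g; simp) (fun g => φ' (g * (c : G) * g⁻¹)), Finset.sum_filter]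
        refine Finset.sum_congr rfl ?_
        intro g _
        by_cases hg : g ∈ N
        · rw [if_pos hg, if_pos (hnorm g hg c c.2)]
        · rw [if_neg hg, if_neg (fun h => hg (hti c hcA g h))]
      rw [h1, sum_conj_eq (c : G) (fun x => if x ∈ C then φ' x else 0)]
      rw [← Finset.sum_subtype (Finset.univ.filter (fun g : G => g ∈ C))
          (by intro g; simp)
          (fun x => φ' x * ∑ χ : IrrCharacter G, (χ : G → ℂ) c * (starRingEnd ℂ) ((χ : G → ℂ) x)),
        Finset.sum_filter, Finset.mul_sum]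
      refine Finset.sum_congr rfl ?_
      intro x _
      by_cases hxC : x ∈ C
      · rw [if_pos hxC, if_pos hxC, sum_irr_mul_conj]
        by_cases hcx : IsConj (c : G) x
        · rw [if_pos hcx, classIndicator_of_isConj hcx]; ring
        · rw [if_neg hcx, classIndicator_of_not_isConj hcx]; ring
      · rw [if_neg hxC, if_neg hxC]; ring
    · rw [hφA _ hcA, map_zero, zero_mul, zero_mul]
  -- expand both sides
  have hL : ∀ χ : IrrCharacter G,
      ((Nat.card C : ℂ)⁻¹ * ∑ c : C, (χ : G → ℂ) c * (starRingEnd ℂ) (φ c)) *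
        (starRingEnd ℂ) ((Nat.card C : ℂ)⁻¹ * ∑ c : C, (χ : G → ℂ) c * (starRingEnd ℂ) (φ' c)) =
      (Nat.card C : ℂ)⁻¹ * ((Nat.card C : ℂ)⁻¹ * ∑ c : C, ∑ c' : C,
        (starRingEnd ℂ) (φ c) * (φ' c' * ((χ : G → ℂ) c * (starRingEnd ℂ) ((χ : G → ℂ) c')))) := by
    intro χ
    rw [map_mul, map_inv₀, map_natCast, map_sum]
    simp only [map_mul, Complex.conj_conj]
    rw [mul_mul_mul_comm, Finset.sum_mul_sum, mul_assoc]
    congr 2
    refine Finset.sum_congr rfl fun c _ => Finset.sum_congr rfl fun c' _ => ?_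
    ring
  rw [Finset.sum_congr rfl (fun χ _ => hL χ), ← Finset.mul_sum, ← Finset.mul_sum]
  congr 1
  rw [← Finset.mul_sum]
  congr 1
  have hLHS : ∑ χ : IrrCharacter G, ∑ c : C, ∑ c' : C,
      (starRingEnd ℂ) (φ c) * (φ' c' * ((χ : G → ℂ) c * (starRingEnd ℂ) ((χ : G → ℂ) c'))) =
      ∑ c : C, (starRingEnd ℂ) (φ c) * ∑ c' : C, φ' c' *
        ∑ χ : IrrCharacter G, (χ : G → ℂ) c * (starRingEnd ℂ) ((χ : G → ℂ) c') := by
    rw [Finset.sum_comm]
    refine Finset.sum_congr rfl fun c _ => ?_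
    rw [Finset.sum_comm, Finset.mul_sum]
    refine Finset.sum_congr rfl fun c' _ => ?_
    rw [Finset.mul_sum, Finset.mul_sum]
  have hRHS : ∑ n : N, ∑ c : C, φ' ((n : G) * (c : G) * (n : G)⁻¹) * (starRingEnd ℂ) (φ c) =
      ∑ c : C, (starRingEnd ℂ) (φ c) * ∑ n : N, φ' ((n : G) * (c : G) * (n : G)⁻¹) := by
    rw [Finset.sum_comm]
    refine Finset.sum_congr rfl fun c _ => ?_
    rw [Finset.mul_sum]
    exact Finset.sum_congr rfl fun n _ => mul_comm _ _
  rw [hLHS, hRHS]
  exact Finset.sum_congr rfl fun c _ => key c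

end Cfsg.Agent.Helper24.D1PG
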