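import Mathlib

/-!
# Huppert's theorem on solvable transitive linear groups: common definitions

Setting: `q` prime, `V` a finite `ZMod q`-module, `ρ : G →* (V ≃ₗ[ZMod q] V)`.
-/

set_option autoImplicit false

namespace Cfsg.Agent.Helper24.Hup

variable {q : ℕ} [Fact q.Prime] {V : Type*} [AddCommGroup V] [Module (ZMod q) V]
  {G : Type*} [Group G]

/-- `ρ g` as an endomorphism of `V`. -/
abbrev rEnd (ρ : G →* (V ≃ₗ[ZMod q] V)) (g : G) : Module.End (ZMod q) V :=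
  ((ρ g : V ≃ₗ[ZMod q] V) : V →ₗ[ZMod q] V)

/-- The `F_q`-subalgebra of `End(V)` generated by `ρ(H)`. -/
def spanAlg (ρ : G →* (V ≃ₗ[ZMod q] V)) (H : Subgroup G) :
    Subalgebra (ZMod q) (Module.End (ZMod q) V) :=
  Algebra.adjoin (ZMod q) ((fun g => rEnd ρ g) '' (H : Set G))

/-- transitivity on non-zero vectors -/
def Trans (ρ : G →* (V ≃ₗ[ZMod q] V)) : Prop :=
  ∀ v w : V, v ≠ 0 → w ≠ 0 → ∃ g : G, ρ g v = w

/-- A subalgebra `K` of `End(V)` is *good* if it is commutative, normalized by `ρ(G)`, and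
all its non-zero elements are injective. -/
structure Good (ρ : G →* (V ≃ₗ[ZMod q] V)) (K : Subalgebra (ZMod q) (Module.End (ZMod q) V)) :
    Prop where
  comm : ∀ a ∈ K, ∀ b ∈ K, a * b = b * a
  conj : ∀ g : G, ∀ k ∈ K, rEnd ρ g * k * rEnd ρ g⁻¹ ∈ K
  inj : ∀ k ∈ K, k ≠ 0 → Function.Injective k

theorem rEnd_mul (ρ : G →* (V ≃ₗ[ZMod q] V)) (g h : G) : rEnd ρ (g * h) = rEnd ρ g * rEnd ρ h := by
  ext v; simp [rEnd]

theorem rEnd_one (ρ : G →* (V ≃ₗ[ZMod q] V)) : rEnd ρ (1 : G) = 1 := by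
  ext v; simp [rEnd]

theorem rEnd_mul_inv (ρ : G →* (V ≃ₗ[ZMod q] V)) (g : G) : rEnd ρ g * rEnd ρ g⁻¹ = 1 := by
  rw [← rEnd_mul, mul_inv_cancel, rEnd_one]

theorem rEnd_inv_mul (ρ : G →* (V ≃ₗ[ZMod q] V)) (g : G) : rEnd ρ g⁻¹ * rEnd ρ g = 1 := by
  rw [← rEnd_mul, inv_mul_cancel, rEnd_one]

theorem rEnd_mem_spanAlg (ρ : G →* (V ≃ₗ[ZMod q] V)) {H : Subgroup G} {g : G} (hg : g ∈ H) :
    rEnd ρ g ∈ spanAlg ρ H :=
  Algebra.subset_adjoin ⟨g, hg, rfl⟩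

end Cfsg.Agent.Helper24.Hup
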