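import Mathlib
import Cfsg.Agent.Helper24.HupDefs

/-!
# Huppert: invariant commutative subalgebras are fields
-/

set_option autoImplicit false

namespace Cfsg.Agent.Helper24.Hup

variable {q : ℕ} [Fact q.Prime] {V : Type*} [AddCommGroup V] [Module (ZMod q) V]
  {G : Type*} [Group G]

/-- `K`-invariant subspaces -/
def Inv (K : Subalgebra (ZMod q) (Module.End (ZMod q) V)) (W : Submodule (ZMod q) V) : Prop :=
  ∀ k ∈ K, ∀ w ∈ W, k w ∈ W

/-- minimal non-zero `K`-invariant subspaces -/
def MinInv (K : Subalgebra (ZMod q) (Module.End (ZMod q) V)) (W : Submodule (ZMod q) V) : Prop :=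
  Inv K W ∧ W ≠ ⊥ ∧ ∀ W' : Submodule (ZMod q) V, Inv K W' → W' ≤ W → W' = ⊥ ∨ W' = W

theorem exists_minInv [Finite V] [Nontrivial V] (K : Subalgebra (ZMod q) (Module.End (ZMod q) V)) :
    ∃ W, MinInv K W := by
  classical
  have hex : ∃ n : ℕ, ∃ W : Submodule (ZMod q) V, Inv K W ∧ W ≠ ⊥ ∧ Nat.card W = n :=
    ⟨_, ⊤, fun _ _ _ _ => Submodule.mem_top, top_ne_bot, rfl⟩
  obtain ⟨W, hW, hne, hcard⟩ := Nat.find_spec hex
  refine ⟨W, hW, hne, fun W' hW' hle => ?_⟩
  by_cases h0 : W' = ⊥
  · exact Or.inl h0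
  · right
    have h1 : Nat.find hex ≤ Nat.card W' := Nat.find_min' hex ⟨W', hW', h0, rfl⟩
    rw [← hcard] at h1
    have h2 : Nat.card W' ≤ Nat.card W :=
      Nat.card_le_card_of_injective (Submodule.inclusion hle) (Submodule.inclusion_injective hle)
    have h3 : Nat.card W' = Nat.card W := le_antisymm h2 h1
    apply le_antisymm hle
    intro w hw
    have hbij : Function.Bijective (Submodule.inclusion hle) := by
      rw [Nat.bijective_iff_injective_and_card]
      exact ⟨Submodule.inclusion_injective hle, h3⟩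
    obtain ⟨⟨w', hw'⟩, hww⟩ := hbij.2 ⟨w, hw⟩
    have : w' = w := congrArg Subtype.val hww
    rw [← this]; exact hw'

/-- the cyclic `K`-submodule generated by `w` -/
def cyc (K : Subalgebra (ZMod q) (Module.End (ZMod q) V)) (w : V) : Submodule (ZMod q) V :=
  (K.toSubmodule).map ((LinearMap.applyₗ w : (V →ₗ[ZMod q] V) →ₗ[ZMod q] V))

theorem mem_cyc {K : Subalgebra (ZMod q) (Module.End (ZMod q) V)} {w v : V} :
    v ∈ cyc K w ↔ ∃ k ∈ K, k w = v := by
  unfold cyc
  simp [Submodule.mem_map]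

theorem self_mem_cyc (K : Subalgebra (ZMod q) (Module.End (ZMod q) V)) (w : V) : w ∈ cyc K w :=
  mem_cyc.2 ⟨1, K.one_mem, rfl⟩

theorem inv_cyc (K : Subalgebra (ZMod q) (Module.End (ZMod q) V)) (w : V) : Inv K (cyc K w) := by
  intro k hk v hv
  obtain ⟨k', hk', rfl⟩ := mem_cyc.1 hv
  exact mem_cyc.2 ⟨k * k', K.mul_mem hk hk', rfl⟩

theorem cyc_eq_of_minInv {K : Subalgebra (ZMod q) (Module.End (ZMod q) V)}
    {W : Submodule (ZMod q) V} (hW : MinInv K W) {w : V} (hw : w ∈ W) (hw0 : w ≠ 0) :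
    cyc K w = W := by
  have hle : cyc K w ≤ W := by
    intro v hv
    obtain ⟨k, hk, rfl⟩ := mem_cyc.1 hv
    exact hW.1 k hk w hw
  rcases hW.2.2 _ (inv_cyc K w) hle with h | h
  · exfalso
    have := self_mem_cyc K w
    rw [h, Submodule.mem_bot] at this
    exact hw0 this
  · exact h

variable (ρ : G →* (V ≃ₗ[ZMod q] V))

theorem minInv_map {K : Subalgebra (ZMod q) (Module.End (ZMod q) V)}
    (hconj : ∀ g : G, ∀ k ∈ K, rEnd ρ g * k * rEnd ρ g⁻¹ ∈ K)
    {W : Submodule (ZMod q) V} (hW : MinInv K W) (g : G) :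
    MinInv K (W.map (rEnd ρ g)) := by
  have hinv : ∀ (h : G) (U : Submodule (ZMod q) V), Inv K U → Inv K (U.map (rEnd ρ h)) := by
    intro h U hU k hk v hv
    obtain ⟨u, hu, rfl⟩ := Submodule.mem_map.1 hv
    have h1 := hconj h⁻¹ k hk
    rw [inv_inv] at h1
    have h2 := hU _ h1 u hu
    refine Submodule.mem_map.2 ⟨_, h2, ?_⟩
    have h3 : rEnd ρ h * (rEnd ρ h⁻¹ * k * rEnd ρ h) = k * rEnd ρ h := by
      rw [← mul_assoc, ← mul_assoc, rEnd_mul_inv, one_mul]
    have := congrArg (fun f : Module.End (ZMod q) V => f u) h3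
    simpa using this
  have hback : ∀ U : Submodule (ZMod q) V, (U.map (rEnd ρ g)).map (rEnd ρ g⁻¹) = U := by
    intro U
    rw [← Submodule.map_comp]
    have : (rEnd ρ g⁻¹) ∘ₗ (rEnd ρ g) = LinearMap.id := by
      have := rEnd_inv_mul ρ g
      exact this
    rw [this, Submodule.map_id]
  have hforth : ∀ U : Submodule (ZMod q) V, (U.map (rEnd ρ g⁻¹)).map (rEnd ρ g) = U := by
    intro U
    rw [← Submodule.map_comp]
    have : (rEnd ρ g) ∘ₗ (rEnd ρ g⁻¹) = LinearMap.id := by
      have := rEnd_mul_inv ρ g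
      exact this
    rw [this, Submodule.map_id]
  refine ⟨hinv g W hW.1, ?_, ?_⟩
  · intro h0
    apply hW.2.1
    have := hback W
    rw [h0, Submodule.map_bot] at this
    exact this.symm
  · intro W' hW' hle
    have h1 : W'.map (rEnd ρ g⁻¹) ≤ W := by
      have := Submodule.map_mono (f := rEnd ρ g⁻¹) hle
      rwa [hback] at this
    rcases hW.2.2 _ (hinv g⁻¹ W' hW') h1 with h | h
    · left
      have := hforth W'
      rw [h, Submodule.map_bot] at this
      exact this.symm
    · right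
      have := hforth W'
      rw [h] at this
      exact this.symm

/-- **Field lemma**: a commutative subalgebra of `End(V)` normalized by a group transitive on
the non-zero vectors consists of injective maps (and `0`). -/
theorem good_of_trans [Finite V] (htrans : Trans ρ)
    (K : Subalgebra (ZMod q) (Module.End (ZMod q) V))
    (hcomm : ∀ a ∈ K, ∀ b ∈ K, a * b = b * a)
    (hconj : ∀ g : G, ∀ k ∈ K, rEnd ρ g * k * rEnd ρ g⁻¹ ∈ K) : Good ρ K := by
  refine ⟨hcomm, hconj, ?_⟩
  intro k hk hk0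
  rcases subsingleton_or_nontrivial V with hV | hV
  · intro a b _; exact Subsingleton.elim a b
  obtain ⟨W0, hW0⟩ := exists_minInv K
  -- every nonzero vector lies in a minimal invariant subspace
  have hmin : ∀ w : V, w ≠ 0 → ∃ S, MinInv K S ∧ w ∈ S := by
    intro w hw
    obtain ⟨v, hv, hv0⟩ := (Submodule.ne_bot_iff _).1 hW0.2.1
    obtain ⟨g, hg⟩ := htrans v w hv0 hw
    exact ⟨_, minInv_map ρ hconj hW0 g, Submodule.mem_map.2 ⟨v, hv, hg⟩⟩
  have hcyc : ∀ w : V, w ≠ 0 → MinInv K (cyc K w) := by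
    intro w hw
    obtain ⟨S, hS, hwS⟩ := hmin w hw
    rw [cyc_eq_of_minInv hS hwS hw]; exact hS
  -- injectivity
  rw [injective_iff_map_eq_zero]
  intro v hkv
  by_contra hv0
  apply hk0
  ext w
  simp only [LinearMap.zero_apply]
  by_cases hwv : w ∈ cyc K v
  · obtain ⟨k', hk', rfl⟩ := mem_cyc.1 hwv
    have := congrArg (fun f : Module.End (ZMod q) V => f v) (hcomm k hk k' hk')
    simp only [Module.End.mul_apply] at this
    rw [this, hkv, map_zero]
  · by_contra hkw
    have hw0 : w ≠ 0 := by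
      rintro rfl; exact hwv (Submodule.zero_mem _)
    have hvw0 : v + w ≠ 0 := by
      intro h
      apply hwv
      have : w = -v := by rw [eq_neg_iff_add_eq_zero, add_comm]; exact h
      rw [this]; exact Submodule.neg_mem _ (self_mem_cyc K v)
    have hS := hcyc (v + w) hvw0
    have hSw := hcyc w hw0
    have hkw_mem : k w ∈ cyc K (v + w) := by
      have : k (v + w) = k w := by rw [map_add, hkv, zero_add]
      rw [← this]; exact mem_cyc.2 ⟨k, hk, rfl⟩
    have hkw_mem' : k w ∈ cyc K w := mem_cyc.2 ⟨k, hk, rfl⟩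
    have h1 : cyc K (k w) = cyc K (v + w) := cyc_eq_of_minInv hS hkw_mem hkw
    have h2 : cyc K (k w) = cyc K w := cyc_eq_of_minInv hSw hkw_mem' hkw
    have h3 : v + w ∈ cyc K w := by rw [← h2, h1]; exact self_mem_cyc K _
    have h4 : v ∈ cyc K w := by
      have := Submodule.sub_mem _ h3 (self_mem_cyc K w)
      simp at this
      exact this
    have h5 : cyc K v = cyc K w := cyc_eq_of_minInv hSw h4 hv0
    apply hwv; rw [h5]; exact self_mem_cyc K w

theorem spanAlg_comm {A : Subgroup G} (hA : ∀ a ∈ A, ∀ b ∈ A, a * b = b * a) :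
    ∀ a ∈ spanAlg ρ A, ∀ b ∈ spanAlg ρ A, a * b = b * a := by
  intro a ha b hb
  unfold spanAlg at ha hb
  have hS : ∀ x ∈ ((fun g => rEnd ρ g) '' (A : Set G)), ∀ y ∈ ((fun g => rEnd ρ g) '' (A : Set G)),
      x * y = y * x := by
    rintro _ ⟨x, hx, rfl⟩ _ ⟨y, hy, rfl⟩
    simp only
    rw [← rEnd_mul, ← rEnd_mul, hA x hx y hy]
  have := Algebra.isMulCommutative_adjoin (ZMod q) hS
  have h := this.is_comm.comm (⟨a, ha⟩ : Algebra.adjoin (ZMod q) _) ⟨b, hb⟩
  exact congrArg Subtype.val h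

theorem spanAlg_conj {A : Subgroup G} [hn : A.Normal] :
    ∀ g : G, ∀ k ∈ spanAlg ρ A, rEnd ρ g * k * rEnd ρ g⁻¹ ∈ spanAlg ρ A := by
  intro g k hk
  unfold spanAlg at hk
  refine Algebra.adjoin_induction (R := ZMod q)
    (p := fun x _ => rEnd ρ g * x * rEnd ρ g⁻¹ ∈ spanAlg ρ A) ?_ ?_ ?_ ?_ hk
  · rintro _ ⟨a, ha, rfl⟩
    simp only
    rw [← rEnd_mul, ← rEnd_mul]
    exact rEnd_mem_spanAlg ρ (hn.conj_mem a ha g)
  · intro r
    rw [← Algebra.commutes, mul_assoc, rEnd_mul_inv, mul_one]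
    exact Subalgebra.algebraMap_mem _ r
  · intro x y _ _ hx hy
    rw [mul_add, add_mul]; exact Subalgebra.add_mem _ hx hy
  · intro x y _ _ hx hy
    have : rEnd ρ g * (x * y) * rEnd ρ g⁻¹
        = (rEnd ρ g * x * rEnd ρ g⁻¹) * (rEnd ρ g * y * rEnd ρ g⁻¹) := by
      have h1 := rEnd_inv_mul ρ g
      calc rEnd ρ g * (x * y) * rEnd ρ g⁻¹
          = rEnd ρ g * x * 1 * y * rEnd ρ g⁻¹ := by simp [mul_assoc]
        _ = rEnd ρ g * x * (rEnd ρ g⁻¹ * rEnd ρ g) * y * rEnd ρ g⁻¹ := by rw [h1]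
        _ = _ := by simp [mul_assoc]
    rw [this]; exact Subalgebra.mul_mem _ hx hy

/-- abelian normal subgroups span good subalgebras -/
theorem good_spanAlg [Finite V] (htrans : Trans ρ) (A : Subgroup G) [A.Normal]
    (hA : ∀ a ∈ A, ∀ b ∈ A, a * b = b * a) : Good ρ (spanAlg ρ A) :=
  good_of_trans ρ htrans _ (spanAlg_comm ρ hA) (spanAlg_conj ρ)


section field

universe u v

variable {q : ℕ} [Fact q.Prime] {V : Type u} [AddCommGroup V] [Module (ZMod q) V]
  {G : Type v} [Group G] (ρ : G →* (V ≃ₗ[ZMod q] V))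

instance finite_end [Finite V] : Finite (Module.End (ZMod q) V) :=
  Finite.of_injective (fun f => (f : V → V)) DFunLike.coe_injective

/-- a good subalgebra is (the image of) a finite field -/
theorem Good.exists_field [Finite V] [Nontrivial V]
    {K : Subalgebra (ZMod q) (Module.End (ZMod q) V)} (hK : Good ρ K) :
    ∃ (L : Type u) (_ : Field L) (_ : Finite L) (ι : L →+* Module.End (ZMod q) V),
      Function.Injective ι ∧ Set.range ι = (K : Set (Module.End (ZMod q) V)) := by
  classical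
  letI : CommRing K :=
    { (inferInstance : Ring K) with
      mul_comm := fun a b => Subtype.ext (hK.comm a a.2 b b.2) }
  haveI : Nontrivial K := by
    refine ⟨⟨0, 1, ?_⟩⟩
    intro h
    have h1 : (0 : Module.End (ZMod q) V) = 1 := congrArg Subtype.val h
    obtain ⟨v, hv⟩ := exists_ne (0 : V)
    have := congrArg (fun f : Module.End (ZMod q) V => f v) h1
    simp at this
    exact hv this.symm
  haveI : NoZeroDivisors K := by
    refine ⟨?_⟩
    intro a b hab
    by_cases ha : a = 0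
    · exact Or.inl ha
    · right
      have ha' : (a : Module.End (ZMod q) V) ≠ 0 := fun h => ha (Subtype.ext h)
      have hinj := hK.inj a a.2 ha'
      apply Subtype.ext
      ext v
      have h1 : ((a * b : K) : Module.End (ZMod q) V) v = 0 := by rw [hab]; rfl
      have h2 : (a : Module.End (ZMod q) V) ((b : Module.End (ZMod q) V) v) = 0 := h1
      have := hinj (h2.trans (map_zero _).symm)
      simpa using this
  haveI : IsDomain K := NoZeroDivisors.to_isDomain K
  haveI : Finite K := Finite.of_injective (fun k : K => (k : Module.End (ZMod q) V))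
    Subtype.val_injective
  haveI : Fintype K := Fintype.ofFinite K
  letI : Field K := Fintype.fieldOfDomain K
  refine ⟨K, inferInstance, inferInstance, ?_, ?_, ?_⟩
  · exact
      { toFun := fun k => (k : Module.End (ZMod q) V)
        map_one' := rfl
        map_mul' := fun _ _ => rfl
        map_zero' := rfl
        map_add' := fun _ _ => rfl }
  · intro a b h
    exact Subtype.ext h
  · ext k
    constructor
    · rintro ⟨l, rfl⟩
      exact l.2
    · intro hk
      exact ⟨⟨k, hk⟩, rfl⟩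

end field

end Cfsg.Agent.Helper24.Hup
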