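import Mathlib
import Cfsg.Agent.Helper1.QP63Defs
import Cfsg.Agent.Helper29.QP63RESINJ

set_option autoImplicit false

/-! S5063 piece PULLSUP (helper24): the pulled-back factors generate `C₁`. -/

noncomputable section

namespace Cfsg.Agent.QP63

open Cfsg Cfsg.Agent.Helper25.QP Cfsg.Agent.Helper25.QuadPair Cfsg.Agent.QPP

variable {k : Type*} [Field k] {M : Type*} [AddCommGroup M] [Module k M]

local notation "GLkM" => LinearMap.GeneralLinearGroup k M

section pull
variable {G : Subgroup (LinearMap.GeneralLinearGroup k M)} {U : Submodule k M} (hU : Inv (C1 G) U)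

theorem PULLSUP (hsum : Spans (G0 G) U) {s : ℕ}
    {X : Fin s → Subgroup (LinearMap.GeneralLinearGroup k ↥U)}
    (h : (⨆ i, X i) = (resHom (C1 G) U hU).range) :
    (⨆ i, pull (C1 G) U hU (X i)) = C1 G := by
  have hinj := RESINJ hU hsum
  have htop : (⨆ i, (X i).comap (resHom (C1 G) U hU)) = ⊤ := by
    apply Subgroup.map_injective hinj
    rw [Subgroup.map_iSup, ← MonoidHom.range_eq_map, ← h]
    congr 1
    funext i
    rw [Subgroup.map_comap_eq, ← h]
    exact inf_eq_right.mpr (le_iSup X i)
  have e : (⨆ i, pull (C1 G) U hU (X i))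
      = (⨆ i, (X i).comap (resHom (C1 G) U hU)).map (C1 G).subtype := by
    rw [Subgroup.map_iSup]
    rfl
  rw [e, htop, ← MonoidHom.range_eq_map, Subgroup.range_subtype]

end pull

end Cfsg.Agent.QP63
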