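import Mathlib
import Cfsg.Agent.Helper1.QP63Defs
import Cfsg.Agent.Helper7.Quasisimple

set_option autoImplicit false

/-! S5063 piece NCL (helper24): a non-central element of a quasisimple group generates it as a
normal subgroup. -/

namespace Cfsg.Agent.QP63

open Cfsg

/-- a non-central element of a quasisimple group generates it as a normal subgroup -/
theorem NCL {L : Type*} [Group L] (h : IsQuasisimple L) {x : L} (hx : x ∉ Subgroup.center L) :
    Subgroup.normalClosure ({x} : Set L) = ⊤ := by
  rcases Cfsg.Agent.Helper7.IsQuasisimple.normal_eq_top_or_le_center h
    (Subgroup.normalClosure ({x} : Set L)) with h1 | h1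
  · exact h1
  · exact absurd (h1 (Subgroup.subset_normalClosure (Set.mem_singleton x))) hx

end Cfsg.Agent.QP63
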