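import Mathlib
import Cfsg.Agent.Helper1.QP63Defs
import Cfsg.Agent.Helper24.QP63NCL

set_option autoImplicit false

/-! S5063 piece ORTH (helper24): an endomorphism commuting with a quasisimple `L` with
`[M, L] = M` and killing `[M, y]` for one non-central `y ∈ L` is zero. -/

namespace Cfsg.Agent.QP63

open Cfsg

variable {k : Type*} [Field k] {M : Type*} [AddCommGroup M] [Module k M]

local notation "GLkM" => LinearMap.GeneralLinearGroup k M

/-- the subgroup of `L` of the elements `z` with `x (z - 1) = 0` -/
def ORTH_aux_K (L : Subgroup GLkM) (x : Module.End k M) : Subgroup ↥L where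
  carrier := {z | x * (((z : GLkM) : Module.End k M) - 1) = 0}
  one_mem' := by
    show x * ((((1 : ↥L) : GLkM) : Module.End k M) - 1) = 0
    rw [Subgroup.coe_one, Units.val_one, sub_self, mul_zero]
  mul_mem' := by
    intro z w hz hw
    have hz' : x * (((z : GLkM) : Module.End k M) - 1) = 0 := hz
    have hw' : x * (((w : GLkM) : Module.End k M) - 1) = 0 := hw
    show x * ((((z * w : ↥L) : GLkM) : Module.End k M) - 1) = 0
    rw [Subgroup.coe_mul, Units.val_mul]
    have e : ((z : GLkM) : Module.End k M) * ((w : GLkM) : Module.End k M) - 1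
        = (((z : GLkM) : Module.End k M) - 1) * ((w : GLkM) : Module.End k M)
          + (((w : GLkM) : Module.End k M) - 1) := by noncomm_ring
    rw [e, mul_add, ← mul_assoc, hz', hw', zero_mul, add_zero]
  inv_mem' := by
    intro z hz
    have hz' : x * (((z : GLkM) : Module.End k M) - 1) = 0 := hz
    show x * ((((z⁻¹ : ↥L) : GLkM) : Module.End k M) - 1) = 0
    rw [Subgroup.coe_inv]
    have e : (((z : GLkM)⁻¹ : GLkM) : Module.End k M) - 1
        = - ((((z : GLkM) : Module.End k M) - 1) * (((z : GLkM)⁻¹ : GLkM) : Module.End k M)) := by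
      rw [sub_mul, Units.mul_inv, one_mul]
      abel
    rw [e, mul_neg, ← mul_assoc, hz', zero_mul, neg_zero]

theorem ORTH_aux_mem (L : Subgroup GLkM) (x : Module.End k M) (z : ↥L) :
    z ∈ ORTH_aux_K L x ↔ x * (((z : GLkM) : Module.End k M) - 1) = 0 := Iff.rfl

theorem ORTH_aux_normal (L : Subgroup GLkM) (x : Module.End k M)
    (hx : ∀ g ∈ L, x * (g : Module.End k M) = (g : Module.End k M) * x) :
    (ORTH_aux_K L x).Normal := by
  constructor
  intro z hz g
  rw [ORTH_aux_mem] at hz ⊢
  rw [Subgroup.coe_mul, Subgroup.coe_mul, Subgroup.coe_inv, Units.val_mul, Units.val_mul]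
  have e : ((g : GLkM) : Module.End k M) * ((z : GLkM) : Module.End k M)
        * (((g : GLkM)⁻¹ : GLkM) : Module.End k M) - 1
      = ((g : GLkM) : Module.End k M) * (((z : GLkM) : Module.End k M) - 1)
        * (((g : GLkM)⁻¹ : GLkM) : Module.End k M) := by
    rw [mul_sub, sub_mul, mul_one, Units.mul_inv]
  rw [e, ← mul_assoc, ← mul_assoc, hx g g.2, mul_assoc ((g : GLkM) : Module.End k M), hz, mul_zero,
    zero_mul]

/-- orthogonality: an endomorphism commuting with `L` and killing `[M, y]` for one non-central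
`y ∈ L` is zero -/
theorem ORTH (L : Subgroup GLkM) (hW : commutatorSubmodule L = ⊤) (hq : IsQuasisimple ↥L)
    {y : GLkM} (hy : y ∈ L) (hyc : ¬ ∀ g ∈ L, g * y = y * g) (x : Module.End k M)
    (hx : ∀ g ∈ L, x * (g : Module.End k M) = (g : Module.End k M) * x)
    (h0 : x * ((y : Module.End k M) - 1) = 0) : x = 0 := by
  -- `y` is not central in `L`
  have hyc' : (⟨y, hy⟩ : ↥L) ∉ Subgroup.center ↥L := by
    intro hc
    apply hyc
    intro g hg
    have := Subgroup.mem_center_iff.mp hc ⟨g, hg⟩
    exact congrArg Subtype.val this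
  have hncl := NCL hq hyc'
  have hN := ORTH_aux_normal L x hx
  have hle : Subgroup.normalClosure ({(⟨y, hy⟩ : ↥L)} : Set ↥L) ≤ ORTH_aux_K L x := by
    apply Subgroup.normalClosure_le_normal
    intro z hz
    rw [Set.mem_singleton_iff] at hz
    subst hz
    exact (ORTH_aux_mem L x _).mpr h0
  rw [hncl] at hle
  have hall : ∀ g ∈ L, x * ((g : Module.End k M) - 1) = 0 := by
    intro g hg
    exact (ORTH_aux_mem L x ⟨g, hg⟩).mp (hle (Subgroup.mem_top _))
  -- `x` kills the commutator submodule
  have hker : commutatorSubmodule L ≤ LinearMap.ker x := by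
    unfold commutatorSubmodule
    apply iSup₂_le
    intro g hg
    rintro v ⟨u, rfl⟩
    rw [LinearMap.mem_ker]
    have := hall g hg
    have h2 := congrArg (fun f : Module.End k M => f u) this
    simpa using h2
  rw [hW] at hker
  ext v
  have : v ∈ LinearMap.ker x := hker Submodule.mem_top
  simpa using LinearMap.mem_ker.mp this

end Cfsg.Agent.QP63
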