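import Mathlib
import Cfsg.Prelude.Def_Characters

/-!
Shared definitions for the proof of S0889 (Berger: quasi-primitive characters of solvable groups
are primitive).
-/

set_option autoImplicit false

namespace Cfsg.Agent.QP889

open Cfsg

universe u

/-- `f` is invariant under left translation by the elements of `A`. -/
def InvOn {G : Type u} [Group G] (A : Subgroup G) (f : G → ℂ) : Prop :=
  ∀ a ∈ A, ∀ g : G, f (a * g) = f g

/-- Quasi-primitivity relative to `Z`: the restriction to every normal subgroup containing `Z`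
is a multiple of one irreducible character. -/
def QPrel {G : Type u} [Group G] (Z : Subgroup G) (χ : G → ℂ) : Prop :=
  ∀ N : Subgroup G, N.Normal → Z ≤ N →
    ∃ (ϑ : N → ℂ) (e : ℕ), IsIrrCharacter N ϑ ∧ (fun n : N => χ n) = (e : ℂ) • ϑ

/-- The inductive claim for characters of degree `d`. -/
def Claim (d : ℕ) : Prop :=
  ∀ (G : Type u) [Group G] [Fintype G] [Group.IsSolvable G] (Z : Subgroup G) (χ : G → ℂ),
    Z.Normal → IsIrrCharacter G χ → QPrel Z χ → χ 1 = (d : ℂ) →
    ∀ K : Subgroup G, Z ≤ K → K ≠ ⊤ → ∀ ψ : K → ℂ, IsCharacter K ψ → indFun K ψ ≠ χ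

end Cfsg.Agent.QP889
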