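import Mathlib
import Cfsg.Agent.Helper2.RGD.Defs

set_option autoImplicit false
set_option linter.unusedSectionVars false
set_option linter.unusedVariables false

/-! Generic Bruhat decomposition, piece GBDECOMP (driver helper2): `B̂ = Û T`. -/

namespace Cfsg.Agent.RGD

variable {M : Type*} [Group M] {R : Type*} {D : Datum M R}

/-- GBDECOMP -/
theorem T_conj_mem_Uh (hD : IsRGD D) {t : M} (ht : t ∈ D.T) {y : M} (hy : y ∈ D.Uh) :
    t * y * t⁻¹ ∈ D.Uh := by
  unfold Datum.Uh at hy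
  induction hy using Subgroup.closure_induction with
  | mem x hx =>
    obtain ⟨r, hr, hxr⟩ := hx
    exact Subgroup.subset_closure ⟨r, hr, hD.T_conj t ht r x hxr⟩
  | one =>
    rw [mul_one, mul_inv_cancel]
    exact Subgroup.one_mem _
  | mul x y _ _ hx hy =>
    have e : t * (x * y) * t⁻¹ = (t * x * t⁻¹) * (t * y * t⁻¹) := by group
    rw [e]
    exact Subgroup.mul_mem _ hx hy
  | inv x _ hx =>
    have e : t * x⁻¹ * t⁻¹ = (t * x * t⁻¹)⁻¹ := by group
    rw [e]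
    exact Subgroup.inv_mem _ hx

theorem exists_of_mem_Bh (hD : IsRGD D) {b : M} (hb : b ∈ D.Bh) :
    ∃ u ∈ D.Uh, ∃ k ∈ D.T, b = u * k := by
  unfold Datum.Bh at hb
  rw [Subgroup.sup_eq_closure] at hb
  induction hb using Subgroup.closure_induction with
  | mem x hx =>
    rcases hx with hx | hx
    · exact ⟨x, hx, 1, Subgroup.one_mem _, (mul_one x).symm⟩
    · exact ⟨1, Subgroup.one_mem _, x, hx, (one_mul x).symm⟩
  | one => exact ⟨1, Subgroup.one_mem _, 1, Subgroup.one_mem _, (mul_one 1).symm⟩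
  | mul x y _ _ hx hy =>
    obtain ⟨u, hu, k, hk, rfl⟩ := hx
    obtain ⟨u', hu', k', hk', rfl⟩ := hy
    refine ⟨u * (k * u' * k⁻¹), Subgroup.mul_mem _ hu (T_conj_mem_Uh hD hk hu'), k * k',
      Subgroup.mul_mem _ hk hk', ?_⟩
    group
  | inv x _ hx =>
    obtain ⟨u, hu, k, hk, rfl⟩ := hx
    refine ⟨k⁻¹ * u⁻¹ * k⁻¹⁻¹, T_conj_mem_Uh hD (Subgroup.inv_mem _ hk) (Subgroup.inv_mem _ hu),
      k⁻¹, Subgroup.inv_mem _ hk, ?_⟩
    group

end Cfsg.Agent.RGD
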