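import Mathlib
import Cfsg.Agent.Helper27.S0429Defs
import Cfsg.Agent.Helper25.S0429K33_4
import Cfsg.Agent.Helper10.S0429CLS

/-! # S0429 board, piece SYNQ (helper24, hedge): core with CLS4, CLSCOC, CLSPART, KAP2 as hypotheses. -/

set_option autoImplicit false

namespace Cfsg.Agent.S0429P

open Finset

variable {V : Type*} [Fintype V] [DecidableEq V] {G : SimpleGraph V} [DecidableRel G.Adj]

namespace SYNQh

theorem card_inter_union3 (N C1 C2 C3 : Finset V) (d12 : Disjoint C1 C2) (d13 : Disjoint C1 C3)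
    (d23 : Disjoint C2 C3) :
    (N ∩ (C1 ∪ C2 ∪ C3)).card = (N ∩ C1).card + (N ∩ C2).card + (N ∩ C3).card := by
  rw [Finset.inter_union_distrib_left, Finset.inter_union_distrib_left,
    Finset.card_union_of_disjoint, Finset.card_union_of_disjoint]
  · exact Finset.disjoint_of_subset_left inter_subset_right
      (Finset.disjoint_of_subset_right inter_subset_right d12)
  · rw [Finset.disjoint_union_left]
    exact ⟨Finset.disjoint_of_subset_left inter_subset_right
        (Finset.disjoint_of_subset_right inter_subset_right d13),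
      Finset.disjoint_of_subset_left inter_subset_right
        (Finset.disjoint_of_subset_right inter_subset_right d23)⟩

theorem E_const (S T : Finset V) (k : ℕ) (hST : ∀ v ∈ S, (G.neighborFinset v ∩ T).card = k) :
    E G S T = (S.card : ℚ) * (k : ℚ) := by
  unfold E
  rw [Finset.sum_congr rfl (fun v hv => by rw [hST v hv]), Finset.sum_const, nsmul_eq_mul]

theorem core (h : G.IsSRGWith 77 16 0 4)
    (hCLS4 : ∀ {a b : V}, Far G a b → (cls G a b).card = 4)
    (hCLSCOC : ∀ {a b : V}, Far G a b → IsCoc G (cls G a b))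
    (hCLSPART : ∀ {a b : V}, Far G a b → ∀ {x : V}, G.Adj a x → ∃! p, p ∈ cls G a b ∧ G.Adj x p)
    (hKAP2 : ∀ {a b z : V}, Far G a b → Far G a z → z ∉ cls G a b → kap G a z b = 2 →
      (G.neighborFinset z ∩ cls G a b).card = 2)
    {a b1 b2 b3 : V} (h1 : Far G a b1) (h2 : Far G a b2) (h3 : Far G a b3)
    (h12 : b2 ∉ cls G a b1) (h13 : b3 ∉ cls G a b1) (h23 : b3 ∉ cls G a b2)
    (k12 : kap G a b1 b2 = 2) (k13 : kap G a b1 b3 = 2) (k23 : kap G a b2 b3 = 2) :
    Q2 G (synVec G a (cls G a b1 ∪ cls G a b2 ∪ cls G a b3)) = 0 := by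
  -- the classes are pairwise disjoint
  have hdisj_cls : ∀ {b b' : V}, Far G a b → Far G a b' → b' ∉ cls G a b →
      Disjoint (cls G a b) (cls G a b') := by
    intro b b' hb hb' hnot
    rw [Finset.disjoint_left]
    intro u hu hu'
    have e1 := CLSEQ h hb hu
    have e2 := CLSEQ h hb' hu'
    apply hnot
    rw [← e1, e2]
    exact self_mem_cls a b'
  have d12 := hdisj_cls h1 h2 h12
  have d13 := hdisj_cls h1 h3 h13
  have d23 := hdisj_cls h2 h3 h23
  have h21 : b1 ∉ cls G a b2 := fun hm => (Finset.disjoint_left.1 d12) (self_mem_cls a b1) hm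
  have h31 : b1 ∉ cls G a b3 := fun hm => (Finset.disjoint_left.1 d13) (self_mem_cls a b1) hm
  have h32 : b2 ∉ cls G a b3 := fun hm => (Finset.disjoint_left.1 d23) (self_mem_cls a b2) hm
  have k21 : kap G a b2 b1 = 2 := by rw [kap_symm]; exact k12
  have k31 : kap G a b3 b1 = 2 := by rw [kap_symm]; exact k13
  have k32 : kap G a b3 b2 = 2 := by rw [kap_symm]; exact k23
  set U : Finset V := cls G a b1 ∪ cls G a b2 ∪ cls G a b3 with hU
  have hUcard : U.card = 12 := by
    rw [hU, Finset.card_union_of_disjoint, Finset.card_union_of_disjoint d12, hCLS4 h1, hCLS4 h2,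
      hCLS4 h3]
    rw [Finset.disjoint_union_left]; exact ⟨d13, d23⟩
  have hUfar : ∀ u ∈ U, Far G a u := by
    intro u hu
    rw [hU, Finset.mem_union, Finset.mem_union] at hu
    rcases hu with (hu | hu) | hu
    · exact CLSFAR h1 hu
    · exact CLSFAR h2 hu
    · exact CLSFAR h3 hu
  -- neighbours of a class member in another class
  have hnb : ∀ {b b' u : V}, Far G a b → Far G a b' → b' ∉ cls G a b → b ∉ cls G a b' →
      kap G a b' b = 2 → u ∈ cls G a b → (G.neighborFinset u ∩ cls G a b').card = 2 := by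
    intro b b' u hb hb' hnot hnot' hk hu
    have hufar := CLSFAR hb hu
    have hu' : u ∉ cls G a b' := fun hm => (Finset.disjoint_left.1 (hdisj_cls hb hb' hnot)) hu hm
    apply hKAP2 hb' hufar hu'
    have := KAPCLS h hb hu hb' hnot
    rw [kap_symm, ← this]; exact hk
  have hown : ∀ {b u : V}, Far G a b → u ∈ cls G a b → (G.neighborFinset u ∩ cls G a b).card = 0 := by
    intro b u hb hu
    rw [Finset.card_eq_zero, Finset.eq_empty_iff_forall_notMem]
    intro y hy
    rw [Finset.mem_inter, SimpleGraph.mem_neighborFinset] at hy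
    exact hCLSCOC hb u hu y hy.2 hy.1
  have hUU : ∀ u ∈ U, (G.neighborFinset u ∩ U).card = 4 := by
    intro u hu
    rw [hU, card_inter_union3 _ _ _ _ d12 d13 d23]
    rw [hU, Finset.mem_union, Finset.mem_union] at hu
    rcases hu with (hu | hu) | hu
    · rw [hown h1 hu, hnb h1 h2 h12 h21 k21 hu, hnb h1 h3 h13 h31 k31 hu]
    · rw [hown h2 hu, hnb h2 h1 h21 h12 k12 hu, hnb h2 h3 h23 h32 k32 hu]
    · rw [hown h3 hu, hnb h3 h1 h31 h13 k13 hu, hnb h3 h2 h32 h23 k23 hu]
  have hNU : ∀ x ∈ G.neighborFinset a, (G.neighborFinset x ∩ U).card = 3 := by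
    intro x hx
    rw [SimpleGraph.mem_neighborFinset] at hx
    have hone : ∀ {b : V}, Far G a b → (G.neighborFinset x ∩ cls G a b).card = 1 := by
      intro b hb
      obtain ⟨p, ⟨hp1, hp2⟩, hpu⟩ := hCLSPART hb hx
      rw [Finset.card_eq_one]
      refine ⟨p, ?_⟩
      ext y
      rw [Finset.mem_inter, SimpleGraph.mem_neighborFinset, Finset.mem_singleton]
      constructor
      · rintro ⟨hy1, hy2⟩; exact hpu y ⟨hy2, hy1⟩
      · rintro rfl; exact ⟨hp2, hp1⟩
    rw [hU, card_inter_union3 _ _ _ _ d12 d13 d23, hone h1, hone h2, hone h3]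
  have hUN : ∀ u ∈ U, (G.neighborFinset u ∩ G.neighborFinset a).card = 4 := by
    intro u hu
    have hf := hUfar u hu
    have := card_cn h hf.1 (fun hadj => hf.2 hadj.symm)
    unfold cn at this
    exact this
  -- adjacency facts for the E's
  have haa : ∀ v ∈ ({a} : Finset V), ∀ y ∈ ({a} : Finset V), ¬ G.Adj v y := by
    intro v hv y hy
    rw [Finset.mem_singleton] at hv hy
    subst hv; subst hy
    exact G.loopless.irrefl _
  have haN : ∀ v ∈ ({a} : Finset V), ∀ y ∈ G.neighborFinset a, G.Adj v y := by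
    intro v hv y hy
    rw [Finset.mem_singleton] at hv
    subst hv
    exact (SimpleGraph.mem_neighborFinset _ _ _).1 hy
  have hNa : ∀ v ∈ G.neighborFinset a, ∀ y ∈ ({a} : Finset V), G.Adj v y :=
    fun v hv y hy => (haN y hy v hv).symm
  have haU : ∀ v ∈ ({a} : Finset V), ∀ y ∈ U, ¬ G.Adj v y := by
    intro v hv y hy
    rw [Finset.mem_singleton] at hv
    subst hv
    exact (hUfar y hy).2
  have hUa : ∀ v ∈ U, ∀ y ∈ ({a} : Finset V), ¬ G.Adj v y :=
    fun v hv y hy hadj => haU y hy v hv hadj.symm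
  have hNN : ∀ v ∈ G.neighborFinset a, ∀ y ∈ G.neighborFinset a, ¬ G.Adj v y := by
    intro v hv y hy
    exact nadj_of_common h ((SimpleGraph.mem_neighborFinset _ _ _).1 hv)
      ((SimpleGraph.mem_neighborFinset _ _ _).1 hy)
  -- disjointness of the three sets
  have hd_aN : Disjoint ({a} : Finset V) (G.neighborFinset a) := by
    rw [Finset.disjoint_singleton_left, SimpleGraph.mem_neighborFinset]
    exact G.loopless.irrefl _
  have hd_aU : Disjoint ({a} : Finset V) U := by
    rw [Finset.disjoint_singleton_left]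
    intro hm; exact (hUfar a hm).1 rfl
  have hd_NU : Disjoint (G.neighborFinset a) U := by
    rw [Finset.disjoint_left]
    intro v hv hvU
    exact (hUfar v hvU).2 ((SimpleGraph.mem_neighborFinset _ _ _).1 hv)
  unfold synVec
  set S : Fin 3 → Finset V := ![{a}, G.neighborFinset a, U] with hS
  set w : Fin 3 → ℚ := ![8, 3 / 2, 1] with hw
  have hdisj : ∀ i j : Fin 3, i ≠ j → Disjoint (S i) (S j) := by
    intro i j hij
    fin_cases i <;> fin_cases j
    · exact absurd rfl hij
    · exact hd_aN
    · exact hd_aU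
    · exact hd_aN.symm
    · exact absurd rfl hij
    · exact hd_NU
    · exact hd_aU.symm
    · exact hd_NU.symm
    · exact absurd rfl hij
  have hNcard := card_nb h a
  have hsum : ∑ v, ind S w v = 44 := by
    rw [sum_ind, Fin.sum_univ_three]
    simp only [hS, hw, Matrix.cons_val_zero, Matrix.cons_val_one, Matrix.cons_val_two,
      Matrix.head_cons, Matrix.tail_cons, Finset.card_singleton, hNcard, hUcard]
    norm_num
  have hsq : ∑ v, ind S w v ^ 2 = 112 := by
    rw [sum_sq_ind S w hdisj, Fin.sum_univ_three]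
    simp only [hS, hw, Matrix.cons_val_zero, Matrix.cons_val_one, Matrix.cons_val_two,
      Matrix.head_cons, Matrix.tail_cons, Finset.card_singleton, hNcard, hUcard]
    norm_num
  have hadj : adjSum G (ind S w) = 576 := by
    rw [adjSum_ind, Fin.sum_univ_three, Fin.sum_univ_three, Fin.sum_univ_three, Fin.sum_univ_three]
    simp only [hS, hw, Matrix.cons_val_zero, Matrix.cons_val_one, Matrix.cons_val_two,
      Matrix.head_cons, Matrix.tail_cons]
    rw [K33_aux_E_zero _ _ haa, K33_aux_E_full _ _ haN, K33_aux_E_zero _ _ haU,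
      K33_aux_E_full _ _ hNa, K33_aux_E_zero _ _ hNN, E_const _ _ 3 hNU,
      K33_aux_E_zero _ _ hUa, E_const _ _ 4 hUN, E_const _ _ 4 hUU,
      Finset.card_singleton, hNcard, hUcard]
    norm_num
  unfold Q2
  rw [hsum, hsq, hadj]
  norm_num

end SYNQh

end Cfsg.Agent.S0429P
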