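import Mathlib
import Cfsg.Agent.Helper8.S1904Defs
import Cfsg.Agent.Helper23.S1904T4
import Cfsg.Agent.Helper19.S1904T5

/-! Board `s1904pieces`, row `B1`, core (helper24): `T2`/`T3` enter only through `hT23`.  Blueprint: departures/helper8_S1904_blueprint.md, (B1).
`Ω₁(B) = W` of order 4, `A` does not fix `W` pointwise, `C_B(A) = 1`. -/

set_option autoImplicit false

namespace Cfsg.Agent.S1904P

variable {X : Type*} [Group X] {A : Subgroup (MulAut X)} {B : Subgroup X}

theorem B1_aux_center_aut (φ : MulAut X) {z : X} (hz : z ∈ Subgroup.center X) :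
    φ z ∈ Subgroup.center X := by
  rw [Subgroup.mem_center_iff] at hz ⊢
  intro g
  have := hz (φ.symm g)
  have h2 := congrArg φ this
  simpa using h2

theorem B1_aux_invWW (A : Subgroup (MulAut X)) : Inv A (WW X) := by
  intro φ _ w hw
  refine ⟨B1_aux_center_aut φ hw.1, ?_⟩
  rw [← map_mul, hw.2, map_one]

theorem B1_aux_WW_normal : (WW X).Normal := by
  constructor
  intro n hn g
  have hc : g * n = n * g := (Subgroup.mem_center_iff.1 hn.1) g
  have : g * n * g⁻¹ = n := by rw [hc]; group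
  rw [this]; exact hn

/-- `Ω₁(B)` for an abelian subgroup `B`. -/
def B1_aux_Om (B : Subgroup X) (hc : ∀ a ∈ B, ∀ b ∈ B, a * b = b * a) : Subgroup X where
  carrier := {b | b ∈ B ∧ b * b = 1}
  one_mem' := ⟨one_mem _, by simp⟩
  mul_mem' := by
    rintro a b ⟨ha, ha2⟩ ⟨hb, hb2⟩
    refine ⟨mul_mem ha hb, ?_⟩
    have h := hc a ha b hb
    calc a * b * (a * b) = a * (b * a) * b := by group
      _ = a * (a * b) * b := by rw [h]
      _ = (a * a) * (b * b) := by group
      _ = 1 := by rw [ha2, hb2, one_mul]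
  inv_mem' := by
    rintro a ⟨ha, ha2⟩
    refine ⟨inv_mem ha, ?_⟩
    have : a⁻¹ = a := inv_eq_of_mul_eq_one_left ha2
    rw [this, ha2]

/-- In a `2`-group every nontrivial element has a power which is an involution. -/
theorem B1_aux_invol (hX : IsPGroup 2 X) (b : X) (hb : b ≠ 1) :
    ∃ n : ℕ, b ^ n ≠ 1 ∧ b ^ n * b ^ n = 1 := by
  obtain ⟨k, hk⟩ := (IsPGroup.iff_orderOf.1 hX) b
  have hk0 : k ≠ 0 := by
    rintro rfl
    rw [pow_zero, orderOf_eq_one_iff] at hk
    exact hb hk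
  obtain ⟨j, rfl⟩ := Nat.exists_eq_succ_of_ne_zero hk0
  refine ⟨2 ^ j, ?_, ?_⟩
  · intro h
    have hd := orderOf_dvd_of_pow_eq_one h
    rw [hk] at hd
    have := Nat.le_of_dvd (by positivity) hd
    rw [pow_succ] at this
    have hp : 0 < 2 ^ j := by positivity
    omega
  · rw [← pow_add, ← two_mul, ← pow_succ', ← hk, pow_orderOf_eq_one]

variable [Finite X]

theorem B1_core (H : Hyp A) (hB : MaxAb A B)
    (hT23 : (∀ φ ∈ A, ∀ m ∈ B, m * m = 1 → φ m = m) → B ≤ Subgroup.center X) :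
    Nat.card (WW X) = 4 ∧ WW X ≤ B ∧ (∀ b ∈ B, b * b = 1 → b ∈ WW X) ∧
      (∀ b ∈ B, (∀ φ ∈ A, φ b = b) → b = 1) ∧ ¬ (∀ φ ∈ A, ∀ w ∈ WW X, φ w = w) := by
  -- Ω₁(B) ≤ W
  have hOm : ∀ b ∈ B, b * b = 1 → b ∈ WW X := by
    intro b hb hb2
    have hn : (B1_aux_Om B hB.comm).Normal := by
      constructor
      rintro n ⟨hn, hn2⟩ g
      refine ⟨hB.normal.conj_mem n hn g, ?_⟩
      calc g * n * g⁻¹ * (g * n * g⁻¹) = g * (n * n) * g⁻¹ := by group
        _ = 1 := by rw [hn2]; group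
    have hI : Inv A (B1_aux_Om B hB.comm) := by
      rintro φ hφ n ⟨hn, hn2⟩
      refine ⟨hB.inv φ hφ n hn, ?_⟩
      rw [← map_mul, hn2, map_one]
    have hle := T4 H (B1_aux_Om B hB.comm) hn hI
      (fun a ha b hb => hB.comm a ha.1 b hb.1) (fun a ha => ha.2)
    exact ⟨hle ⟨hb, hb2⟩, hb2⟩
  -- W ≤ B by maximality
  have hWB : WW X ≤ B := by
    have hBn : B.Normal := hB.normal
    have hWn : (WW X).Normal := B1_aux_WW_normal
    have hn : (B ⊔ WW X).Normal := Subgroup.sup_normal B (WW X)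
    have hI : Inv A (B ⊔ WW X) := by
      intro φ hφ n hn
      have h1 : (B ⊔ WW X).map φ.toMonoidHom ≤ B ⊔ WW X := by
        rw [Subgroup.map_sup]
        refine sup_le_sup ?_ ?_
        · rintro _ ⟨b, hb, rfl⟩
          exact hB.inv φ hφ b hb
        · rintro _ ⟨w, hw, rfl⟩
          exact B1_aux_invWW A φ hφ w hw
      exact h1 ⟨n, hn, rfl⟩
    have hWc : ∀ s : Set X, WW X ≤ Subgroup.centralizer s := fun s =>
      WW_le_center.trans (Subgroup.center_le_centralizer s)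
    have hBc : B ≤ Subgroup.centralizer (B : Set X) := by
      intro a ha
      rw [Subgroup.mem_centralizer_iff]
      intro b hb
      exact hB.comm b hb a ha
    have h2 : B ⊔ WW X ≤ Subgroup.centralizer ((B ⊔ WW X : Subgroup X) : Set X) := by
      refine sup_le ?_ (hWc _)
      rw [Subgroup.le_centralizer_iff]
      exact sup_le hBc (hWc _)
    have hc : ∀ a ∈ B ⊔ WW X, ∀ b ∈ B ⊔ WW X, a * b = b * a := by
      intro a ha b hb
      have := h2 hb
      rw [Subgroup.mem_centralizer_iff] at this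
      exact this a ha
    have := hB.max (B ⊔ WW X) hn hI hc le_sup_left
    rw [← this]
    exact le_sup_right
  -- A does not fix W pointwise
  have hnf : ¬ (∀ φ ∈ A, ∀ w ∈ WW X, φ w = w) := by
    intro hfix
    apply hB.nc
    exact hT23 (fun φ hφ m hm hm2 => hfix φ hφ m (hOm m hm hm2))
  obtain ⟨h4, hCW, -⟩ := T5 H hnf
  refine ⟨h4, hWB, hOm, ?_, hnf⟩
  intro b hb hfix
  by_contra hb1
  obtain ⟨n, hn1, hn2⟩ := B1_aux_invol H.pX b hb1
  apply hn1
  refine hCW _ (hOm _ (pow_mem hb n) hn2) ?_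
  intro φ hφ
  rw [map_pow, hfix φ hφ]

end Cfsg.Agent.S1904P
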