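import Mathlib
import Cfsg.Agent.Helper24.S1904B1core

/-! Board `s1904pieces`, row `B1` (helper24): wrapper of `B1_core`.  The rows `T2`, `T3` enter through
`T4_aux_fixed_central` (helper23's copy of T2, on main) and `B1_aux_T3` (own copy of T3), so that this file does not
wait for them. -/

set_option autoImplicit false

namespace Cfsg.Agent.S1904P

variable {X : Type*} [Group X] [Finite X] {A : Subgroup (MulAut X)} {B : Subgroup X}

/-- (own copy of the argument of row T3) an element of `A` fixing `Ω₁(M)` pointwise fixes the invariant abelian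
subgroup `M` pointwise. -/
theorem B1_aux_T3 (H : Hyp A) (M : Subgroup X) (hI : Inv A M) (hc : ∀ a ∈ M, ∀ b ∈ M, a * b = b * a)
    (φ : MulAut X) (hφ : φ ∈ A) (h1 : ∀ m ∈ M, m * m = 1 → φ m = m) : ∀ m ∈ M, φ m = m := by
  obtain ⟨j, hj⟩ := T5_aux_odd H φ hφ
  have key : ∀ k : ℕ, ∀ m ∈ M, m ^ (2 ^ k) = 1 → φ m = m := by
    intro k
    induction k with
    | zero =>
      intro m _ hm
      rw [pow_zero, pow_one] at hm
      rw [hm, map_one]
    | succ k ih =>
      intro m hm hmk
      have hm2 : φ (m * m) = m * m := by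
        apply ih _ (mul_mem hm hm)
        rw [← pow_two, ← pow_mul, ← pow_succ']
        exact hmk
      have hφm : φ m ∈ M := hI φ hφ m hm
      set t := m⁻¹ * φ m with ht
      have htM : t ∈ M := mul_mem (inv_mem hm) hφm
      have ht2 : t * t = 1 := by
        have hcm : φ m * m⁻¹ = m⁻¹ * φ m := hc _ hφm _ (inv_mem hm)
        calc t * t = m⁻¹ * (φ m * m⁻¹) * φ m := by rw [ht]; group
          _ = m⁻¹ * (m⁻¹ * φ m) * φ m := by rw [hcm]
          _ = (m * m)⁻¹ * (φ m * φ m) := by group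
          _ = (m * m)⁻¹ * φ (m * m) := by rw [map_mul]
          _ = 1 := by rw [hm2, inv_mul_cancel]
      have hφt : φ t = t := h1 t htM ht2
      have hφm' : φ m = m * t := by rw [ht]; group
      obtain ⟨-, hp⟩ := T4_aux_pow φ m t hφm' hφt (2 * j + 1)
      rw [hj, MulAut.one_apply] at hp
      have ht1 : t ^ (2 * j + 1) = t := by
        rw [pow_succ, pow_mul, pow_two, ht2, one_pow, one_mul]
      rw [ht1] at hp
      have : t = 1 := by
        have := congrArg (fun z => m⁻¹ * z) hp
        simpa using this.symm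
      rw [hφm', this, mul_one]
  intro m hm
  obtain ⟨k, hk⟩ := H.pX m
  exact key k m hm hk

theorem B1 (H : Hyp A) (hB : MaxAb A B) :
    Nat.card (WW X) = 4 ∧ WW X ≤ B ∧ (∀ b ∈ B, b * b = 1 → b ∈ WW X) ∧
      (∀ b ∈ B, (∀ φ ∈ A, φ b = b) → b = 1) ∧ ¬ (∀ φ ∈ A, ∀ w ∈ WW X, φ w = w) :=
  B1_core H hB (fun h => T4_aux_fixed_central H B hB.normal
    (fun φ hφ => B1_aux_T3 H B hB.inv hB.comm φ hφ (h φ hφ)))

end Cfsg.Agent.S1904P
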