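import Mathlib
import Cfsg.Agent.Helper14.J3OA

set_option autoImplicit false

/-! S2074, piece ORBINV: an automorphism preserving the point stabilizer preserves the suborbits
when these have pairwise distinct sizes. -/

namespace Cfsg.Agent.Helper17.SuzOut

open Cfsg.Agent.Helper14.J3Out

namespace ORBINV

theorem pt_eq_iff {J : Type*} [Group J] (phi : J →* Equiv.Perm ℕ) (H : Subgroup J)
    (hstab : ∀ g : J, phi g 0 = 0 ↔ g ∈ H) (a b : J) :
    phi a 0 = phi b 0 ↔ a⁻¹ * b ∈ H := by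
  rw [← hstab, map_mul, map_inv, Equiv.Perm.mul_apply, Equiv.Perm.inv_eq_iff_eq]
  exact eq_comm

theorem card_le {J : Type*} [Group J] (N : ℕ) (phi : J →* Equiv.Perm ℕ)
    (H : Subgroup J) (oid : ℕ → ℕ)
    (hstab : ∀ g : J, phi g 0 = 0 ↔ g ∈ H)
    (hlt : ∀ (g : J) (p : ℕ), p < N → phi g p < N)
    (htr : ∀ p, p < N → ∃ g : J, phi g 0 = p)
    (hcls : ∀ h ∈ H, ∀ p, p < N → oid (phi h p) = oid p)
    (hreach : ∀ p q, p < N → q < N → oid p = oid q → ∃ h ∈ H, phi h p = q)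
    (hN : 0 < N)
    (ψ : MulAut J) (hψ : ∀ g : J, g ∈ H ↔ ψ g ∈ H) (g : J) :
    ((Finset.range N).filter fun i => oid i = oid (phi g 0)).card ≤
      ((Finset.range N).filter fun i => oid i = oid (phi (ψ g) 0)).card := by
  classical
  have hx : ∀ q, ∃ x : J, q < N → phi x 0 = q := by
    intro q
    by_cases hq : q < N
    · obtain ⟨x, hx⟩ := htr q hq
      exact ⟨x, fun _ => hx⟩
    · exact ⟨1, fun h => absurd h hq⟩
  choose x hx using hx
  apply Finset.card_le_card_of_injOn (fun q => phi (ψ (x q)) 0)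
  · intro q hq
    have hq' := Finset.mem_filter.mp (Finset.mem_coe.mp hq)
    have hqN : q < N := Finset.mem_range.mp hq'.1
    have hoid : oid q = oid (phi g 0) := hq'.2
    obtain ⟨h, hh, hhq⟩ := hreach (phi g 0) q (hlt g 0 hN) hqN hoid.symm
    have h1 : phi (h * g) 0 = phi (x q) 0 := by
      rw [hx q hqN, map_mul, Equiv.Perm.mul_apply, hhq]
    rw [pt_eq_iff phi H hstab] at h1
    obtain ⟨k, hk⟩ : ∃ k, k = (h * g)⁻¹ * x q := ⟨_, rfl⟩
    have hkH : k ∈ H := hk ▸ h1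
    have hxq : x q = h * g * k := by rw [hk]; group
    have h2 : phi (ψ (x q)) 0 = phi (ψ h) (phi (ψ g) 0) := by
      rw [hxq, map_mul, map_mul, map_mul, map_mul, Equiv.Perm.mul_apply, Equiv.Perm.mul_apply,
        (hstab (ψ k)).mpr ((hψ k).mp hkH)]
    apply Finset.mem_coe.mpr
    apply Finset.mem_filter.mpr
    show phi (ψ (x q)) 0 ∈ Finset.range N ∧ oid (phi (ψ (x q)) 0) = oid (phi (ψ g) 0)
    rw [h2]
    refine ⟨Finset.mem_range.mpr (hlt _ _ (hlt _ 0 hN)), ?_⟩
    exact hcls (ψ h) ((hψ h).mp hh) _ (hlt _ 0 hN)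
  · intro q hq q' hq' heq
    have hqN : q < N := Finset.mem_range.mp (Finset.mem_filter.mp (Finset.mem_coe.mp hq)).1
    have hqN' : q' < N := Finset.mem_range.mp (Finset.mem_filter.mp (Finset.mem_coe.mp hq')).1
    have h1 : phi (ψ (x q)) 0 = phi (ψ (x q')) 0 := heq
    rw [pt_eq_iff phi H hstab, ← map_inv, ← map_mul, ← hψ, ← pt_eq_iff phi H hstab,
      hx q hqN, hx q' hqN'] at h1
    exact h1

end ORBINV

/-- ORBINV: an automorphism preserving the point stabilizer `H` preserves the `H`-orbits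
(suborbits) on the points `{0, …, N-1}`, when these have pairwise distinct sizes. -/
theorem oid_aut_invariant {J : Type*} [Group J] (N : ℕ) (hN : 0 < N) (phi : J →* Equiv.Perm ℕ)
    (H : Subgroup J) (oid : ℕ → ℕ)
    (hstab : ∀ g : J, phi g 0 = 0 ↔ g ∈ H)
    (hlt : ∀ (g : J) (p : ℕ), p < N → phi g p < N)
    (htr : ∀ p, p < N → ∃ g : J, phi g 0 = p)
    (hcls : ∀ h ∈ H, ∀ p, p < N → oid (phi h p) = oid p)
    (hreach : ∀ p q, p < N → q < N → oid p = oid q → ∃ h ∈ H, phi h p = q)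
    (hcnt : ∀ p q, p < N → q < N →
      ((Finset.range N).filter fun i => oid i = oid p).card =
        ((Finset.range N).filter fun i => oid i = oid q).card → oid p = oid q)
    (φ : MulAut J) (hφ : ∀ g : J, g ∈ H ↔ φ g ∈ H) (g : J) :
    oid (phi (φ g) 0) = oid (phi g 0) := by
  apply hcnt _ _ (hlt _ 0 hN) (hlt _ 0 hN)
  apply le_antisymm
  · have hφ' : ∀ g : J, g ∈ H ↔ φ⁻¹ g ∈ H := by
      intro g
      rw [hφ (φ⁻¹ g), MulAut.apply_inv_self]
    have := ORBINV.card_le N phi H oid hstab hlt htr hcls hreach hN φ⁻¹ hφ' (φ g)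
    rwa [MulAut.inv_apply_self] at this
  · exact ORBINV.card_le N phi H oid hstab hlt htr hcls hreach hN φ hφ g

example {J : Type*} [Group J] (N : ℕ) (hN : 0 < N) (phi : J →* Equiv.Perm ℕ)
    (H : Subgroup J) (oid : ℕ → ℕ)
    (hstab : ∀ g : J, phi g 0 = 0 ↔ g ∈ H)
    (hlt : ∀ (g : J) (p : ℕ), p < N → phi g p < N)
    (htr : ∀ p, p < N → ∃ g : J, phi g 0 = p)
    (hcls : ∀ h ∈ H, ∀ p, p < N → oid (phi h p) = oid p)
    (hreach : ∀ p q, p < N → q < N → oid p = oid q → ∃ h ∈ H, phi h p = q)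
    (hcnt : ∀ p q, p < N → q < N →
      ((Finset.range N).filter fun i => oid i = oid p).card =
        ((Finset.range N).filter fun i => oid i = oid q).card → oid p = oid q)
    (φ : MulAut J) (hφ : ∀ g : J, g ∈ H ↔ φ g ∈ H) (g : J) :
    oid (phi (φ g) 0) = oid (phi g 0) :=
  oid_aut_invariant N hN phi H oid hstab hlt htr hcls hreach hcnt φ hφ g

end Cfsg.Agent.Helper17.SuzOut

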