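import Mathlib
import Cfsg.Agent.Helper14.S2481.Defs
import Cfsg.Agent.Helper14.S2481.DefsM

set_option autoImplicit false
set_option linter.unusedVariables false

/-! S2481 piece SEMIDET: the determinant of a semilinear conjugate. -/

namespace Cfsg.Agent.S2481P

open Polynomial DirectSum Matrix Cfsg.Agent.S2478P Cfsg.Agent.S2479P

universe u

variable {F : Type u} [Field F] {σ : F →+* F}

-- piece SEMIDET (a basis `b` of `V'` gives the basis `S ∘ b` of `V`; the matrices are `σ`-conjugate)
theorem det_semiconj (hσ : IsInvol σ) {V V' : Type*} [AddCommGroup V] [Module F V]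
    [Module.Finite F V] [AddCommGroup V'] [Module F V'] [Module.Finite F V']
    (S : V' → V) (hadd : ∀ v w, S (v + w) = S v + S w)
    (hsmul : ∀ (c : F) v, S (c • v) = σ c • S v) (hbij : Function.Bijective S)
    (T' : V' →ₗ[F] V') (T : V →ₗ[F] V) (h : ∀ v, S (T' v) = T (S v)) :
    LinearMap.det T = σ (LinearMap.det T') := by
  classical
  -- the inverse of `S`
  let Se : V' ≃ V := Equiv.ofBijective S hbij
  have hSe : ∀ v, Se v = S v := fun v => rfl
  have hSS : ∀ v, S (Se.symm v) = v := fun v => Se.apply_symm_apply v
  have hSS' : ∀ v', Se.symm (S v') = v' := fun v' => Se.symm_apply_apply v'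
  have hinv_add : ∀ v w, Se.symm (v + w) = Se.symm v + Se.symm w := by
    intro v w
    apply hbij.1
    rw [hSS, hadd, hSS, hSS]
  have hinv_smul : ∀ (c : F) v, Se.symm (c • v) = σ c • Se.symm v := by
    intro c v
    apply hbij.1
    rw [hSS, hsmul, hσ.sq, hSS]
  -- a basis of `V'`
  let b' := Module.finBasis F V'
  -- the coordinates on `V`
  let e : V ≃ₗ[F] (Fin (Module.finrank F V') → F) :=
    { toFun := fun v i => σ (b'.repr (Se.symm v) i)
      map_add' := by
        intro v w
        funext i
        simp only [hinv_add, map_add, Finsupp.coe_add, Pi.add_apply]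
      map_smul' := by
        intro c v
        funext i
        simp only [hinv_smul, map_smul, Finsupp.coe_smul, Pi.smul_apply, smul_eq_mul, map_mul,
          hσ.sq, RingHom.id_apply]
      invFun := fun x => S (∑ i, σ (x i) • b' i)
      left_inv := by
        intro v
        simp only [hσ.sq]
        rw [b'.sum_repr, hSS]
      right_inv := by
        intro x
        funext i
        simp only [hSS', b'.repr_sum_self, hσ.sq] }
  let b : Module.Basis (Fin (Module.finrank F V')) F V := Module.Basis.ofEquivFun e
  have he_apply : ∀ v i, e v i = σ (b'.repr (Se.symm v) i) := fun v i => rfl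
  have hb : ∀ j, b j = S (b' j) := by
    intro j
    apply e.injective
    have h1 : e (b j) = Pi.single j 1 := by
      show e ((Module.Basis.ofEquivFun e) j) = _
      rw [Module.Basis.coe_ofEquivFun, LinearEquiv.apply_symm_apply]
    rw [h1]
    funext i
    rw [he_apply, hSS', Module.Basis.repr_self, Finsupp.single_apply, Pi.single_apply]
    by_cases hij : j = i
    · rw [if_pos hij, if_pos hij.symm, map_one]
    · rw [if_neg hij, if_neg (fun h' => hij h'.symm), map_zero]
  have hmat : LinearMap.toMatrix b b T = (LinearMap.toMatrix b' b' T').map σ := by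
    ext i j
    rw [LinearMap.toMatrix_apply, Matrix.map_apply, LinearMap.toMatrix_apply, hb, ← h]
    show e (S (T' (b' j))) i = _
    rw [he_apply, hSS']
  rw [← LinearMap.det_toMatrix b T, ← LinearMap.det_toMatrix b' T', hmat]
  exact (RingHom.map_det σ _).symm

end Cfsg.Agent.S2481P
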