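import Mathlib
import Cfsg.Agent.Helper14.S2481.Defs
import Cfsg.Agent.Helper14.S2481.DefsM

set_option autoImplicit false
set_option linter.unusedVariables false

/-! S2481 piece ROOTMOD: module, characteristic polynomial and dimension of the multiplication by
the root on `F[X]/(f)`. -/

namespace Cfsg.Agent.S2481P

open Polynomial DirectSum Matrix Cfsg.Agent.S2478P Cfsg.Agent.S2479P

universe u

variable {F : Type u} [Field F] {σ : F →+* F}

namespace ROOTMOD

/-- `AdjoinRoot f` is `F[X] ⧸ (f)` as an `F`-module -/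
noncomputable def idEquiv (f : F[X]) : AdjoinRoot f ≃ₗ[F] (F[X] ⧸ Submodule.span F[X] {f}) :=
  LinearEquiv.refl F (AdjoinRoot f)

theorem idEquiv_mk (f : F[X]) (q : F[X]) :
    idEquiv f (AdjoinRoot.mk f q) = Submodule.Quotient.mk q := rfl

end ROOTMOD

-- piece ROOTMOD (module, characteristic polynomial and dimension of multiplication by the root;
-- the instance is `hf.finite_adjoinRoot`)
theorem aeval_lmul_root {f : F[X]} (hf : f.Monic) [Module.Finite F (AdjoinRoot f)] :
    Nonempty (Module.AEval' (Algebra.lmul F (AdjoinRoot f) (AdjoinRoot.root f)) ≃ₗ[F[X]]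
      (F[X] ⧸ Submodule.span F[X] {f})) ∧
    (Algebra.lmul F (AdjoinRoot f) (AdjoinRoot.root f)).charpoly = f ∧
    Module.finrank F (AdjoinRoot f) = f.natDegree := by
  refine ⟨⟨?_⟩, ?_, ?_⟩
  · refine LinearEquiv.ofAEval (Algebra.lmul F (AdjoinRoot f) (AdjoinRoot.root f))
      (ROOTMOD.idEquiv f) ?_
    intro m
    obtain ⟨q, rfl⟩ := AdjoinRoot.mk_surjective m
    have h1 : (Algebra.lmul F (AdjoinRoot f) (AdjoinRoot.root f)) • (AdjoinRoot.mk f q) =
        AdjoinRoot.mk f (X * q) := by
      show AdjoinRoot.root f * AdjoinRoot.mk f q = _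
      rw [← AdjoinRoot.mk_X, ← map_mul]
    rw [h1, ROOTMOD.idEquiv_mk, ROOTMOD.idEquiv_mk]
    rfl
  · have h1 := LinearMap.charpoly_toMatrix
      (Algebra.lmul F (AdjoinRoot f) (AdjoinRoot.root f)) (AdjoinRoot.powerBasis' hf).basis
    rw [← h1]
    have h2 : LinearMap.toMatrix (AdjoinRoot.powerBasis' hf).basis (AdjoinRoot.powerBasis' hf).basis
        (Algebra.lmul F (AdjoinRoot f) (AdjoinRoot.root f)) =
        Algebra.leftMulMatrix (AdjoinRoot.powerBasis' hf).basis (AdjoinRoot.powerBasis' hf).gen := by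
      rw [Algebra.leftMulMatrix_apply, AdjoinRoot.powerBasis'_gen]
    rw [h2, charpoly_leftMulMatrix, AdjoinRoot.powerBasis'_gen,
      AdjoinRoot.minpoly_root hf.ne_zero, hf.leadingCoeff, inv_one, map_one, mul_one]
  · rw [(AdjoinRoot.powerBasis' hf).finrank, AdjoinRoot.powerBasis'_dim]

end Cfsg.Agent.S2481P
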