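import Mathlib
import Cfsg.Agent.Helper12.S2999Basic

/-! S2999 board, row ORBIT (helper24): blueprint §5 end. -/

set_option autoImplicit false
set_option linter.unusedSectionVars false

namespace Cfsg.Agent.S2999P

open Cfsg.Agent.S2789P
open scoped commutatorElement

variable {G : Type*} [Group G] [Finite G] {p : ℕ} [Fact p.Prime] {V P Mg Tg R A : Subgroup G}

/-- abstract count: a map into a finite type missing one point whose fibres lie in cosets of `N` -/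
theorem ORBIT_aux_count {H Q : Type*} [Group H] [Finite H] [Finite Q] (N : Subgroup H) (q₀ : Q)
    (Φ : H → Q) (hne : ∀ a, Φ a ≠ q₀) (hΦ : ∀ a b, Φ a = Φ b → a⁻¹ * b ∈ N) :
    Nat.card H + Nat.card N ≤ Nat.card N * Nat.card Q := by
  classical
  let Φ' : H → {q : Q // q ≠ q₀} := fun a => ⟨Φ a, hne a⟩
  let r : {q : Q // q ≠ q₀} → H := fun q => if h : ∃ a, Φ' a = q then h.choose else 1
  have hr : ∀ a, Φ' (r (Φ' a)) = Φ' a := by
    intro a
    have h : ∃ a', Φ' a' = Φ' a := ⟨a, rfl⟩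
    simp only [r, dif_pos h]
    exact h.choose_spec
  have hmem : ∀ a, (r (Φ' a))⁻¹ * a ∈ N := fun a => hΦ _ _ (congrArg Subtype.val (hr a))
  have hinj : Function.Injective
      (fun a : H => ((Φ' a, ⟨(r (Φ' a))⁻¹ * a, hmem a⟩) : {q : Q // q ≠ q₀} × N)) := by
    intro a b hab
    have h1 : Φ' a = Φ' b := congrArg Prod.fst hab
    have h2 : (r (Φ' a))⁻¹ * a = (r (Φ' b))⁻¹ * b := congrArg (fun z => (z.2 : H)) hab
    rw [h1] at h2
    exact mul_left_cancel h2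
  have h1 := Nat.card_le_card_of_injective _ hinj
  rw [Nat.card_prod] at h1
  have h2 : Nat.card {q : Q // q ≠ q₀} + 1 = Nat.card Q := by
    rw [← Finite.card_option]
    exact Nat.card_congr (Equiv.optionSubtypeNe q₀)
  calc Nat.card H + Nat.card N ≤ Nat.card {q : Q // q ≠ q₀} * Nat.card N + Nat.card N := by gcongr
    _ = Nat.card N * (Nat.card {q : Q // q ≠ q₀} + 1) := by ring
    _ = Nat.card N * Nat.card Q := by rw [h2]

/-- ORBIT, with ACEQ as a hypothesis -/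
theorem ORBIT_core (S : Setup p V P Mg Tg R A)
    (hACEQ : ∀ x ∈ P, x ∉ Mg → A ⊓ cjs x Mg = A ⊓ coreIn P Mg) :
    Nat.card ↥A + Nat.card ↥(A ⊓ coreIn P Mg : Subgroup G)
      ≤ Nat.card ↥(A ⊓ coreIn P Mg : Subgroup G) * Mg.relIndex P := by
  obtain ⟨x, hxP, hxM⟩ := S.hMne
  have hAP := S.hAP
  have hAM := S.hAM
  -- the map `a ↦ a x M`
  let Φ : ↥A → ↥P ⧸ Mg.subgroupOf P := fun a =>
    QuotientGroup.mk (⟨(a : G) * x, P.mul_mem (hAP a.2) hxP⟩ : ↥P)
  have hne : ∀ a, Φ a ≠ QuotientGroup.mk (1 : ↥P) := by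
    intro a h
    have h1 := QuotientGroup.eq.mp h
    rw [Subgroup.mem_subgroupOf] at h1
    have h2 : ((a : G) * x)⁻¹ * 1 ∈ Mg := by simpa using h1
    rw [mul_one] at h2
    have h3 : (a : G) * x ∈ Mg := by
      have := Mg.inv_mem h2
      rwa [inv_inv] at this
    apply hxM
    have h4 := Mg.mul_mem (Mg.inv_mem (hAM a.2)) h3
    rwa [← mul_assoc, inv_mul_cancel, one_mul] at h4
  have hΦ : ∀ a b : ↥A, Φ a = Φ b → a⁻¹ * b ∈ (A ⊓ coreIn P Mg).subgroupOf A := by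
    intro a b h
    have h1 := QuotientGroup.eq.mp h
    rw [Subgroup.mem_subgroupOf] at h1
    have h2 : ((a : G) * x)⁻¹ * ((b : G) * x) ∈ Mg := by simpa using h1
    rw [Subgroup.mem_subgroupOf, ← hACEQ x hxP hxM]
    refine ⟨(a⁻¹ * b).2, ?_⟩
    show ((a⁻¹ * b : ↥A) : G) ∈ cjs x Mg
    rw [cj_mem]
    have e : x⁻¹ * ((a⁻¹ * b : ↥A) : G) * x = ((a : G) * x)⁻¹ * ((b : G) * x) := by
      simp [mul_assoc]
    rw [e]
    exact h2
  have h := ORBIT_aux_count ((A ⊓ coreIn P Mg).subgroupOf A) (QuotientGroup.mk (1 : ↥P)) Φ hne hΦ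
  have hc : Nat.card ↥((A ⊓ coreIn P Mg).subgroupOf A) = Nat.card ↥(A ⊓ coreIn P Mg : Subgroup G) :=
    Nat.card_congr (Subgroup.subgroupOfEquivOfLe (inf_le_left : A ⊓ coreIn P Mg ≤ A)).toEquiv
  rw [hc] at h
  exact h

end Cfsg.Agent.S2999P
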