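import Mathlib
import Cfsg.Agent.Helper12.S2999Basic

/-! S2999 board, row KER (helper24): blueprint §9, second half. -/

set_option autoImplicit false
set_option linter.unusedSectionVars false

namespace Cfsg.Agent.S2999P

open Cfsg.Agent.S2789P
open scoped commutatorElement

variable {G : Type*} [Group G] [Finite G] {p : ℕ} [Fact p.Prime] {V P Mg Tg R A : Subgroup G}

/-- `h v h⁻¹ = v c⁻¹` with `c = ⁅v, h⁆` -/
theorem KER_aux_conj (v h : G) : h * v * h⁻¹ = ⁅v, h⁆⁻¹ * v := by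
  rw [commutatorElement_def]; group

/-- the subgroup `K₀` of the elements of `P` acting trivially on `V / V₀` -/
def KER_aux_K (S : Setup p V P Mg Tg R A) : Subgroup G where
  carrier := {h | h ∈ P ∧ ∀ v ∈ V, ⁅v, h⁆ ∈ fixV V P}
  one_mem' := by
    refine ⟨P.one_mem, fun v _ => ?_⟩
    rw [commutatorElement_def]
    have : v * 1 * v⁻¹ * (1 : G)⁻¹ = 1 := by group
    rw [this]
    exact (fixV V P).one_mem
  mul_mem' := by
    rintro h k ⟨hh, hhV⟩ ⟨hk, hkV⟩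
    refine ⟨P.mul_mem hh hk, fun v hv => ?_⟩
    have e : ⁅v, h * k⁆ = ⁅v, h⁆ * (h * ⁅v, k⁆ * h⁻¹) := by
      rw [commutatorElement_def, commutatorElement_def, commutatorElement_def]; group
    have e2 : h * ⁅v, k⁆ * h⁻¹ = ⁅v, k⁆ := by
      rw [S.V0_comm (hkV v hv) hh]; group
    rw [e, e2]
    exact (fixV V P).mul_mem (hhV v hv) (hkV v hv)
  inv_mem' := by
    rintro h ⟨hh, hhV⟩
    refine ⟨P.inv_mem hh, fun v hv => ?_⟩
    have e : ⁅v, h⁻¹⁆ = h⁻¹ * ⁅v, h⁆⁻¹ * h := by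
      rw [commutatorElement_def, commutatorElement_def]; group
    have hc : ⁅v, h⁆⁻¹ ∈ fixV V P := (fixV V P).inv_mem (hhV v hv)
    have e2 : h⁻¹ * ⁅v, h⁆⁻¹ * h = ⁅v, h⁆⁻¹ := by
      rw [S.V0_comm hc (P.inv_mem hh)]; group
    rw [e, e2]
    exact hc

theorem KER_aux_mem (S : Setup p V P Mg Tg R A) {h : G} :
    h ∈ KER_aux_K S ↔ h ∈ P ∧ ∀ v ∈ V, ⁅v, h⁆ ∈ fixV V P := Iff.rfl

theorem KER_aux_le (S : Setup p V P Mg Tg R A) : KER_aux_K S ≤ P := fun _ hh => hh.1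

theorem KER_aux_norm (S : Setup p V P Mg Tg R A) :
    P ≤ Subgroup.normalizer ((KER_aux_K S : Subgroup G) : Set G) := by
  have key : ∀ g ∈ P, ∀ h ∈ KER_aux_K S, g * h * g⁻¹ ∈ KER_aux_K S := by
    rintro g hg h ⟨hh, hhV⟩
    refine ⟨P.mul_mem (P.mul_mem hg hh) (P.inv_mem hg), fun v hv => ?_⟩
    have hv' : g⁻¹ * v * g⁻¹⁻¹ ∈ V := S.conj_mem_V hv (P.inv_mem hg)
    have hc := hhV _ hv'
    have e : ⁅v, g * h * g⁻¹⁆ = g * ⁅g⁻¹ * v * g⁻¹⁻¹, h⁆ * g⁻¹ := by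
      rw [commutatorElement_def, commutatorElement_def]; group
    have e2 : g * ⁅g⁻¹ * v * g⁻¹⁻¹, h⁆ * g⁻¹ = ⁅g⁻¹ * v * g⁻¹⁻¹, h⁆ := by
      rw [S.V0_comm hc hg]; group
    rw [e, e2]
    exact hc
  intro g hg
  rw [Subgroup.mem_normalizer_iff]
  intro h
  constructor
  · intro hh
    exact key g hg h hh
  · intro hh
    have := key g⁻¹ (P.inv_mem hg) _ hh
    have e : g⁻¹ * (g * h * g⁻¹) * g⁻¹⁻¹ = h := by group
    rwa [e] at this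

/-- powers: `h^k v h^{-k} = c^{-k} v` -/
theorem KER_aux_pow (S : Setup p V P Mg Tg R A) {h : G} (hh : h ∈ KER_aux_K S) {v : G} (hv : v ∈ V)
    (k : ℕ) : h ^ k * v * (h ^ k)⁻¹ = (⁅v, h⁆⁻¹) ^ k * v := by
  obtain ⟨hhP, hhV⟩ := hh
  induction k with
  | zero => simp
  | succ k ih =>
    have hc : ⁅v, h⁆⁻¹ ∈ fixV V P := (fixV V P).inv_mem (hhV v hv)
    have hck : (⁅v, h⁆⁻¹) ^ k ∈ fixV V P := (fixV V P).pow_mem hc k
    have e : h ^ (k + 1) * v * (h ^ (k + 1))⁻¹ = h * (h ^ k * v * (h ^ k)⁻¹) * h⁻¹ := by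
      rw [pow_succ']; group
    rw [e, ih]
    have e2 : h * ((⁅v, h⁆⁻¹) ^ k * v) * h⁻¹ = (h * (⁅v, h⁆⁻¹) ^ k * h⁻¹) * (h * v * h⁻¹) := by group
    have e3 : h * (⁅v, h⁆⁻¹) ^ k * h⁻¹ = (⁅v, h⁆⁻¹) ^ k := by
      rw [S.V0_comm hck hhP]; group
    rw [e2, e3, KER_aux_conj, ← mul_assoc, ← pow_succ]

theorem KER_aux_pgroup (S : Setup p V P Mg Tg R A) : IsPGroup p ↥(KER_aux_K S) := by
  intro ⟨h, hh⟩
  refine ⟨1, ?_⟩
  rw [pow_one]
  apply Subtype.ext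
  rw [Subgroup.coe_pow, Subgroup.coe_one]
  show h ^ p = 1
  have hmem : h ^ p ∈ P ⊓ Subgroup.centralizer (V : Set G) := by
    refine ⟨P.pow_mem hh.1 p, ?_⟩
    show h ^ p ∈ Subgroup.centralizer (V : Set G)
    rw [Subgroup.mem_centralizer_iff]
    intro v hv
    have h1 := KER_aux_pow S hh hv p
    have hc : ⁅v, h⁆⁻¹ ∈ V := fix_le V P ((fixV V P).inv_mem (hh.2 v hv))
    rw [S.hV.2 _ hc, one_mul] at h1
    calc v * h ^ p = h ^ p * v * (h ^ p)⁻¹ * h ^ p := by rw [h1]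
      _ = h ^ p * v := by group
  rw [S.hf] at hmem
  exact Subgroup.mem_bot.mp hmem

/-- KER, with RBOT as a hypothesis -/
theorem KER_core (S : Setup p V P Mg Tg R A) (hR : R = ⊥) :
    ∀ h ∈ P, (∀ v ∈ V, ⁅v, h⁆ ∈ fixV V P) → h = 1 := by
  intro h hh hV
  have h1 : h ∈ KER_aux_K S := ⟨hh, hV⟩
  have h2 := S.hRmax (KER_aux_K S) (KER_aux_le S) (KER_aux_norm S) (KER_aux_pgroup S) h1
  rw [hR] at h2
  exact Subgroup.mem_bot.mp h2

end Cfsg.Agent.S2999P
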