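import Cfsg.Agent.Helper27.S2834Defs

set_option autoImplicit false

namespace Cfsg.Agent.S2834P

open Cfsg

universe u v

variable {H : Type u} [Group H] {Ω : Type v} [MulAction H Ω] {p : ℕ} [Fact p.Prime]

/-- (C4) every `p`-subgroup lies in a conjugate of `T` (and so fixes `g • w`). -/
theorem C4 [Finite H] (T : Sylow p H) {R : Subgroup H} (hR : IsPGroup p R) :
    ∃ g : H, R ≤ ((g • T : Sylow p H) : Subgroup H) := by
  obtain ⟨Q, hQ⟩ := hR.exists_le_sylow
  obtain ⟨g, hg⟩ := MulAction.exists_smul_eq H T Q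
  exact ⟨g, hg ▸ hQ⟩

/-- Sylow's theorem inside a subgroup `K` containing the Sylow subgroup `T` of `H`. -/
theorem C34_aux_sylow_in [Finite H] (T : Sylow p H) {K R : Subgroup H} (hTK : (T : Subgroup H) ≤ K)
    (hR : IsPGroup p R) (hRK : R ≤ K) :
    ∃ k ∈ K, R ≤ ((k • T : Sylow p H) : Subgroup H) := by
  have hR' : IsPGroup p (R.subgroupOf K) :=
    hR.comap_of_injective K.subtype K.subtype_injective
  obtain ⟨Q, hQ⟩ := hR'.exists_le_sylow
  obtain ⟨k, hk⟩ := MulAction.exists_smul_eq K (T.subtype hTK) Q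
  refine ⟨(k : H), k.2, ?_⟩
  intro r hr
  have h1 : (⟨r, hRK hr⟩ : K) ∈ R.subgroupOf K := by
    rw [Subgroup.mem_subgroupOf]; exact hr
  have h2 : (⟨r, hRK hr⟩ : K) ∈ (Q : Subgroup K) := hQ h1
  rw [← hk] at h2
  rw [Sylow.coe_subgroup_smul, Subgroup.mem_pointwise_smul_iff_inv_smul_mem] at h2
  rw [Sylow.coe_subgroup_smul, Subgroup.mem_pointwise_smul_iff_inv_smul_mem]
  have h3 : (((MulAut.conj k)⁻¹ • (⟨r, hRK hr⟩ : K) : K) : H) ∈ (T : Subgroup H) := by
    have := h2
    rw [Sylow.coe_subtype, Subgroup.mem_subgroupOf] at this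
    exact this
  simpa [MulAut.smul_def, MulAut.conj_inv_apply] using h3

/-- (C3) a `p`-subgroup fixing `h • w` lies in a conjugate `g • T` with `g • w = h • w`. -/
theorem C3 [Finite H] {T : Sylow p H} {w : Ω} (hT : IsCT T w) {R : Subgroup H} (hR : IsPGroup p R) (h : H)
    (hfix : ∀ r ∈ R, r • h • w = h • w) :
    ∃ g : H, g • w = h • w ∧ R ≤ ((g • T : Sylow p H) : Subgroup H) := by
  have hTK : ((h • T : Sylow p H) : Subgroup H) ≤ MulAction.stabilizer H (h • w) := by
    intro x hx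
    rw [Sylow.coe_subgroup_smul, Subgroup.mem_pointwise_smul_iff_inv_smul_mem] at hx
    rw [MulAction.mem_stabilizer_iff]
    have h1 := hT.2.1 _ hx
    simp only [MulAut.smul_def, MulAut.conj_inv_apply] at h1
    have h2 : x • h • w = h • ((h⁻¹ * x * h) • w) := by
      simp only [smul_smul]; congr 1; group
    rw [h2, h1]
  have hRK : R ≤ MulAction.stabilizer H (h • w) := fun r hr => by
    rw [MulAction.mem_stabilizer_iff]; exact hfix r hr
  obtain ⟨k, hk, hle⟩ := C34_aux_sylow_in (h • T) hTK hR hRK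
  refine ⟨k * h, ?_, ?_⟩
  · rw [mul_smul]; exact MulAction.mem_stabilizer_iff.mp hk
  · rw [mul_smul]; exact hle

end Cfsg.Agent.S2834P
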