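import Cfsg.Agent.Helper11.S3786Defs

/-! Board `s3786pieces`, row Y_fixed_pt (helper24): a `p`-element `z` normalising but not centralising the finite
`p`-group `B`: some commutator `c = [z,b] ≠ 1` commutes with `z`.  Proof: the set `S = {[z,b] : b ∈ B}` is an orbit of
the twisted conjugation action `b • s = b^z s b⁻¹` of `B`, so `p ∣ |S|`; it is invariant under conjugation by `⟨z⟩`,
which fixes `1 ∈ S`, hence fixes another point. -/

set_option autoImplicit false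

namespace Cfsg.Agent.S3786P

open Subgroup

/-- the twisted conjugation action `b • s = (z b z⁻¹) s b⁻¹` of `B` -/
@[instance_reducible] def Y_fixed_pt_aux_tw {Γ : Type*} [Group Γ] (B : Subgroup Γ) (z : Γ) : MulAction B Γ where
  smul b s := z * (b : Γ) * z⁻¹ * s * (b : Γ)⁻¹
  one_smul s := by
    show z * ((1 : B) : Γ) * z⁻¹ * s * ((1 : B) : Γ)⁻¹ = s
    simp
  mul_smul a b s := by
    show z * ((a * b : B) : Γ) * z⁻¹ * s * ((a * b : B) : Γ)⁻¹ =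
      z * (a : Γ) * z⁻¹ * (z * (b : Γ) * z⁻¹ * s * (b : Γ)⁻¹) * (a : Γ)⁻¹
    simp [mul_assoc]

/-- the conjugation action of a subgroup on an invariant set -/
@[instance_reducible] def Y_fixed_pt_aux_conj {Γ : Type*} [Group Γ] (K : Subgroup Γ) (S : Set Γ)
    (hKS : ∀ g ∈ K, ∀ s ∈ S, g * s * g⁻¹ ∈ S) : MulAction K S where
  smul g s := ⟨(g : Γ) * s * (g : Γ)⁻¹, hKS g g.2 s s.2⟩
  one_smul s := Subtype.ext (by
    show ((1 : K) : Γ) * s * ((1 : K) : Γ)⁻¹ = s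
    simp)
  mul_smul a b s := Subtype.ext (by
    show ((a * b : K) : Γ) * s * ((a * b : K) : Γ)⁻¹ = (a : Γ) * ((b : Γ) * s * (b : Γ)⁻¹) * (a : Γ)⁻¹
    simp [mul_assoc])

/-- a nontrivial orbit of a finite `p`-group has size divisible by `p` -/
theorem Y_fixed_pt_aux_orbit {p : ℕ} [Fact p.Prime] {G : Type*} [Group G] [Finite G] (hG : IsPGroup p G)
    {α : Type*} [MulAction G α] (a : α) (g : G) (hg : g • a ≠ a) : p ∣ Nat.card (MulAction.orbit G a) := by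
  have hfin : Finite (MulAction.orbit G a) := (Set.finite_range _).to_subtype
  obtain ⟨n, hn⟩ := hG.card_orbit a
  rw [hn]
  rcases n with _ | n
  · exfalso
    rw [pow_zero, Nat.card_eq_one_iff_unique] at hn
    have := hn.1.elim ⟨g • a, MulAction.mem_orbit a g⟩ ⟨a, MulAction.mem_orbit_self a⟩
    exact hg (congrArg Subtype.val this)
  · exact dvd_pow_self p (Nat.succ_ne_zero n)

/-- Y5b. -/
theorem Y_fixed_pt {Γ : Type*} [Group Γ] (p : ℕ) [Fact p.Prime] (B : Subgroup Γ) [Finite ↥B] (hB : IsPGroup p B) (z : Γ)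
    (hz : ∃ j : ℕ, z ^ p ^ j = 1) (hzB : ∀ b ∈ B, z * b * z⁻¹ ∈ B) (hnc : ∃ b ∈ B, z * b ≠ b * z) :
    ∃ b ∈ B, z * b * z⁻¹ * b⁻¹ ≠ 1 ∧ z * (z * b * z⁻¹ * b⁻¹) = (z * b * z⁻¹ * b⁻¹) * z := by
  obtain ⟨j, hj⟩ := hz
  obtain ⟨b₀, hb₀, hb₀z⟩ := hnc
  -- the set of commutators
  let S : Set Γ := {s | ∃ b ∈ B, s = z * b * z⁻¹ * b⁻¹}
  have hSorb : S = @MulAction.orbit ↥B Γ (Y_fixed_pt_aux_tw B z).toSMul (1 : Γ) := by
    ext s
    constructor
    · rintro ⟨b, hb, rfl⟩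
      refine ⟨⟨b, hb⟩, ?_⟩
      show z * b * z⁻¹ * 1 * b⁻¹ = _
      rw [mul_one]
    · rintro ⟨b, rfl⟩
      refine ⟨b, b.2, ?_⟩
      show z * (b : Γ) * z⁻¹ * 1 * (b : Γ)⁻¹ = _
      rw [mul_one]
  have hpS : p ∣ Nat.card S := by
    rw [hSorb]
    refine @Y_fixed_pt_aux_orbit p _ ↥B _ _ hB Γ (Y_fixed_pt_aux_tw B z) 1 ⟨b₀, hb₀⟩ ?_
    show z * b₀ * z⁻¹ * 1 * b₀⁻¹ ≠ 1
    intro e
    apply hb₀z
    rw [mul_one, mul_inv_eq_one, mul_inv_eq_iff_eq_mul] at e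
    exact e
  have hSfin : Finite S := by
    rw [hSorb]
    exact (Set.finite_range _).to_subtype
  -- the group ⟨z⟩
  have hK : IsPGroup p (zpowers z) := by
    rintro ⟨g, hg⟩
    obtain ⟨k, rfl⟩ := mem_zpowers_iff.mp hg
    refine ⟨j, Subtype.ext ?_⟩
    show (z ^ k) ^ p ^ j = 1
    rw [← zpow_natCast, ← zpow_mul, mul_comm, zpow_mul, zpow_natCast, hj, one_zpow]
  have hzN : z ∈ normalizer (B : Set Γ) := mem_normalizer_fintype (fun n hn => hzB n hn)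
  have hKN : zpowers z ≤ normalizer (B : Set Γ) := (zpowers_le).mpr hzN
  have hKS : ∀ g ∈ zpowers z, ∀ s ∈ S, g * s * g⁻¹ ∈ S := by
    rintro g hg s ⟨b, hb, rfl⟩
    refine ⟨g * b * g⁻¹, (mem_normalizer_iff.mp (hKN hg) b).mp hb, ?_⟩
    obtain ⟨k, rfl⟩ := mem_zpowers_iff.mp hg
    group
  let _ := Y_fixed_pt_aux_conj (zpowers z) S hKS
  have h1S : (1 : Γ) ∈ S := ⟨1, B.one_mem, by simp⟩
  have h1fix : (⟨1, h1S⟩ : S) ∈ MulAction.fixedPoints (zpowers z) S := by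
    intro g
    refine Subtype.ext ?_
    show (g : Γ) * 1 * (g : Γ)⁻¹ = 1
    simp
  obtain ⟨c, hcfix, hc1⟩ := hK.exists_fixed_point_of_prime_dvd_card_of_fixed_point S hpS h1fix
  obtain ⟨c, b, hb, rfl⟩ := c
  refine ⟨b, hb, ?_, ?_⟩
  · intro e
    exact hc1 (Subtype.ext e.symm)
  · have := hcfix ⟨z, mem_zpowers z⟩
    have h2 : z * (z * b * z⁻¹ * b⁻¹) * z⁻¹ = z * b * z⁻¹ * b⁻¹ := congrArg Subtype.val this
    rw [mul_inv_eq_iff_eq_mul] at h2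
    exact h2

end Cfsg.Agent.S3786P
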