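import Cfsg.Agent.Helper11.S3786Defs

/-! Board `s3786pieces`, row Y_pow_comm (helper24): `[u^j, b] ∈ [u, B]` for `u` normalising the abelian group `B`. -/

set_option autoImplicit false

namespace Cfsg.Agent.S3786P

open Subgroup

/-- powers of `u` normalise `B` -/
theorem Y_pow_comm_aux_pow {Γ : Type*} [Group Γ] (B : Subgroup Γ) (u : Γ)
    (hu : ∀ b ∈ B, u * b * u⁻¹ ∈ B) (j : ℕ) {b : Γ} (hb : b ∈ B) : u ^ j * b * (u ^ j)⁻¹ ∈ B := by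
  induction j with
  | zero => simpa using hb
  | succ j ih =>
    have := hu _ ih
    have e : u ^ (j + 1) * b * (u ^ (j + 1))⁻¹ = u * (u ^ j * b * (u ^ j)⁻¹) * u⁻¹ := by
      rw [pow_succ']
      group
    rw [e]
    exact this

/-- Y5a. `[u^j, b] ∈ [u, B]` for `u` normalising the abelian group `B`: `[u^j,b] = Π_{i<j} [u, b^{u^i}] = [u, Π b^{u^i}]`. -/
theorem Y_pow_comm {Γ : Type*} [Group Γ] (B : Subgroup Γ) (hBc : ∀ a ∈ B, ∀ b ∈ B, a * b = b * a) (u : Γ)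
    (hu : ∀ b ∈ B, u * b * u⁻¹ ∈ B) (j : ℕ) {b : Γ} (hb : b ∈ B) :
    ∃ b' ∈ B, u ^ j * b * (u ^ j)⁻¹ * b⁻¹ = u * b' * u⁻¹ * b'⁻¹ := by
  induction j with
  | zero => exact ⟨1, B.one_mem, by simp⟩
  | succ j ih =>
    obtain ⟨b'', hb'', e⟩ := ih
    have hc : u ^ j * b * (u ^ j)⁻¹ ∈ B := Y_pow_comm_aux_pow B u hu j hb
    refine ⟨u ^ j * b * (u ^ j)⁻¹ * b'', B.mul_mem hc hb'', ?_⟩
    set c := u ^ j * b * (u ^ j)⁻¹ with hcdef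
    have e1 : u ^ (j + 1) * b * (u ^ (j + 1))⁻¹ * b⁻¹ = (u * c * u⁻¹ * c⁻¹) * (c * b⁻¹) := by
      rw [hcdef, pow_succ']
      group
    rw [e1, e]
    -- all of `u c u⁻¹`, `c⁻¹`, `u b'' u⁻¹`, `b''⁻¹` lie in the abelian group `B`
    have h1 : u * c * u⁻¹ ∈ B := hu _ hc
    have h2 : c⁻¹ ∈ B := B.inv_mem hc
    have h3 : u * b'' * u⁻¹ ∈ B := hu _ hb''
    have h4 : b''⁻¹ ∈ B := B.inv_mem hb''
    have e2 : u * (c * b'') * u⁻¹ * (c * b'')⁻¹ = (u * c * u⁻¹) * (u * b'' * u⁻¹) * (b''⁻¹ * c⁻¹) := by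
      group
    rw [e2]
    have e3 : u * c * u⁻¹ * c⁻¹ * (u * b'' * u⁻¹ * b''⁻¹) =
        (u * c * u⁻¹) * (c⁻¹ * (u * b'' * u⁻¹)) * b''⁻¹ := by
      simp only [mul_assoc]
    rw [e3, hBc _ h2 _ h3, hBc _ h4 _ h2]
    simp only [mul_assoc]

end Cfsg.Agent.S3786P
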