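import Mathlib
import Cfsg.Agent.Helper26.S3911Defs

set_option autoImplicit false
set_option linter.unusedVariables false

/-! S3912 board, row C2f (helper24). -/

namespace Cfsg.Agent.S3912P

open Cfsg.Agent.S3911P

/-- two `p`-subgroups of maximal order inside a subgroup `C` are conjugate under `C` -/
theorem C2f_aux_conj {G : Type*} [Group G] [Finite G] (C A B : Subgroup G) (hA : A ≤ C) (hB : B ≤ C)
    (hpA : IsPGroup 2 A) (hpB : IsPGroup 2 B) (hcard : Nat.card A = Nat.card B)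
    (hmax : ∀ Q : Subgroup G, IsPGroup 2 Q → Nat.card Q ≤ Nat.card A) :
    ∃ c ∈ C, B = A.map (MulAut.conj c).toMonoidHom := by
  have : Fact (Nat.Prime 2) := ⟨Nat.prime_two⟩
  have key : ∀ X : Subgroup G, X ≤ C → IsPGroup 2 X → Nat.card X = Nat.card A →
      ∃ Q : Sylow 2 ↥C, (Q : Subgroup ↥C) = X.subgroupOf C := by
    intro X hX hpX hXc
    obtain ⟨Q, hQ⟩ := (hpX.comap_subtype (K := C)).exists_le_sylow
    change X.subgroupOf C ≤ (Q : Subgroup ↥C) at hQ
    refine ⟨Q, ?_⟩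
    symm
    apply Subgroup.eq_of_le_of_card_ge hQ
    have h1 : Nat.card ((Q : Subgroup ↥C).map C.subtype) = Nat.card (Q : Subgroup ↥C) :=
      Subgroup.card_map_of_injective C.subtype_injective
    have h2 := hmax _ (Q.2.map C.subtype)
    have h3 : Nat.card (X.subgroupOf C) = Nat.card X :=
      Nat.card_congr (Subgroup.subgroupOfEquivOfLe hX).toEquiv
    rw [h3, hXc]
    rw [h1] at h2
    exact h2
  obtain ⟨QA, hQA⟩ := key A hA hpA rfl
  obtain ⟨QB, hQB⟩ := key B hB hpB hcard.symm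
  obtain ⟨c, hc⟩ := MulAction.exists_smul_eq ↥C QA QB
  refine ⟨c, c.2, ?_⟩
  ext x
  rw [Subgroup.mem_map]
  constructor
  · intro hx
    have hxC : x ∈ C := hB hx
    have h1 : (⟨x, hxC⟩ : ↥C) ∈ (QB : Subgroup ↥C) := by
      rw [hQB]; exact hx
    rw [← hc, Sylow.coe_subgroup_smul, Subgroup.mem_pointwise_smul_iff_inv_smul_mem] at h1
    rw [hQA] at h1
    refine ⟨(c : G)⁻¹ * x * c, ?_, ?_⟩
    · have : (((MulAut.conj c)⁻¹ • (⟨x, hxC⟩ : ↥C) : ↥C) : G) = (c : G)⁻¹ * x * c := by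
        simp [MulAut.smul_def]
      rw [← this]
      exact h1
    · simp [mul_assoc]
  · rintro ⟨y, hy, rfl⟩
    have hyC : y ∈ C := hA hy
    have h1 : (⟨y, hyC⟩ : ↥C) ∈ (QA : Subgroup ↥C) := by
      rw [hQA]; exact hy
    have h2 : c * ⟨y, hyC⟩ * c⁻¹ ∈ (QB : Subgroup ↥C) := by
      rw [← hc, Sylow.coe_subgroup_smul, Subgroup.mem_pointwise_smul_iff_inv_smul_mem]
      have : (MulAut.conj c)⁻¹ • (c * ⟨y, hyC⟩ * c⁻¹) = (⟨y, hyC⟩ : ↥C) := by
        simp [MulAut.smul_def, mul_assoc]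
      rw [this]
      exact h1
    rw [hQB, Subgroup.mem_subgroupOf] at h2
    simpa using h2

/-- conjugation by a product -/
theorem C2f_aux_map_mul {G : Type*} [Group G] (K : Subgroup G) (c g : G) :
    K.map (MulAut.conj (c * g)).toMonoidHom
      = (K.map (MulAut.conj g).toMonoidHom).map (MulAut.conj c).toMonoidHom := by
  rw [Subgroup.map_map]
  congr 1
  ext x
  simp [mul_assoc]

/-- conjugation by a centralizing element fixes the subgroup -/
theorem C2f_aux_map_cen {G : Type*} [Group G] (K : Subgroup G) (c : G)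
    (hc : c ∈ Subgroup.centralizer (K : Set G)) :
    K.map (MulAut.conj c).toMonoidHom = K := by
  rw [Subgroup.mem_centralizer_iff] at hc
  ext x
  rw [Subgroup.mem_map]
  constructor
  · rintro ⟨y, hy, rfl⟩
    have : c * y * c⁻¹ = y := by
      rw [← hc y hy, mul_assoc, mul_inv_cancel, mul_one]
    simpa [this] using hy
  · intro hx
    refine ⟨x, hx, ?_⟩
    have : c * x * c⁻¹ = x := by
      rw [← hc x hx, mul_assoc, mul_inv_cancel, mul_one]
    simpa using this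

/-- C2f (L): two such structured subgroups of equal order are conjugate (`hB` on the odd parts, then Sylow
in the centralizer of the odd part). -/
theorem C2f {G : Type*} [Group G] [Finite G] (hB : BProp G) (P : Sylow 2 G)
    (hP : Nat.card ↥(P : Subgroup G) = 8)
    (S₁ O₁ S₂ O₂ : Subgroup G) (h1 : Nat.card ↥S₁ = 8) (h2 : Nat.card ↥S₂ = 8)
    (ho1 : Odd (Nat.card ↥O₁)) (hc1 : IsMulCommutative ↥O₁) (hc2 : IsMulCommutative ↥O₂)
    (hcard : Nat.card ↥O₁ = Nat.card ↥O₂)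
    (hcomm1 : ∀ s ∈ S₁, ∀ o ∈ O₁, s * o = o * s) (hcomm2 : ∀ s ∈ S₂, ∀ o ∈ O₂, s * o = o * s) :
    ∃ g : G, S₂ ⊔ O₂ = (S₁ ⊔ O₁).map (MulAut.conj g).toMonoidHom := by
  have : Fact (Nat.Prime 2) := ⟨Nat.prime_two⟩
  obtain ⟨g, hg⟩ := hB O₁ O₂ hc1 hc2 hcard
  set S₁' : Subgroup G := S₁.map (MulAut.conj g).toMonoidHom with hS₁'
  have hcS₁' : Nat.card ↥S₁' = 8 := by
    rw [hS₁', Subgroup.card_map_of_injective (MulAut.conj g).injective, h1]
  have hpS₁' : IsPGroup 2 ↥S₁' := IsPGroup.of_card (n := 3) (by rw [hcS₁']; norm_num)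
  have hpS₂ : IsPGroup 2 ↥S₂ := IsPGroup.of_card (n := 3) (by rw [h2]; norm_num)
  have hS₂C : S₂ ≤ Subgroup.centralizer (O₂ : Set G) := by
    intro s hs
    rw [Subgroup.mem_centralizer_iff]
    intro o ho
    exact (hcomm2 s hs o ho).symm
  have hS₁'C : S₁' ≤ Subgroup.centralizer (O₂ : Set G) := by
    intro s hs
    rw [Subgroup.mem_centralizer_iff]
    intro o ho
    rw [hS₁', Subgroup.mem_map] at hs
    obtain ⟨s₀, hs₀, rfl⟩ := hs
    have ho' : o ∈ O₂ := ho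
    rw [hg, Subgroup.mem_map] at ho'
    obtain ⟨o₀, ho₀, rfl⟩ := ho'
    have := hcomm1 s₀ hs₀ o₀ ho₀
    simp only [MulEquiv.coe_toMonoidHom, MulAut.conj_apply]
    calc g * o₀ * g⁻¹ * (g * s₀ * g⁻¹) = g * (o₀ * s₀) * g⁻¹ := by group
      _ = g * (s₀ * o₀) * g⁻¹ := by rw [this]
      _ = g * s₀ * g⁻¹ * (g * o₀ * g⁻¹) := by group
  have hmax : ∀ Q : Subgroup G, IsPGroup 2 ↥Q → Nat.card ↥Q ≤ Nat.card ↥S₁' := by
    intro Q hQ
    obtain ⟨P', hP'⟩ := hQ.exists_le_sylow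
    have e : Nat.card ↥(P' : Subgroup G) = Nat.card ↥(P : Subgroup G) := by
      rw [Sylow.card_eq_multiplicity, Sylow.card_eq_multiplicity]
    rw [hcS₁', ← hP, ← e]
    exact Subgroup.card_le_of_le hP'
  obtain ⟨c, hc, hcS⟩ := C2f_aux_conj (Subgroup.centralizer (O₂ : Set G)) S₁' S₂ hS₁'C hS₂C
    hpS₁' hpS₂ (by rw [hcS₁', h2]) hmax
  refine ⟨c * g, ?_⟩
  rw [C2f_aux_map_mul, Subgroup.map_sup, Subgroup.map_sup, ← hS₁', ← hg, ← hcS,
    C2f_aux_map_cen O₂ c hc]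

end Cfsg.Agent.S3912P
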