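import Mathlib
import Cfsg.Agent.S0908
import Cfsg.Agent.S0914
import Cfsg.Agent.Helper5.BlockBasic

set_option autoImplicit false

/-!
# Defect-one cluster, piece QH

All irreducible characters in a `p`-block whose defect group is a Sylow `p`-subgroup of order `p`
have degree prime to `p`.
-/

namespace Cfsg.Agent.Helper24.D1QH

open Cfsg Cfsg.Agent.Helper5.CC Cfsg.Agent.Helper5.Loc Cfsg.Agent.Helper24

/-- (QH) all characters in a block with defect group `P` have degree prime to `p` -/
theorem not_dvd_charDegree {G : Type*} [Group G] [Finite G] {p : ℕ} [Fact p.Prime]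
    {M : Ideal AlgInt} (hM : IsPModular p M) (P : Sylow p G) (hP : Nat.card P = p)
    (B : Set (IrrCharacter G)) (hB : IsPBlock M B) (hBP : IsDefectGroup p M B P)
    (χ : IrrCharacter G) (hχ : χ ∈ B) : ¬ p ∣ charDegree (χ : G → ℂ) := by
  classical
  have hp : p.Prime := Fact.out
  have hMp : M.IsPrime := isPrime_of_isPModular hM
  intro hdvd
  -- the defect of `B` is one
  have hcard := Cfsg.Agent.S0908.result p M hM B hB (P : Subgroup G) hBP
  have hd1 : blockDefect p B = 1 := by
    have h1 : p ^ 1 = p ^ blockDefect p B := by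
      rw [pow_one, ← hcard]; exact hP.symm
    exact (Nat.pow_right_injective hp.two_le h1).symm
  -- the `p`-part of `|G|` is `p`
  have hfac : (Nat.card G).factorization p = 1 := by
    have h2 := P.card_eq_multiplicity
    rw [hP] at h2
    have h3 : p ^ 1 = p ^ (Nat.card G).factorization p := by rw [pow_one]; exact h2
    exact (Nat.pow_right_injective hp.two_le h3).symm
  -- `χ(1)` divides `|G|`
  have hdeg : charDegree (χ : G → ℂ) = irrDeg χ := Cfsg.Agent.S0914.charDegree_eq_irrDeg χ
  have hdc : charDegree (χ : G → ℂ) ∣ Nat.card G := by rw [hdeg]; exact irrDeg_dvd_card χ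
  have hpos : 0 < charDegree (χ : G → ℂ) := by rw [hdeg]; exact irrDeg_pos χ
  -- hence `p ∤ |G| / χ(1)`
  have hnd : ¬ p ∣ Nat.card G / charDegree (χ : G → ℂ) := by
    intro h
    obtain ⟨a, ha⟩ := hdvd
    obtain ⟨c, hc⟩ := h
    have h4 : Nat.card G = charDegree (χ : G → ℂ) * (Nat.card G / charDegree (χ : G → ℂ)) :=
      (Nat.mul_div_cancel' hdc).symm
    have h5 : p ^ 2 ∣ Nat.card G := by
      rw [h4, hc, ha]
      exact ⟨a * c, by ring⟩
    have h6 := (hp.pow_dvd_iff_le_factorization (Nat.card_pos (α := G)).ne').1 h5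
    omega
  -- so `B = {χ}`
  have hB1 : blockOf M (χ : G → ℂ) = {χ} := (Cfsg.Agent.S0914.result p M hM χ).1 hnd
  have hB2 : B = {χ} := by rw [IsPBlock_eq_blockOf hMp hB hχ, hB1]
  -- and the defect is `0`
  have hfχ : 1 ≤ (charDegree (χ : G → ℂ)).factorization p :=
    (hp.dvd_iff_one_le_factorization hpos.ne').1 hdvd
  have hd0 : blockDefect p B = 0 := by
    unfold blockDefect
    rw [hB2, Set.image_singleton, csInf_singleton, hfac]
    omega
  omega

end Cfsg.Agent.Helper24.D1QH
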