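import Mathlib
import Cfsg.Prelude.Def_Characters

/-!
Basic closure properties of elementary groups.
-/

namespace Cfsg.Agent.Helper24

open Cfsg

section Elementary

/-- Elementary groups are closed under isomorphism. -/
theorem IsElementary.of_mulEquiv {p : ℕ} {E E' : Type*} [Group E] [Group E'] (e : E ≃* E')
    (h : IsElementary p E) : IsElementary p E' := by
  obtain ⟨x, hxc, hxp, k, hk⟩ := h
  refine ⟨e x, ?_, ?_, k, ?_⟩
  · rw [Subgroup.mem_center_iff] at hxc ⊢
    intro y'
    obtain ⟨y, rfl⟩ := e.surjective y'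
    rw [← map_mul, ← map_mul, hxc y]
  · rw [MulEquiv.orderOf_eq]; exact hxp
  · have h1 : Subgroup.zpowers (e x) = (Subgroup.zpowers x).map (e : E →* E') := by
      rw [MonoidHom.map_zpowers]; rfl
    rw [h1, Subgroup.index_map_equiv]
    exact hk

/-- Subgroups of elementary groups are elementary. -/
theorem IsElementary.subgroup {p : ℕ} (hp : p.Prime) {E : Type*} [Group E]
    (h : IsElementary p E) (H : Subgroup E) : IsElementary p H := by
  obtain ⟨x, hxc, hxp, k, hk⟩ := h
  set C : Subgroup H := (Subgroup.zpowers x).subgroupOf H with hC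
  -- C is cyclic
  let f : C →* Subgroup.zpowers x :=
    { toFun := fun c => ⟨((c : H) : E), c.2⟩
      map_one' := rfl
      map_mul' := fun _ _ => rfl }
  have hf : Function.Injective f := by
    intro a b hab
    apply Subtype.ext
    apply Subtype.ext
    exact congrArg (fun z : Subgroup.zpowers x => (z : E)) hab
  haveI : IsCyclic C := isCyclic_of_injective f hf
  obtain ⟨y, hy⟩ := IsCyclic.exists_generator (α := C)
  have hyC : Subgroup.zpowers (y : H) = C := by
    apply le_antisymm
    · rw [Subgroup.zpowers_le]; exact y.2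
    · intro c hc
      have := hy ⟨c, hc⟩
      rw [Subgroup.mem_zpowers_iff] at this ⊢
      obtain ⟨i, hi⟩ := this
      exact ⟨i, by simpa using congrArg (fun z : C => (z : H)) hi⟩
  have hyx : ((y : H) : E) ∈ Subgroup.zpowers x := y.2
  have hycE : ((y : H) : E) ∈ Subgroup.center E := by
    obtain ⟨i, hi⟩ := Subgroup.mem_zpowers_iff.mp hyx
    rw [← hi]
    exact Subgroup.zpow_mem _ hxc i
  refine ⟨(y : H), ?_, ?_, ?_⟩
  · rw [Subgroup.mem_center_iff]
    intro g
    apply Subtype.ext
    have := Subgroup.mem_center_iff.mp hycE (g : E)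
    simpa using this
  · have h1 : orderOf (y : H) = orderOf ((y : H) : E) := (Subgroup.orderOf_coe (y : H)).symm
    rw [h1]
    exact Nat.Coprime.coprime_dvd_left (orderOf_dvd_of_mem_zpowers hyx) hxp
  · rw [hyC]
    haveI : (Subgroup.zpowers x).Normal := by
      constructor
      intro n hn g
      have hnc : n ∈ Subgroup.center E := by
        obtain ⟨i, hi⟩ := Subgroup.mem_zpowers_iff.mp hn
        rw [← hi]
        exact Subgroup.zpow_mem _ hxc i
      have : g * n * g⁻¹ = n := by
        rw [Subgroup.mem_center_iff.mp hnc g, mul_assoc, mul_inv_cancel, mul_one]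
      rw [this]; exact hn
    have h1 : C.index ∣ (Subgroup.zpowers x).index :=
      Subgroup.relIndex_dvd_index_of_normal (Subgroup.zpowers x) H
    rw [hk] at h1
    obtain ⟨j, -, hj⟩ := (Nat.dvd_prime_pow hp).mp h1
    exact ⟨j, hj⟩

/-- Elementary groups are nilpotent. -/
theorem IsElementary.isNilpotent {p : ℕ} (hp : p.Prime) {E : Type*} [Group E]
    (h : IsElementary p E) : Group.IsNilpotent E := by
  obtain ⟨x, hxc, hxp, k, hk⟩ := h
  haveI : Fact p.Prime := ⟨hp⟩
  haveI : (Subgroup.zpowers x).Normal := by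
    constructor
    intro n hn g
    have hnc : n ∈ Subgroup.center E := by
      obtain ⟨i, hi⟩ := Subgroup.mem_zpowers_iff.mp hn
      rw [← hi]
      exact Subgroup.zpow_mem _ hxc i
    have : g * n * g⁻¹ = n := by
      rw [Subgroup.mem_center_iff.mp hnc g, mul_assoc, mul_inv_cancel, mul_one]
    rw [this]; exact hn
  have hcard : Nat.card (E ⧸ Subgroup.zpowers x) = p ^ k := by
    rw [← Subgroup.index_eq_card]; exact hk
  haveI : Finite (E ⧸ Subgroup.zpowers x) := by
    apply Nat.finite_of_card_ne_zero
    rw [hcard]; exact pow_ne_zero _ hp.ne_zero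
  have hpg : IsPGroup p (E ⧸ Subgroup.zpowers x) := IsPGroup.of_card hcard
  haveI : Group.IsNilpotent (E ⧸ Subgroup.zpowers x) := hpg.isNilpotent
  apply Subgroup.isNilpotent_of_ker_le_center (QuotientGroup.mk' (Subgroup.zpowers x))
  rw [QuotientGroup.ker_mk']
  rw [Subgroup.zpowers_le]
  exact hxc

end Elementary

end Cfsg.Agent.Helper24
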