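import Mathlib
import Cfsg.Agent.Helper24.GlaubCyc

/-!
The Glauberman correspondence for `p`-groups (Isaacs, Theorem 13.14), built from the cyclic
case by induction.  `PCorr p ι 𝓘` packages the statement "for `χ ∈ 𝓘` there is a unique
irreducible `β` of `C` with `p ∤ [χ ∘ ι, β]`, and `χ ↦ β` is a bijection `𝓘 → Irr(C)`".
-/

set_option autoImplicit false

namespace Cfsg.Agent.Helper24

open Cfsg

universe u v

section Mult

variable {C : Type u} {G : Type v} [Group C] [Group G] [Finite C]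

theorem exists_mult (ι : C →* G) (χ : IrrCharacter G) (β : IrrCharacter C) :
    ∃ m : ℕ, ∀ inst : Fintype C,
      @classInner C _ inst (fun c : C => (χ : G → ℂ) (ι c)) (β : C → ℂ) = (m : ℂ) := by
  classical
  haveI : Fintype C := Fintype.ofFinite C
  haveI : Fintype (IrrCharacter C) := Fintype.ofFinite _
  obtain ⟨m, hm⟩ := IsCharacter.classInner_irr_nat
    (Helper8.isCharacter_comp ι (IsIrrCharacter.isCharacter χ.2)) β
  refine ⟨m, fun inst => ?_⟩
  rw [← hm]
  congr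
  exact Subsingleton.elim _ _

/-- The multiplicity `[χ ∘ ι, β]` as a natural number. -/
noncomputable def mult (ι : C →* G) (χ : IrrCharacter G) (β : IrrCharacter C) : ℕ :=
  (exists_mult ι χ β).choose

theorem mult_spec [inst : Fintype C] (ι : C →* G) (χ : IrrCharacter G) (β : IrrCharacter C) :
    classInner (fun c : C => (χ : G → ℂ) (ι c)) (β : C → ℂ) = (mult ι χ β : ℂ) :=
  (exists_mult ι χ β).choose_spec inst

theorem mult_eq_of [inst : Fintype C] {ι : C →* G} {χ : IrrCharacter G} {β : IrrCharacter C}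
    {m : ℕ} (h : classInner (fun c : C => (χ : G → ℂ) (ι c)) (β : C → ℂ) = (m : ℂ)) :
    mult ι χ β = m := by
  rw [mult_spec] at h
  exact_mod_cast h

/-- The Glauberman-type correspondence statement for a prime `p`. -/
structure PCorr (p : ℕ) (ι : C →* G) (𝓘 : Set (IrrCharacter G)) : Prop where
  exU : ∀ χ ∈ 𝓘, ∃ β : IrrCharacter C, ¬ p ∣ mult ι χ β ∧ ∀ β', ¬ p ∣ mult ι χ β' → β' = β
  pm : ∀ χ ∈ 𝓘, ∀ β, ¬ p ∣ mult ι χ β →
    ((mult ι χ β : ℤ) ≡ 1 [ZMOD p] ∨ (mult ι χ β : ℤ) ≡ -1 [ZMOD p])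
  inj : ∀ χ ∈ 𝓘, ∀ χ' ∈ 𝓘, ∀ β, ¬ p ∣ mult ι χ β → ¬ p ∣ mult ι χ' β → χ = χ'
  surj : ∀ β : IrrCharacter C, ∃ χ ∈ 𝓘, ¬ p ∣ mult ι χ β

end Mult

section Top

variable {Γ : Type u} [Group Γ] [Finite Γ] {G : Subgroup Γ} [hG : G.Normal] {s : Γ}

open Classical in
theorem GlaubRel.mult_congr {χ : IrrCharacter G} {β : IrrCharacter (fixC G s)}
    (h : GlaubRel G s (χ : G → ℂ) (β : fixC G s → ℂ)) (p e : ℕ) (hp : p.Prime)
    (hs : orderOf s = p ^ e) :
    ∃ ε : ℤ, (ε = 1 ∨ ε = -1) ∧ ∀ β' : IrrCharacter (fixC G s),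
      (mult (Subgroup.inclusion (fixC_le G s)) χ β' : ℤ) ≡ (if β' = β then ε else 0) [ZMOD p] := by
  haveI : Fintype (fixC G s) := Fintype.ofFinite _
  obtain ⟨ψ, ε, hcan, hres, hε, hval⟩ := h
  refine ⟨ε, hε, fun β' => ?_⟩
  obtain ⟨N, a, hN, ha, -, hcong⟩ := hcan.classInner_tw_int β'
  have hfun : (fun c : fixC G s => ψ c) =
      fun c : fixC G s => (χ : G → ℂ) (Subgroup.inclusion (fixC_le G s) c) := by
    funext c
    exact hres ⟨c, fixC_le G s c.2⟩
  have hNm : mult (Subgroup.inclusion (fixC_le G s)) χ β' = N := by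
    apply mult_eq_of
    rw [← hfun]; exact hN
  have htw : tw G s ψ = (ε : ℂ) • (β : fixC G s → ℂ) := by
    funext c
    exact hval c
  have ha' : a = if β' = β then ε else 0 := by
    rw [htw, classInner_smul_left, classInner_of_isIrrCharacter β.2 β'.2] at ha
    by_cases hb : β' = β
    · rw [if_pos hb]
      rw [if_pos (by rw [hb])] at ha
      have : (ε : ℂ) = (a : ℂ) := by rw [← ha]; ring
      exact_mod_cast this.symm
    · rw [if_neg hb]
      rw [if_neg (fun h => hb (Subtype.ext h.symm))] at ha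
      have : (0 : ℂ) = (a : ℂ) := by rw [← ha]; ring
      exact_mod_cast this.symm
  have hgoal : (N : ℤ) ≡ a [ZMOD p] := by
    cases e with
    | zero =>
      rw [pow_zero, orderOf_eq_one_iff] at hs
      have htw1 : tw G s ψ = fun c : fixC G s => ψ c := by
        funext c
        unfold tw
        have : ∀ x : Γ, x * s = x := fun x => by rw [hs, mul_one]
        rw [this]
      rw [htw1, hN] at ha
      have : (N : ℤ) = a := by exact_mod_cast ha
      rw [this]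
    | succ k => exact hcong p k hp hs
  rw [hNm]
  rw [ha'] at hgoal
  convert hgoal

theorem pstep_top (hcop : (Nat.card G).Coprime (orderOf s))
    (htop : G ⊔ Subgroup.zpowers s = ⊤) (p e : ℕ) (hp : p.Prime) (hs : orderOf s = p ^ e) :
    PCorr p (Subgroup.inclusion (fixC_le G s)) {χ : IrrCharacter G | IsSInv G s (χ : G → ℂ)} := by
  classical
  have hp2 : (2 : ℤ) ≤ p := by exact_mod_cast hp.two_le
  -- `±1` is not `0` mod `p`
  have hnot : ∀ (m : ℕ) (ε : ℤ), (ε = 1 ∨ ε = -1) → (m : ℤ) ≡ ε [ZMOD p] → ¬ p ∣ m := by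
    intro m ε hε hm hdvd
    have h1 : (m : ℤ) ≡ 0 [ZMOD p] := by
      rw [Int.modEq_zero_iff_dvd]
      exact_mod_cast hdvd
    have h2 : ε ≡ 0 [ZMOD p] := hm.symm.trans h1
    rw [Int.modEq_zero_iff_dvd] at h2
    rcases hε with rfl | rfl
    · have := Int.le_of_dvd one_pos h2
      omega
    · have h3 : (p : ℤ) ∣ 1 := (dvd_neg (a := (p : ℤ)) (b := 1)).mp h2
      have := Int.le_of_dvd one_pos h3
      omega
  have hdvd0 : ∀ (m : ℕ), (m : ℤ) ≡ 0 [ZMOD p] → p ∣ m := by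
    intro m hm
    rw [Int.modEq_zero_iff_dvd] at hm
    exact_mod_cast hm
  -- the key description
  have key : ∀ χ : IrrCharacter G, IsSInv G s (χ : G → ℂ) →
      ∃ (β : IrrCharacter (fixC G s)) (ε : ℤ), GlaubRel G s (χ : G → ℂ) (β : fixC G s → ℂ) ∧
        (ε = 1 ∨ ε = -1) ∧ ∀ β' : IrrCharacter (fixC G s),
          (mult (Subgroup.inclusion (fixC_le G s)) χ β' : ℤ) ≡ (if β' = β then ε else 0) [ZMOD p] := by
    intro χ hχ
    obtain ⟨β, hβ⟩ := exists_glaubRel hcop htop χ hχ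
    obtain ⟨ε, hε, hc⟩ := hβ.mult_congr p e hp hs
    exact ⟨β, ε, hβ, hε, hc⟩
  refine ⟨?_, ?_, ?_, ?_⟩
  · intro χ hχ
    obtain ⟨β, ε, -, hε, hc⟩ := key χ hχ
    refine ⟨β, ?_, ?_⟩
    · have := hc β
      rw [if_pos rfl] at this
      exact hnot _ ε hε this
    · intro β' hβ'
      by_contra hne
      have := hc β'
      rw [if_neg hne] at this
      exact hβ' (hdvd0 _ this)
  · intro χ hχ β' hβ'
    obtain ⟨β, ε, -, hε, hc⟩ := key χ hχ
    have hb : β' = β := by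
      by_contra hne
      have := hc β'
      rw [if_neg hne] at this
      exact hβ' (hdvd0 _ this)
    have := hc β'
    rw [if_pos hb] at this
    rcases hε with rfl | rfl
    · left; exact this
    · right; exact this
  · intro χ hχ χ' hχ' β'' h1 h2
    obtain ⟨β, ε, hrel, hε, hc⟩ := key χ hχ
    obtain ⟨β', ε', hrel', hε', hc'⟩ := key χ' hχ'
    have hb : β'' = β := by
      by_contra hne
      have := hc β''
      rw [if_neg hne] at this
      exact h1 (hdvd0 _ this)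
    have hb' : β'' = β' := by
      by_contra hne
      have := hc' β''
      rw [if_neg hne] at this
      exact h2 (hdvd0 _ this)
    rw [← hb] at hrel
    rw [← hb'] at hrel'
    exact GlaubRel.inj hrel hrel'
  · intro β
    obtain ⟨χ, hχ, hrel⟩ := GlaubRel.surj hcop htop β
    refine ⟨χ, hχ, ?_⟩
    obtain ⟨ε, hε, hc⟩ := hrel.mult_congr p e hp hs
    have := hc β
    rw [if_pos rfl] at this
    exact hnot _ ε hε this

end Top

section Transport

variable {G₁ : Type u} {G₀ : Type v} [Group G₁] [Group G₀]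

/-- Pull back an irreducible character along an isomorphism. -/
noncomputable def pullIrr (e : G₁ ≃* G₀) (χ : IrrCharacter G₀) : IrrCharacter G₁ :=
  ⟨fun g => (χ : G₀ → ℂ) (e g),
    Helper8.isIrrCharacter_comp_surjective e.toMonoidHom e.surjective χ.2⟩

theorem pullIrr_apply (e : G₁ ≃* G₀) (χ : IrrCharacter G₀) (g : G₁) :
    (pullIrr e χ : G₁ → ℂ) g = (χ : G₀ → ℂ) (e g) := rfl

theorem pullIrr_symm (e : G₁ ≃* G₀) (χ : IrrCharacter G₁) :
    pullIrr e (pullIrr e.symm χ) = χ := by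
  apply Subtype.ext
  funext g
  rw [pullIrr_apply, pullIrr_apply, MulEquiv.symm_apply_apply]

theorem pullIrr_symm' (e : G₁ ≃* G₀) (χ : IrrCharacter G₀) :
    pullIrr e.symm (pullIrr e χ) = χ := by
  apply Subtype.ext
  funext g
  rw [pullIrr_apply, pullIrr_apply, MulEquiv.apply_symm_apply]

theorem pullIrr_injective (e : G₁ ≃* G₀) : Function.Injective (pullIrr e) := by
  intro χ χ' h
  rw [← pullIrr_symm' e χ, ← pullIrr_symm' e χ', h]

variable {C₁ : Type u} {C₀ : Type v} [Group C₁] [Group C₀] [Finite C₁] [Finite C₀]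

theorem mult_pullIrr (eC : C₁ ≃* C₀) (eG : G₁ ≃* G₀) (ι₁ : C₁ →* G₁) (ι₀ : C₀ →* G₀)
    (hcomm : ∀ c, eG (ι₁ c) = ι₀ (eC c)) (χ : IrrCharacter G₀) (β : IrrCharacter C₀) :
    mult ι₁ (pullIrr eG χ) (pullIrr eC β) = mult ι₀ χ β := by
  classical
  haveI : Fintype C₁ := Fintype.ofFinite _
  haveI : Fintype C₀ := Fintype.ofFinite _
  apply mult_eq_of
  rw [← mult_spec ι₀ χ β]
  unfold classInner
  rw [Nat.card_congr eC.toEquiv]
  congr 1
  refine Fintype.sum_equiv eC.toEquiv _ _ ?_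
  intro c
  simp only [pullIrr_apply, hcomm]
  rfl

theorem PCorr.transport (eC : C₁ ≃* C₀) (eG : G₁ ≃* G₀) (ι₁ : C₁ →* G₁) (ι₀ : C₀ →* G₀)
    (hcomm : ∀ c, eG (ι₁ c) = ι₀ (eC c)) (p : ℕ) (𝓘₁ : Set (IrrCharacter G₁))
    (𝓘₀ : Set (IrrCharacter G₀)) (h𝓘 : ∀ χ : IrrCharacter G₀, χ ∈ 𝓘₀ ↔ pullIrr eG χ ∈ 𝓘₁)
    (h : PCorr p ι₁ 𝓘₁) : PCorr p ι₀ 𝓘₀ := by
  have hm := mult_pullIrr eC eG ι₁ ι₀ hcomm
  refine ⟨?_, ?_, ?_, ?_⟩
  · intro χ hχ
    obtain ⟨β₁, hβ₁, huniq⟩ := h.exU _ ((h𝓘 χ).mp hχ)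
    refine ⟨pullIrr eC.symm β₁, ?_, ?_⟩
    · rw [← hm, pullIrr_symm]; exact hβ₁
    · intro β' hβ'
      rw [← hm] at hβ'
      have := huniq _ hβ'
      rw [← this, pullIrr_symm']
  · intro χ hχ β hβ
    rw [← hm] at hβ ⊢
    exact h.pm _ ((h𝓘 χ).mp hχ) _ hβ
  · intro χ hχ χ' hχ' β h1 h2
    rw [← hm] at h1 h2
    exact pullIrr_injective eG (h.inj _ ((h𝓘 χ).mp hχ) _ ((h𝓘 χ').mp hχ') _ h1 h2)
  · intro β
    obtain ⟨χ₁, hχ₁, hχ₁β⟩ := h.surj (pullIrr eC β)
    refine ⟨pullIrr eG.symm χ₁, ?_, ?_⟩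
    · rw [h𝓘, pullIrr_symm]; exact hχ₁
    · rw [← hm, pullIrr_symm]; exact hχ₁β

end Transport

section PStep

variable {Γ : Type u} [Group Γ] [Finite Γ]

/-- The cyclic `p`-step in an arbitrary ambient group. -/
theorem pstep (G : Subgroup Γ) (s : Γ) (hsN : s ∈ Subgroup.normalizer (G : Set Γ)) (p e : ℕ)
    (hp : p.Prime) (hs : orderOf s = p ^ e) (hcop : (Nat.card G).Coprime (orderOf s)) :
    PCorr p (Subgroup.inclusion (fixC_le G s))
      {χ : IrrCharacter G | ∀ g g' : G, (g' : Γ) = s * g * s⁻¹ →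
        (χ : G → ℂ) g' = (χ : G → ℂ) g} := by
  classical
  obtain ⟨H, hH⟩ : ∃ H : Subgroup Γ, H = G ⊔ Subgroup.zpowers s := ⟨_, rfl⟩
  have hGH : G ≤ H := by rw [hH]; exact le_sup_left
  have hsH : s ∈ H := by
    rw [hH]; exact (le_sup_right : Subgroup.zpowers s ≤ _) (Subgroup.mem_zpowers s)
  have hzN : Subgroup.zpowers s ≤ Subgroup.normalizer (G : Set Γ) := Subgroup.zpowers_le.mpr hsN
  haveI hnorm : (G.subgroupOf H).Normal := by
    have := Cfsg.Agent.Lead.normal_subgroupOf_sup_of_le_normalizer' hzN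
    rw [← hH] at this
    exact this
  obtain ⟨s', hs'⟩ : ∃ s' : H, s' = ⟨s, hsH⟩ := ⟨_, rfl⟩
  have hs'val : (s' : Γ) = s := by rw [hs']
  have hord : orderOf s' = orderOf s := by rw [← Subgroup.orderOf_coe, hs'val]
  have hcard : Nat.card (G.subgroupOf H) = Nat.card G :=
    Nat.card_congr (Subgroup.subgroupOfEquivOfLe hGH).toEquiv
  have hcop' : (Nat.card (G.subgroupOf H)).Coprime (orderOf s') := by
    rw [hcard, hord]; exact hcop
  have hzs : (Subgroup.zpowers s).subgroupOf H = Subgroup.zpowers s' := by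
    ext x
    rw [Subgroup.mem_subgroupOf, Subgroup.mem_zpowers_iff, Subgroup.mem_zpowers_iff]
    constructor
    · rintro ⟨k, hk⟩
      refine ⟨k, Subtype.ext ?_⟩
      rw [Subgroup.coe_zpow, hs'val]; exact hk
    · rintro ⟨k, hk⟩
      refine ⟨k, ?_⟩
      rw [← hk, Subgroup.coe_zpow, hs'val]
  have htop' : G.subgroupOf H ⊔ Subgroup.zpowers s' = ⊤ := by
    rw [← hzs, ← Subgroup.subgroupOf_sup hGH (by rw [hH]; exact le_sup_right), ← hH,
      Subgroup.subgroupOf_self]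
  have key := pstep_top (G := G.subgroupOf H) (s := s') hcop' htop' p e hp (by rw [hord]; exact hs)
  -- the isomorphisms
  have hmemC : ∀ x : H, x ∈ fixC (G.subgroupOf H) s' ↔ (x : Γ) ∈ fixC G s := by
    intro x
    rw [mem_fixC, mem_fixC, Subgroup.mem_subgroupOf]
    constructor
    · rintro ⟨h1, h2⟩
      refine ⟨h1, ?_⟩
      have := congrArg Subtype.val h2
      simpa [hs'val] using this
    · rintro ⟨h1, h2⟩
      refine ⟨h1, Subtype.ext ?_⟩
      simpa [hs'val] using h2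
  let eC : fixC (G.subgroupOf H) s' ≃* fixC G s :=
    { toFun := fun x => ⟨((x : H) : Γ), (hmemC x).mp x.2⟩
      invFun := fun c => ⟨⟨(c : Γ), hGH (fixC_le G s c.2)⟩, (hmemC _).mpr c.2⟩
      left_inv := fun x => rfl
      right_inv := fun c => rfl
      map_mul' := fun x y => rfl }
  refine PCorr.transport eC (Subgroup.subgroupOfEquivOfLe hGH) _ _ (fun c => rfl) p _ _ ?_ key
  intro χ
  simp only [Set.mem_ofPred_eq]
  constructor
  · intro h g
    exact h (Subgroup.subgroupOfEquivOfLe hGH g) _ (by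
      show ((s' * (g : H) * s'⁻¹ : H) : Γ) = s * ((g : H) : Γ) * s⁻¹
      simp [hs'val])
  · intro h g g' hgg'
    have h1 := h ((Subgroup.subgroupOfEquivOfLe hGH).symm g)
    have h2 : (⟨s' * (((Subgroup.subgroupOfEquivOfLe hGH).symm g : G.subgroupOf H) : H) * s'⁻¹,
        hnorm.conj_mem _ ((Subgroup.subgroupOfEquivOfLe hGH).symm g).2 s'⟩ : G.subgroupOf H) =
        (Subgroup.subgroupOfEquivOfLe hGH).symm g' := by
      apply Subtype.ext
      apply Subtype.ext
      show (s' : Γ) * (g : Γ) * ((s'⁻¹ : H) : Γ) = (g' : Γ)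
      rw [hgg', Subgroup.coe_inv, hs'val]
    rw [h2] at h1
    simp only [pullIrr_apply, MulEquiv.apply_symm_apply] at h1
    exact h1

end PStep

section MultTrans

variable {C : Type u} {G₁ : Type u} {G : Type u} [Group C] [Group G₁] [Group G]
  [Finite C] [Finite G₁]

/-- Transitivity of restriction for multiplicities. -/
theorem mult_trans [Fintype (IrrCharacter G₁)] (ι₂ : C →* G₁) (ι₁ : G₁ →* G)
    (χ : IrrCharacter G) (β : IrrCharacter C) :
    mult (ι₁.comp ι₂) χ β = ∑ γ : IrrCharacter G₁, mult ι₁ χ γ * mult ι₂ γ β := by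
  classical
  haveI : Fintype C := Fintype.ofFinite _
  haveI : Fintype G₁ := Fintype.ofFinite _
  apply mult_eq_of
  have h1 : (fun g : G₁ => (χ : G → ℂ) (ι₁ g)) =
      ∑ γ : IrrCharacter G₁, (mult ι₁ χ γ : ℂ) • (γ : G₁ → ℂ) := by
    have h2 := IsCharacter.eq_sum_classInner
      (Helper8.isCharacter_comp ι₁ (IsIrrCharacter.isCharacter χ.2))
    refine h2.trans ?_
    refine Finset.sum_congr rfl ?_
    intro γ _
    rw [mult_spec]
  have h3 : (fun c : C => (χ : G → ℂ) ((ι₁.comp ι₂) c)) =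
      ∑ γ : IrrCharacter G₁, (mult ι₁ χ γ : ℂ) • (fun c : C => (γ : G₁ → ℂ) (ι₂ c)) := by
    funext c
    have := congrFun h1 (ι₂ c)
    simp only [MonoidHom.comp_apply]
    rw [this]
    simp only [Finset.sum_apply, Pi.smul_apply]
  rw [h3, classInner_sum_left]
  push_cast
  refine Finset.sum_congr rfl ?_
  intro γ _
  rw [classInner_smul_left, mult_spec]

end MultTrans

section Conj

variable {Γ : Type u} [Group Γ]

/-- Conjugation by an element normalizing `G`, as an automorphism of `G`. -/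
def conjE (G : Subgroup Γ) (t : Γ) (ht : t ∈ Subgroup.normalizer (G : Set Γ)) : G ≃* G where
  toFun g := ⟨t * g * t⁻¹, (Subgroup.mem_normalizer_iff.mp ht g).mp g.2⟩
  invFun g := ⟨t⁻¹ * g * t, by
    have := (Subgroup.mem_normalizer_iff.mp ht (t⁻¹ * g * t)).mpr (by
      have : t * (t⁻¹ * (g : Γ) * t) * t⁻¹ = g := by group
      rw [this]; exact g.2)
    exact this⟩
  left_inv g := by apply Subtype.ext; simp only; group
  right_inv g := by apply Subtype.ext; simp only; group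
  map_mul' g h := by apply Subtype.ext; simp only [Subgroup.coe_mul]; group

theorem conjE_apply (G : Subgroup Γ) (t : Γ) (ht : t ∈ Subgroup.normalizer (G : Set Γ)) (g : G) :
    ((conjE G t ht g : G) : Γ) = t * g * t⁻¹ := rfl

/-- Invariance of a function on `G` under conjugation by `x`. -/
def InvAt (G : Subgroup Γ) (χ : G → ℂ) (x : Γ) : Prop :=
  ∀ g g' : G, (g' : Γ) = x * g * x⁻¹ → χ g' = χ g

theorem invAt_iff_pullIrr (G : Subgroup Γ) (t : Γ) (ht : t ∈ Subgroup.normalizer (G : Set Γ))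
    (χ : IrrCharacter G) : InvAt G (χ : G → ℂ) t ↔ pullIrr (conjE G t ht) χ = χ := by
  constructor
  · intro h
    apply Subtype.ext
    funext g
    rw [pullIrr_apply]
    exact h g _ rfl
  · intro h g g' hgg'
    have h1 := congrArg (fun ψ : IrrCharacter G => (ψ : G → ℂ) g) h
    simp only [pullIrr_apply] at h1
    rw [← h1]
    have : g' = conjE G t ht g := by
      apply Subtype.ext
      rw [hgg']; rfl
    rw [this]

/-- The stabilizer of `χ` in the normalizer of `G`. -/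
def invStab (G : Subgroup Γ) (χ : G → ℂ) : Subgroup Γ where
  carrier := {x | x ∈ Subgroup.normalizer (G : Set Γ) ∧ InvAt G χ x}
  one_mem' := by
    refine ⟨Subgroup.one_mem _, ?_⟩
    intro g g' h
    have : g' = g := by apply Subtype.ext; rw [h]; group
    rw [this]
  mul_mem' := by
    rintro x y ⟨hx, hxi⟩ ⟨hy, hyi⟩
    refine ⟨Subgroup.mul_mem _ hx hy, ?_⟩
    intro g g' h
    have hm : y * g * y⁻¹ ∈ G := (Subgroup.mem_normalizer_iff.mp hy g).mp g.2
    have h1 := hyi g ⟨y * g * y⁻¹, hm⟩ rfl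
    have h2 := hxi ⟨y * g * y⁻¹, hm⟩ g' (by rw [h]; simp only; group)
    rw [h2, h1]
  inv_mem' := by
    rintro x ⟨hx, hxi⟩
    refine ⟨Subgroup.inv_mem _ hx, ?_⟩
    intro g g' h
    have := hxi g' g (by rw [h]; group)
    exact this.symm

theorem mem_invStab {G : Subgroup Γ} {χ : G → ℂ} {x : Γ} :
    x ∈ invStab G χ ↔ x ∈ Subgroup.normalizer (G : Set Γ) ∧ InvAt G χ x := Iff.rfl

end Conj

section Comp

variable {Γ : Type u} [Group Γ] [Finite Γ]

theorem natDvd_iff_of_modEq {p m : ℕ} {z : ℤ} (h : (m : ℤ) ≡ z [ZMOD p]) :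
    p ∣ m ↔ (p : ℤ) ∣ z := by
  have h1 : (p : ℤ) ∣ z - m := Int.modEq_iff_dvd.mp h
  constructor
  · intro hm
    have h2 : (p : ℤ) ∣ (m : ℤ) := by exact_mod_cast hm
    have := dvd_add h1 h2
    simpa using this
  · intro hz
    have h2 : (p : ℤ) ∣ z - (z - m) := dvd_sub hz h1
    have h3 : z - (z - m) = (m : ℤ) := by ring
    rw [h3] at h2
    exact_mod_cast h2

/-- Composition of two correspondences along `C ≤ G₁ ≤ G`. -/
theorem PCorr.comp {G G₁ C : Subgroup Γ} (hG₁G : G₁ ≤ G) (hCG₁ : C ≤ G₁) (t : Γ)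
    (htG : t ∈ Subgroup.normalizer (G : Set Γ)) (htG₁ : t ∈ Subgroup.normalizer (G₁ : Set Γ))
    (p : ℕ) (hp : p.Prime) (𝓘₀ : Set (IrrCharacter G))
    (h𝓘₀ : ∀ χ ∈ 𝓘₀, pullIrr (conjE G t htG) χ ∈ 𝓘₀)
    (h₁ : PCorr p (Subgroup.inclusion hG₁G) 𝓘₀)
    (h₂ : PCorr p (Subgroup.inclusion hCG₁) {γ : IrrCharacter G₁ | InvAt G₁ (γ : G₁ → ℂ) t}) :
    PCorr p (Subgroup.inclusion (hCG₁.trans hG₁G))
      {χ : IrrCharacter G | χ ∈ 𝓘₀ ∧ InvAt G (χ : G → ℂ) t} := by
  classical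
  haveI : Fintype (IrrCharacter G₁) := Fintype.ofFinite _
  have hpz : Prime (p : ℤ) := Nat.prime_iff_prime_int.mp hp
  have hιeq : Subgroup.inclusion (hCG₁.trans hG₁G) =
      (Subgroup.inclusion hG₁G).comp (Subgroup.inclusion hCG₁) := MonoidHom.ext fun _ => rfl
  -- K2: the congruence
  have K2 : ∀ χ ∈ 𝓘₀, ∀ γ : IrrCharacter G₁, ¬ p ∣ mult (Subgroup.inclusion hG₁G) χ γ →
      ∀ β : IrrCharacter C, (mult (Subgroup.inclusion (hCG₁.trans hG₁G)) χ β : ℤ) ≡
        (mult (Subgroup.inclusion hG₁G) χ γ : ℤ) * (mult (Subgroup.inclusion hCG₁) γ β : ℤ)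
          [ZMOD p] := by
    intro χ hχ γ hγ β
    obtain ⟨γ₀, -, huniq⟩ := h₁.exU χ hχ
    have hγγ₀ : γ = γ₀ := huniq γ hγ
    rw [hιeq, mult_trans]
    push_cast
    rw [← Finset.add_sum_erase _ _ (Finset.mem_univ γ)]
    have hrest : (p : ℤ) ∣ ∑ γ' ∈ Finset.univ.erase γ,
        (mult (Subgroup.inclusion hG₁G) χ γ' : ℤ) * (mult (Subgroup.inclusion hCG₁) γ' β : ℤ) := by
      apply Finset.dvd_sum
      intro γ' hγ'
      have hne : γ' ≠ γ := (Finset.mem_erase.mp hγ').1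
      have hd : p ∣ mult (Subgroup.inclusion hG₁G) χ γ' := by
        by_contra hnd
        exact hne ((huniq γ' hnd).trans hγγ₀.symm)
      apply Dvd.dvd.mul_right
      exact_mod_cast hd
    rw [Int.modEq_iff_dvd]
    simpa using (dvd_neg.mpr hrest)
  -- K3: equivariance
  have K3 : ∀ (χ : IrrCharacter G) (γ : IrrCharacter G₁),
      mult (Subgroup.inclusion hG₁G) (pullIrr (conjE G t htG) χ) (pullIrr (conjE G₁ t htG₁) γ) =
        mult (Subgroup.inclusion hG₁G) χ γ :=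
    fun χ γ => mult_pullIrr (conjE G₁ t htG₁) (conjE G t htG) _ _ (fun c => rfl) χ γ
  -- K4: the correspondent of an invariant character is invariant
  have K4 : ∀ χ ∈ 𝓘₀, InvAt G (χ : G → ℂ) t → ∀ γ : IrrCharacter G₁,
      ¬ p ∣ mult (Subgroup.inclusion hG₁G) χ γ → InvAt G₁ (γ : G₁ → ℂ) t := by
    intro χ hχ hinv γ hγ
    rw [invAt_iff_pullIrr G₁ t htG₁]
    obtain ⟨γ₀, -, huniq⟩ := h₁.exU χ hχ
    have h1 : pullIrr (conjE G t htG) χ = χ := (invAt_iff_pullIrr G t htG χ).mp hinv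
    have h2 := K3 χ γ
    rw [h1] at h2
    have h3 : ¬ p ∣ mult (Subgroup.inclusion hG₁G) χ (pullIrr (conjE G₁ t htG₁) γ) := by
      rw [h2]; exact hγ
    rw [huniq _ h3, huniq _ hγ]
  have hmulnd : ∀ a b : ℕ, ¬ p ∣ a → ¬ p ∣ b → ¬ (p : ℤ) ∣ (a : ℤ) * (b : ℤ) := by
    intro a b ha hb h
    rcases hpz.dvd_or_dvd h with h' | h'
    · exact ha (by exact_mod_cast h')
    · exact hb (by exact_mod_cast h')
  refine ⟨?_, ?_, ?_, ?_⟩
  · rintro χ ⟨hχ, hinv⟩
    obtain ⟨γ, hγ, -⟩ := h₁.exU χ hχ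
    have hγinv := K4 χ hχ hinv γ hγ
    obtain ⟨β, hβ, hβuniq⟩ := h₂.exU γ hγinv
    refine ⟨β, ?_, ?_⟩
    · rw [natDvd_iff_of_modEq (K2 χ hχ γ hγ β)]
      exact hmulnd _ _ hγ hβ
    · intro β' hβ'
      apply hβuniq
      intro hd
      apply hβ'
      rw [natDvd_iff_of_modEq (K2 χ hχ γ hγ β')]
      apply Dvd.dvd.mul_left
      exact_mod_cast hd
  · rintro χ ⟨hχ, hinv⟩ β hβ
    obtain ⟨γ, hγ, -⟩ := h₁.exU χ hχ
    have hγinv := K4 χ hχ hinv γ hγ
    have hc := K2 χ hχ γ hγ β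
    have hβ' : ¬ p ∣ mult (Subgroup.inclusion hCG₁) γ β := by
      intro hd
      apply hβ
      rw [natDvd_iff_of_modEq hc]
      apply Dvd.dvd.mul_left
      exact_mod_cast hd
    have e1 := h₁.pm χ hχ γ hγ
    have e2 := h₂.pm γ hγinv β hβ'
    rcases e1 with e1 | e1 <;> rcases e2 with e2 | e2
    · left; simpa using hc.trans (e1.mul e2)
    · right; simpa using hc.trans (e1.mul e2)
    · right; simpa using hc.trans (e1.mul e2)
    · left; simpa using hc.trans (e1.mul e2)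
  · rintro χ ⟨hχ, hinv⟩ χ' ⟨hχ', hinv'⟩ β hβ hβ'
    obtain ⟨γ, hγ, -⟩ := h₁.exU χ hχ
    obtain ⟨γ', hγ', -⟩ := h₁.exU χ' hχ'
    have hγinv := K4 χ hχ hinv γ hγ
    have hγinv' := K4 χ' hχ' hinv' γ' hγ'
    have hb : ¬ p ∣ mult (Subgroup.inclusion hCG₁) γ β := by
      intro hd
      apply hβ
      rw [natDvd_iff_of_modEq (K2 χ hχ γ hγ β)]
      apply Dvd.dvd.mul_left
      exact_mod_cast hd
    have hb' : ¬ p ∣ mult (Subgroup.inclusion hCG₁) γ' β := by
      intro hd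
      apply hβ'
      rw [natDvd_iff_of_modEq (K2 χ' hχ' γ' hγ' β)]
      apply Dvd.dvd.mul_left
      exact_mod_cast hd
    have hγγ' : γ = γ' := h₂.inj γ hγinv γ' hγinv' β hb hb'
    rw [← hγγ'] at hγ'
    exact h₁.inj χ hχ χ' hχ' γ hγ hγ'
  · intro β
    obtain ⟨γ, hγinv, hγβ⟩ := h₂.surj β
    obtain ⟨χ, hχ, hχγ⟩ := h₁.surj γ
    have hinv : InvAt G (χ : G → ℂ) t := by
      rw [invAt_iff_pullIrr G t htG]
      have h1 : pullIrr (conjE G₁ t htG₁) γ = γ := (invAt_iff_pullIrr G₁ t htG₁ γ).mp hγinv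
      have h2 := K3 χ γ
      rw [h1] at h2
      have h3 : ¬ p ∣ mult (Subgroup.inclusion hG₁G) (pullIrr (conjE G t htG) χ) γ := by
        rw [h2]; exact hχγ
      exact h₁.inj _ (h𝓘₀ χ hχ) χ hχ γ h3 hχγ
    refine ⟨χ, ⟨hχ, hinv⟩, ?_⟩
    rw [natDvd_iff_of_modEq (K2 χ hχ γ hχγ β)]
    exact hmulnd _ _ hχγ hγβ

end Comp

section Induct

variable {Γ : Type u} [Group Γ] [Finite Γ]

/-- A nontrivial solvable subgroup has a proper subgroup, normal in it, with cyclic
supplement. -/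
theorem exists_max_normal (S : Subgroup Γ) (hsolv : Group.IsSolvable S) (hne : S ≠ ⊥) :
    ∃ (S₀ : Subgroup Γ) (t : Γ), S₀ ≤ S ∧ S ≤ Subgroup.normalizer (S₀ : Set Γ) ∧
      Nat.card S₀ < Nat.card S ∧ t ∈ S ∧ S₀ ⊔ Subgroup.zpowers t = S := by
  classical
  haveI : Nontrivial S := by
    rw [Subgroup.nontrivial_iff_ne_bot]; exact hne
  have hsolv' : Group.IsSolvable (S ⧸ (⊥ : Subgroup S)) :=
    Group.isSolvable_of_surjective (f := QuotientGroup.mk' (⊥ : Subgroup S))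
      (QuotientGroup.mk'_surjective _)
  obtain ⟨K, hKn, -, hKp⟩ := exists_normal_prime_index (⊥ : Subgroup S) hsolv' bot_ne_top
  have hKtop : K ≠ ⊤ := by
    intro h
    rw [h, Subgroup.index_top] at hKp
    exact Nat.not_prime_one hKp
  obtain ⟨⟨t, htS⟩, htK⟩ : ∃ x : S, x ∉ K := by
    by_contra hcon
    push Not at hcon
    exact hKtop (eq_top_iff.mpr fun x _ => hcon x)
  refine ⟨K.map S.subtype, t, Subgroup.map_subtype_le K, ?_, ?_, htS, ?_⟩
  · intro x hx
    rw [Subgroup.mem_normalizer_iff]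
    intro y
    constructor
    · rintro ⟨k, hk, rfl⟩
      exact ⟨⟨x, hx⟩ * k * ⟨x, hx⟩⁻¹, hKn.conj_mem k hk _, by simp⟩
    · rintro ⟨k, hk, hky⟩
      refine ⟨⟨x, hx⟩⁻¹ * k * ⟨x, hx⟩, ?_, ?_⟩
      · have := hKn.conj_mem k hk ⟨x, hx⟩⁻¹
        simpa using this
      · simp only [Subgroup.subtype_apply, Subgroup.coe_mul, Subgroup.coe_inv] at hky ⊢
        rw [hky]; group
  · have h1 : Nat.card (K.map S.subtype) = Nat.card K :=
      Nat.card_congr (K.equivMapOfInjective _ S.subtype_injective).symm.toEquiv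
    rw [h1, ← Subgroup.index_mul_card K]
    have h2 : 2 ≤ K.index := hKp.two_le
    have h3 : 0 < Nat.card K := Nat.card_pos
    nlinarith
  · -- `K ⊔ ⟨t⟩ = ⊤` inside `S`
    have hT : K ⊔ Subgroup.zpowers (⟨t, htS⟩ : S) = ⊤ := by
      have hle : K ≤ K ⊔ Subgroup.zpowers (⟨t, htS⟩ : S) := le_sup_left
      have h1 := Subgroup.relIndex_mul_index hle
      have h2 : K.relIndex (K ⊔ Subgroup.zpowers (⟨t, htS⟩ : S)) ≠ 1 := by
        intro h
        rw [Subgroup.relIndex_eq_one] at h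
        exact htK (h ((le_sup_right : Subgroup.zpowers (⟨t, htS⟩ : S) ≤ _)
          (Subgroup.mem_zpowers _)))
      have h3 : (K ⊔ Subgroup.zpowers (⟨t, htS⟩ : S)).index = 1 := by
        have hdvd : K.relIndex (K ⊔ Subgroup.zpowers (⟨t, htS⟩ : S)) ∣ K.index :=
          Dvd.intro _ h1
        rcases (Nat.dvd_prime hKp).mp hdvd with h | h
        · exact absurd h h2
        · rw [h] at h1
          have hpos : 0 < K.index := hKp.pos
          have : K.index * (K ⊔ Subgroup.zpowers (⟨t, htS⟩ : S)).index = K.index * 1 := by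
            rw [h1, mul_one]
          exact Nat.eq_of_mul_eq_mul_left hpos this
      exact Subgroup.index_eq_one.mp h3
    have h4 := congrArg (Subgroup.map S.subtype) hT
    rw [Subgroup.map_sup, MonoidHom.map_zpowers] at h4
    have h5 : S.subtype ⟨t, htS⟩ = t := rfl
    rw [h5] at h4
    rw [h4, ← MonoidHom.range_eq_map, Subgroup.range_subtype]

omit [Finite Γ] in
/-- The centralizer of `S₀ ⊔ ⟨t⟩`. -/
theorem inf_centralizer_sup_zpowers (G S₀ : Subgroup Γ) (t : Γ) :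
    G ⊓ Subgroup.centralizer ((S₀ ⊔ Subgroup.zpowers t : Subgroup Γ) : Set Γ) =
      fixC (G ⊓ Subgroup.centralizer (S₀ : Set Γ)) t := by
  ext x
  rw [mem_fixC, Subgroup.mem_inf, Subgroup.mem_inf]
  constructor
  · rintro ⟨h1, h2⟩
    refine ⟨⟨h1, ?_⟩, ?_⟩
    · exact Subgroup.centralizer_le (by exact_mod_cast (le_sup_left : S₀ ≤ _)) h2
    · rw [Subgroup.mem_centralizer_iff] at h2
      exact (h2 t ((le_sup_right : Subgroup.zpowers t ≤ _) (Subgroup.mem_zpowers t))).symm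
  · rintro ⟨⟨h1, h2⟩, h3⟩
    refine ⟨h1, ?_⟩
    have h4 : S₀ ⊔ Subgroup.zpowers t ≤ Subgroup.centralizer ({x} : Set Γ) := by
      rw [sup_le_iff]
      constructor
      · intro y hy
        rw [Subgroup.mem_centralizer_iff] at h2 ⊢
        intro z hz
        rw [Set.mem_singleton_iff] at hz
        subst hz
        exact (h2 y hy).symm
      · rw [Subgroup.zpowers_le, Subgroup.mem_centralizer_iff]
        intro z hz
        rw [Set.mem_singleton_iff] at hz
        subst hz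
        exact h3
    rw [Subgroup.mem_centralizer_iff]
    intro y hy
    have := h4 hy
    rw [Subgroup.mem_centralizer_iff] at this
    exact (this x rfl).symm

omit [Finite Γ] in
/-- `t` normalizes `G ⊓ C(S₀)` if it normalizes `G` and `S₀`. -/
theorem mem_normalizer_inf_centralizer {G S₀ : Subgroup Γ} {t : Γ}
    (htG : t ∈ Subgroup.normalizer (G : Set Γ)) (htS : t ∈ Subgroup.normalizer (S₀ : Set Γ)) :
    t ∈ Subgroup.normalizer ((G ⊓ Subgroup.centralizer (S₀ : Set Γ) : Subgroup Γ) : Set Γ) := by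
  have key : ∀ u : Γ, u ∈ Subgroup.normalizer (G : Set Γ) → u ∈ Subgroup.normalizer (S₀ : Set Γ) →
      ∀ x, x ∈ G ⊓ Subgroup.centralizer (S₀ : Set Γ) →
        u * x * u⁻¹ ∈ G ⊓ Subgroup.centralizer (S₀ : Set Γ) := by
    intro u huG huS x hx
    refine ⟨(Subgroup.mem_normalizer_iff.mp huG x).mp hx.1, ?_⟩
    show u * x * u⁻¹ ∈ Subgroup.centralizer (S₀ : Set Γ)
    rw [Subgroup.mem_centralizer_iff]
    intro y hy
    have hy' : u⁻¹ * y * u ∈ S₀ := by
      have := (Subgroup.mem_normalizer_iff.mp huS (u⁻¹ * y * u)).mpr (by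
        have : u * (u⁻¹ * y * u) * u⁻¹ = y := by group
        rw [this]; exact hy)
      exact this
    have hc : x ∈ Subgroup.centralizer (S₀ : Set Γ) := hx.2
    rw [Subgroup.mem_centralizer_iff] at hc
    have h1 := hc _ hy'
    calc y * (u * x * u⁻¹) = u * ((u⁻¹ * y * u) * x) * u⁻¹ := by group
      _ = u * (x * (u⁻¹ * y * u)) * u⁻¹ := by rw [h1]
      _ = u * x * u⁻¹ * y := by group
  rw [Subgroup.mem_normalizer_iff]
  intro x
  constructor
  · exact key t htG htS x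
  · intro hx
    have := key t⁻¹ (Subgroup.inv_mem _ htG) (Subgroup.inv_mem _ htS) _ hx
    have e : t⁻¹ * (t * x * t⁻¹) * t⁻¹⁻¹ = x := by group
    rw [e] at this
    exact this

end Induct

section Main

variable {Γ : Type u} [Group Γ] [Finite Γ]

/-- **Glauberman correspondence for `p`-groups** (Isaacs 13.14). -/
theorem pcorr_pgroup (p : ℕ) (hp : p.Prime) :
    ∀ (n : ℕ) (G S C : Subgroup Γ), Nat.card S = n → S ≤ Subgroup.normalizer (G : Set Γ) →
      IsPGroup p S → (Nat.card G).Coprime (Nat.card S) →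
      C = G ⊓ Subgroup.centralizer (S : Set Γ) → ∀ hCG : C ≤ G,
      PCorr p (Subgroup.inclusion hCG)
        {χ : IrrCharacter G | ∀ s ∈ S, InvAt G (χ : G → ℂ) s} := by
  haveI : Fact p.Prime := ⟨hp⟩
  intro n
  induction n using Nat.strong_induction_on with
  | _ n ih =>
  intro G S C hn hSN hSp hcop hC hCG
  by_cases hbot : S = ⊥
  · -- trivial group of operators
    subst hbot
    have h1N : (1 : Γ) ∈ Subgroup.normalizer (G : Set Γ) := Subgroup.one_mem _
    have key := pstep G 1 h1N p 0 hp (by simp) (by simp)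
    have hCeq : C = fixC G (1 : Γ) := by
      rw [hC]
      unfold fixC
      rw [Subgroup.coe_bot]
    subst hCeq
    have hset : {χ : IrrCharacter G | ∀ s ∈ (⊥ : Subgroup Γ), InvAt G (χ : G → ℂ) s} =
        {χ : IrrCharacter G | ∀ g g' : G, (g' : Γ) = 1 * g * 1⁻¹ →
          (χ : G → ℂ) g' = (χ : G → ℂ) g} := by
      ext χ
      simp only [Set.mem_ofPred_eq, Subgroup.mem_bot]
      constructor
      · intro h
        exact h 1 rfl
      · intro h s hs
        subst hs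
        exact h
    rw [hset]
    exact key
  · -- inductive step
    have hsolv : Group.IsSolvable S := by
      haveI : Group.IsNilpotent S := hSp.isNilpotent
      infer_instance
    obtain ⟨S₀, t, hS₀S, hSN₀, hlt, htS, hsup⟩ := exists_max_normal S hsolv hbot
    have hS₀N : S₀ ≤ Subgroup.normalizer (G : Set Γ) := hS₀S.trans hSN
    have hS₀p : IsPGroup p S₀ := hSp.to_le hS₀S
    have hcop₀ : (Nat.card G).Coprime (Nat.card S₀) :=
      Nat.Coprime.coprime_dvd_right (Subgroup.card_dvd_of_le hS₀S) hcop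
    have h₁ := ih (Nat.card S₀) (hn ▸ hlt) G S₀ (G ⊓ Subgroup.centralizer (S₀ : Set Γ)) rfl hS₀N
      hS₀p hcop₀ rfl inf_le_left
    have htG : t ∈ Subgroup.normalizer (G : Set Γ) := hSN htS
    have htS₀ : t ∈ Subgroup.normalizer (S₀ : Set Γ) := hSN₀ htS
    have htG₁ := mem_normalizer_inf_centralizer htG htS₀
    obtain ⟨e, he⟩ : ∃ e : ℕ, orderOf t = p ^ e := by
      obtain ⟨k, hk⟩ := (IsPGroup.iff_orderOf.mp hSp) ⟨t, htS⟩
      refine ⟨k, ?_⟩
      rw [← hk, ← Subgroup.orderOf_coe]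
    have hcopt : (Nat.card (G ⊓ Subgroup.centralizer (S₀ : Set Γ) : Subgroup Γ)).Coprime
        (orderOf t) := by
      apply Nat.Coprime.coprime_dvd_left (Subgroup.card_dvd_of_le inf_le_left)
      apply Nat.Coprime.coprime_dvd_right (S.orderOf_dvd_natCard htS) hcop
    have h₂ := pstep (G ⊓ Subgroup.centralizer (S₀ : Set Γ)) t htG₁ p e hp he hcopt
    have hCeq : C = fixC (G ⊓ Subgroup.centralizer (S₀ : Set Γ)) t := by
      rw [hC, ← hsup]
      exact inf_centralizer_sup_zpowers G S₀ t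
    subst hCeq
    have h𝓘₀ : ∀ χ ∈ {χ : IrrCharacter G | ∀ s ∈ S₀, InvAt G (χ : G → ℂ) s},
        pullIrr (conjE G t htG) χ ∈ {χ : IrrCharacter G | ∀ s ∈ S₀, InvAt G (χ : G → ℂ) s} := by
      intro χ hχ s hs g g' hgg'
      simp only [pullIrr_apply]
      have hs' : t * s * t⁻¹ ∈ S₀ := (Subgroup.mem_normalizer_iff.mp htS₀ s).mp hs
      apply hχ _ hs'
      rw [conjE_apply, conjE_apply, hgg']
      group
    have key := PCorr.comp inf_le_left (fixC_le _ t) t htG htG₁ p hp _ h𝓘₀ h₁ h₂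
    have hset : {χ : IrrCharacter G | ∀ s ∈ S, InvAt G (χ : G → ℂ) s} =
        {χ : IrrCharacter G | χ ∈ {χ : IrrCharacter G | ∀ s ∈ S₀, InvAt G (χ : G → ℂ) s} ∧
          InvAt G (χ : G → ℂ) t} := by
      ext χ
      simp only [Set.mem_ofPred_eq]
      constructor
      · intro h
        exact ⟨fun s hs => h s (hS₀S hs), h t htS⟩
      · rintro ⟨h1, h2⟩ s hs
        have hle : S ≤ invStab G (χ : G → ℂ) := by
          rw [← hsup, sup_le_iff]
          constructor
          · intro y hy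
            exact ⟨hS₀N hy, h1 y hy⟩
          · rw [Subgroup.zpowers_le]
            exact ⟨htG, h2⟩
        exact (hle hs).2
    rw [hset]
    exact key

end Main

end Cfsg.Agent.Helper24
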