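import Mathlib
import Cfsg.Agent.Helper1.S4503Defs
import Cfsg.Agent.Helper24.Expansion
import Cfsg.Agent.Helper24.Codegree

/-!
# S4503, piece GIRR: reduction to a faithful irreducible character
-/

set_option autoImplicit false

namespace Cfsg.Agent.Helper24.S4503GIRR

open Cfsg Cfsg.Agent.Helper24

universe u

variable {G : Type u} [Group G]

theorem multiset_sum_apply (m : Multiset (IrrCharacter G)) (x : G) :
    (m.map (fun ψ : IrrCharacter G => (ψ : G → ℂ))).sum x =
      (m.map (fun ψ : IrrCharacter G => (ψ : G → ℂ) x)).sum := by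
  induction m using Multiset.induction_on with
  | empty => simp
  | cons a s ih => simp [ih]

theorem charDegree_multiset_sum (m : Multiset (IrrCharacter G)) :
    charDegree (m.map (fun ψ : IrrCharacter G => (ψ : G → ℂ))).sum = (m.map irrDeg).sum := by
  unfold charDegree
  rw [multiset_sum_apply]
  have : (m.map (fun ψ : IrrCharacter G => (ψ : G → ℂ) 1)).sum = (((m.map irrDeg).sum : ℕ) : ℂ) := by
    induction m using Multiset.induction_on with
    | empty => simp
    | cons a s ih => simp [irrDeg_spec]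
  rw [this, Complex.natCast_re, Nat.floor_natCast]

theorem eq_one_of_pow_of_not_dvd {Γ : Type*} [Group Γ] [Finite Γ] (p : ℕ) (hp : p.Prime)
    (hnd : ¬ p ∣ Nat.card Γ) (y : Γ) (k : ℕ) (hy : y ^ (p ^ k) = 1) : y = 1 := by
  have h1 : orderOf y ∣ p ^ k := orderOf_dvd_of_pow_eq_one hy
  have h2 : orderOf y ∣ Nat.card Γ := orderOf_dvd_natCard y
  have h3 : Nat.Coprime (p ^ k) (Nat.card Γ) :=
    Nat.Coprime.pow_left k ((Nat.Prime.coprime_iff_not_dvd hp).2 hnd)
  have h4 : Nat.Coprime (orderOf y) (Nat.card Γ) := Nat.Coprime.coprime_dvd_left h1 h3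
  have h5 : orderOf y = 1 := Nat.Coprime.eq_one_of_dvd h4 h2
  exact orderOf_eq_one_iff.mp h5

end Cfsg.Agent.Helper24.S4503GIRR

namespace Cfsg.Agent.S4503P

open Cfsg Cfsg.Agent.Helper24 Cfsg.Agent.Helper24.S4503GIRR

universe u

variable {G : Type u} [Group G] [Finite G]

/-- the key local step: a non-faithful irreducible constituent gives a normal subgroup containing
all `p`-elements whose `p'`-elements lie in the kernel of the constituent -/
theorem girr_step
    (ih : ∀ (H : Type u) [Group H] [Finite H], Nat.card H < Nat.card G → Goal H)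
    (p : ℕ) (hp : p.Prime) (hsq : ¬ p ^ 2 ∣ Nat.card G)
    (ψ : IrrCharacter G) (hnf : ∃ g : G, (ψ : G → ℂ) g = (ψ : G → ℂ) 1 ∧ g ≠ 1)
    (hdeg : 2 * irrDeg ψ + 1 < p) :
    ∃ L : Subgroup G, L.Normal ∧ (∀ (x : G) (k : ℕ), x ^ (p ^ k) = 1 → x ∈ L) ∧
      ∀ x ∈ L, (orderOf x).Coprime p → (ψ : G → ℂ) x = (ψ : G → ℂ) 1 := by
  obtain ⟨K, hKn, hKmem, ψ', hψ'⟩ := exists_kernel_quotient ψ
  obtain ⟨g₀, hg₀, hg₀1⟩ := hnf
  have hg₀K : g₀ ∈ K := (hKmem g₀).2 hg₀
  have hcardmul : Nat.card (G ⧸ K) * Nat.card K = Nat.card G :=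
    (Subgroup.card_eq_card_quotient_mul_card_subgroup K).symm
  have hKcard : 1 < Nat.card K := by
    rw [Subgroup.one_lt_card_iff_ne_bot]
    intro hbot
    rw [hbot, Subgroup.mem_bot] at hg₀K
    exact hg₀1 hg₀K
  have hGpos : 0 < Nat.card (G ⧸ K) := Nat.card_pos
  have hlt : Nat.card (G ⧸ K) < Nat.card G := by
    rw [← hcardmul]
    nlinarith
  have hdvdq : Nat.card (G ⧸ K) ∣ Nat.card G := ⟨_, hcardmul.symm⟩
  by_cases hpq : p ∣ Nat.card (G ⧸ K)
  · -- use the induction hypothesis in `G ⧸ K`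
    have hgoal := ih (G ⧸ K) hlt
    have hsq' : ¬ p ^ 2 ∣ Nat.card (G ⧸ K) := fun h => hsq (h.trans hdvdq)
    have hfaith' : ∀ q : G ⧸ K, (ψ' : G ⧸ K → ℂ) q = (ψ' : G ⧸ K → ℂ) 1 → q = 1 := by
      intro q hq
      induction q using QuotientGroup.induction_on with
      | H g =>
        have h1 : (ψ : G → ℂ) g = (ψ : G → ℂ) 1 := by
          rw [← hψ' g, ← hψ' 1]
          simpa using hq
        exact (QuotientGroup.eq_one_iff g).2 ((hKmem g).2 h1)
    have hdeg' : 2 * charDegree (ψ' : G ⧸ K → ℂ) + 1 < p := by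
      have : charDegree (ψ' : G ⧸ K → ℂ) = irrDeg ψ := by
        rw [← charDegree_irr ψ]
        unfold charDegree
        have := hψ' 1
        simp only [QuotientGroup.mk_one] at this
        rw [this]
      rw [this]; exact hdeg
    obtain ⟨Hb, hHbn, hHbcard⟩ := hgoal p hp hpq hsq' (ψ' : G ⧸ K → ℂ)
      (IsIrrCharacter.isCharacter ψ'.2) hfaith' hdeg'
    haveI := hHbn
    have hcardmul' : Nat.card ((G ⧸ K) ⧸ Hb) * Nat.card Hb = Nat.card (G ⧸ K) :=
      (Subgroup.card_eq_card_quotient_mul_card_subgroup Hb).symm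
    have hnd : ¬ p ∣ Nat.card ((G ⧸ K) ⧸ Hb) := by
      intro h
      apply hsq'
      rw [← hcardmul', hHbcard, pow_two]
      exact Nat.mul_dvd_mul_right h p
    refine ⟨Hb.comap (QuotientGroup.mk' K), inferInstance, ?_, ?_⟩
    · intro x k hx
      rw [Subgroup.mem_comap]
      have h1 : ((QuotientGroup.mk' Hb) ((QuotientGroup.mk' K) x)) ^ (p ^ k) = 1 := by
        rw [← map_pow, ← map_pow, hx, map_one, map_one]
      have h2 := eq_one_of_pow_of_not_dvd p hp hnd _ k h1
      exact (QuotientGroup.eq_one_iff _).1 h2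
    · intro x hx hcop
      rw [Subgroup.mem_comap] at hx
      have h1 : orderOf ((QuotientGroup.mk' K) x) ∣ p := by
        rw [← hHbcard]
        exact Subgroup.orderOf_dvd_natCard Hb hx
      have h2 : orderOf ((QuotientGroup.mk' K) x) ∣ orderOf x := orderOf_map_dvd _ x
      have h3 : orderOf ((QuotientGroup.mk' K) x) = 1 :=
        Nat.Coprime.eq_one_of_dvd (Nat.Coprime.coprime_dvd_left h2 hcop) h1
      have h4 : (QuotientGroup.mk' K) x = 1 := orderOf_eq_one_iff.mp h3
      exact (hKmem x).1 ((QuotientGroup.eq_one_iff x).1 h4)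
  · refine ⟨K, hKn, ?_, ?_⟩
    · intro x k hx
      have h1 : ((QuotientGroup.mk' K) x) ^ (p ^ k) = 1 := by
        rw [← map_pow, hx, map_one]
      have h2 := eq_one_of_pow_of_not_dvd p hp hpq _ k h1
      exact (QuotientGroup.eq_one_iff x).1 h2
    · intro x hx _
      exact (hKmem x).1 hx

theorem exists_faithful_irr_or_normal
    (ih : ∀ (H : Type u) [Group H] [Finite H], Nat.card H < Nat.card G → Goal H)
    (p : ℕ) (hp : p.Prime) (hdiv : p ∣ Nat.card G) (hsq : ¬ p ^ 2 ∣ Nat.card G)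
    (χ : G → ℂ) (hχ : IsCharacter G χ) (hfaith : ∀ g : G, χ g = χ 1 → g = 1)
    (hdeg : 2 * charDegree χ + 1 < p) :
    (∃ H : Subgroup G, H.Normal ∧ Nat.card H = p) ∨
    ∃ ψ : IrrCharacter G, (∀ g : G, (ψ : G → ℂ) g = (ψ : G → ℂ) 1 → g = 1) ∧
      2 * irrDeg ψ + 1 < p := by
  classical
  obtain ⟨m, hm⟩ := isCharacter_iff_exists_multiset.mp hχ
  have hdegm : charDegree χ = (m.map irrDeg).sum := by rw [hm, charDegree_multiset_sum]
  have hle : ∀ ψ ∈ m, irrDeg ψ ≤ charDegree χ := by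
    intro ψ hψ
    rw [hdegm]
    exact Multiset.le_sum_of_mem (Multiset.mem_map_of_mem irrDeg hψ)
  by_cases hex : ∃ ψ ∈ m, ∀ g : G, (ψ : G → ℂ) g = (ψ : G → ℂ) 1 → g = 1
  · obtain ⟨ψ, hψm, hψf⟩ := hex
    right
    refine ⟨ψ, hψf, ?_⟩
    have := hle ψ hψm
    omega
  · left
    push Not at hex
    have hB : ∀ ψ ∈ m, ∃ L : Subgroup G, L.Normal ∧ (∀ (x : G) (k : ℕ), x ^ (p ^ k) = 1 → x ∈ L) ∧
        ∀ x ∈ L, (orderOf x).Coprime p → (ψ : G → ℂ) x = (ψ : G → ℂ) 1 := by
      intro ψ hψ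
      obtain ⟨g, hg, hg1⟩ := hex ψ hψ
      have := hle ψ hψ
      exact girr_step ih p hp hsq ψ ⟨g, hg, hg1⟩ (by omega)
    choose! L hL using hB
    let M : Subgroup G := ⨅ ψ : {ψ : IrrCharacter G // ψ ∈ m}, L ψ.1
    have hMn : M.Normal := Subgroup.normal_iInf_normal (fun ψ => (hL ψ.1 ψ.2).1)
    have hMp : ∀ (x : G) (k : ℕ), x ^ (p ^ k) = 1 → x ∈ M := by
      intro x k hx
      exact Subgroup.mem_iInf.2 (fun ψ => (hL ψ.1 ψ.2).2.1 x k hx)
    have hMreg : ∀ x ∈ M, (orderOf x).Coprime p → x = 1 := by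
      intro x hx hcop
      apply hfaith
      rw [hm, multiset_sum_apply, multiset_sum_apply]
      refine congrArg Multiset.sum (Multiset.map_congr rfl ?_)
      intro ψ hψ
      exact (hL ψ hψ).2.2 x (Subgroup.mem_iInf.1 hx ⟨ψ, hψ⟩) hcop
    have hMpg : IsPGroup p M := by
      intro x
      have hn : orderOf (x : G) ≠ 0 := (orderOf_pos (x : G)).ne'
      refine ⟨(orderOf (x : G)).factorization p, ?_⟩
      set a := (orderOf (x : G)).factorization p with ha
      have hy : ((x : G) ^ (p ^ a)) ∈ M := Subgroup.pow_mem M x.2 _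
      have hord : orderOf ((x : G) ^ (p ^ a)) = orderOf (x : G) / p ^ a := by
        rw [orderOf_pow' (x : G) (pow_pos hp.pos a).ne']
        congr 1
        exact Nat.gcd_eq_right (Nat.ordProj_dvd _ _)
      have hcop : (orderOf ((x : G) ^ (p ^ a))).Coprime p := by
        rw [hord]
        exact (Nat.coprime_ordCompl hp hn).symm
      have := hMreg _ hy hcop
      apply Subtype.ext
      simpa using this
    haveI : Fact p.Prime := ⟨hp⟩
    obtain ⟨k, hk⟩ := IsPGroup.exists_card_eq hMpg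
    obtain ⟨x, hx⟩ := exists_prime_orderOf_dvd_card' p hdiv
    have hxM : x ∈ M := hMp x 1 (by rw [pow_one, ← hx, pow_orderOf_eq_one])
    have hpM : p ∣ Nat.card M := by
      rw [← hx]
      exact Subgroup.orderOf_dvd_natCard M hxM
    have hk1 : 1 ≤ k := by
      rcases Nat.eq_zero_or_pos k with h0 | h0
      · rw [hk, h0, pow_zero] at hpM
        exact absurd (Nat.le_of_dvd one_pos hpM) (by have := hp.two_le; omega)
      · exact h0
    have hk2 : k ≤ 1 := by
      by_contra hcon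
      apply hsq
      have h2 : 2 ≤ k := by omega
      exact (pow_dvd_pow p h2).trans (hk ▸ Subgroup.card_subgroup_dvd_card M)
    refine ⟨M, hMn, ?_⟩
    rw [hk, le_antisymm hk2 hk1, pow_one]

end Cfsg.Agent.S4503P
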