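import Mathlib
import Cfsg.Prelude.Def_Characters
import Cfsg.Agent.Helper24.ColumnOrth
import Cfsg.Agent.Helper23.CharGalois
import Cfsg.Agent.Helper8.GaloisChar

/-!
Rational-valued characters and conjugacy of `g` and `g ^ m`.
-/

namespace Cfsg.Agent.Helper24

open Representation Module Polynomial

universe u

/-- An element of a number field `K ⊆ ℂ` fixed (as a complex number) by all embeddings of `K`
into `ℂ` is rational. -/
theorem mem_range_algebraMap_of_forall_embedding (K : IntermediateField ℚ ℂ)
    [FiniteDimensional ℚ K] (x : K) (h : ∀ σ : K →ₐ[ℚ] ℂ, σ x = (x : ℂ)) :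
    ∃ q : ℚ, (x : ℂ) = q := by
  haveI : NumberField K := { to_charZero := inferInstance, to_finiteDimensional := inferInstance }
  have hrange := NumberField.Embeddings.range_eval_eq_rootSet_minpoly K ℂ x
  have hsingle : (minpoly ℚ x).rootSet ℂ = {(x : ℂ)} := by
    rw [← hrange]
    ext y
    constructor
    · rintro ⟨φ, rfl⟩
      exact h φ.toRatAlgHom
    · intro hy
      rw [Set.mem_singleton_iff] at hy
      exact ⟨(algebraMap K ℂ), hy.symm⟩
  have hint : IsIntegral ℚ x := Algebra.IsIntegral.isIntegral x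
  have hsep : (minpoly ℚ x).Separable := (minpoly.irreducible hint).separable
  have hsplit : ((minpoly ℚ x).map (algebraMap ℚ ℂ)).Splits := IsAlgClosed.splits _
  have hcard := Polynomial.card_rootSet_eq_natDegree hsep hsplit
  have h1 : Fintype.card ((minpoly ℚ x).rootSet ℂ) = 1 := by
    rw [← Nat.card_eq_fintype_card, hsingle]
    simp
  rw [h1] at hcard
  have h2 := (minpoly.natDegree_eq_one_iff (A := ℚ) (x := x)).mp hcard.symm
  obtain ⟨q, hq⟩ := h2
  refine ⟨q, ?_⟩
  rw [← hq]
  rfl

variable {G : Type u} [Group G] [Finite G]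

/-- All irreducible characters are rational-valued iff `g` is conjugate to `g ^ m` for every `m`
coprime to `|G|`. -/
theorem forall_irr_rational_iff :
    (∀ χ : IrrCharacter G, ∀ g : G, ∃ q : ℚ, (χ : G → ℂ) g = (q : ℂ)) ↔
      ∀ m : ℕ, m.Coprime (Nat.card G) → ∀ g : G, IsConj g (g ^ m) := by
  classical
  haveI : Fintype G := Fintype.ofFinite G
  haveI : Fintype (IrrCharacter G) := Fintype.ofFinite _
  constructor
  · intro hrat m hm g
    rw [isConj_iff_forall_irr]
    intro χ
    obtain ⟨τ, -, hτ⟩ := Cfsg.Agent.Helper8.exists_complex_aut_char G m hm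
    obtain ⟨q, hq⟩ := hrat χ g
    rw [← hτ _ (IsIrrCharacter.isCharacter χ.2) g, hq, map_ratCast]
  · intro hconj χ g
    obtain ⟨n, ρ, hρ, hχ⟩ := χ.2
    have hNpos : 0 < Nat.card G := Nat.card_pos
    haveI := Cfsg.Agent.Helper23.finiteDimensional_cyclo (Nat.card G) hNpos
    have := mem_range_algebraMap_of_forall_embedding (Cfsg.Agent.Helper23.cyclo (Nat.card G))
      ⟨ρ.character g, Cfsg.Agent.Helper23.char_mem_cyclo ρ g⟩ (by
        intro σ
        obtain ⟨k, hkcop, hk⟩ := Cfsg.Agent.Helper23.exists_pow_of_embedding (Nat.card G) hNpos σ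
        rw [Cfsg.Agent.Helper23.embedding_char ρ σ k hk g]
        have hc := hconj k hkcop g
        exact (IsClassFunction.eq_of_isConj
          (IsCharacter.isClassFunction (isCharacter_character ρ)) hc).symm)
    obtain ⟨q, hq⟩ := this
    exact ⟨q, by rw [← hχ]; exact hq⟩

end Cfsg.Agent.Helper24
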