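import Mathlib
import Cfsg.Prelude.Def_ClassicalGeometry
import Cfsg.Agent.Helper1.S5956Defs

set_option autoImplicit false
open scoped MatrixGroups

/-! S5956 piece KERSUM: the kernel of an endomorphism preserving the summands of a direct sum. -/

universe u

namespace Cfsg.Agent.S5956P

open Polynomial Cfsg.Agent.Helper2.SympInvol Cfsg.Agent.Helper2.SympUnits Cfsg.Agent.S5961P
  Cfsg.Agent.S5955P Cfsg.Agent.Helper2.InvolComb

/-- KERSUM: the kernel of an endomorphism preserving the summands of a direct sum -/
theorem finrank_ker_eq_sum {F V : Type*} [Field F] [AddCommGroup V] [Module F V]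
    [FiniteDimensional F V] {k : ℕ} (E : Fin k → Submodule F V) (hind : iSupIndep E)
    (hsup : (⨆ j, E j) = ⊤) (f : Module.End F V) (hf : ∀ j, (E j).map f ≤ E j) :
    Module.finrank F (LinearMap.ker f) = ∑ j, Module.finrank F ↥(E j ⊓ LinearMap.ker f) := by
  classical
  have hind' : iSupIndep (fun j => E j ⊓ LinearMap.ker f) :=
    hind.mono (fun j => inf_le_left)
  have hfE : ∀ j, ∀ v ∈ E j, f v ∈ E j := fun j v hv => hf j (Submodule.mem_map_of_mem hv)
  have hsup' : (⨆ j ∈ (Finset.univ : Finset (Fin k)), (E j ⊓ LinearMap.ker f)) =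
      LinearMap.ker f := by
    apply le_antisymm
    · apply iSup_le
      intro j
      apply iSup_le
      intro _
      exact inf_le_right
    · intro v hv
      have hv1 : v ∈ ⨆ j ∈ (Finset.univ : Finset (Fin k)), E j := by
        have : (⨆ j ∈ (Finset.univ : Finset (Fin k)), E j) = ⨆ j, E j := by simp
        rw [this, hsup]
        exact Submodule.mem_top
      obtain ⟨μ, hμ⟩ := (Submodule.mem_iSup_finset_iff_exists_sum E v).mp hv1
      have hfv : ∑ j, f (μ j : V) = 0 := by
        rw [← map_sum, hμ]
        exact hv
      have hzero : ∀ j, f (μ j : V) = 0 := by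
        intro j
        have h1 : f (μ j : V) ∈ E j := hfE j _ (μ j).2
        have h2 : f (μ j : V) ∈ ⨆ (i : Fin k) (_ : i ≠ j), E i := by
          have h3 : f (μ j : V) = - ∑ i ∈ Finset.univ.erase j, f (μ i : V) := by
            rw [eq_neg_iff_add_eq_zero]
            have := Finset.add_sum_erase Finset.univ (fun i : Fin k => f (μ i : V))
              (Finset.mem_univ j)
            rw [this]
            exact hfv
          rw [h3]
          apply Submodule.neg_mem
          apply Submodule.sum_mem
          intro i hi
          have hij : i ≠ j := Finset.ne_of_mem_erase hi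
          exact Submodule.mem_iSup_of_mem i (Submodule.mem_iSup_of_mem hij (hfE i _ (μ i).2))
        have h4 := (hind j).le_bot ⟨h1, h2⟩
        exact (Submodule.mem_bot F).mp h4
      rw [← hμ]
      apply Submodule.sum_mem
      intro j hj
      apply Submodule.mem_iSup_of_mem j
      apply Submodule.mem_iSup_of_mem hj
      exact ⟨(μ j).2, hzero j⟩
  have h := finrank_biSup (F := F) (fun j => E j ⊓ LinearMap.ker f) hind' Finset.univ
  rw [hsup'] at h
  exact h

end Cfsg.Agent.S5956P
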