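import Mathlib
import Cfsg.Prelude.Def_GeometricClasses
import Cfsg.Prelude.Def_ClassicalGeometry
import Cfsg.Agent.Helper23.S5961Defs
import Cfsg.Agent.Helper21.S5950SEMI

set_option autoImplicit false
open scoped MatrixGroups

/-! S5961, piece DUALPAIR: an invariant complement `U'` of `U^⊥` for an invariant `U` (Maschke);
`U'` has the dimension of `U` and pairs perfectly with `U`. -/

namespace Cfsg.Agent.S5961P

open Polynomial Cfsg.Agent.Helper2.SympInvol Cfsg.Agent.Helper2.SympUnits

/-- DUALPAIR: an invariant complement to `U^⊥` for `U` invariant (Maschke) -/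
theorem exists_dual_pair {F V : Type*} [Field F] [AddCommGroup V] [Module F V]
    [FiniteDimensional F V] {p : ℕ} [Fact p.Prime] [CharP F p] (r : ℕ) [Fact r.Prime]
    (hrp : r ≠ p) (B : LinearMap.BilinForm F V) (halt : ∀ v, B v v = 0) (hnd : Nondeg B ⊤)
    (y : Module.End F V) (hyB : ∀ u v, B (y u) (y v) = B u v) (hy : y ^ r = 1)
    (U : Submodule F V) (hU : U.map y ≤ U) :
    ∃ U' : Submodule F V, U'.map y ≤ U' ∧ Module.finrank F U' = Module.finrank F U ∧
      (∀ u' ∈ U', (∀ u ∈ U, B u u' = 0) → u' = 0) := by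
  classical
  have hr : r.Prime := Fact.out
  have hp : p.Prime := Fact.out
  have hrF : (r : F) ≠ 0 := by
    intro h
    rw [CharP.cast_eq_zero_iff F p] at h
    rcases (Nat.prime_dvd_prime_iff_eq hp hr).mp h with h1
    exact hrp h1.symm
  -- powers of `y` preserve `U`
  have hUy : ∀ u ∈ U, y u ∈ U := fun u hu => hU (Submodule.mem_map_of_mem hu)
  have hUpow : ∀ n : ℕ, ∀ u ∈ U, (y ^ n) u ∈ U := by
    intro n
    induction n with
    | zero => intro u hu; simpa using hu
    | succ n ih =>
      intro u hu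
      rw [pow_succ', Module.End.mul_apply]
      exact hUy _ (ih u hu)
  -- `U^⊥` is invariant
  have hperp : (B.orthogonal U).map y ≤ B.orthogonal U := by
    rintro _ ⟨m, hm, rfl⟩
    rw [LinearMap.BilinForm.mem_orthogonal_iff]
    intro n hn
    show B n (y m) = 0
    obtain ⟨r0, hr0⟩ : ∃ r0, r = r0 + 1 := ⟨r - 1, by have := hr.pos; omega⟩
    have h1 : y ((y ^ r0) n) = n := by
      have : (y ^ (r0 + 1)) n = n := by rw [← hr0, hy, Module.End.one_apply]
      rwa [pow_succ', Module.End.mul_apply] at this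
    rw [← h1, hyB]
    exact (LinearMap.BilinForm.mem_orthogonal_iff.mp hm) _ (hUpow r0 n hn)
  have hy' : y ^ r = (1 : F) • (1 : Module.End F V) := by rw [hy, one_smul]
  obtain ⟨U', hcompl, hU'⟩ :=
    Cfsg.Agent.S5949P.exists_invariant_compl y r 1 one_ne_zero hrF hy' (B.orthogonal U) hperp
  refine ⟨U', hU', ?_, ?_⟩
  · -- dimensions
    have hker : LinearMap.ker B = ⊥ := by
      rw [Submodule.eq_bot_iff]
      intro m hm
      by_contra hm0
      obtain ⟨v, -, hv⟩ := hnd m trivial hm0
      apply hv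
      rw [LinearMap.mem_ker] at hm
      rw [hm, LinearMap.zero_apply]
    have h1 := LinearMap.BilinForm.finrank_add_finrank_orthogonal' (B := B) U
    rw [hker, inf_bot_eq, finrank_bot, add_zero] at h1
    have h2 := Submodule.finrank_add_eq_of_isCompl hcompl
    omega
  · intro u' hu' h
    have h1 : u' ∈ B.orthogonal U := by
      rw [LinearMap.BilinForm.mem_orthogonal_iff]
      intro n hn
      exact h n hn
    have h2 : u' ∈ B.orthogonal U ⊓ U' := ⟨h1, hu'⟩
    rw [hcompl.inf_eq_bot] at h2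
    exact (Submodule.mem_bot F).mp h2

example {F V : Type*} [Field F] [AddCommGroup V] [Module F V]
    [FiniteDimensional F V] {p : ℕ} [Fact p.Prime] [CharP F p] (r : ℕ) [Fact r.Prime]
    (hrp : r ≠ p) (B : LinearMap.BilinForm F V) (halt : ∀ v, B v v = 0) (hnd : Nondeg B ⊤)
    (y : Module.End F V) (hyB : ∀ u v, B (y u) (y v) = B u v) (hy : y ^ r = 1)
    (U : Submodule F V) (hU : U.map y ≤ U) :
    ∃ U' : Submodule F V, U'.map y ≤ U' ∧ Module.finrank F U' = Module.finrank F U ∧
      (∀ u' ∈ U', (∀ u ∈ U, B u u' = 0) → u' = 0) :=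
  exists_dual_pair r hrp B halt hnd y hyB hy U hU

end Cfsg.Agent.S5961P

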