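import Mathlib
import Cfsg.Prelude.Def_ClassicalGeometry
import Cfsg.Agent.Helper1.S5956Defs

set_option autoImplicit false
open scoped MatrixGroups

/-! S5956 piece HYPDOUBLE: the hyperbolic double `L × L*` of a linear map of finite order. -/

universe u

namespace Cfsg.Agent.S5956P

open Polynomial Cfsg.Agent.Helper2.SympInvol Cfsg.Agent.Helper2.SympUnits Cfsg.Agent.S5961P
  Cfsg.Agent.S5955P Cfsg.Agent.Helper2.InvolComb

namespace HYPDOUBLE

variable {F L : Type u} [Field F] [AddCommGroup L] [Module F L]

/-- the hyperbolic form on `L × L*` -/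
def form : LinearMap.BilinForm F (L × Module.Dual F L) :=
  LinearMap.mk₂ F (fun p q => q.2 p.1 - p.2 q.1)
    (by
      intro p p' q
      simp only [Prod.fst_add, Prod.snd_add, map_add, LinearMap.add_apply]
      ring)
    (by
      intro c p q
      simp only [Prod.smul_fst, Prod.smul_snd, map_smul, LinearMap.smul_apply, smul_eq_mul]
      ring)
    (by
      intro p q q'
      simp only [Prod.fst_add, Prod.snd_add, map_add, LinearMap.add_apply]
      ring)
    (by
      intro c p q
      simp only [Prod.smul_fst, Prod.smul_snd, map_smul, LinearMap.smul_apply, smul_eq_mul]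
      ring)

theorem form_apply (p q : L × Module.Dual F L) :
    form (F := F) (L := L) p q = q.2 p.1 - p.2 q.1 := rfl

/-- kernels of a product map -/
noncomputable def kerProdEquiv {M₁ M₂ : Type*} [AddCommGroup M₁] [Module F M₁] [AddCommGroup M₂]
    [Module F M₂] (f : Module.End F M₁) (k : Module.End F M₂) :
    LinearMap.ker (f.prodMap k) ≃ₗ[F] (LinearMap.ker f × LinearMap.ker k) where
  toFun x := (⟨x.1.1, by
      have := x.2
      rw [LinearMap.mem_ker, LinearMap.prodMap_apply, Prod.mk_eq_zero] at this
      exact this.1⟩, ⟨x.1.2, by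
      have := x.2
      rw [LinearMap.mem_ker, LinearMap.prodMap_apply, Prod.mk_eq_zero] at this
      exact this.2⟩)
  invFun y := ⟨(y.1.1, y.2.1), by
      rw [LinearMap.mem_ker, LinearMap.prodMap_apply, Prod.mk_eq_zero]
      exact ⟨y.1.2, y.2.2⟩⟩
  left_inv x := rfl
  right_inv y := rfl
  map_add' x y := rfl
  map_smul' c x := rfl

theorem finrank_ker_prodMap {M₁ M₂ : Type*} [AddCommGroup M₁] [Module F M₁] [AddCommGroup M₂]
    [Module F M₂] [FiniteDimensional F M₁] [FiniteDimensional F M₂]
    (f : Module.End F M₁) (k : Module.End F M₂) :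
    Module.finrank F (LinearMap.ker (f.prodMap k)) =
      Module.finrank F (LinearMap.ker f) + Module.finrank F (LinearMap.ker k) := by
  rw [(kerProdEquiv f k).finrank_eq, Module.finrank_prod]

theorem prodMap_sub_one_pow {M₁ M₂ : Type*} [AddCommGroup M₁] [Module F M₁] [AddCommGroup M₂]
    [Module F M₂] (f : Module.End F M₁) (k : Module.End F M₂) (i : ℕ) :
    (f.prodMap k - 1) ^ i = ((f - 1) ^ i).prodMap ((k - 1) ^ i) := by
  have h1 : f.prodMap k = LinearMap.prodMapRingHom F M₁ M₂ (f, k) := rfl
  have h2 : ((f - 1) ^ i).prodMap ((k - 1) ^ i) =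
      LinearMap.prodMapRingHom F M₁ M₂ ((f - 1) ^ i, (k - 1) ^ i) := rfl
  rw [h1, h2, ← map_one (LinearMap.prodMapRingHom F M₁ M₂), ← map_sub, ← map_pow]
  rfl

theorem prodMap_pow {M₁ M₂ : Type*} [AddCommGroup M₁] [Module F M₁] [AddCommGroup M₂]
    [Module F M₂] (f : Module.End F M₁) (k : Module.End F M₂) (i : ℕ) :
    (f.prodMap k) ^ i = (f ^ i).prodMap (k ^ i) := by
  have h1 : f.prodMap k = LinearMap.prodMapRingHom F M₁ M₂ (f, k) := rfl
  have h2 : (f ^ i).prodMap (k ^ i) = LinearMap.prodMapRingHom F M₁ M₂ (f ^ i, k ^ i) := rfl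
  rw [h1, h2, ← map_pow]
  rfl

/-- `dualMap` of a power -/
theorem dualMap_pow (f : Module.End F L) (i : ℕ) :
    (f ^ i).dualMap = (f.dualMap : Module.End F (Module.Dual F L)) ^ i := by
  induction i with
  | zero =>
    rw [pow_zero, pow_zero]
    exact LinearMap.dualMap_id
  | succ i ih =>
    rw [pow_succ, pow_succ', Module.End.mul_eq_comp, Module.End.mul_eq_comp,
      ← LinearMap.dualMap_comp_dualMap, ih]

theorem dualMap_sub_one (f : Module.End F L) :
    (f - 1 : Module.End F L).dualMap = (f.dualMap : Module.End F (Module.Dual F L)) - 1 := by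
  apply LinearMap.ext
  intro φ
  apply LinearMap.ext
  intro v
  simp [LinearMap.dualMap_apply]

/-- the kernel of the dual map has the same dimension -/
theorem finrank_ker_dualMap [FiniteDimensional F L] (f : Module.End F L) :
    Module.finrank F (LinearMap.ker f.dualMap) = Module.finrank F (LinearMap.ker f) := by
  have h1 := LinearMap.finrank_range_add_finrank_ker f
  have h2 := LinearMap.finrank_range_add_finrank_ker f.dualMap
  rw [LinearMap.finrank_range_dualMap_eq_finrank_range, Subspace.dual_finrank_eq] at h2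
  omega

end HYPDOUBLE

open HYPDOUBLE in
/-- HYPDOUBLE: the hyperbolic double `L × L*` of a linear map of finite order -/
theorem exists_hyp_double {F L : Type u} [Field F] [AddCommGroup L] [Module F L]
    [FiniteDimensional F L] (g : Module.End F L) (r : ℕ) (hr : 0 < r) (hg : g ^ r = 1) :
    ∃ (V : Type u) (_ : AddCommGroup V) (_ : Module F V) (_ : FiniteDimensional F V)
      (B : LinearMap.BilinForm F V) (y : Module.End F V), IsYSp B y r ∧
      ∀ i : ℕ, Module.finrank F (LinearMap.ker ((y - 1) ^ i)) =
        2 * Module.finrank F (LinearMap.ker ((g - 1) ^ i)) := by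
  obtain ⟨h, hh⟩ : ∃ h : Module.End F L, h = g ^ (r - 1) := ⟨_, rfl⟩
  have hhg : h * g = 1 := by
    rw [hh, ← pow_succ, Nat.sub_add_cancel hr, hg]
  have hgh : g * h = 1 := by
    rw [hh, ← pow_succ', Nat.sub_add_cancel hr, hg]
  have hhr : h ^ r = 1 := by
    rw [hh, ← pow_mul, mul_comm, pow_mul, hg, one_pow]
  have hcomm : Commute h g := by
    rw [hh]
    exact (Commute.refl g).pow_left _
  refine ⟨L × Module.Dual F L, inferInstance, inferInstance, inferInstance, form,
    g.prodMap h.dualMap, ⟨?_, ?_, ?_, ?_⟩, ?_⟩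
  · -- alternating
    intro v
    rw [form_apply, sub_self]
  · -- nondegenerate
    intro p _ hp
    by_cases hu : p.1 = 0
    · have hφ : p.2 ≠ 0 := by
        intro h0
        apply hp
        exact Prod.ext hu h0
      obtain ⟨v, hv⟩ : ∃ v, p.2 v ≠ 0 := by
        by_contra hcon
        push Not at hcon
        exact hφ (LinearMap.ext hcon)
      refine ⟨(v, 0), Submodule.mem_top, ?_⟩
      rw [form_apply]
      simp only [LinearMap.zero_apply, zero_sub, ne_eq, neg_eq_zero]
      exact hv
    · obtain ⟨ψ, hψ⟩ : ∃ ψ : Module.Dual F L, ψ p.1 ≠ 0 := by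
        by_contra hcon
        push Not at hcon
        exact hu ((Module.forall_dual_apply_eq_zero_iff F p.1).mp hcon)
      refine ⟨(0, ψ), Submodule.mem_top, ?_⟩
      rw [form_apply]
      simp only [map_zero, sub_zero, ne_eq]
      exact hψ
  · -- isometry
    intro u v
    rw [form_apply, form_apply]
    simp only [LinearMap.prodMap_apply, LinearMap.dualMap_apply]
    have h1 : ∀ x : L, h (g x) = x := by
      intro x
      rw [← Module.End.mul_apply, hhg]
      rfl
    rw [h1, h1]
  · -- order
    rw [prodMap_pow, hg, ← dualMap_pow, hhr]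
    have : (1 : Module.End F L).dualMap = (1 : Module.End F (Module.Dual F L)) :=
      LinearMap.dualMap_id
    rw [this]
    exact LinearMap.prodMap_one
  · intro i
    rw [prodMap_sub_one_pow, finrank_ker_prodMap, ← dualMap_sub_one, ← dualMap_pow,
      finrank_ker_dualMap]
    -- kernels of `(h - 1) ^ i` and `(g - 1) ^ i` agree
    have hkey : LinearMap.ker ((h - 1) ^ i) = LinearMap.ker ((g - 1) ^ i) := by
      have h3 : h - 1 = (-h) * (g - 1) := by
        rw [neg_mul, mul_sub, hhg, mul_one]
        abel
      have hc : Commute (-h) (g - 1) :=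
        (hcomm.neg_left).sub_right (Commute.one_right _)
      have h4 : (h - 1) ^ i = (-h) ^ i * (g - 1) ^ i := by
        rw [h3, hc.mul_pow]
      have h5 : (-g) ^ i * (-h) ^ i = 1 := by
        rw [← (hcomm.neg_left.neg_right.symm).mul_pow, neg_mul_neg, hgh, one_pow]
      ext x
      rw [LinearMap.mem_ker, LinearMap.mem_ker, h4, Module.End.mul_apply]
      constructor
      · intro hx
        have := congrArg ((-g) ^ i) hx
        rw [← Module.End.mul_apply, h5, map_zero] at this
        exact this
      · intro hx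
        rw [hx, map_zero]
    rw [hkey]
    ring

end Cfsg.Agent.S5956P
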