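import Mathlib
import Cfsg.Prelude.Def_ClassicalGeometry
import Cfsg.Agent.Helper1.S5956Defs

set_option autoImplicit false
open scoped MatrixGroups

/-! S5956 piece JBLOCK: a unipotent Jordan block of size `a ≤ p`. -/

universe u

namespace Cfsg.Agent.S5956P

open Polynomial Cfsg.Agent.Helper2.SympInvol Cfsg.Agent.Helper2.SympUnits Cfsg.Agent.S5961P
  Cfsg.Agent.S5955P Cfsg.Agent.Helper2.InvolComb

namespace JBLOCK

variable {F : Type u} [Field F]

/-- the shift by `i` places on `Fin a → F` -/
def shift (a i : ℕ) : Module.End F (Fin a → F) where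
  toFun v j := if h : j.val + i < a then v ⟨j.val + i, h⟩ else 0
  map_add' v w := by
    funext j
    simp only [Pi.add_apply]
    split_ifs <;> simp
  map_smul' c v := by
    funext j
    simp only [Pi.smul_apply, RingHom.id_apply, smul_eq_mul]
    split_ifs <;> simp

theorem shift_apply (a i : ℕ) (v : Fin a → F) (j : Fin a) :
    shift (F := F) a i v j = if h : j.val + i < a then v ⟨j.val + i, h⟩ else 0 := rfl

theorem shift_zero (a : ℕ) : shift (F := F) a 0 = 1 := by
  apply LinearMap.ext
  intro v
  funext j
  rw [shift_apply]
  have h : j.val + 0 < a := by simp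
  rw [dif_pos h]
  rfl

theorem shift_mul (a i k : ℕ) : shift (F := F) a i * shift a k = shift a (i + k) := by
  apply LinearMap.ext
  intro v
  funext j
  rw [Module.End.mul_apply, shift_apply, shift_apply]
  by_cases h1 : j.val + i < a
  · rw [dif_pos h1, shift_apply]
    by_cases h2 : j.val + i + k < a
    · have h3 : j.val + (i + k) < a := by omega
      rw [dif_pos h2, dif_pos h3]
      congr 1
      apply Fin.ext
      simp only []
      omega
    · have h3 : ¬ j.val + (i + k) < a := by omega
      rw [dif_neg h2, dif_neg h3]
  · have h3 : ¬ j.val + (i + k) < a := by omega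
    rw [dif_neg h1, dif_neg h3]

theorem shift_pow (a i : ℕ) : (shift (F := F) a 1) ^ i = shift a i := by
  induction i with
  | zero => rw [pow_zero, shift_zero]
  | succ i ih => rw [pow_succ, ih, shift_mul]

theorem shift_eq_zero (a i : ℕ) (h : a ≤ i) : shift (F := F) a i = 0 := by
  apply LinearMap.ext
  intro v
  funext j
  rw [shift_apply]
  have h3 : ¬ j.val + i < a := by omega
  rw [dif_neg h3]
  rfl

theorem mem_ker_shift (a i : ℕ) (v : Fin a → F) :
    v ∈ LinearMap.ker (shift (F := F) a i) ↔ ∀ j : Fin a, i ≤ j.val → v j = 0 := by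
  rw [LinearMap.mem_ker]
  constructor
  · intro h j hj
    have h1 := congrFun h ⟨j.val - i, by omega⟩
    rw [shift_apply] at h1
    have h2 : (⟨j.val - i, by omega⟩ : Fin a).val + i < a := by
      simp only []
      omega
    rw [dif_pos h2] at h1
    have h3 : (⟨(⟨j.val - i, by omega⟩ : Fin a).val + i, h2⟩ : Fin a) = j := by
      apply Fin.ext
      simp only []
      omega
    rw [h3] at h1
    exact h1
  · intro h
    funext j
    rw [shift_apply]
    by_cases h1 : j.val + i < a
    · rw [dif_pos h1]
      exact h _ (by simp)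
    · rw [dif_neg h1]
      rfl

/-- the kernel of the shift by `i` is the space of vectors supported on the first `i` places -/
noncomputable def kerEquiv (a i : ℕ) :
    LinearMap.ker (shift (F := F) a i) ≃ₗ[F] ({j : Fin a // j.val < i} → F) where
  toFun v j := v.1 j.1
  invFun w := ⟨fun j => if h : j.val < i then w ⟨j, h⟩ else 0, by
    rw [mem_ker_shift]
    intro j hj
    have : ¬ j.val < i := by omega
    simp only [dif_neg this]⟩
  left_inv v := by
    apply Subtype.ext
    funext j
    simp only []
    by_cases h : j.val < i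
    · rw [dif_pos h]
    · rw [dif_neg h]
      exact ((mem_ker_shift a i v.1).mp v.2 j (by omega)).symm
  right_inv w := by
    funext j
    simp only []
    rw [dif_pos j.2]
  map_add' v w := by
    funext j
    rfl
  map_smul' c v := by
    funext j
    rfl

theorem card_lt (a i : ℕ) : Fintype.card {j : Fin a // j.val < i} = min i a := by
  rw [Fintype.card_subtype]
  have h : (Finset.univ.filter (fun j : Fin a => j.val < i)) =
      (Finset.univ.filter (fun j : Fin a => j.val < min i a)) := by
    ext j
    simp only [Finset.mem_filter, Finset.mem_univ, true_and]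
    have := j.2
    omega
  rw [h]
  have hle : min i a ≤ a := min_le_right _ _
  have := Fin.card_filter_val_lt (n := a) (m := min i a)
  rw [this]
  omega

theorem finrank_ker_shift (a i : ℕ) :
    Module.finrank F (LinearMap.ker (shift (F := F) a i)) = min i a := by
  rw [(kerEquiv (F := F) a i).finrank_eq, Module.finrank_fintype_fun_eq_card, card_lt]

end JBLOCK

/-- JBLOCK: a unipotent Jordan block of size `a ≤ p` -/
theorem exists_jordan_block {F : Type u} [Field F] {p : ℕ} [Fact p.Prime] [CharP F p]
    (a : ℕ) (ha0 : 0 < a) (hap : a ≤ p) :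
    ∃ g : Module.End F (Fin a → F), g ^ p = 1 ∧
      ∀ i : ℕ, Module.finrank F (LinearMap.ker ((g - 1) ^ i)) = min i a := by
  haveI : Nonempty (Fin a) := ⟨⟨0, ha0⟩⟩
  haveI : Nontrivial (Fin a → F) := inferInstance
  haveI : CharP (Module.End F (Fin a → F)) p :=
    charP_of_injective_algebraMap (algebraMap F (Module.End F (Fin a → F))).injective p
  refine ⟨1 + JBLOCK.shift a 1, ?_, ?_⟩
  · rw [add_pow_char_of_commute p (Commute.one_left _), one_pow, JBLOCK.shift_pow,
      JBLOCK.shift_eq_zero a p hap, add_zero]
  · intro i
    rw [add_sub_cancel_left, JBLOCK.shift_pow, JBLOCK.finrank_ker_shift]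

end Cfsg.Agent.S5956P
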