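import Mathlib
import Cfsg.Prelude.Def_ClassicalGeometry
import Cfsg.Agent.Helper1.S5956Defs
import Cfsg.Agent.Helper24.S5956JBLOCK
import Cfsg.Agent.Helper24.S5956HYPDOUBLE

set_option autoImplicit false
open scoped MatrixGroups

/-! S5956 piece MODELW: the hyperbolic double of a unipotent Jordan block. -/

universe u

namespace Cfsg.Agent.S5956P

open Polynomial Cfsg.Agent.Helper2.SympInvol Cfsg.Agent.Helper2.SympUnits Cfsg.Agent.S5961P
  Cfsg.Agent.S5955P Cfsg.Agent.Helper2.InvolComb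

/-- MODELW (uses JBLOCK, HYPDOUBLE) -/
theorem exists_model_double {F : Type u} [Field F] {p : ℕ} [Fact p.Prime] [CharP F p]
    (a : ℕ) (ha0 : 0 < a) (hap : a ≤ p) :
    ∃ (V : Type u) (_ : AddCommGroup V) (_ : Module F V) (_ : FiniteDimensional F V)
      (B : LinearMap.BilinForm F V) (y : Module.End F V), IsYSp B y p ∧
      ∀ i : ℕ, Module.finrank F (LinearMap.ker ((y - 1) ^ i)) = 2 * min i a := by
  obtain ⟨g, hgp, hgk⟩ := exists_jordan_block (F := F) (p := p) a ha0 hap
  have hp : 0 < p := (Fact.out : p.Prime).pos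
  obtain ⟨V, i1, i2, i3, B, y, hy, hk⟩ := exists_hyp_double g p hp hgp
  refine ⟨V, i1, i2, i3, B, y, hy, ?_⟩
  intro i
  rw [hk i, hgk i]

end Cfsg.Agent.S5956P
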