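import Mathlib
import Cfsg.Prelude.Def_Characters
import Cfsg.Agent.Helper5.PermChar

/-!
Permutation characters.
-/

namespace Cfsg.Agent.Helper24

universe u v

/-- For a transitive action, the permutation character is induced from the trivial character of a
point stabilizer. -/
theorem permChar_eq_indFun {G : Type u} [Group G] [Fintype G] (X : Type v) [MulAction G X]
    [MulAction.IsPretransitive G X] (x : X) :
    (fun g : G => (Nat.card (MulAction.fixedBy X g) : ℂ)) =
      Cfsg.indFun (MulAction.stabilizer G x) (fun _ => 1) := by
  funext g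
  rw [Cfsg.Agent.Helper5.indFun_one_eq_card_fixedBy]
  congr 1
  symm
  apply Nat.card_congr
  refine Equiv.ofBijective
    (fun q => ⟨MulAction.ofQuotientStabilizer G x q.1, ?_⟩) ⟨?_, ?_⟩
  · rw [MulAction.mem_fixedBy, ← MulAction.ofQuotientStabilizer_smul]
    congr 1
    exact q.2
  · intro q q' h
    apply Subtype.ext
    apply MulAction.injective_ofQuotientStabilizer G x
    exact congrArg Subtype.val h
  · rintro ⟨y, hy⟩
    obtain ⟨a, ha⟩ := MulAction.exists_smul_eq G x y
    refine ⟨⟨(a : G ⧸ MulAction.stabilizer G x), ?_⟩, ?_⟩
    · rw [MulAction.mem_fixedBy]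
      apply MulAction.injective_ofQuotientStabilizer G x
      rw [MulAction.ofQuotientStabilizer_smul, MulAction.ofQuotientStabilizer_mk, ha]
      exact hy
    · apply Subtype.ext
      show MulAction.ofQuotientStabilizer G x (a : G ⧸ MulAction.stabilizer G x) = y
      rw [MulAction.ofQuotientStabilizer_mk]
      exact ha

end Cfsg.Agent.Helper24
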