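import Mathlib
import Cfsg.Prelude.Def_Characters
import Cfsg.Agent.Helper24.PermCharacter
import Cfsg.Agent.Helper24.Generalized

/-!
The permutation character of a 2-transitive action.
-/

namespace Cfsg.Agent.Helper24

open Representation Module MulAction

universe u v

section Burnside

variable {G : Type u} [Group G] [Fintype G] {X : Type v} [MulAction G X] [Finite X]

/-- Burnside's lemma with `Nat.card`, cast to `ℂ`. -/
theorem sum_card_fixedBy_complex :
    ∑ g : G, (Nat.card (fixedBy X g) : ℂ) =
      (Nat.card (orbitRel.Quotient G X) : ℂ) * (Nat.card G : ℂ) := by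
  classical
  haveI : Fintype X := Fintype.ofFinite X
  haveI : Fintype (orbitRel.Quotient G X) := Fintype.ofFinite _
  have h := sum_card_fixedBy_eq_card_orbits_mul_card_group G X
  simp only [Nat.card_eq_fintype_card]
  exact_mod_cast h

end Burnside

section TwoTrans

variable {G : Type u} [Group G] {X : Type v} [MulAction G X]

/-- The diagonal indicator on orbits of pairs. -/
def diagOrbit [DecidableEq X] : orbitRel.Quotient G (X × X) → Bool :=
  Quotient.lift (fun p : X × X => decide (p.1 = p.2)) (by
    rintro ⟨a, b⟩ ⟨c, d⟩ ⟨g, hg⟩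
    simp only [Prod.smul_mk, Prod.mk.injEq] at hg
    simp only [decide_eq_decide]
    constructor
    · intro h
      have hac : a = g • c := hg.1.symm
      have hbd : b = g • d := hg.2.symm
      rw [hac, hbd] at h
      exact smul_left_cancel g h
    · intro h
      rw [← hg.1, ← hg.2, h])

theorem diagOrbit_mk [DecidableEq X] (a b : X) :
    diagOrbit (G := G) (Quotient.mk'' (a, b)) = decide (a = b) := rfl

theorem diagOrbit_surjective [DecidableEq X] [Finite X] (hX : 2 ≤ Nat.card X) :
    Function.Surjective (diagOrbit (G := G) (X := X)) := by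
  haveI : Nontrivial X := by
    rw [← Finite.one_lt_card_iff_nontrivial]
    omega
  obtain ⟨a, b, hab⟩ := exists_pair_ne X
  intro t
  cases t
  · exact ⟨Quotient.mk'' (a, b), by rw [diagOrbit_mk]; simpa using hab⟩
  · exact ⟨Quotient.mk'' (a, a), by rw [diagOrbit_mk]; simp⟩

theorem diagOrbit_injective_iff [DecidableEq X] [IsPretransitive G X] :
    Function.Injective (diagOrbit (G := G) (X := X)) ↔ IsMultiplyPretransitive G X 2 := by
  rw [is_two_pretransitive_iff]
  constructor
  · intro hinj a b c d hab hcd
    have h : diagOrbit (G := G) (Quotient.mk'' (a, b)) = diagOrbit (G := G) (Quotient.mk'' (c, d)) := by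
      rw [diagOrbit_mk, diagOrbit_mk]
      simp [hab, hcd]
    have h2 := hinj h
    rw [Quotient.eq''] at h2
    obtain ⟨g, hg⟩ := h2
    simp only [Prod.smul_mk, Prod.mk.injEq] at hg
    refine ⟨g⁻¹, ?_, ?_⟩
    · rw [← hg.1, inv_smul_smul]
    · rw [← hg.2, inv_smul_smul]
  · intro h2 p q
    induction p using Quotient.inductionOn' with
    | _ p =>
    induction q using Quotient.inductionOn' with
    | _ q =>
    obtain ⟨a, b⟩ := p
    obtain ⟨c, d⟩ := q
    intro h
    rw [diagOrbit_mk, diagOrbit_mk, decide_eq_decide] at h
    rw [Quotient.eq'']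
    by_cases hab : a = b
    · have hcd : c = d := h.mp hab
      subst hab
      subst hcd
      obtain ⟨g, hg⟩ := exists_smul_eq G c a
      exact ⟨g, by simp [hg]⟩
    · have hcd : c ≠ d := fun hcd => hab (h.mpr hcd)
      obtain ⟨g, hg1, hg2⟩ := h2 hcd hab
      exact ⟨g, by simp [hg1, hg2]⟩

/-- For a transitive action on at least two points, the action is 2-transitive iff there are
exactly two orbits on pairs. -/
theorem card_orbits_prod_eq_two_iff [Finite X] [IsPretransitive G X] (hX : 2 ≤ Nat.card X) :
    Nat.card (orbitRel.Quotient G (X × X)) = 2 ↔ IsMultiplyPretransitive G X 2 := by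
  classical
  haveI : Fintype (orbitRel.Quotient G (X × X)) := Fintype.ofFinite _
  rw [← diagOrbit_injective_iff]
  constructor
  · intro h
    have hbij : Function.Bijective (diagOrbit (G := G) (X := X)) := by
      rw [Fintype.bijective_iff_surjective_and_card]
      refine ⟨diagOrbit_surjective hX, ?_⟩
      rw [← Nat.card_eq_fintype_card, h, Fintype.card_bool]
    exact hbij.1
  · intro hinj
    have hbij : Function.Bijective (diagOrbit (G := G) (X := X)) :=
      ⟨hinj, diagOrbit_surjective hX⟩
    rw [Nat.card_eq_of_bijective _ hbij, Nat.card_eq_fintype_card, Fintype.card_bool]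

end TwoTrans

section Main

variable {G : Type u} [Group G] [Finite G] (X : Type v) [MulAction G X] [Finite X]

omit [Finite X] in
/-- The permutation character of a transitive action is a character. -/
theorem isCharacter_permChar [IsPretransitive G X] [Nonempty X] :
    IsCharacter G (fun g : G => (Nat.card (fixedBy X g) : ℂ)) := by
  haveI : Fintype G := Fintype.ofFinite G
  obtain ⟨x⟩ := ‹Nonempty X›
  rw [permChar_eq_indFun X x]
  exact isCharacter_indFun _ isCharacter_const_one

omit [Finite G] in
/-- `⟨π - 1, π - 1⟩ = r - 1`, where `r` is the number of orbits on pairs. -/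
theorem classInner_permChar_sub_one [Fintype G] [IsPretransitive G X] [Nonempty X] :
    classInner (fun g : G => (Nat.card (fixedBy X g) : ℂ) - 1)
      (fun g : G => (Nat.card (fixedBy X g) : ℂ) - 1) =
      (Nat.card (orbitRel.Quotient G (X × X)) : ℂ) - 1 := by
  unfold classInner
  have h1 : ∀ g : G, ((Nat.card (fixedBy X g) : ℂ) - 1) *
      (starRingEnd ℂ) ((Nat.card (fixedBy X g) : ℂ) - 1) =
      (Nat.card (fixedBy (X × X) g) : ℂ) - 2 * (Nat.card (fixedBy X g) : ℂ) + 1 := by
    intro g
    rw [map_sub, Complex.conj_natCast, map_one, Cfsg.Agent.Helper5.card_fixedBy_prod]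
    push_cast
    ring
  simp_rw [h1]
  rw [Finset.sum_add_distrib, Finset.sum_sub_distrib, ← Finset.mul_sum,
    sum_card_fixedBy_complex, sum_card_fixedBy_complex]
  have hone : Nat.card (orbitRel.Quotient G X) = 1 := by
    rw [Nat.card_eq_one_iff_unique]
    exact ⟨(pretransitive_iff_subsingleton_quotient G X).mp inferInstance,
      (nonempty_quotient_iff _).mpr inferInstance⟩
  rw [hone]
  have hG := card_ne_zero_complex (G := G)
  simp only [Finset.sum_const, Finset.card_univ, nsmul_eq_mul, mul_one, Nat.cast_one, one_mul]
  rw [← Nat.card_eq_fintype_card]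
  field_simp
  ring

/-- A transitive action on at least two points is 2-transitive iff `π - 1` is irreducible. -/
theorem isIrrCharacter_permChar_sub_one_iff [IsPretransitive G X] (hX : 2 ≤ Nat.card X) :
    IsIrrCharacter G (fun g => (Nat.card (fixedBy X g) : ℂ) - 1) ↔
      IsMultiplyPretransitive G X 2 := by
  haveI : Fintype G := Fintype.ofFinite G
  haveI : Fintype (IrrCharacter G) := Fintype.ofFinite _
  haveI : Nonempty X := by
    rw [← Finite.card_pos_iff]; omega
  rw [← card_orbits_prod_eq_two_iff hX]
  have hnorm := classInner_permChar_sub_one (G := G) X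
  constructor
  · intro h
    have h1 := classInner_irr_self ⟨_, h⟩
    simp only at h1
    rw [hnorm] at h1
    have : (Nat.card (orbitRel.Quotient G (X × X)) : ℂ) = 2 := by linear_combination h1
    exact_mod_cast this
  · intro h
    have hgen : IsGeneralizedCharacter G (fun g => (Nat.card (fixedBy X g) : ℂ) - 1) :=
      ⟨_, _, isCharacter_permChar X, isCharacter_const_one, rfl⟩
    refine IsGeneralizedCharacter.isIrrCharacter_of_classInner_self hgen ?_ ?_
    · rw [hnorm, h]; norm_num
    · have : fixedBy X (1 : G) = Set.univ := by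
        ext x; simp
      simp only [this, Nat.card_coe_set_eq, Set.ncard_univ]
      have h2 : (2 : ℝ) ≤ (Nat.card X : ℝ) := by exact_mod_cast hX
      simp
      linarith

end Main

end Cfsg.Agent.Helper24
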