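import Mathlib
import Cfsg.Prelude.Def_Characters
import Cfsg.Agent.Helper24.Orthogonality
import Cfsg.Agent.Helper24.Linear

/-!
Multiplicity of the principal character in a restriction = dimension of the fixed space;
Brauer's generation criterion.
-/

namespace Cfsg.Agent.Helper24

open Representation Module

universe u v

section Invariants

variable {G : Type u} [Group G] {V : Type v} [AddCommGroup V] [Module ℂ V]
  [FiniteDimensional ℂ V]

/-- `⟨χ_H, 1_H⟩ = dim V^H`. -/
theorem classInner_restrict_one_eq_finrank_invariants (ρ : Representation ℂ G V)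
    (H : Subgroup G) [Fintype H] :
    classInner (fun x : H => ρ.character x) (fun _ => 1) =
      (finrank ℂ (invariants (ρ.comp H.subtype)) : ℂ) := by
  haveI : Invertible (Nat.card H : ℂ) := by
    apply invertibleOfNonzero
    have := Nat.card_pos (α := H)
    exact_mod_cast this.ne'
  rw [← card_inv_mul_sum_char_eq_finrank (ρ.comp H.subtype)]
  unfold classInner
  congr 1
  refine Finset.sum_congr rfl ?_
  intro h _
  rw [map_one, mul_one]
  rfl

omit [FiniteDimensional ℂ V] in
theorem mem_invariants_comp_subtype (ρ : Representation ℂ G V) (H : Subgroup G) (v : V) :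
    v ∈ invariants (ρ.comp H.subtype) ↔ ∀ h ∈ H, ρ h v = v := by
  rw [mem_invariants]
  constructor
  · intro h g hg
    exact h ⟨g, hg⟩
  · intro h g
    exact h g g.2

omit [FiniteDimensional ℂ V] in
/-- Fixed vectors of `H₁` and of `H₂` are fixed by `H₁ ⊔ H₂`. -/
theorem apply_eq_of_mem_sup (ρ : Representation ℂ G V) (H₁ H₂ : Subgroup G) (v : V)
    (h1 : ∀ h ∈ H₁, ρ h v = v) (h2 : ∀ h ∈ H₂, ρ h v = v) : ∀ g ∈ H₁ ⊔ H₂, ρ g v = v := by
  intro g hg
  let S : Subgroup G :=
    { carrier := {g | ρ g v = v}
      one_mem' := by simp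
      mul_mem' := by
        intro a b ha hb
        simp only [Set.mem_ofPred_eq] at ha hb ⊢
        rw [map_mul, Module.End.mul_apply, hb, ha]
      inv_mem' := by
        intro a ha
        simp only [Set.mem_ofPred_eq] at ha ⊢
        calc ρ a⁻¹ v = ρ a⁻¹ (ρ a v) := by rw [ha]
          _ = (ρ a⁻¹ * ρ a) v := rfl
          _ = v := by rw [← map_mul, inv_mul_cancel, map_one]; rfl }
  have hle : H₁ ⊔ H₂ ≤ S := sup_le (fun h hh => h1 h hh) (fun h hh => h2 h hh)
  exact hle hg

end Invariants

section Brauer

variable {G : Type u} [Group G] [Fintype G]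

/-- Brauer's generation criterion. -/
theorem sup_ne_top_of_classInner_lt (H₁ H₂ : Subgroup G) [Fintype H₁] [Fintype H₂]
    [Fintype ↥(H₁ ⊓ H₂)] (χ : G → ℂ) (hχ : IsIrrCharacter G χ) (hχ1 : χ ≠ fun _ => 1)
    (hlt : (classInner (fun x : ↥(H₁ ⊓ H₂) => χ x) (fun _ => 1)).re <
      (classInner (fun x : H₁ => χ x) (fun _ => 1)).re +
        (classInner (fun x : H₂ => χ x) (fun _ => 1)).re) : H₁ ⊔ H₂ ≠ ⊤ := by
  classical
  intro htop
  obtain ⟨n, ρ, hρ, rfl⟩ := hχ
  haveI := hρ
  rw [classInner_restrict_one_eq_finrank_invariants ρ (H₁ ⊓ H₂),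
    classInner_restrict_one_eq_finrank_invariants ρ H₁,
    classInner_restrict_one_eq_finrank_invariants ρ H₂] at hlt
  simp only [Complex.natCast_re] at hlt
  -- the invariants of the whole group vanish
  have hinv0 : invariants ρ = ⊥ := by
    haveI : Invertible (Nat.card G : ℂ) := by
      apply invertibleOfNonzero
      have := Nat.card_pos (α := G)
      exact_mod_cast this.ne'
    have h1 := card_inv_mul_sum_char_eq_finrank ρ
    have h2 : classInner ρ.character (fun _ => (1 : ℂ)) = 0 := by
      rw [classInner_of_isIrrCharacter ⟨n, ρ, hρ, rfl⟩ isIrrCharacter_const_one, if_neg hχ1]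
    have h3 : classInner ρ.character (fun _ => (1 : ℂ)) =
        (Nat.card G : ℂ)⁻¹ * ∑ g : G, ρ.character g := by
      unfold classInner
      congr 1
      refine Finset.sum_congr rfl ?_
      intro g _
      rw [map_one, mul_one]
    rw [← h3, h2] at h1
    have h4 : finrank ℂ (invariants ρ) = 0 := by exact_mod_cast h1.symm
    exact Submodule.finrank_eq_zero.mp h4
  have hinf : invariants (ρ.comp H₁.subtype) ⊓ invariants (ρ.comp H₂.subtype) = ⊥ := by
    rw [eq_bot_iff]
    intro v hv
    rw [Submodule.mem_inf, mem_invariants_comp_subtype, mem_invariants_comp_subtype] at hv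
    have h1 := apply_eq_of_mem_sup ρ H₁ H₂ v hv.1 hv.2
    rw [htop] at h1
    rw [← hinv0, mem_invariants]
    intro g
    exact h1 g (Subgroup.mem_top g)
  have hsup : invariants (ρ.comp H₁.subtype) ⊔ invariants (ρ.comp H₂.subtype) ≤
      invariants (ρ.comp (H₁ ⊓ H₂).subtype) := by
    refine sup_le ?_ ?_
    · intro v hv
      rw [mem_invariants_comp_subtype] at hv ⊢
      intro h hh
      exact hv h hh.1
    · intro v hv
      rw [mem_invariants_comp_subtype] at hv ⊢
      intro h hh
      exact hv h hh.2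
  have hdim := Submodule.finrank_sup_add_finrank_inf_eq (invariants (ρ.comp H₁.subtype))
    (invariants (ρ.comp H₂.subtype))
  rw [hinf, finrank_bot, add_zero] at hdim
  have hle := Submodule.finrank_mono hsup
  have : (finrank ℂ (invariants (ρ.comp H₁.subtype)) : ℝ) +
      (finrank ℂ (invariants (ρ.comp H₂.subtype)) : ℝ) ≤
      (finrank ℂ (invariants (ρ.comp (H₁ ⊓ H₂).subtype)) : ℝ) := by
    rw [hdim] at hle
    exact_mod_cast hle
  linarith

end Brauer

end Cfsg.Agent.Helper24
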