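import Mathlib
import Cfsg.Prelude.Def_Characters
import Cfsg.Agent.Helper24.Span

/-!
Vanishing of character values: sums over normal subgroups not in the kernel.
-/

namespace Cfsg.Agent.Helper24

open Representation Module

universe u v

section Vanish

variable {G : Type u} [Group G]
variable {V : Type v} [AddCommGroup V] [Module ℂ V] [FiniteDimensional ℂ V]

/-- The indicator function of a normal subgroup is a class function. -/
theorem isClassFunction_indicator_normal (H : Subgroup G) [hN : H.Normal]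
    [DecidablePred (· ∈ H)] :
    IsClassFunction G (fun g => if g ∈ H then (1 : ℂ) else 0) := by
  intro g x
  have : x * g * x⁻¹ ∈ H ↔ g ∈ H := by
    constructor
    · intro h
      have := hN.conj_mem _ h x⁻¹
      simpa [mul_assoc] using this
    · intro h
      exact hN.conj_mem _ h x
  simp only [this]

variable [Fintype G]

/-- If `H` is a normal subgroup not contained in the kernel of the irreducible representation `ρ`,
then `∑_{h ∈ H} ρ h = 0`. -/
theorem sum_rho_normal_eq_zero (ρ : Representation ℂ G V) [ρ.IsIrreducible] (H : Subgroup G)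
    [H.Normal] [DecidablePred (· ∈ H)] (hker : ∃ h ∈ H, ρ h ≠ LinearMap.id) :
    ∑ g : G, (if g ∈ H then (1 : ℂ) else 0) • ρ g = 0 := by
  obtain ⟨c, hT, _⟩ := sum_smul_rho_eq_smul_id ρ _ (isClassFunction_indicator_normal H)
  obtain ⟨h₀, hh₀, hne⟩ := hker
  have hmul : (∑ g : G, (if g ∈ H then (1 : ℂ) else 0) • ρ g) * ρ h₀ =
      ∑ g : G, (if g ∈ H then (1 : ℂ) else 0) • ρ g := by
    rw [Finset.sum_mul]
    have h1 : ∀ g : G, ((if g ∈ H then (1 : ℂ) else 0) • ρ g) * ρ h₀ =
        (if g * h₀ ∈ H then (1 : ℂ) else 0) • ρ (g * h₀) := by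
      intro g
      rw [smul_mul_assoc, map_mul]
      have : g * h₀ ∈ H ↔ g ∈ H := by
        constructor
        · intro h
          have := H.mul_mem h (H.inv_mem hh₀)
          simpa using this
        · intro h
          exact H.mul_mem h hh₀
      simp only [this]
    simp_rw [h1]
    exact Fintype.sum_equiv (Equiv.mulRight h₀) _ _ (fun g => rfl)
  rw [hT] at hmul ⊢
  by_cases hc : c = 0
  · rw [hc, zero_smul]
  · exfalso
    apply hne
    have h2 : c • ρ h₀ = c • (LinearMap.id : V →ₗ[ℂ] V) := by
      rw [smul_mul_assoc] at hmul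
      have : (LinearMap.id : V →ₗ[ℂ] V) * ρ h₀ = ρ h₀ := by
        rw [Module.End.mul_eq_comp, LinearMap.id_comp]
      rw [this] at hmul
      exact hmul
    exact smul_right_injective _ hc h2

theorem sum_char_normal_eq_zero (ρ : Representation ℂ G V) [ρ.IsIrreducible] (H : Subgroup G)
    [H.Normal] [DecidablePred (· ∈ H)] (hker : ∃ h ∈ H, ρ h ≠ LinearMap.id) :
    ∑ g : G, (if g ∈ H then (1 : ℂ) else 0) * ρ.character g = 0 := by
  have := congrArg (LinearMap.trace ℂ V) (sum_rho_normal_eq_zero ρ H hker)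
  rw [map_sum, map_zero] at this
  refine Eq.trans (Finset.sum_congr rfl ?_) this
  intro g _
  rw [map_smul, smul_eq_mul]
  rfl

omit [Fintype G] in
/-- If `g` commutes with no nonidentity element of the finite normal subgroup `H`, every element
of the coset `H g` is conjugate to `g`. -/
theorem exists_conj_of_fixedPointFree [Finite G] (H : Subgroup G) [hN : H.Normal] (g : G)
    (hg : ∀ h ∈ H, h * g = g * h → h = 1) (x : G) (hx : x ∈ H) :
    ∃ h : G, x * g = h * g * h⁻¹ := by
  let f : H → H := fun h => ⟨(h : G) * g * (h : G)⁻¹ * g⁻¹, by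
    have h1 : g * (h : G)⁻¹ * g⁻¹ ∈ H := hN.conj_mem _ (H.inv_mem h.2) g
    have := H.mul_mem h.2 h1
    simpa [mul_assoc] using this⟩
  have hinj : Function.Injective f := by
    intro a b hab
    have h1 : (a : G) * g * (a : G)⁻¹ * g⁻¹ = (b : G) * g * (b : G)⁻¹ * g⁻¹ :=
      congrArg Subtype.val hab
    have h2 : (a : G) * g * (a : G)⁻¹ = (b : G) * g * (b : G)⁻¹ := mul_right_cancel h1
    have h3 : ((b : G)⁻¹ * (a : G)) * g = g * ((b : G)⁻¹ * (a : G)) := by
      calc ((b : G)⁻¹ * (a : G)) * g = (b : G)⁻¹ * ((a : G) * g * (a : G)⁻¹) * (a : G) := by group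
        _ = (b : G)⁻¹ * ((b : G) * g * (b : G)⁻¹) * (a : G) := by rw [h2]
        _ = g * ((b : G)⁻¹ * (a : G)) := by group
    have h4 := hg _ (H.mul_mem (H.inv_mem b.2) a.2) h3
    apply Subtype.ext
    have : (a : G) = (b : G) * ((b : G)⁻¹ * (a : G)) := by group
    rw [this, h4, mul_one]
  have hsurj : Function.Surjective f := Finite.surjective_of_injective hinj
  obtain ⟨h, hh⟩ := hsurj ⟨x, hx⟩
  refine ⟨h, ?_⟩
  have h1 : (h : G) * g * (h : G)⁻¹ * g⁻¹ = x := congrArg Subtype.val hh
  rw [← h1]
  group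

/-- Let `H` be a normal subgroup not in the kernel of the irreducible `ρ`. If `g` commutes with
no nonidentity element of `H`, then `χ g = 0`. -/
theorem char_eq_zero_of_fixedPointFree (ρ : Representation ℂ G V) [ρ.IsIrreducible]
    (H : Subgroup G) [H.Normal] (hker : ∃ h ∈ H, ρ h ≠ LinearMap.id) (g : G)
    (hg : ∀ h ∈ H, h * g = g * h → h = 1) : ρ.character g = 0 := by
  classical
  have h0 := sum_char_normal_eq_zero ρ H hker
  have h1 := sum_mul_char_mul ρ _ (isClassFunction_indicator_normal H) g
  rw [h0, mul_zero] at h1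
  have h2 : ∑ x : G, (if x ∈ H then (1 : ℂ) else 0) * ρ.character (x * g) =
      ∑ x : G, (if x ∈ H then (1 : ℂ) else 0) * ρ.character g := by
    refine Finset.sum_congr rfl ?_
    intro x _
    by_cases hx : x ∈ H
    · obtain ⟨h, hh⟩ := exists_conj_of_fixedPointFree H g hg x hx
      rw [hh, Representation.char_conj]
    · simp [hx]
  rw [h2, ← Finset.sum_mul] at h1
  have h3 : ∑ x : G, (if x ∈ H then (1 : ℂ) else 0) = (Nat.card H : ℂ) := by
    rw [Finset.sum_ite, Finset.sum_const_zero, add_zero, Finset.sum_const, nsmul_eq_mul, mul_one]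
    congr 1
    rw [Nat.card_eq_fintype_card, Fintype.card_subtype]
  rw [h3] at h1
  have hn : (finrank ℂ V : ℂ) ≠ 0 := by
    exact_mod_cast (finrank_pos_of_isIrreducible ρ).ne'
  have hH : (Nat.card H : ℂ) ≠ 0 := by
    exact_mod_cast (Nat.card_pos (α := H)).ne'
  rcases mul_eq_zero.mp h1 with h | h
  · exact absurd h hn
  · rcases mul_eq_zero.mp h with h | h
    · exact absurd h hH
    · exact h

end Vanish

end Cfsg.Agent.Helper24
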