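import Mathlib
import Cfsg.Prelude.Def_Characters
import Cfsg.Agent.Helper24.BrauerPerm
import Cfsg.Agent.Helper24.OddInduced
import Cfsg.Agent.Helper24.Vanish

/-!
Characters of Frobenius groups (in the internal form `G = K H`).
-/

namespace Cfsg.Agent.Helper24

open Representation Module

universe u

section

variable {G : Type u} [Group G]

/-- If `g` commutes with no nonidentity element of the finite normal subgroup `K`, every element
of the coset `K g` is `K`-conjugate to `g`. -/
theorem exists_mem_conj_of_fixedPointFree [Finite G] (K : Subgroup G) [hN : K.Normal] (g : G)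
    (hg : ∀ k ∈ K, k * g = g * k → k = 1) (x : G) (hx : x ∈ K) :
    ∃ k ∈ K, x * g = k * g * k⁻¹ := by
  let f : K → K := fun h => ⟨(h : G) * g * (h : G)⁻¹ * g⁻¹, by
    have h1 : g * (h : G)⁻¹ * g⁻¹ ∈ K := hN.conj_mem _ (K.inv_mem h.2) g
    have := K.mul_mem h.2 h1
    simpa [mul_assoc] using this⟩
  have hinj : Function.Injective f := by
    intro a b hab
    have h1 : (a : G) * g * (a : G)⁻¹ * g⁻¹ = (b : G) * g * (b : G)⁻¹ * g⁻¹ :=
      congrArg Subtype.val hab
    have h2 : (a : G) * g * (a : G)⁻¹ = (b : G) * g * (b : G)⁻¹ := mul_right_cancel h1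
    have h3 : ((b : G)⁻¹ * (a : G)) * g = g * ((b : G)⁻¹ * (a : G)) := by
      calc ((b : G)⁻¹ * (a : G)) * g = (b : G)⁻¹ * ((a : G) * g * (a : G)⁻¹) * (a : G) := by group
        _ = (b : G)⁻¹ * ((b : G) * g * (b : G)⁻¹) * (a : G) := by rw [h2]
        _ = g * ((b : G)⁻¹ * (a : G)) := by group
    have h4 := hg _ (K.mul_mem (K.inv_mem b.2) a.2) h3
    apply Subtype.ext
    have : (a : G) = (b : G) * ((b : G)⁻¹ * (a : G)) := by group
    rw [this, h4, mul_one]
  have hsurj : Function.Surjective f := Finite.surjective_of_injective hinj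
  obtain ⟨h, hh⟩ := hsurj ⟨x, hx⟩
  refine ⟨h, h.2, ?_⟩
  have h1 : (h : G) * g * (h : G)⁻¹ * g⁻¹ = x := congrArg Subtype.val hh
  rw [← h1]
  group

/-- In a Frobenius-type configuration, conjugation by a nonidentity `h` (acting fixed point
freely on `K`) fixes only the trivial conjugacy class of `K`. -/
theorem conjClasses_fixed_eq_one_of_fixedPointFree [Finite G] (K : Subgroup G) [hN : K.Normal]
    (h : G) (hh : ∀ k ∈ K, k * h = h * k → k = 1) (C : ConjClasses K)
    (hC : ConjClasses.map (MulAut.conjNormal h : K ≃* K).toMonoidHom C = C) :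
    C = ConjClasses.mk 1 := by
  obtain ⟨k, rfl⟩ := ConjClasses.mk_surjective C
  have hC' : ConjClasses.mk ((MulAut.conjNormal h : K ≃* K) k) = ConjClasses.mk k := hC
  rw [ConjClasses.mk_eq_mk_iff_isConj, isConj_iff] at hC'
  obtain ⟨c, hc⟩ := hC'
  -- c * (h k h⁻¹) * c⁻¹ = k in K
  have hc' : (c : G) * (h * (k : G) * h⁻¹) * (c : G)⁻¹ = (k : G) := by
    have := congrArg Subtype.val hc
    simpa using this
  -- c * h is K-conjugate to h
  obtain ⟨d, hd, hcd⟩ := exists_mem_conj_of_fixedPointFree K h hh (c : G) c.2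
  -- (d h d⁻¹) k (d h d⁻¹)⁻¹ = k
  have h1 : (d * h * d⁻¹) * (k : G) * (d * h * d⁻¹)⁻¹ = (k : G) := by
    rw [← hcd]
    calc (c : G) * h * (k : G) * ((c : G) * h)⁻¹
        = (c : G) * (h * (k : G) * h⁻¹) * (c : G)⁻¹ := by group
      _ = (k : G) := hc'
  -- so h commutes with d⁻¹ k d
  have h2 : (d⁻¹ * (k : G) * d) * h = h * (d⁻¹ * (k : G) * d) := by
    have : h * (d⁻¹ * (k : G) * d) * h⁻¹ = d⁻¹ * (k : G) * d := by
      calc h * (d⁻¹ * (k : G) * d) * h⁻¹
          = d⁻¹ * ((d * h * d⁻¹) * (k : G) * (d * h * d⁻¹)⁻¹) * d := by group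
        _ = d⁻¹ * (k : G) * d := by rw [h1]
    calc (d⁻¹ * (k : G) * d) * h = (h * (d⁻¹ * (k : G) * d) * h⁻¹) * h := by rw [this]
      _ = h * (d⁻¹ * (k : G) * d) := by group
  have h3 : d⁻¹ * (k : G) * d ∈ K := by
    have := hN.conj_mem _ k.2 d⁻¹
    simpa using this
  have h4 := hh _ h3 h2
  have h5 : (k : G) = 1 := by
    calc (k : G) = d * (d⁻¹ * (k : G) * d) * d⁻¹ := by group
      _ = 1 := by rw [h4]; group
  have : k = 1 := Subtype.ext h5
  rw [this]

/-- In a Frobenius-type configuration, conjugation by a nonidentity `h` (acting fixed point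
freely on `K`) fixes only the trivial irreducible character of `K`. -/
theorem irr_fixed_eq_trivIrr_of_fixedPointFree [Finite G] (K : Subgroup G) [hN : K.Normal]
    (h : G) (hh : ∀ k ∈ K, k * h = h * k → k = 1) (τ : IrrCharacter K)
    (hτ : conjFun K (τ : K → ℂ) h = (τ : K → ℂ)) : τ = trivIrr K := by
  have hperm := card_fixed_conjClasses_eq_card_fixed_irr (MulAut.conjNormal h : K ≃* K)
  have h1 : Nat.card {C : ConjClasses K //
      ConjClasses.map (MulAut.conjNormal h : K ≃* K).toMonoidHom C = C} = 1 := by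
    rw [Nat.card_eq_one_iff_unique]
    constructor
    · constructor
      intro a b
      apply Subtype.ext
      rw [conjClasses_fixed_eq_one_of_fixedPointFree K h hh a.1 a.2,
        conjClasses_fixed_eq_one_of_fixedPointFree K h hh b.1 b.2]
    · refine ⟨⟨ConjClasses.mk 1, ?_⟩⟩
      show ConjClasses.mk ((MulAut.conjNormal h : K ≃* K) 1) = ConjClasses.mk 1
      rw [map_one]
  rw [h1] at hperm
  have hsub := (Nat.card_eq_one_iff_unique.mp hperm.symm).1
  have hfun : ∀ χ : K → ℂ, χ ∘ (MulAut.conjNormal h : K ≃* K) = conjFun K χ h := by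
    intro χ
    funext k
    rw [conjFun_apply, Function.comp_apply]
    congr 1
  have e1 : (τ : K → ℂ) ∘ (MulAut.conjNormal h : K ≃* K) = (τ : K → ℂ) := by
    rw [hfun, hτ]
  have e2 : (trivIrr K : K → ℂ) ∘ (MulAut.conjNormal h : K ≃* K) = (trivIrr K : K → ℂ) := by
    funext k
    rfl
  have := hsub.elim ⟨τ, e1⟩ ⟨trivIrr K, e2⟩
  exact congrArg Subtype.val this

/-- Frobenius groups: a nonprincipal irreducible character of the kernel induces irreducibly. -/
theorem isIrrCharacter_indFun_frobenius [Fintype G] (K H : Subgroup G) [hK : K.Normal]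
    (hKH' : K ⊔ H = ⊤)
    (hfpf : ∀ h ∈ H, h ≠ 1 → ∀ k ∈ K, h * k = k * h → k = 1) (τ : K → ℂ)
    (hτ : IsIrrCharacter K τ) (hτ1 : τ ≠ fun _ => 1) : IsIrrCharacter G (indFun K τ) := by
  classical
  haveI : Fintype (IrrCharacter G) := Fintype.ofFinite _
  refine IsCharacter.isIrrCharacter_of_classInner_self
    (isCharacter_indFun K (IsIrrCharacter.isCharacter hτ)) ?_
  have hmain := card_mul_classInner_indFun_self K τ hτ
  have hstab : Nat.card {g : G // ∀ k : K, τ ⟨g * k * g⁻¹, hK.conj_mem k k.2 g⟩ = τ k} =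
      Nat.card K := by
    refine Nat.card_congr (Equiv.subtypeEquivRight ?_)
    intro g
    have hcf : IsClassFunction K τ := IsCharacter.isClassFunction (IsIrrCharacter.isCharacter hτ)
    constructor
    · intro hg
      have hg' : conjFun K τ g = τ := by
        funext k; exact hg k
      -- write g = k * h
      have hmem : g ∈ (↑(K ⊔ H) : Set G) := by rw [hKH']; trivial
      rw [Subgroup.normal_mul] at hmem
      obtain ⟨k, hk, h, hh, rfl⟩ := Set.mem_mul.mp hmem
      have hk' : conjFun K τ k = τ := by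
        funext x
        rw [conjFun_apply]
        have := hcf x ⟨k, hk⟩
        convert this using 2
        apply Subtype.ext
        simp
      rw [← conjFun_conjFun, hk'] at hg'
      by_cases h1 : h = 1
      · rw [h1, mul_one]; exact hk
      · exfalso
        have := irr_fixed_eq_trivIrr_of_fixedPointFree K h
          (fun k hk hcomm => hfpf h hh h1 k hk hcomm.symm) ⟨τ, hτ⟩ hg'
        apply hτ1
        have h2 := congrArg Subtype.val this
        exact h2
    · intro hg k
      have := hcf k ⟨g, hg⟩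
      convert this using 2
      apply Subtype.ext
      simp
  rw [hstab] at hmain
  have hK0 : (Nat.card K : ℂ) ≠ 0 := by exact_mod_cast (Nat.card_pos (α := K)).ne'
  exact mul_left_cancel₀ hK0 (by rw [hmain, mul_one])

end

end Cfsg.Agent.Helper24
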