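import Mathlib
import Cfsg.Prelude.Def_Characters
import Cfsg.Agent.Helper24.Frobenius
import Cfsg.Agent.Helper24.Abelian
import Cfsg.Agent.Helper24.ColumnOrth
import Cfsg.Agent.Helper24.Regular
import Cfsg.Agent.Helper5.IndFun
import Cfsg.Agent.Helper8.CharComp

/-!
Characters of a group `N` with an abelian normal subgroup `K` such that no element outside `K`
commutes with a nonidentity element of `K` (a Frobenius kernel, or all of `N`).
-/

namespace Cfsg.Agent.Helper24.SelfCent

open Representation Module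

universe u

section Cent

/-- The centralizer in `N` of `1 ≠ x ∈ K` is `K`. -/
theorem card_centralizer_of_mem {N : Type u} [Group N] (K : Subgroup N)
    (hfix : ∀ g : N, g ∉ K → ∀ k ∈ K, k * g = g * k → k = 1)
    (hab : ∀ a ∈ K, ∀ b ∈ K, a * b = b * a) (x : N) (hx : x ∈ K) (hx1 : x ≠ 1) :
    Nat.card (Subgroup.centralizer ({x} : Set N)) = Nat.card K := by
  have : Subgroup.centralizer ({x} : Set N) = K := by
    ext g
    rw [Subgroup.mem_centralizer_iff]
    constructor
    · intro hg
      by_contra hgK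
      exact hx1 (hfix g hgK x hx (hg x rfl))
    · intro hg y hy
      rw [Set.mem_singleton_iff] at hy
      rw [hy]
      exact hab x hx g hg
  rw [this]

end Cent

section NLevel

variable {N : Type u} [Group N] [Fintype N] (K : Subgroup N) [hK : K.Normal]

/-- A nonprincipal irreducible character of `K` induces irreducibly to `N`. -/
theorem isIrrCharacter_indFun_of_frobKer
    (hfix : ∀ g : N, g ∉ K → ∀ k ∈ K, k * g = g * k → k = 1) (τ : K → ℂ)
    (hτ : IsIrrCharacter K τ) (hτ1 : τ ≠ fun _ => 1) : IsIrrCharacter N (indFun K τ) := by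
  classical
  haveI : Fintype (IrrCharacter N) := Fintype.ofFinite _
  refine IsCharacter.isIrrCharacter_of_classInner_self
    (isCharacter_indFun K (IsIrrCharacter.isCharacter hτ)) ?_
  have hmain := card_mul_classInner_indFun_self K τ hτ
  have hstab : Nat.card {g : N // ∀ k : K, τ ⟨g * k * g⁻¹, hK.conj_mem k k.2 g⟩ = τ k} =
      Nat.card K := by
    refine Nat.card_congr (Equiv.subtypeEquivRight ?_)
    intro g
    have hcf : IsClassFunction K τ := IsCharacter.isClassFunction (IsIrrCharacter.isCharacter hτ)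
    constructor
    · intro hg
      have hg' : conjFun K τ g = τ := by
        funext k; exact hg k
      by_contra hgK
      have := irr_fixed_eq_trivIrr_of_fixedPointFree K g
        (fun k hk hcomm => hfix g hgK k hk hcomm) ⟨τ, hτ⟩ hg'
      apply hτ1
      have h2 := congrArg Subtype.val this
      exact h2
    · intro hg k
      have := hcf k ⟨g, hg⟩
      convert this using 2
      apply Subtype.ext
      simp
  rw [hstab] at hmain
  have hK0 : (Nat.card K : ℂ) ≠ 0 := by exact_mod_cast (Nat.card_pos (α := K)).ne'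
  exact mul_left_cancel₀ hK0 (by rw [hmain, mul_one])

variable [Fintype (IrrCharacter N)]

/-- The irreducible characters of `N` not having `K` in their kernel. -/
noncomputable def excSet : Finset (IrrCharacter N) :=
  @Finset.filter _ (fun χ : IrrCharacter N => ¬ ∀ k : K, (χ : N → ℂ) k = (χ : N → ℂ) 1)
    (fun _ => Classical.propDecidable _) Finset.univ

omit [Fintype N] hK in
theorem mem_excSet (χ : IrrCharacter N) :
    χ ∈ excSet K ↔ ¬ ∀ k : K, (χ : N → ℂ) k = (χ : N → ℂ) 1 := by
  unfold excSet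
  exact (@Finset.mem_filter _ _ (fun _ => Classical.propDecidable _) _ _).trans (by simp)

omit [Fintype N] hK in
theorem apply_of_not_mem_excSet {η : IrrCharacter N} (hη : η ∉ excSet K) (k : N) (hk : k ∈ K) :
    (η : N → ℂ) k = (η : N → ℂ) 1 := by
  rw [mem_excSet, not_not] at hη
  exact hη ⟨k, hk⟩

/-- Every member of `excSet` is induced from a nonprincipal irreducible character of `K`. -/
theorem exists_indFun_of_mem_excSet
    (hfix : ∀ g : N, g ∉ K → ∀ k ∈ K, k * g = g * k → k = 1)
    (χ : IrrCharacter N) (hχ : χ ∈ excSet K) :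
    ∃ τ : K → ℂ, IsIrrCharacter K τ ∧ (τ ≠ fun _ => 1) ∧ (χ : N → ℂ) = indFun K τ := by
  classical
  haveI : Fintype K := Fintype.ofFinite K
  haveI : Fintype (IrrCharacter K) := Fintype.ofFinite _
  by_contra hcon
  push Not at hcon
  rw [mem_excSet] at hχ
  apply hχ
  set r : K → ℂ := fun k => (χ : N → ℂ) k with hr
  have hrc : IsCharacter K r :=
    Cfsg.Agent.Helper8.isCharacter_restrict K (IsIrrCharacter.isCharacter χ.2)
  have hzero : ∀ lam : IrrCharacter K, lam ≠ trivIrr K → classInner r (lam : K → ℂ) = 0 := by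
    intro lam hlam
    by_contra hne
    have hlam1 : (lam : K → ℂ) ≠ fun _ => 1 := by
      intro h
      apply hlam
      exact Subtype.ext h
    have hirr := isIrrCharacter_indFun_of_frobKer K hfix (lam : K → ℂ) lam.2 hlam1
    have hrec := Cfsg.Agent.Helper8.frobenius_reciprocity K (lam : K → ℂ) (χ : N → ℂ)
      (isClassFunction_irr χ)
    have h1 : classInner (lam : K → ℂ) r ≠ 0 := by
      rw [← classInner_conj_symm]
      intro h
      apply hne
      have := congrArg (starRingEnd ℂ) h
      simpa using this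
    rw [← hrec, classInner_of_isIrrCharacter hirr χ.2] at h1
    by_cases heq : indFun K (lam : K → ℂ) = (χ : N → ℂ)
    · exact hcon (lam : K → ℂ) lam.2 hlam1 heq.symm
    · rw [if_neg heq] at h1
      exact h1 rfl
  have hexp := IsCharacter.eq_sum_classInner hrc
  rw [Finset.sum_eq_single (trivIrr K)] at hexp
  · intro k
    have h1 := congrFun hexp k
    have h2 := congrFun hexp 1
    simp only [Pi.smul_apply, trivIrr_apply, smul_eq_mul, mul_one] at h1 h2
    show r k = r 1
    rw [h1]
    exact h2.symm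
  · intro lam _ hlam
    rw [hzero lam hlam, zero_smul]
  · intro h
    exact absurd (Finset.mem_univ _) h

/-- Members of `excSet` vanish off `K`. -/
theorem apply_eq_zero_of_mem_excSet
    (hfix : ∀ g : N, g ∉ K → ∀ k ∈ K, k * g = g * k → k = 1)
    (χ : IrrCharacter N) (hχ : χ ∈ excSet K) (g : N) (hg : g ∉ K) : (χ : N → ℂ) g = 0 := by
  obtain ⟨τ, _, _, h⟩ := exists_indFun_of_mem_excSet K hfix χ hχ
  rw [h]
  exact Cfsg.Agent.Helper8.indFun_eq_zero_of_not_mem K τ hg

/-- Members of `excSet` have degree `|N : K|` when `K` is abelian. -/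
theorem apply_one_of_mem_excSet
    (hfix : ∀ g : N, g ∉ K → ∀ k ∈ K, k * g = g * k → k = 1)
    (hab : ∀ a ∈ K, ∀ b ∈ K, a * b = b * a)
    (χ : IrrCharacter N) (hχ : χ ∈ excSet K) : (χ : N → ℂ) 1 = (K.index : ℂ) := by
  obtain ⟨τ, hτ, _, h⟩ := exists_indFun_of_mem_excSet K hfix χ hχ
  rw [h, Cfsg.Agent.Helper5.indFun_apply_one]
  have hcomm : ∀ a b : K, a * b = b * a := by
    intro a b
    apply Subtype.ext
    exact hab a a.2 b b.2
  have : τ 1 = 1 := (comm_iff_forall_irr_one (G := K)).mp hcomm ⟨τ, hτ⟩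
  rw [this, mul_one]

/-- The trivial character of `K` is not a constituent of the restriction of a member of
`excSet`. -/
theorem sum_apply_of_mem_excSet [Fintype K]
    (hfix : ∀ g : N, g ∉ K → ∀ k ∈ K, k * g = g * k → k = 1)
    (χ : IrrCharacter N) (hχ : χ ∈ excSet K) : ∑ k : K, (χ : N → ℂ) k = 0 := by
  classical
  obtain ⟨τ, hτ, hτ1, h⟩ := exists_indFun_of_mem_excSet K hfix χ hχ
  have h1 := classInner_indFun_indFun_normal K (fun _ => (1 : ℂ)) τ
  have h2 : ∀ x : N, classInner (fun _ => (1 : ℂ)) (conjFun K τ x) = 0 := by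
    intro x
    have hne : (fun _ : K => (1 : ℂ)) ≠ conjFun K τ x := by
      intro hc
      apply hτ1
      funext k
      have := congrFun hc ⟨x⁻¹ * k * x, by
        have := hK.conj_mem k k.2 x⁻¹
        simpa using this⟩
      rw [conjFun_apply] at this
      rw [this]
      congr 1
      apply Subtype.ext
      simp only []
      group
    rw [classInner_of_isIrrCharacter isIrrCharacter_const_one (isIrrCharacter_conjFun K hτ x),
      if_neg hne]
  simp only [h2, Finset.sum_const_zero, mul_zero] at h1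
  rw [Cfsg.Agent.Helper8.frobenius_reciprocity K _ _
    (Cfsg.Agent.Helper8.indFun_isClassFunction K _), ← h] at h1
  unfold classInner at h1
  have hK0 : (Nat.card K : ℂ) ≠ 0 := by exact_mod_cast (Nat.card_pos (α := K)).ne'
  have h3 := (mul_eq_zero.mp h1).resolve_left (inv_ne_zero hK0)
  simp only [one_mul] at h3
  have h4 := congrArg (starRingEnd ℂ) h3
  rw [map_sum, map_zero] at h4
  simpa using h4

variable [DecidableEq (IrrCharacter N)]

/-- The multiplicity of `η` in the permutation character `(1_K)^N`. -/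
theorem classInner_indFun_one_irr [Fintype K]
    (hfix : ∀ g : N, g ∉ K → ∀ k ∈ K, k * g = g * k → k = 1) (η : IrrCharacter N) :
    classInner (indFun K (fun _ => (1 : ℂ))) (η : N → ℂ) =
      if η ∈ excSet K then 0 else (η : N → ℂ) 1 := by
  rw [Cfsg.Agent.Helper8.frobenius_reciprocity K _ _ (isClassFunction_irr η)]
  unfold classInner
  have hK0 : (Nat.card K : ℂ) ≠ 0 := by exact_mod_cast (Nat.card_pos (α := K)).ne'
  simp only [one_mul]
  rw [← map_sum]
  by_cases hη : η ∈ excSet K
  · rw [if_pos hη, sum_apply_of_mem_excSet K hfix η hη, map_zero, mul_zero]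
  · rw [if_neg hη]
    have : ∀ k : K, (η : N → ℂ) k = (η : N → ℂ) 1 := fun k => apply_of_not_mem_excSet K hη k k.2
    simp only [this, Finset.sum_const, Finset.card_univ, nsmul_eq_mul, map_mul, map_natCast,
      irr_one_conj]
    rw [← Nat.card_eq_fintype_card, ← mul_assoc, inv_mul_cancel₀ hK0, one_mul]

/-- The sum of the squares of the degrees of the characters with `K` in the kernel. -/
theorem sum_compl_excSet_sq
    (hfix : ∀ g : N, g ∉ K → ∀ k ∈ K, k * g = g * k → k = 1) :
    ∑ η ∈ (excSet K)ᶜ, (η : N → ℂ) 1 ^ 2 = (K.index : ℂ) := by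
  classical
  haveI : Fintype K := Fintype.ofFinite K
  have hc : IsCharacter N (indFun K (fun _ : K => (1 : ℂ))) :=
    isCharacter_indFun K isCharacter_const_one
  have h := congrFun (IsCharacter.eq_sum_classInner hc) 1
  rw [Cfsg.Agent.Helper5.indFun_apply_one, mul_one, Finset.sum_apply] at h
  simp only [Pi.smul_apply, smul_eq_mul, classInner_indFun_one_irr K hfix] at h
  rw [h, ← Finset.sum_add_sum_compl (excSet K)]
  have h1 : ∑ η ∈ excSet K, (if η ∈ excSet K then 0 else (η : N → ℂ) 1) * (η : N → ℂ) 1 = 0 := by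
    apply Finset.sum_eq_zero
    intro η hη
    rw [if_pos hη, zero_mul]
  rw [h1, zero_add]
  apply Finset.sum_congr rfl
  intro η hη
  rw [Finset.mem_compl] at hη
  rw [if_neg hη, pow_two]

omit [DecidableEq (IrrCharacter N)] in
/-- `∑_{χ ∈ excSet} χ(x) = -1` for `1 ≠ x ∈ K`. -/
theorem sum_excSet_apply
    (hfix : ∀ g : N, g ∉ K → ∀ k ∈ K, k * g = g * k → k = 1)
    (hab : ∀ a ∈ K, ∀ b ∈ K, a * b = b * a) (x : N) (hx : x ∈ K) (hx1 : x ≠ 1) :
    ∑ χ ∈ excSet K, (χ : N → ℂ) x = -1 := by
  classical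
  have h := sum_irr_one_mul_eq_zero (G := N) hx1
  rw [← Finset.sum_add_sum_compl (excSet K)] at h
  have h1 : ∑ χ ∈ excSet K, (χ : N → ℂ) 1 * (χ : N → ℂ) x =
      (K.index : ℂ) * ∑ χ ∈ excSet K, (χ : N → ℂ) x := by
    rw [Finset.mul_sum]
    apply Finset.sum_congr rfl
    intro χ hχ
    rw [apply_one_of_mem_excSet K hfix hab χ hχ]
  have h2 : ∑ η ∈ (excSet K)ᶜ, (η : N → ℂ) 1 * (η : N → ℂ) x = (K.index : ℂ) := by
    rw [← sum_compl_excSet_sq K hfix]
    apply Finset.sum_congr rfl
    intro η hη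
    rw [Finset.mem_compl] at hη
    rw [apply_of_not_mem_excSet K hη x hx, pow_two]
  rw [h1, h2] at h
  have he : (K.index : ℂ) ≠ 0 := by
    have : K.index ≠ 0 := Subgroup.index_ne_zero_of_finite
    exact_mod_cast this
  have h3 : (K.index : ℂ) * (∑ χ ∈ excSet K, (χ : N → ℂ) x + 1) = 0 := by
    rw [mul_add, mul_one]; exact h
  have h4 := (mul_eq_zero.mp h3).resolve_left he
  exact eq_neg_of_add_eq_zero_left h4

omit [DecidableEq (IrrCharacter N)] in
/-- `∑_{χ ∈ excSet} |χ(x)|² = |K| - |N : K|` for `1 ≠ x ∈ K`. -/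
theorem sum_excSet_normSq
    (hfix : ∀ g : N, g ∉ K → ∀ k ∈ K, k * g = g * k → k = 1)
    (hab : ∀ a ∈ K, ∀ b ∈ K, a * b = b * a) (x : N) (hx : x ∈ K) (hx1 : x ≠ 1) :
    ∑ χ ∈ excSet K, (χ : N → ℂ) x * (starRingEnd ℂ) ((χ : N → ℂ) x) =
      (Nat.card K : ℂ) - (K.index : ℂ) := by
  classical
  have h := sum_irr_mul_conj (G := N) x x
  rw [if_pos (IsConj.refl x), card_centralizer_of_mem K hfix hab x hx hx1,
    ← Finset.sum_add_sum_compl (excSet K)] at h
  have h2 : ∑ η ∈ (excSet K)ᶜ, (η : N → ℂ) x * (starRingEnd ℂ) ((η : N → ℂ) x) =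
      (K.index : ℂ) := by
    rw [← sum_compl_excSet_sq K hfix]
    apply Finset.sum_congr rfl
    intro η hη
    rw [Finset.mem_compl] at hη
    rw [apply_of_not_mem_excSet K hη x hx, irr_one_conj, pow_two]
  rw [h2] at h
  rw [← h]; ring

omit [DecidableEq (IrrCharacter N)] in
/-- The number of members of `excSet` is `(|K| - 1) / |N : K|`. -/
theorem card_excSet_mul
    (hfix : ∀ g : N, g ∉ K → ∀ k ∈ K, k * g = g * k → k = 1)
    (hab : ∀ a ∈ K, ∀ b ∈ K, a * b = b * a) :
    (excSet K).card * K.index + 1 = Nat.card K := by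
  classical
  have h := sum_sq_irr_one (G := N)
  rw [← Finset.sum_add_sum_compl (excSet K), sum_compl_excSet_sq K hfix] at h
  have h1 : ∑ χ ∈ excSet K, (χ : N → ℂ) 1 ^ 2 = ((excSet K).card : ℂ) * (K.index : ℂ) ^ 2 := by
    rw [Finset.sum_congr rfl (fun χ hχ => by rw [apply_one_of_mem_excSet K hfix hab χ hχ]),
      Finset.sum_const, nsmul_eq_mul]
  rw [h1, ← K.card_mul_index] at h
  have he : K.index ≠ 0 := Subgroup.index_ne_zero_of_finite
  have h2 : ((excSet K).card * K.index + 1) * K.index = Nat.card K * K.index := by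
    have : (((excSet K).card * K.index + 1) * K.index : ℂ) = (Nat.card K * K.index : ℂ) := by
      push_cast at h ⊢
      rw [← h]; ring
    exact_mod_cast this
  exact Nat.eq_of_mul_eq_mul_right (Nat.pos_of_ne_zero he) h2

end NLevel

end Cfsg.Agent.Helper24.SelfCent
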