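import Mathlib
import Cfsg.Prelude.Def_Characters
import Cfsg.Agent.Helper8.Ind

/-!
Induction of class functions supported on a trivial-intersection set.
-/

namespace Cfsg.Agent.Helper24

universe u

variable {G : Type u} [Group G] [Fintype G]

/-- For a TI-set `T` with normalizer `N`, a class function `ψ` of `N` vanishing off `T` satisfies
`ψ^G(t) = ψ(t)` for `1 ≠ t ∈ T`. -/
theorem indFun_apply_of_ti (T : Set G)
    (hTI : ∀ g : G, g ∉ Subgroup.normalizer T → ∀ t ∈ T, g * t * g⁻¹ ∈ T → t = 1)
    (ψ : Subgroup.normalizer T → ℂ) (hψ : IsClassFunction (Subgroup.normalizer T) ψ)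
    (hψT : ∀ x : Subgroup.normalizer T, (x : G) ∉ T → ψ x = 0) (t : Subgroup.normalizer T)
    (htT : (t : G) ∈ T) (ht1 : t ≠ 1) : indFun (Subgroup.normalizer T) ψ t = ψ t := by
  classical
  rw [Cfsg.Agent.Helper8.indFun_def]
  have hterm : ∀ x : G, extendByZero (Subgroup.normalizer T) ψ (x⁻¹ * (t : G) * x) = if x ∈ (Subgroup.normalizer T) then ψ t else 0 := by
    intro x
    by_cases hx : x ∈ (Subgroup.normalizer T)
    · rw [if_pos hx]
      have hmem : x⁻¹ * (t : G) * x ∈ (Subgroup.normalizer T) := (Subgroup.normalizer T).mul_mem ((Subgroup.normalizer T).mul_mem ((Subgroup.normalizer T).inv_mem hx) t.2) hx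
      rw [Cfsg.Agent.Helper8.ebz_mem (Subgroup.normalizer T) ψ hmem]
      have := hψ t ⟨x⁻¹, (Subgroup.normalizer T).inv_mem hx⟩
      rw [← this]
      congr 1
      apply Subtype.ext
      simp
    · rw [if_neg hx]
      by_cases hmem : x⁻¹ * (t : G) * x ∈ (Subgroup.normalizer T)
      · rw [Cfsg.Agent.Helper8.ebz_mem (Subgroup.normalizer T) ψ hmem]
        apply hψT
        intro hT
        have hx' : x⁻¹ ∉ (Subgroup.normalizer T) := fun h => hx (by simpa using (Subgroup.normalizer T).inv_mem h)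
        have := hTI x⁻¹ hx' (t : G) htT (by simpa using hT)
        apply ht1
        exact Subtype.ext this
      · exact Cfsg.Agent.Helper8.ebz_not_mem (Subgroup.normalizer T) ψ hmem
  simp_rw [hterm]
  rw [Finset.sum_ite, Finset.sum_const_zero, add_zero, Finset.sum_const, nsmul_eq_mul]
  have hcard : ((Finset.univ.filter (fun x : G => x ∈ (Subgroup.normalizer T))).card : ℂ) = (Nat.card (Subgroup.normalizer T) : ℂ) := by
    rw [Nat.card_eq_fintype_card, Fintype.card_subtype]
  rw [hcard, ← mul_assoc]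
  have hN0 : (Nat.card (Subgroup.normalizer T) : ℂ) ≠ 0 := by exact_mod_cast (Nat.card_pos (α := (Subgroup.normalizer T))).ne'
  rw [inv_mul_cancel₀ hN0, one_mul]

/-- For a TI-set `T` with normalizer `N`, induction is an isometry on class functions of `N`
vanishing off `T`, provided one of them vanishes at `1`. -/
theorem classInner_indFun_of_ti (T : Set G)
    (hTI : ∀ g : G, g ∉ Subgroup.normalizer T → ∀ t ∈ T, g * t * g⁻¹ ∈ T → t = 1)
    [Fintype (Subgroup.normalizer T)]
    (ψ θ : Subgroup.normalizer T → ℂ)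
    (hθ : IsClassFunction (Subgroup.normalizer T) θ)
    (hψT : ∀ x : Subgroup.normalizer T, (x : G) ∉ T → ψ x = 0)
    (hθT : ∀ x : Subgroup.normalizer T, (x : G) ∉ T → θ x = 0) (hψ1 : ψ 1 = 0) :
    classInner (indFun (Subgroup.normalizer T) ψ) (indFun (Subgroup.normalizer T) θ) =
      classInner ψ θ := by
  rw [Cfsg.Agent.Helper8.frobenius_reciprocity _ ψ _
    (Cfsg.Agent.Helper8.indFun_isClassFunction _ θ)]
  unfold classInner
  congr 1
  refine Finset.sum_congr rfl ?_
  intro n _
  by_cases hn1 : n = 1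
  · rw [hn1, hψ1, zero_mul, zero_mul]
  by_cases hnT : (n : G) ∈ T
  · simp only []
    rw [indFun_apply_of_ti T hTI θ hθ hθT n hnT hn1]
  · rw [hψT n hnT, zero_mul, zero_mul]

end Cfsg.Agent.Helper24
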