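import Mathlib
import Cfsg.Prelude.Def_Characters
import Cfsg.Agent.Helper24.Generalized
import Cfsg.Agent.Helper8.Virtual
import Cfsg.Agent.Helper24.TIInduction
import Cfsg.Agent.Helper5.IndFun

/-!
The combinatorial lemma behind exceptional characters.
-/

namespace Cfsg.Agent.Helper24

universe u

section

variable {G : Type u} [Group G] [Fintype G]

/-- Inner product of two differences of irreducible characters. -/
theorem classInner_sub_sub_irr [DecidableEq (IrrCharacter G)] (a b c d : IrrCharacter G) :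
    classInner ((a : G → ℂ) - (b : G → ℂ)) ((c : G → ℂ) - (d : G → ℂ)) =
      (if a = c then 1 else 0) - (if a = d then 1 else 0) - (if b = c then 1 else 0) +
        (if b = d then 1 else 0) := by
  rw [classInner_sub_left, classInner_sub_right, classInner_sub_right, classInner_irr,
    classInner_irr, classInner_irr, classInner_irr]
  ring

/-- Two differences of distinct irreducibles with inner product one share exactly the positive
or exactly the negative part. -/
theorem pair_of_classInner_eq_one (a b c d : IrrCharacter G) (hab : a ≠ b) (hcd : c ≠ d)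
    (h : classInner ((a : G → ℂ) - (b : G → ℂ)) ((c : G → ℂ) - (d : G → ℂ)) = 1) :
    (a = c ∧ b ≠ d ∧ a ≠ d ∧ b ≠ c) ∨ (b = d ∧ a ≠ c ∧ a ≠ d ∧ b ≠ c) := by
  classical
  rw [classInner_sub_sub_irr] at h
  by_cases h1 : a = c
  · by_cases h4 : b = d
    · have h2 : a ≠ d := fun h2 => hab (h2.trans h4.symm)
      have h3 : b ≠ c := fun h3 => hab (h1.trans h3.symm)
      rw [if_pos h1, if_neg h2, if_neg h3, if_pos h4] at h
      norm_num at h
    · have h2 : a ≠ d := fun h2 => hcd (h1.symm.trans h2)
      by_cases h3 : b = c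
      · exact absurd (h1.trans h3.symm) hab
      · left; exact ⟨h1, h4, h2, h3⟩
  · by_cases h4 : b = d
    · have h3 : b ≠ c := fun h3 => hcd (h3.symm.trans h4)
      by_cases h2 : a = d
      · exact absurd (h2.trans h4.symm) hab
      · right; exact ⟨h4, h1, h2, h3⟩
    · exfalso
      rw [if_neg h1, if_neg h4] at h
      by_cases h2 : a = d
      · by_cases h3 : b = c
        · rw [if_pos h2, if_pos h3] at h; norm_num at h
        · rw [if_pos h2, if_neg h3] at h; norm_num at h
      · by_cases h3 : b = c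
        · rw [if_neg h2, if_pos h3] at h; norm_num at h
        · rw [if_neg h2, if_neg h3] at h; norm_num at h

/-- The isometry lemma behind exceptional characters. -/
theorem exceptional_isometry (n : ℕ) (i₀ : Fin n) (τ : Fin n → (G → ℂ)) (h0 : τ i₀ = 0)
    (hgen : ∀ i, IsGeneralizedCharacter G (τ i)) (hone : ∀ i, τ i 1 = 0)
    (hgram : ∀ i j, i ≠ i₀ → j ≠ i₀ → classInner (τ i) (τ j) = if i = j then 2 else 1) :
    ∃ ε : ℂ, (ε = 1 ∨ ε = -1) ∧ ∃ μ : Fin n → (G → ℂ), (∀ i, IsIrrCharacter G (μ i)) ∧
      Function.Injective μ ∧ ∀ i, τ i = ε • (μ i - μ i₀) := by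
  classical
  haveI : Finite G := Finite.of_fintype G
  -- write each τ i as a difference of irreducibles
  have hdec : ∀ i : Fin n, ∃ cd : IrrCharacter G × IrrCharacter G,
      i ≠ i₀ → (cd.1 ≠ cd.2 ∧ τ i = (cd.1 : G → ℂ) - (cd.2 : G → ℂ)) := by
    intro i
    by_cases hi : i = i₀
    · exact ⟨(trivIrr G, trivIrr G), fun h => absurd hi h⟩
    · have h2 : classInner (τ i) (τ i) = 2 := by rw [hgram i i hi hi, if_pos rfl]
      obtain ⟨a, b, hab, hτ⟩ :=
        Cfsg.Agent.Helper8.exists_irr_sub_irr_of_norm_two (hgen i) h2 (hone i)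
      exact ⟨(a, b), fun _ => ⟨hab, hτ⟩⟩
  choose cd hcd using hdec
  let c : Fin n → IrrCharacter G := fun i => (cd i).1
  let d : Fin n → IrrCharacter G := fun i => (cd i).2
  have hcd1 : ∀ i, i ≠ i₀ → c i ≠ d i := fun i hi => (hcd i hi).1
  have hcd2 : ∀ i, i ≠ i₀ → τ i = (c i : G → ℂ) - (d i : G → ℂ) := fun i hi => (hcd i hi).2
  have hpair : ∀ i j, i ≠ i₀ → j ≠ i₀ → i ≠ j →
      (c i = c j ∧ d i ≠ d j ∧ c i ≠ d j ∧ d i ≠ c j) ∨
      (d i = d j ∧ c i ≠ c j ∧ c i ≠ d j ∧ d i ≠ c j) := by
    intro i j hi hj hij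
    have h1 := hgram i j hi hj
    rw [if_neg hij, hcd2 i hi, hcd2 j hj] at h1
    exact pair_of_classInner_eq_one (c i) (d i) (c j) (d j) (hcd1 i hi) (hcd1 j hj) h1
  by_cases hA : ∃ i j, i ≠ i₀ ∧ j ≠ i₀ ∧ i ≠ j ∧ c i = c j
  · -- all positive parts agree
    obtain ⟨i, j, hi, hj, hij, hcij⟩ := hA
    have hdij : d i ≠ d j := by
      rcases hpair i j hi hj hij with h | h
      · exact h.2.1
      · exact absurd hcij h.2.1
    have hall : ∀ k, k ≠ i₀ → c k = c i := by
      intro k hk
      by_cases hki : k = i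
      · rw [hki]
      by_cases hkj : k = j
      · rw [hkj, hcij]
      rcases hpair i k hi hk (Ne.symm hki) with h | h
      · exact h.1.symm
      · exfalso
        rcases hpair j k hj hk (Ne.symm hkj) with h' | h'
        · exact h.2.1 (hcij.trans h'.1)
        · exact hdij (h.1.trans h'.1.symm)
    refine ⟨-1, Or.inr rfl, fun k => if k = i₀ then (c i : G → ℂ) else (d k : G → ℂ), ?_, ?_, ?_⟩
    · intro k
      by_cases hk : k = i₀
      · simp only [hk, if_true]; exact (c i).2
      · simp only [hk, if_false]; exact (d k).2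
    · intro k l hkl
      by_contra hne
      by_cases hk : k = i₀
      · have hl : l ≠ i₀ := fun hl => hne (hk.trans hl.symm)
        simp only [hk, hl, if_true, if_false] at hkl
        have : c l = d l := by rw [hall l hl]; exact Subtype.ext hkl
        exact hcd1 l hl this
      · by_cases hl : l = i₀
        · simp only [hk, hl, if_true, if_false] at hkl
          have : c k = d k := by rw [hall k hk]; exact (Subtype.ext hkl).symm
          exact hcd1 k hk this
        · simp only [hk, hl, if_false] at hkl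
          have hdkl : d k = d l := Subtype.ext hkl
          rcases hpair k l hk hl hne with h | h
          · exact h.2.1 hdkl
          · exact h.2.1 ((hall k hk).trans (hall l hl).symm)
    · intro k
      by_cases hk : k = i₀
      · simp only [hk, if_true, sub_self, smul_zero]; exact h0
      · simp only [hk, if_true, if_false]
        rw [hcd2 k hk, hall k hk]
        simp
  · -- all negative parts agree
    have hB : ∀ i j, i ≠ i₀ → j ≠ i₀ → i ≠ j → (d i = d j ∧ c i ≠ c j) := by
      intro i j hi hj hij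
      rcases hpair i j hi hj hij with h | h
      · exact absurd ⟨i, j, hi, hj, hij, h.1⟩ hA
      · exact ⟨h.1, h.2.1⟩
    by_cases hI : ∃ i₁, i₁ ≠ i₀
    · obtain ⟨i₁, hi₁⟩ := hI
      have hall : ∀ k, k ≠ i₀ → d k = d i₁ := by
        intro k hk
        by_cases hk1 : k = i₁
        · rw [hk1]
        · exact (hB k i₁ hk hi₁ hk1).1
      refine ⟨1, Or.inl rfl, fun k => if k = i₀ then (d i₁ : G → ℂ) else (c k : G → ℂ),
        ?_, ?_, ?_⟩
      · intro k
        by_cases hk : k = i₀
        · simp only [hk, if_true]; exact (d i₁).2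
        · simp only [hk, if_false]; exact (c k).2
      · intro k l hkl
        by_contra hne
        by_cases hk : k = i₀
        · have hl : l ≠ i₀ := fun hl => hne (hk.trans hl.symm)
          simp only [hk, hl, if_true, if_false] at hkl
          have : c l = d l := by rw [hall l hl]; exact (Subtype.ext hkl).symm
          exact hcd1 l hl this
        · by_cases hl : l = i₀
          · simp only [hk, hl, if_true, if_false] at hkl
            have : c k = d k := by rw [hall k hk]; exact Subtype.ext hkl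
            exact hcd1 k hk this
          · simp only [hk, hl, if_false] at hkl
            exact (hB k l hk hl hne).2 (Subtype.ext hkl)
      · intro k
        by_cases hk : k = i₀
        · simp only [hk, if_true, sub_self, smul_zero]; exact h0
        · simp only [hk, if_true, if_false]
          rw [hcd2 k hk, hall k hk, one_smul]
    · -- only i₀
      push Not at hI
      refine ⟨1, Or.inl rfl, fun _ => (trivIrr G : G → ℂ), fun _ => (trivIrr G).2, ?_, ?_⟩
      · intro k l _
        rw [hI k, hI l]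
      · intro k
        rw [hI k, h0]
        simp

end

/-- Exceptional characters for a TI-set. -/
theorem exceptional_characters {G : Type u} [Group G] [Fintype G] (S : Set G)
    (hTI : ∀ g : G, g ∉ Subgroup.normalizer S → ∀ s ∈ S, g * s * g⁻¹ ∈ S → s = 1)
    (n : ℕ) (hn : 2 ≤ n) (χ : Fin n → (Subgroup.normalizer S → ℂ))
    (hirr : ∀ i, IsIrrCharacter (Subgroup.normalizer S) (χ i)) (hinj : Function.Injective χ)
    (hvan : ∀ i, ∀ x : Subgroup.normalizer S, (x : G) ∉ S → χ i x = 0)
    (hdeg : ∀ i j, χ i 1 = χ j 1) :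
    ∃ ε : ℂ, (ε = 1 ∨ ε = -1) ∧ ∃ θ : Fin n → (G → ℂ), (∀ i, IsIrrCharacter G (θ i)) ∧
      Function.Injective θ ∧ ∀ i j, indFun (Subgroup.normalizer S) (χ i) -
        indFun (Subgroup.normalizer S) (χ j) = ε • (θ i - θ j) := by
  classical
  haveI : Fintype (Subgroup.normalizer S) := Fintype.ofFinite _
  let i₀ : Fin n := ⟨0, by omega⟩
  let ψ : Fin n → (Subgroup.normalizer S → ℂ) := fun i => χ i - χ i₀
  let τ : Fin n → (G → ℂ) := fun i => indFun (Subgroup.normalizer S) (ψ i)
  have hτ : ∀ i, τ i = indFun (Subgroup.normalizer S) (χ i) -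
      indFun (Subgroup.normalizer S) (χ i₀) := fun i => Cfsg.Agent.Helper8.indFun_sub _ _ _
  have h0 : τ i₀ = 0 := by rw [hτ]; simp
  have hgen : ∀ i, IsGeneralizedCharacter G (τ i) := by
    intro i
    refine IsGeneralizedCharacter.indFun _ ?_
    exact IsGeneralizedCharacter.sub (IsIrrCharacter.isGeneralizedCharacter (hirr i))
      (IsIrrCharacter.isGeneralizedCharacter (hirr i₀))
  have hone : ∀ i, τ i 1 = 0 := by
    intro i
    rw [hτ, Pi.sub_apply, Cfsg.Agent.Helper5.indFun_apply_one, Cfsg.Agent.Helper5.indFun_apply_one,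
      hdeg i i₀, sub_self]
  have hψcf : ∀ i, IsClassFunction (Subgroup.normalizer S) (ψ i) := fun i =>
    isClassFunction_sub (IsCharacter.isClassFunction (IsIrrCharacter.isCharacter (hirr i)))
      (IsCharacter.isClassFunction (IsIrrCharacter.isCharacter (hirr i₀)))
  have hψvan : ∀ i, ∀ x : Subgroup.normalizer S, (x : G) ∉ S → ψ i x = 0 := by
    intro i x hx
    simp only [ψ, Pi.sub_apply, hvan i x hx, hvan i₀ x hx, sub_self]
  have hψ1 : ∀ i, ψ i 1 = 0 := by
    intro i
    simp only [ψ, Pi.sub_apply, hdeg i i₀, sub_self]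
  have hgram : ∀ i j, i ≠ i₀ → j ≠ i₀ → classInner (τ i) (τ j) = if i = j then 2 else 1 := by
    intro i j hi hj
    rw [classInner_indFun_of_ti S hTI (ψ i) (ψ j) (hψcf j) (hψvan i) (hψvan j) (hψ1 i)]
    have := classInner_sub_sub_irr (⟨χ i, hirr i⟩ : IrrCharacter (Subgroup.normalizer S))
      ⟨χ i₀, hirr i₀⟩ ⟨χ j, hirr j⟩ ⟨χ i₀, hirr i₀⟩
    simp only [ψ]
    rw [this]
    have e1 : ((⟨χ i, hirr i⟩ : IrrCharacter (Subgroup.normalizer S)) = ⟨χ j, hirr j⟩) ↔ i = j := by
      constructor
      · intro h; exact hinj (congrArg Subtype.val h)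
      · intro h; rw [h]
    have e2 : ¬ ((⟨χ i, hirr i⟩ : IrrCharacter (Subgroup.normalizer S)) = ⟨χ i₀, hirr i₀⟩) := by
      intro h; exact hi (hinj (congrArg Subtype.val h))
    have e3 : ¬ ((⟨χ i₀, hirr i₀⟩ : IrrCharacter (Subgroup.normalizer S)) = ⟨χ j, hirr j⟩) := by
      intro h; exact hj (hinj (congrArg Subtype.val h)).symm
    rw [if_neg e2, if_neg e3, if_pos rfl]
    by_cases hij : i = j
    · rw [if_pos (e1.mpr hij), if_pos hij]; norm_num
    · rw [if_neg (fun h => hij (e1.mp h)), if_neg hij]; norm_num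
  obtain ⟨ε, hε, μ, hμirr, hμinj, hμ⟩ := exceptional_isometry n i₀ τ h0 hgen hone hgram
  refine ⟨ε, hε, μ, hμirr, hμinj, ?_⟩
  intro i j
  have h1 := hμ i
  have h2 := hμ j
  rw [hτ] at h1 h2
  calc indFun (Subgroup.normalizer S) (χ i) - indFun (Subgroup.normalizer S) (χ j)
      = (indFun (Subgroup.normalizer S) (χ i) - indFun (Subgroup.normalizer S) (χ i₀)) -
        (indFun (Subgroup.normalizer S) (χ j) - indFun (Subgroup.normalizer S) (χ i₀)) := by abel
    _ = ε • (μ i - μ i₀) - ε • (μ j - μ i₀) := by rw [h1, h2]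
    _ = ε • (μ i - μ j) := by rw [← smul_sub]; congr 1; abel


end Cfsg.Agent.Helper24
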