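import Mathlib
import Cfsg.Prelude.Def_Characters
import Cfsg.Agent.Helper24.SelfCentA
import Cfsg.Agent.Helper24.Exceptional
import Cfsg.Agent.Helper24.Expansion

/-!
Exceptional characters for an abelian TI-subgroup `K` of `G` that contains the centralizer of each
of its nonidentity elements: the map from the exceptional characters of the normalizer to the
exceptional characters of `G`, and the restriction multiplicities.
-/

namespace Cfsg.Agent.Helper24.SelfCent

open Representation Module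

universe u

section GLevel

variable {G : Type u} [Group G] [Fintype G] (K : Subgroup G)

/-- The normalizer of `K`. -/
abbrev NK : Subgroup G := Subgroup.normalizer (K : Set G)

/-- `K` as a subgroup of its normalizer. -/
abbrev KN : Subgroup (NK K) := K.subgroupOf (NK K)

omit [Fintype G] in
theorem hfixN (hcent : ∀ g : G, g ∉ K → ∀ k ∈ K, k * g = g * k → k = 1) :
    ∀ g : NK K, g ∉ KN K → ∀ k ∈ KN K, k * g = g * k → k = 1 := by
  intro g hg k hk hcomm
  rw [Subgroup.mem_subgroupOf] at hg hk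
  have := hcent (g : G) hg (k : G) hk (by
    have := congrArg Subtype.val hcomm
    simpa using this)
  exact Subtype.ext this

omit [Fintype G] in
theorem habN (hab : ∀ a ∈ K, ∀ b ∈ K, a * b = b * a) :
    ∀ a ∈ KN K, ∀ b ∈ KN K, a * b = b * a := by
  intro a ha b hb
  rw [Subgroup.mem_subgroupOf] at ha hb
  exact Subtype.ext (hab a ha b hb)

variable [Fintype (IrrCharacter (NK K))] [Fintype (IrrCharacter G)]

omit [Fintype (IrrCharacter G)] in
/-- The exceptional characters of `G`: a sign `ε` and an injection `Θ` from the exceptional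
characters of the normalizer into `Irr G`. -/
theorem exists_excMap
    (hTI : ∀ g : G, g ∉ NK K → ∀ s ∈ (K : Set G), g * s * g⁻¹ ∈ (K : Set G) → s = 1)
    (hcent : ∀ g : G, g ∉ K → ∀ k ∈ K, k * g = g * k → k = 1)
    (hab : ∀ a ∈ K, ∀ b ∈ K, a * b = b * a)
    (h2 : 2 ≤ (excSet (KN K)).card) :
    ∃ ε : ℂ, (ε = 1 ∨ ε = -1) ∧ ∃ Θ : IrrCharacter (NK K) → IrrCharacter G,
      Set.InjOn Θ (excSet (KN K) : Set (IrrCharacter (NK K))) ∧
      ∀ χ ∈ excSet (KN K), ∀ χ' ∈ excSet (KN K),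
        indFun (NK K) (χ : NK K → ℂ) - indFun (NK K) (χ' : NK K → ℂ) =
          ε • ((Θ χ : G → ℂ) - (Θ χ' : G → ℂ)) := by
  classical
  set X := excSet (KN K) with hX
  set n := X.card with hn
  let e : X ≃ Fin n := X.equivFin
  let χfam : Fin n → (NK K → ℂ) := fun i => ((e.symm i : X) : IrrCharacter (NK K))
  have hirr : ∀ i, IsIrrCharacter (NK K) (χfam i) := fun i => ((e.symm i : X) : IrrCharacter (NK K)).2
  have hinj : Function.Injective χfam := by
    intro i j hij
    have h1 : ((e.symm i : X) : IrrCharacter (NK K)) = ((e.symm j : X) : IrrCharacter (NK K)) :=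
      Subtype.ext hij
    have h2 : e.symm i = e.symm j := Subtype.ext h1
    exact e.symm.injective h2
  have hvan : ∀ i, ∀ x : NK K, (x : G) ∉ (K : Set G) → χfam i x = 0 := by
    intro i x hx
    apply apply_eq_zero_of_mem_excSet (KN K) (hfixN K hcent) _ (e.symm i).2
    rw [Subgroup.mem_subgroupOf]
    exact hx
  have hdeg : ∀ i j, χfam i 1 = χfam j 1 := by
    intro i j
    show ((e.symm i : X) : IrrCharacter (NK K)).1 1 = ((e.symm j : X) : IrrCharacter (NK K)).1 1
    rw [apply_one_of_mem_excSet (KN K) (hfixN K hcent) (habN K hab) _ (e.symm i).2,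
      apply_one_of_mem_excSet (KN K) (hfixN K hcent) (habN K hab) _ (e.symm j).2]
  obtain ⟨ε, hε, θ, hθirr, hθinj, hθ⟩ :=
    exceptional_characters (K : Set G) hTI n h2 χfam hirr hinj hvan hdeg
  refine ⟨ε, hε, fun χ => if h : χ ∈ X then ⟨θ (e ⟨χ, h⟩), hθirr _⟩ else trivIrr G, ?_, ?_⟩
  · intro χ hχ χ' hχ' heq
    have hχ : χ ∈ X := hχ
    have hχ' : χ' ∈ X := hχ'
    simp only [dif_pos hχ, dif_pos hχ'] at heq
    have h1 := hθinj (congrArg Subtype.val heq)
    have h2 := e.injective h1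
    exact congrArg Subtype.val h2
  · intro χ hχ χ' hχ'
    simp only [dif_pos hχ, dif_pos hχ']
    have := hθ (e ⟨χ, hχ⟩) (e ⟨χ', hχ'⟩)
    simp only [χfam, Equiv.symm_apply_apply] at this
    exact this

variable [Fintype (NK K)]

omit [Fintype (IrrCharacter (NK K))] [Fintype (IrrCharacter G)] in
theorem exists_mult (ψ : IrrCharacter G) (η : IrrCharacter (NK K)) :
    ∃ n : ℕ, classInner (fun x : NK K => (ψ : G → ℂ) x) (η : NK K → ℂ) = n := by
  haveI : Fintype (IrrCharacter (NK K)) := Fintype.ofFinite _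
  exact IsCharacter.classInner_irr_nat
    (Cfsg.Agent.Helper8.isCharacter_restrict (NK K) (IsIrrCharacter.isCharacter ψ.2)) η

/-- The multiplicity of `η ∈ Irr N` in the restriction of `ψ ∈ Irr G`. -/
noncomputable def mult (ψ : IrrCharacter G) (η : IrrCharacter (NK K)) : ℕ :=
  (exists_mult K ψ η).choose

omit [Fintype (IrrCharacter (NK K))] [Fintype (IrrCharacter G)] in
theorem mult_spec (ψ : IrrCharacter G) (η : IrrCharacter (NK K)) :
    classInner (fun x : NK K => (ψ : G → ℂ) x) (η : NK K → ℂ) = mult K ψ η :=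
  (exists_mult K ψ η).choose_spec

omit [Fintype (IrrCharacter (NK K))] [Fintype (IrrCharacter G)] in
theorem mult_spec' (ψ : IrrCharacter G) (η : IrrCharacter (NK K)) :
    classInner (η : NK K → ℂ) (fun x : NK K => (ψ : G → ℂ) x) = mult K ψ η := by
  rw [← classInner_conj_symm, mult_spec, Complex.conj_natCast]

omit [Fintype (IrrCharacter (NK K))] [Fintype (IrrCharacter G)] in
/-- Multiplicities of two exceptional characters of the normalizer differ by the sign times the
difference of the indicator functions. -/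
theorem mult_sub_mult [DecidableEq (IrrCharacter G)] (ε : ℂ)
    (Θ : IrrCharacter (NK K) → IrrCharacter G) (χ χ' : IrrCharacter (NK K))
    (hΘ : indFun (NK K) (χ : NK K → ℂ) - indFun (NK K) (χ' : NK K → ℂ) =
          ε • ((Θ χ : G → ℂ) - (Θ χ' : G → ℂ))) (ψ : IrrCharacter G) :
    (mult K ψ χ : ℂ) - (mult K ψ χ' : ℂ) =
      ε * ((if Θ χ = ψ then 1 else 0) - (if Θ χ' = ψ then 1 else 0)) := by
  have h := congrArg (fun f => classInner f (ψ : G → ℂ)) hΘ
  beta_reduce at h
  rw [classInner_sub_left, Cfsg.Agent.Helper8.frobenius_reciprocity _ _ _ (isClassFunction_irr ψ),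
    Cfsg.Agent.Helper8.frobenius_reciprocity _ _ _ (isClassFunction_irr ψ), mult_spec', mult_spec',
    classInner_smul_left, classInner_sub_left, classInner_irr, classInner_irr] at h
  exact h

omit [Fintype (IrrCharacter G)] in
/-- Value of `ψ` at `x ∈ K` via the decomposition of its restriction to the normalizer. -/
theorem apply_eq_sum_mult [DecidableEq (IrrCharacter (NK K))] (ψ : IrrCharacter G) (x : G)
    (hx : x ∈ K) :
    (ψ : G → ℂ) x = ∑ η ∈ (excSet (KN K))ᶜ, (mult K ψ η : ℂ) * (η : NK K → ℂ) 1 +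
      ∑ χ ∈ excSet (KN K), (mult K ψ χ : ℂ) *
        (χ : NK K → ℂ) ⟨x, Subgroup.le_normalizer hx⟩ := by
  have hr : IsCharacter (NK K) (fun y : NK K => (ψ : G → ℂ) y) :=
    Cfsg.Agent.Helper8.isCharacter_restrict (NK K) (IsIrrCharacter.isCharacter ψ.2)
  have h := congrFun (IsCharacter.eq_sum_classInner hr) ⟨x, Subgroup.le_normalizer hx⟩
  simp only [Finset.sum_apply, Pi.smul_apply, smul_eq_mul, mult_spec] at h
  rw [h, ← Finset.sum_add_sum_compl (excSet (KN K)), add_comm]
  congr 1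
  apply Finset.sum_congr rfl
  intro η hη
  rw [Finset.mem_compl] at hη
  rw [apply_of_not_mem_excSet (KN K) hη _ (Subgroup.mem_subgroupOf.mpr hx)]

/-- The part of `ψ(1)` coming from the constituents with `K` in the kernel. -/
noncomputable def baseDeg [DecidableEq (IrrCharacter (NK K))] (ψ : IrrCharacter G) : ℕ :=
  ∑ η ∈ (excSet (KN K))ᶜ, mult K ψ η * irrDeg η

omit [Fintype (IrrCharacter G)] in
theorem baseDeg_cast [DecidableEq (IrrCharacter (NK K))] (ψ : IrrCharacter G) :
    (baseDeg K ψ : ℂ) = ∑ η ∈ (excSet (KN K))ᶜ, (mult K ψ η : ℂ) * (η : NK K → ℂ) 1 := by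
  unfold baseDeg
  push_cast
  apply Finset.sum_congr rfl
  intro η _
  rw [irrDeg_spec]

omit [Fintype (IrrCharacter G)] in
/-- All multiplicities of exceptional characters in `ψ` agree, except for the one matching `ψ`. -/
theorem exists_base_mult [DecidableEq (IrrCharacter G)] (ε : ℂ)
    (Θ : IrrCharacter (NK K) → IrrCharacter G)
    (hinj : Set.InjOn Θ (excSet (KN K) : Set (IrrCharacter (NK K))))
    (hΘ : ∀ χ ∈ excSet (KN K), ∀ χ' ∈ excSet (KN K),
        indFun (NK K) (χ : NK K → ℂ) - indFun (NK K) (χ' : NK K → ℂ) =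
          ε • ((Θ χ : G → ℂ) - (Θ χ' : G → ℂ)))
    (h2 : 2 ≤ (excSet (KN K)).card) (ψ : IrrCharacter G) :
    ∃ m : ℕ, ∀ χ ∈ excSet (KN K),
      (mult K ψ χ : ℂ) = m + ε * (if Θ χ = ψ then 1 else 0) := by
  obtain ⟨a, ha, b, hb, hab⟩ := Finset.one_lt_card.mp (by omega : 1 < (excSet (KN K)).card)
  have hex : ∃ χ₁ ∈ excSet (KN K), Θ χ₁ ≠ ψ := by
    by_cases h : Θ a = ψ
    · refine ⟨b, hb, ?_⟩
      intro h'
      exact hab (hinj ha hb (h.trans h'.symm))
    · exact ⟨a, ha, h⟩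
  obtain ⟨χ₁, hχ₁, hne⟩ := hex
  refine ⟨mult K ψ χ₁, ?_⟩
  intro χ hχ
  have := mult_sub_mult K ε Θ χ χ₁ (hΘ χ hχ χ₁ hχ₁) ψ
  rw [if_neg hne, sub_zero] at this
  rw [← this]; ring

omit [Fintype (IrrCharacter G)] in
/-- The value of `ψ` at `1 ≠ x ∈ K` in terms of the base multiplicity. -/
theorem apply_eq_of_base [DecidableEq (IrrCharacter (NK K))] [DecidableEq (IrrCharacter G)]
    (hcent : ∀ g : G, g ∉ K → ∀ k ∈ K, k * g = g * k → k = 1)
    (hab : ∀ a ∈ K, ∀ b ∈ K, a * b = b * a) (ε : ℂ)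
    (Θ : IrrCharacter (NK K) → IrrCharacter G) (ψ : IrrCharacter G) (m : ℕ)
    (hm : ∀ χ ∈ excSet (KN K), (mult K ψ χ : ℂ) = m + ε * (if Θ χ = ψ then 1 else 0))
    (x : G) (hx : x ∈ K) (hx1 : x ≠ 1) :
    (ψ : G → ℂ) x = (baseDeg K ψ : ℂ) - m +
      ε * ∑ χ ∈ excSet (KN K), (if Θ χ = ψ then (1 : ℂ) else 0) *
        (χ : NK K → ℂ) ⟨x, Subgroup.le_normalizer hx⟩ := by
  rw [apply_eq_sum_mult K ψ x hx, ← baseDeg_cast]
  have hx' : (⟨x, Subgroup.le_normalizer hx⟩ : NK K) ∈ KN K := Subgroup.mem_subgroupOf.mpr hx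
  have hx1' : (⟨x, Subgroup.le_normalizer hx⟩ : NK K) ≠ 1 := by
    intro h
    exact hx1 (congrArg Subtype.val h)
  have hsum := sum_excSet_apply (KN K) (hfixN K hcent) (habN K hab) _ hx' hx1'
  rw [Finset.sum_congr rfl (fun χ hχ => by rw [hm χ hχ])]
  simp only [add_mul, Finset.sum_add_distrib, ← Finset.mul_sum, mul_assoc]
  rw [hsum]
  ring

omit [Fintype (IrrCharacter G)] in
/-- The degree of `ψ` in terms of the base multiplicity. -/
theorem apply_one_of_base [DecidableEq (IrrCharacter (NK K))] [DecidableEq (IrrCharacter G)]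
    (hcent : ∀ g : G, g ∉ K → ∀ k ∈ K, k * g = g * k → k = 1)
    (hab : ∀ a ∈ K, ∀ b ∈ K, a * b = b * a) (ε : ℂ)
    (Θ : IrrCharacter (NK K) → IrrCharacter G) (ψ : IrrCharacter G) (m : ℕ)
    (hm : ∀ χ ∈ excSet (KN K), (mult K ψ χ : ℂ) = m + ε * (if Θ χ = ψ then 1 else 0)) :
    (ψ : G → ℂ) 1 = (baseDeg K ψ : ℂ) + m * ((Nat.card K : ℂ) - 1) +
      ε * ((KN K).index : ℂ) * ∑ χ ∈ excSet (KN K), (if Θ χ = ψ then (1 : ℂ) else 0) := by
  rw [apply_eq_sum_mult K ψ 1 K.one_mem, ← baseDeg_cast]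
  have h1 : (⟨1, Subgroup.le_normalizer K.one_mem⟩ : NK K) = 1 := rfl
  rw [h1]
  have hcard := card_excSet_mul (KN K) (hfixN K hcent) (habN K hab)
  have hKK : Nat.card (KN K) = Nat.card K :=
    Nat.card_congr (Subgroup.subgroupOfEquivOfLe Subgroup.le_normalizer).toEquiv
  rw [hKK] at hcard
  have hcard' : (Nat.card K : ℂ) - 1 = ((excSet (KN K)).card : ℂ) * ((KN K).index : ℂ) := by
    rw [← hcard]; push_cast; ring
  rw [Finset.sum_congr rfl (fun χ hχ => by
    rw [hm χ hχ, apply_one_of_mem_excSet (KN K) (hfixN K hcent) (habN K hab) χ hχ])]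
  simp only [add_mul, Finset.sum_add_distrib, Finset.sum_const, nsmul_eq_mul]
  rw [hcard', ← Finset.sum_mul, ← Finset.mul_sum]
  ring

end GLevel

end Cfsg.Agent.Helper24.SelfCent
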