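import Mathlib
import Cfsg.Prelude.Def_Characters
import Cfsg.Agent.Helper24.SelfCentB

/-!
Brauer's degree equations for an abelian TI-subgroup `K` of `G` containing the centralizers of its
nonidentity elements (for instance a self-centralizing subgroup of prime order).
-/

namespace Cfsg.Agent.Helper24.SelfCent

open Representation Module

universe u

section Main

variable {G : Type u} [Group G] [Fintype G] (K : Subgroup G)

/-- Auxiliary: expansion of `|c + ε z|²` for real `c`, `ε = ±1`. -/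
theorem normSq_expand (c : ℤ) (ε z : ℂ) (hε : ε = 1 ∨ ε = -1) :
    ((c : ℂ) + ε * z) * (starRingEnd ℂ) ((c : ℂ) + ε * z) =
      (c : ℂ) ^ 2 + (c : ℂ) * ε * (z + (starRingEnd ℂ) z) + z * (starRingEnd ℂ) z := by
  have h1 : (starRingEnd ℂ) ε = ε := by
    rcases hε with h | h <;> rw [h] <;> simp
  have h2 : ε * ε = 1 := by
    rcases hε with h | h <;> rw [h] <;> ring
  rw [map_add, map_mul, map_intCast, h1]
  linear_combination (z * (starRingEnd ℂ) z) * h2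

/-- **Brauer's degree equations** for an abelian TI-subgroup `K` containing the centralizers of
its nonidentity elements, with `|N_G(K) : K| = e` and `t = (|K| - 1) / e ≥ 2`. -/
theorem brauer_degree_equation [Fintype (IrrCharacter G)] [DecidableEq (IrrCharacter G)]
    (hab : ∀ a ∈ K, ∀ b ∈ K, a * b = b * a)
    (hTI : ∀ g : G, g ∉ Subgroup.normalizer (K : Set G) → ∀ s ∈ (K : Set G),
      g * s * g⁻¹ ∈ (K : Set G) → s = 1)
    (hcent : ∀ g : G, g ∉ K → ∀ k ∈ K, k * g = g * k → k = 1)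
    (e t : ℕ) (hN : Nat.card (Subgroup.normalizer (K : Set G)) = Nat.card K * e)
    (ht : t * e + 1 = Nat.card K) (ht2 : 2 ≤ t) :
    ∃ (ε c : ℤ) (d : ℕ) (T : Finset (IrrCharacter G)) (a : IrrCharacter G → ℤ),
      (ε = 1 ∨ ε = -1) ∧ T.card = t ∧ trivIrr G ∉ T ∧ (∀ θ ∈ T, irrDeg θ = d) ∧
      (∃ k : ℕ, (d : ℤ) = c + ε * e + k * Nat.card K) ∧
      (∀ ψ, ψ ∉ T → ∃ k : ℕ, (irrDeg ψ : ℤ) = a ψ + k * Nat.card K) ∧
      (∀ ψ, ψ ∉ T → ∀ x ∈ K, x ≠ 1 → (ψ : G → ℂ) x = a ψ) ∧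
      (∑ ψ ∈ Tᶜ, a ψ ^ 2 = e + 2 * ε * c - t * c ^ 2) ∧
      (∑ ψ ∈ Tᶜ, a ψ * irrDeg ψ + d * (t * c - ε) = 0) := by
  classical
  haveI : Fintype (NK K) := Fintype.ofFinite _
  haveI : Fintype (IrrCharacter (NK K)) := Fintype.ofFinite _
  have hfix := hfixN K hcent
  have habN' := habN K hab
  have hKK : Nat.card (KN K) = Nat.card K :=
    Nat.card_congr (Subgroup.subgroupOfEquivOfLe Subgroup.le_normalizer).toEquiv
  have hKpos : 0 < Nat.card K := Nat.card_pos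
  have hidx : (KN K).index = e := by
    have h1 := (KN K).card_mul_index
    rw [hKK, hN] at h1
    exact Nat.eq_of_mul_eq_mul_left hKpos h1
  have he : 0 < e := by
    rw [← hidx]
    exact Nat.pos_of_ne_zero Subgroup.index_ne_zero_of_finite
  have hcardX : (excSet (KN K)).card = t := by
    have h1 := card_excSet_mul (KN K) hfix habN'
    rw [hKK, hidx, ← ht] at h1
    have : (excSet (KN K)).card * e = t * e := by omega
    exact Nat.eq_of_mul_eq_mul_right he this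
  obtain ⟨ε, hε, Θ, hinj, hΘ⟩ := exists_excMap K hTI hcent hab (by omega)
  choose m hm using fun ψ => exists_base_mult K ε Θ hinj hΘ (by omega) ψ
  obtain ⟨εz, hεz, hεz'⟩ : ∃ εz : ℤ, (εz = 1 ∨ εz = -1) ∧ (εz : ℂ) = ε := by
    rcases hε with h | h
    · exact ⟨1, Or.inl rfl, by simp [h]⟩
    · exact ⟨-1, Or.inr rfl, by simp [h]⟩
  have hε2 : ε * ε = 1 := by
    rcases hε with h | h <;> rw [h] <;> ring
  have hε0 : ε ≠ 0 := by
    rcases hε with h | h <;> rw [h] <;> norm_num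
  set X := excSet (KN K) with hX
  set T := X.image Θ with hT
  have hTcard : T.card = t := by
    rw [hT, Finset.card_image_of_injOn hinj, hcardX]
  -- a nonidentity element of K
  obtain ⟨x₀, hx₀, hx₀1⟩ : ∃ x₀ : G, x₀ ∈ K ∧ x₀ ≠ 1 := by
    have h1 : 1 < Nat.card K := by
      rw [← ht]
      have : 0 < t * e := Nat.mul_pos (by omega) he
      omega
    haveI : Nontrivial K := Finite.one_lt_card_iff_nontrivial.mp h1
    obtain ⟨y, hy⟩ := exists_ne (1 : K)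
    exact ⟨y, y.2, fun h => hy (Subtype.ext h)⟩
  -- the integer `a`
  let a : IrrCharacter G → ℤ := fun ψ => (baseDeg K ψ : ℤ) - (m ψ : ℤ)
  have ha : ∀ ψ, ((a ψ : ℤ) : ℂ) = (baseDeg K ψ : ℂ) - (m ψ : ℂ) := by
    intro ψ; simp only [a]; push_cast; ring
  -- nonexceptional characters
  have hnon : ∀ ψ, ψ ∉ T → ∀ χ ∈ X, Θ χ ≠ ψ := by
    intro ψ hψ χ hχ h
    apply hψ
    rw [hT, Finset.mem_image]
    exact ⟨χ, hχ, h⟩
  have hvalN : ∀ ψ, ψ ∉ T → ∀ x ∈ K, x ≠ 1 → (ψ : G → ℂ) x = a ψ := by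
    intro ψ hψ x hx hx1
    rw [apply_eq_of_base K hcent hab ε Θ ψ (m ψ) (hm ψ) x hx hx1, ha]
    rw [Finset.sum_eq_zero, mul_zero, add_zero]
    intro χ hχ
    rw [if_neg (hnon ψ hψ χ hχ), zero_mul]
  have hdegN : ∀ ψ, ψ ∉ T → (irrDeg ψ : ℤ) = a ψ + (m ψ : ℕ) * Nat.card K := by
    intro ψ hψ
    have h1 := apply_one_of_base K hcent hab ε Θ ψ (m ψ) (hm ψ)
    rw [Finset.sum_eq_zero (fun χ hχ => by rw [if_neg (hnon ψ hψ χ hχ)]), mul_zero, add_zero,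
      irrDeg_spec] at h1
    have h2 : ((irrDeg ψ : ℤ) : ℂ) = ((a ψ + (m ψ : ℕ) * Nat.card K : ℤ) : ℂ) := by
      push_cast
      rw [ha, h1]; ring
    exact_mod_cast h2
  -- exceptional characters
  have hsumE : ∀ χ₀ ∈ X, ∀ f : IrrCharacter (NK K) → ℂ,
      ∑ χ ∈ X, (if Θ χ = Θ χ₀ then (1 : ℂ) else 0) * f χ = f χ₀ := by
    intro χ₀ hχ₀ f
    rw [Finset.sum_eq_single_of_mem χ₀ hχ₀, if_pos rfl, one_mul]
    intro χ hχ hne
    rw [if_neg (fun h => hne (hinj hχ hχ₀ h)), zero_mul]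
  have hvalE : ∀ χ₀ ∈ X, ∀ x : G, ∀ hx : x ∈ K, x ≠ 1 → (Θ χ₀ : G → ℂ) x =
      (a (Θ χ₀) : ℂ) + ε * (χ₀ : NK K → ℂ) ⟨x, Subgroup.le_normalizer hx⟩ := by
    intro χ₀ hχ₀ x hx hx1
    rw [apply_eq_of_base K hcent hab ε Θ (Θ χ₀) (m (Θ χ₀)) (hm (Θ χ₀)) x hx hx1, ha,
      hsumE χ₀ hχ₀ (fun χ => (χ : NK K → ℂ) ⟨x, Subgroup.le_normalizer hx⟩)]
  have hdegE : ∀ χ₀ ∈ X, (irrDeg (Θ χ₀) : ℤ) =
      a (Θ χ₀) + εz * e + (m (Θ χ₀) : ℕ) * Nat.card K := by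
    intro χ₀ hχ₀
    have h1 := apply_one_of_base K hcent hab ε Θ (Θ χ₀) (m (Θ χ₀)) (hm (Θ χ₀))
    have h3 := hsumE χ₀ hχ₀ (fun _ => (1 : ℂ))
    simp only [mul_one] at h3
    rw [h3, mul_one, irrDeg_spec, hidx] at h1
    have h2 : ((irrDeg (Θ χ₀) : ℤ) : ℂ) =
        ((a (Θ χ₀) + εz * e + (m (Θ χ₀) : ℕ) * Nat.card K : ℤ) : ℂ) := by
      push_cast
      rw [ha, hεz', h1]; ring
    exact_mod_cast h2
  -- the element `x₀` inside the normalizer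
  set x₀' : NK K := ⟨x₀, Subgroup.le_normalizer hx₀⟩ with hx₀'def
  have hx₀'K : x₀' ∈ KN K := Subgroup.mem_subgroupOf.mpr hx₀
  have hx₀'1 : x₀' ≠ 1 := fun h => hx₀1 (congrArg Subtype.val h)
  -- constancy of `a` on the exceptional characters
  have hti : ∀ χ ∈ X, indFun (NK K) (χ : NK K → ℂ) x₀ = (χ : NK K → ℂ) x₀' := by
    intro χ hχ
    exact indFun_apply_of_ti (K : Set G) hTI (χ : NK K → ℂ) (isClassFunction_irr χ)
      (fun y hy => apply_eq_zero_of_mem_excSet (KN K) hfix χ hχ y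
        (by rw [Subgroup.mem_subgroupOf]; exact hy)) x₀' hx₀ hx₀'1
  have hconst : ∀ χ ∈ X, ∀ χ' ∈ X, a (Θ χ) = a (Θ χ') := by
    intro χ hχ χ' hχ'
    have h1 := congrFun (hΘ χ hχ χ' hχ') x₀
    rw [Pi.sub_apply, Pi.smul_apply, Pi.sub_apply, smul_eq_mul, hti χ hχ, hti χ' hχ',
      hvalE χ hχ x₀ hx₀ hx₀1, hvalE χ' hχ' x₀ hx₀ hx₀1] at h1
    have h2 : ε * (((a (Θ χ) : ℤ) : ℂ) - ((a (Θ χ') : ℤ) : ℂ)) = 0 := by
      linear_combination (-1 : ℂ) * h1 -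
        ((χ : NK K → ℂ) x₀' - (χ' : NK K → ℂ) x₀') * hε2
    have h3 := (mul_eq_zero.mp h2).resolve_left hε0
    have h4 : ((a (Θ χ) : ℤ) : ℂ) = ((a (Θ χ') : ℤ) : ℂ) := sub_eq_zero.mp h3
    exact_mod_cast h4
  have hdconst : ∀ χ ∈ X, ∀ χ' ∈ X, irrDeg (Θ χ) = irrDeg (Θ χ') := by
    intro χ hχ χ' hχ'
    have h1 := congrFun (hΘ χ hχ χ' hχ') 1
    rw [Pi.sub_apply, Pi.smul_apply, Pi.sub_apply, smul_eq_mul,
      Cfsg.Agent.Helper5.indFun_apply_one, Cfsg.Agent.Helper5.indFun_apply_one,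
      apply_one_of_mem_excSet (KN K) hfix habN' χ hχ,
      apply_one_of_mem_excSet (KN K) hfix habN' χ' hχ', sub_self, irrDeg_spec, irrDeg_spec] at h1
    have h2 := (mul_eq_zero.mp h1.symm).resolve_left hε0
    have h3 : ((irrDeg (Θ χ) : ℕ) : ℂ) = (irrDeg (Θ χ') : ℂ) := sub_eq_zero.mp h2
    exact_mod_cast h3
  obtain ⟨χ₁, hχ₁⟩ : X.Nonempty := Finset.card_pos.mp (by omega)
  have htriv : trivIrr G ∉ T := by
    intro hmem
    rw [hT, Finset.mem_image] at hmem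
    obtain ⟨χ₀, hχ₀, hχ₀eq⟩ := hmem
    have hmult0 : ∀ χ ∈ X, (mult K (trivIrr G) χ : ℂ) = 0 := by
      intro χ hχ
      rw [← mult_spec]
      have h1 : (fun x : NK K => (trivIrr G : G → ℂ) x) = (trivIrr (NK K) : NK K → ℂ) := rfl
      rw [h1]
      apply classInner_irr_ne
      intro h
      rw [← h, hX, mem_excSet] at hχ
      exact hχ (fun k => rfl)
    obtain ⟨χ', hχ', hne⟩ : ∃ χ' ∈ X, χ' ≠ χ₀ := by
      obtain ⟨u, hu, v, hv, huv⟩ := Finset.one_lt_card.mp (by omega : 1 < X.card)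
      by_cases h : u = χ₀
      · exact ⟨v, hv, fun h' => huv (h.trans h'.symm)⟩
      · exact ⟨u, hu, h⟩
    have h1 := hm (trivIrr G) χ' hχ'
    rw [hmult0 χ' hχ', if_neg (fun h => hne (hinj hχ' hχ₀ (h.trans hχ₀eq.symm))), mul_zero,
      add_zero] at h1
    have h2 := hm (trivIrr G) χ₀ hχ₀
    rw [hmult0 χ₀ hχ₀, if_pos hχ₀eq, mul_one, ← h1, zero_add] at h2
    exact hε0 h2.symm
  refine ⟨εz, a (Θ χ₁), irrDeg (Θ χ₁), T, a, hεz, hTcard, htriv, ?_, ?_, ?_, hvalN, ?_, ?_⟩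
  · intro θ hθ
    rw [hT, Finset.mem_image] at hθ
    obtain ⟨χ, hχ, rfl⟩ := hθ
    exact hdconst χ hχ χ₁ hχ₁
  · exact ⟨m (Θ χ₁), hdegE χ₁ hχ₁⟩
  · intro ψ hψ
    exact ⟨m ψ, hdegN ψ hψ⟩
  · have h := sum_irr_mul_conj (G := G) x₀ x₀
    rw [if_pos (IsConj.refl x₀), card_centralizer_of_mem K hcent hab x₀ hx₀ hx₀1,
      ← Finset.sum_add_sum_compl T] at h
    have hT1 : ∑ ψ ∈ T, (ψ : G → ℂ) x₀ * (starRingEnd ℂ) ((ψ : G → ℂ) x₀) =
        (t : ℂ) * ((a (Θ χ₁) : ℤ) : ℂ) ^ 2 - 2 * ε * ((a (Θ χ₁) : ℤ) : ℂ) +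
          ((Nat.card K : ℂ) - (e : ℂ)) := by
      rw [hT, Finset.sum_image hinj]
      have hterm : ∀ χ ∈ X, (Θ χ : G → ℂ) x₀ * (starRingEnd ℂ) ((Θ χ : G → ℂ) x₀) =
          ((a (Θ χ₁) : ℤ) : ℂ) ^ 2 + ((a (Θ χ₁) : ℤ) : ℂ) * ε *
            ((χ : NK K → ℂ) x₀' + (starRingEnd ℂ) ((χ : NK K → ℂ) x₀')) +
            (χ : NK K → ℂ) x₀' * (starRingEnd ℂ) ((χ : NK K → ℂ) x₀') := by
        intro χ hχ
        rw [hvalE χ hχ x₀ hx₀ hx₀1, hconst χ hχ χ₁ hχ₁]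
        exact normSq_expand _ ε _ hε
      rw [Finset.sum_congr rfl hterm, Finset.sum_add_distrib, Finset.sum_add_distrib,
        Finset.sum_const, ← Finset.mul_sum, Finset.sum_add_distrib, ← map_sum,
        sum_excSet_apply (KN K) hfix habN' x₀' hx₀'K hx₀'1,
        sum_excSet_normSq (KN K) hfix habN' x₀' hx₀'K hx₀'1, hcardX, hKK, hidx]
      simp only [map_neg, map_one, nsmul_eq_mul]
      ring
    have hT2 : ∑ ψ ∈ Tᶜ, (ψ : G → ℂ) x₀ * (starRingEnd ℂ) ((ψ : G → ℂ) x₀) =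
        ∑ ψ ∈ Tᶜ, ((a ψ : ℤ) : ℂ) ^ 2 := by
      apply Finset.sum_congr rfl
      intro ψ hψ
      rw [Finset.mem_compl] at hψ
      rw [hvalN ψ hψ x₀ hx₀ hx₀1, map_intCast, pow_two]
    rw [hT1, hT2] at h
    have h' : ((∑ ψ ∈ Tᶜ, a ψ ^ 2 : ℤ) : ℂ) =
        ((e + 2 * εz * a (Θ χ₁) - t * a (Θ χ₁) ^ 2 : ℤ) : ℂ) := by
      push_cast
      rw [hεz']
      linear_combination h
    exact_mod_cast h'
  · have h := sum_irr_one_mul_eq_zero (G := G) hx₀1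
    rw [← Finset.sum_add_sum_compl T] at h
    have hT1 : ∑ ψ ∈ T, (ψ : G → ℂ) 1 * (ψ : G → ℂ) x₀ =
        (irrDeg (Θ χ₁) : ℂ) * ((t : ℂ) * ((a (Θ χ₁) : ℤ) : ℂ) - ε) := by
      rw [hT, Finset.sum_image hinj]
      have hterm : ∀ χ ∈ X, (Θ χ : G → ℂ) 1 * (Θ χ : G → ℂ) x₀ =
          (irrDeg (Θ χ₁) : ℂ) * ((a (Θ χ₁) : ℤ) : ℂ) +
            (irrDeg (Θ χ₁) : ℂ) * ε * (χ : NK K → ℂ) x₀' := by
        intro χ hχ
        rw [hvalE χ hχ x₀ hx₀ hx₀1, hconst χ hχ χ₁ hχ₁, irrDeg_spec, hdconst χ hχ χ₁ hχ₁]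
        ring
      rw [Finset.sum_congr rfl hterm, Finset.sum_add_distrib, Finset.sum_const, ← Finset.mul_sum,
        sum_excSet_apply (KN K) hfix habN' x₀' hx₀'K hx₀'1, hcardX]
      simp only [nsmul_eq_mul]
      ring
    have hT2 : ∑ ψ ∈ Tᶜ, (ψ : G → ℂ) 1 * (ψ : G → ℂ) x₀ =
        ∑ ψ ∈ Tᶜ, ((a ψ : ℤ) : ℂ) * (irrDeg ψ : ℂ) := by
      apply Finset.sum_congr rfl
      intro ψ hψ
      rw [Finset.mem_compl] at hψ
      rw [hvalN ψ hψ x₀ hx₀ hx₀1, irrDeg_spec, mul_comm]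
    rw [hT1, hT2] at h
    have h' : ((∑ ψ ∈ Tᶜ, a ψ * irrDeg ψ + irrDeg (Θ χ₁) * (t * a (Θ χ₁) - εz) : ℤ) : ℂ) =
        ((0 : ℤ) : ℂ) := by
      push_cast
      rw [hεz']
      linear_combination h
    exact_mod_cast h'

end Main

end Cfsg.Agent.Helper24.SelfCent
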