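import Mathlib
import Cfsg.Prelude.Def_Characters
import Cfsg.Agent.Helper24.SelfCentC
import Cfsg.Agent.Helper24.SmallDegree
import Cfsg.Agent.Helper11.OrderP

/-!
Brauer's degree equations for a self-centralizing subgroup of prime order; the case of simple
groups.
-/

namespace Cfsg.Agent.Helper24.SelfCent

open Representation Module

universe u

section Prime

variable {G : Type u} [Group G] (K : Subgroup G) (p : ℕ) [hp : Fact p.Prime]

/-- A subgroup of prime order is abelian. -/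
theorem hab_of_card_prime (hK : Nat.card K = p) : ∀ a ∈ K, ∀ b ∈ K, a * b = b * a := by
  haveI : IsCyclic K := isCyclic_of_prime_card hK
  intro a ha b hb
  obtain ⟨g, hg⟩ := IsCyclic.exists_generator (α := K)
  obtain ⟨i, hi⟩ := Subgroup.mem_zpowers_iff.mp (hg ⟨a, ha⟩)
  obtain ⟨j, hj⟩ := Subgroup.mem_zpowers_iff.mp (hg ⟨b, hb⟩)
  have h : (⟨a, ha⟩ : K) * ⟨b, hb⟩ = ⟨b, hb⟩ * ⟨a, ha⟩ := by
    rw [← hi, ← hj, ← zpow_add, ← zpow_add, add_comm]
  exact congrArg Subtype.val h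

/-- A subgroup of prime order is a TI-subgroup. -/
theorem hTI_of_card_prime (hK : Nat.card K = p) :
    ∀ g : G, g ∉ Subgroup.normalizer (K : Set G) → ∀ s ∈ (K : Set G),
      g * s * g⁻¹ ∈ (K : Set G) → s = 1 := by
  intro g hg s hs hgs
  by_contra hs1
  apply hg
  have h1 : K = Subgroup.zpowers s :=
    Cfsg.Agent.Helper11.eq_zpowers_of_card_prime K hK s hs hs1
  have hgs1 : g * s * g⁻¹ ≠ 1 := by
    intro h
    apply hs1
    have : s = g⁻¹ * (g * s * g⁻¹) * g := by group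
    rw [this, h]; group
  have h2 : K = Subgroup.zpowers (g * s * g⁻¹) :=
    Cfsg.Agent.Helper11.eq_zpowers_of_card_prime K hK _ hgs hgs1
  rw [Subgroup.mem_normalizer_iff]
  intro n
  have hconj : ∀ k : ℤ, g * s ^ k * g⁻¹ = (g * s * g⁻¹) ^ k := by
    intro k
    have := map_zpow (MulAut.conj g) s k
    simpa using this
  constructor
  · intro hn
    have hn' : n ∈ Subgroup.zpowers s := by rw [← h1]; exact hn
    obtain ⟨k, rfl⟩ := Subgroup.mem_zpowers_iff.mp hn'
    show g * s ^ k * g⁻¹ ∈ K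
    rw [hconj]
    exact K.zpow_mem hgs k
  · intro hn
    have hn' : g * n * g⁻¹ ∈ Subgroup.zpowers (g * s * g⁻¹) := by rw [← h2]; exact hn
    obtain ⟨k, hk⟩ := Subgroup.mem_zpowers_iff.mp hn'
    rw [← hconj] at hk
    have : n = s ^ k := by
      have h3 : g * s ^ k * g⁻¹ = g * n * g⁻¹ := hk
      have h4 := mul_left_cancel (mul_right_cancel h3)
      exact h4.symm
    show n ∈ K
    rw [this]
    exact K.zpow_mem hs k

/-- A self-centralizing subgroup of prime order contains the centralizers of its nonidentity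
elements. -/
theorem hcent_of_card_prime [Finite G] (hK : Nat.card K = p)
    (hC : Nat.card (Subgroup.centralizer (K : Set G)) = p) :
    ∀ g : G, g ∉ K → ∀ k ∈ K, k * g = g * k → k = 1 := by
  intro g hg k hk hcomm
  by_contra hk1
  apply hg
  have h1 : K = Subgroup.zpowers k :=
    Cfsg.Agent.Helper11.eq_zpowers_of_card_prime K hK k hk hk1
  have hle : K ≤ Subgroup.centralizer (K : Set G) := by
    intro x hx
    rw [Subgroup.mem_centralizer_iff]
    intro y hy
    exact hab_of_card_prime K p hK y hy x hx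
  have heq : K = Subgroup.centralizer (K : Set G) :=
    Subgroup.eq_of_le_of_card_ge hle (by rw [hK, hC])
  rw [heq, Subgroup.mem_centralizer_iff]
  intro y hy
  have hy' : y ∈ Subgroup.zpowers k := by rw [← h1]; exact hy
  obtain ⟨j, rfl⟩ := Subgroup.mem_zpowers_iff.mp hy'
  have hc : Commute k g := hcomm
  exact (hc.zpow_left j).eq

end Prime

section Perfect

variable {G : Type u} [Group G] [Finite G]

/-- In a perfect group, the only linear character is the trivial one. -/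
theorem irrDeg_ne_one_of_perfect (hperf : commutator G = ⊤) (ψ : IrrCharacter G)
    (hψ : ψ ≠ trivIrr G) : irrDeg ψ ≠ 1 := by
  intro h
  have hcard := card_linear_irr (G := G)
  rw [hperf, Subgroup.index_top] at hcard
  haveI : Finite {χ : IrrCharacter G // (χ : G → ℂ) 1 = 1} := inferInstance
  have hsub := (Nat.card_eq_one_iff_unique.mp hcard).1
  have h1 : (ψ : G → ℂ) 1 = 1 := (irrDeg_eq_one_iff ψ).mp h
  have h2 : (trivIrr G : G → ℂ) 1 = 1 := rfl
  have := hsub.elim ⟨ψ, h1⟩ ⟨trivIrr G, h2⟩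
  exact hψ (congrArg Subtype.val this)

/-- **Brauer's degree equations**, perfect groups, self-centralizing subgroup `K` of prime order
`p` with `|N_G(K)| = p e`, `p - 1 = e t` and `t ≥ e + 2`: the constant `c` vanishes. -/
theorem perfect_degree_equation (hperf : commutator G = ⊤) (p : ℕ) [Fact p.Prime]
    (K : Subgroup G) (hK : Nat.card K = p) (e t : ℕ)
    (hN : Nat.card (Subgroup.normalizer (K : Set G)) = p * e)
    (hC : Nat.card (Subgroup.centralizer (K : Set G)) = p)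
    (ht : t * e + 1 = p) (hte : e + 2 ≤ t) :
    ∃ (ε : ℤ) (d : ℕ) (S : Finset (IrrCharacter G)) (a : IrrCharacter G → ℤ),
      (ε = 1 ∨ ε = -1) ∧ d ∣ Nat.card G ∧ (∃ k : ℕ, (d : ℤ) = ε * e + k * p) ∧
      (∀ ψ ∈ S, irrDeg ψ ∣ Nat.card G ∧ irrDeg ψ ≠ 1 ∧
        ∃ k : ℕ, (irrDeg ψ : ℤ) = a ψ + k * p) ∧
      (∑ ψ ∈ S, a ψ ^ 2 = (e : ℤ) - 1) ∧
      (1 + ∑ ψ ∈ S, a ψ * irrDeg ψ = ε * d) ∧
      (t * d ^ 2 + 1 + ∑ ψ ∈ S, irrDeg ψ ^ 2 = Nat.card G) := by
  classical
  haveI : Fintype G := Fintype.ofFinite G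
  haveI : Fintype (IrrCharacter G) := Fintype.ofFinite _
  have hp : p.Prime := Fact.out
  obtain ⟨ε, c, d, T, a, hε, hTcard, htriv, hdT, ⟨kd, hkd⟩, hdegN, hvalN, hO1, hO2⟩ :=
    brauer_degree_equation K (hab_of_card_prime K p hK) (hTI_of_card_prime K p hK)
      (hcent_of_card_prime K p hK hC) e t (by rw [hN, hK]) (by rw [hK]; exact ht) (by omega)
  rw [hK] at hkd
  -- a nonidentity element
  obtain ⟨x₀, hx₀, hx₀1⟩ : ∃ x₀ : G, x₀ ∈ K ∧ x₀ ≠ 1 := by
    have h1 : 1 < Nat.card K := by rw [hK]; exact hp.one_lt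
    haveI : Nontrivial K := Finite.one_lt_card_iff_nontrivial.mp h1
    obtain ⟨y, hy⟩ := exists_ne (1 : K)
    exact ⟨y, y.2, fun h => hy (Subtype.ext h)⟩
  have ha1 : a (trivIrr G) = 1 := by
    have := hvalN (trivIrr G) htriv x₀ hx₀ hx₀1
    rw [trivIrr_apply] at this
    exact_mod_cast this.symm
  have hd1 : irrDeg (trivIrr G) = 1 := by
    rw [irrDeg_eq_one_iff]; rfl
  have htrivc : trivIrr G ∈ Tᶜ := Finset.mem_compl.mpr htriv
  rw [← Finset.add_sum_erase _ _ htrivc, ha1] at hO1 hO2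
  rw [hd1] at hO2
  set S := Tᶜ.erase (trivIrr G) with hS
  have hSnn : 0 ≤ ∑ ψ ∈ S, a ψ ^ 2 := Finset.sum_nonneg (fun ψ _ => sq_nonneg _)
  have hc0 : c = 0 := by
    by_contra hc
    have hc2 : 1 ≤ c ^ 2 := by
      have : 0 < c ^ 2 := by positivity
      omega
    have hte' : (e : ℤ) + 2 ≤ t := by exact_mod_cast hte
    rcases hε with h | h
    · rw [h] at hO1
      nlinarith [sq_nonneg (c - 1), sq_nonneg (c + 1)]
    · rw [h] at hO1
      nlinarith [sq_nonneg (c - 1), sq_nonneg (c + 1)]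
  rw [hc0] at hO1 hO2 hkd
  obtain ⟨θ₀, hθ₀⟩ : T.Nonempty := Finset.card_pos.mp (by omega)
  refine ⟨ε, d, S, a, hε, ?_, ⟨kd, by rw [hkd]; ring⟩, ?_, ?_, ?_, ?_⟩
  · rw [← hdT θ₀ hθ₀]
    exact irrDeg_dvd_card θ₀
  · intro ψ hψ
    rw [hS, Finset.mem_erase, Finset.mem_compl] at hψ
    refine ⟨irrDeg_dvd_card ψ, irrDeg_ne_one_of_perfect hperf ψ hψ.1, ?_⟩
    obtain ⟨k, hk⟩ := hdegN ψ hψ.2
    rw [hK] at hk
    exact ⟨k, hk⟩
  · linear_combination hO1
  · linear_combination hO2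
  · have h := sum_irrDeg_sq (G := G)
    rw [← Finset.sum_add_sum_compl T, ← Finset.add_sum_erase _ _ htrivc, hd1,
      Finset.sum_congr rfl (fun θ hθ => by rw [hdT θ hθ]), Finset.sum_const, hTcard,
      smul_eq_mul] at h
    rw [← h]; ring

end Perfect

section Extract

variable {ι : Type*} [DecidableEq ι]

/-- A sum of integer squares equal to `1` has exactly one nonzero term, equal to `±1`. -/
theorem exists_of_sum_sq_eq_one (S : Finset ι) (a : ι → ℤ) (h : ∑ i ∈ S, a i ^ 2 = 1) :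
    ∃ i ∈ S, (a i = 1 ∨ a i = -1) ∧ ∀ f : ι → ℤ, ∑ j ∈ S, a j * f j = a i * f i := by
  have hex : ∃ i ∈ S, a i ≠ 0 := by
    by_contra hcon
    push Not at hcon
    rw [Finset.sum_eq_zero (fun i hi => by rw [hcon i hi]; ring)] at h
    exact zero_ne_one h
  obtain ⟨i, hi, hai⟩ := hex
  rw [← Finset.add_sum_erase _ _ hi] at h
  have hnn : 0 ≤ ∑ j ∈ S.erase i, a j ^ 2 := Finset.sum_nonneg (fun j _ => sq_nonneg _)
  have hpos : 0 < a i ^ 2 := by positivity
  have hsq : a i ^ 2 = 1 := by omega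
  have hrest : ∑ j ∈ S.erase i, a j ^ 2 = 0 := by omega
  have hzero : ∀ j ∈ S.erase i, a j = 0 := by
    intro j hj
    have := (Finset.sum_eq_zero_iff_of_nonneg (fun j _ => sq_nonneg (a j))).mp hrest j hj
    exact pow_eq_zero_iff (two_ne_zero) |>.mp this
  refine ⟨i, hi, ?_, ?_⟩
  · have h1 : (a i - 1) * (a i + 1) = 0 := by ring_nf; omega
    rcases mul_eq_zero.mp h1 with h2 | h2
    · left; omega
    · right; omega
  · intro f
    rw [← Finset.add_sum_erase _ _ hi, Finset.sum_eq_zero (fun j hj => by rw [hzero j hj]; ring),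
      add_zero]

/-- A sum of integer squares equal to `2` has exactly two nonzero terms, equal to `±1`. -/
theorem exists_of_sum_sq_eq_two (S : Finset ι) (a : ι → ℤ) (h : ∑ i ∈ S, a i ^ 2 = 2) :
    ∃ i ∈ S, ∃ j ∈ S, i ≠ j ∧ (a i = 1 ∨ a i = -1) ∧ (a j = 1 ∨ a j = -1) ∧
      ∀ f : ι → ℤ, ∑ k ∈ S, a k * f k = a i * f i + a j * f j := by
  have hex : ∃ i ∈ S, a i ≠ 0 := by
    by_contra hcon
    push Not at hcon
    rw [Finset.sum_eq_zero (fun i hi => by rw [hcon i hi]; ring)] at h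
    norm_num at h
  obtain ⟨i, hi, hai⟩ := hex
  rw [← Finset.add_sum_erase _ _ hi] at h
  have hnn : 0 ≤ ∑ j ∈ S.erase i, a j ^ 2 := Finset.sum_nonneg (fun j _ => sq_nonneg _)
  have hpos : 0 < a i ^ 2 := by positivity
  have hle : a i ^ 2 ≤ 2 := by omega
  have hsq : a i ^ 2 = 1 := by
    have h1 : -1 ≤ a i := by nlinarith
    have h2 : a i ≤ 1 := by nlinarith
    interval_cases (a i) <;> simp_all
  have hrest : ∑ j ∈ S.erase i, a j ^ 2 = 1 := by omega
  obtain ⟨j, hj, haj, hf⟩ := exists_of_sum_sq_eq_one (S.erase i) a hrest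
  refine ⟨i, hi, j, Finset.mem_of_mem_erase hj, (Finset.ne_of_mem_erase hj).symm, ?_, haj, ?_⟩
  · have h1 : (a i - 1) * (a i + 1) = 0 := by ring_nf; omega
    rcases mul_eq_zero.mp h1 with h2 | h2
    · left; omega
    · right; omega
  · intro f
    rw [← Finset.add_sum_erase _ _ hi, hf f]

end Extract

end Cfsg.Agent.Helper24.SelfCent
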