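import Mathlib
import Cfsg.Agent.Helper25.PFour

set_option autoImplicit false

/-!
Two small facts on the groups `C(p,n)` of Blackburn's list (piece (CC) for S5289):
the centre has index at most `p ^ 2`, and for `n = 3`, `p` odd, the exponent is `p`.
-/

namespace Cfsg.Agent.Helper24.R2CC

open scoped commutatorElement

section Gen

variable {G : Type*} [Group G]

/-- A group generated by pairwise commuting elements is commutative. -/
theorem comm_of_closure_eq_top {Q : Type*} [Group Q] (k : Set Q)
    (hk : Subgroup.closure k = ⊤) (hcomm : ∀ a ∈ k, ∀ b ∈ k, a * b = b * a) (u v : Q) :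
    u * v = v * u := by
  have h := Subgroup.isMulCommutative_closure hcomm
  have hu : u ∈ Subgroup.closure k := by rw [hk]; trivial
  have hv : v ∈ Subgroup.closure k := by rw [hk]; trivial
  have := h.is_comm.comm ⟨u, hu⟩ ⟨v, hv⟩
  exact congrArg Subtype.val this

/-- If `G = ⟨x, y, z⟩` with `z` central and `x, y` commuting modulo the centre, then `G / Z(G)` is
commutative and generated by the images of `x` and `y`. -/
theorem quot_center_data (x y z : G) (hgen : Subgroup.closure ({x, y, z} : Set G) = ⊤)
    (hz : z ∈ Subgroup.center G) (hxy : (x * y)⁻¹ * (y * x) ∈ Subgroup.center G) :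
    (∀ u v : G ⧸ Subgroup.center G, u * v = v * u) ∧
      Subgroup.closure ({(QuotientGroup.mk x : G ⧸ Subgroup.center G), QuotientGroup.mk y} :
        Set (G ⧸ Subgroup.center G)) = ⊤ := by
  set π : G →* G ⧸ Subgroup.center G := QuotientGroup.mk' (Subgroup.center G) with hπ
  have hπz : π z = 1 := (QuotientGroup.eq_one_iff z).mpr hz
  have hπxy : π x * π y = π y * π x := by
    have h1 : π ((x * y)⁻¹ * (y * x)) = 1 := (QuotientGroup.eq_one_iff _).mpr hxy
    rw [map_mul, map_inv, inv_mul_eq_one] at h1
    rw [← map_mul, ← map_mul]; exact h1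
  have himg : π '' ({x, y, z} : Set G) = {π x, π y, 1} := by
    rw [Set.image_insert_eq, Set.image_insert_eq, Set.image_singleton, hπz]
  have hcl : Subgroup.closure ({π x, π y} : Set (G ⧸ Subgroup.center G)) = ⊤ := by
    have h1 : (Subgroup.closure ({x, y, z} : Set G)).map π = ⊤ := by
      rw [hgen]
      exact Subgroup.map_top_of_surjective π (QuotientGroup.mk'_surjective _)
    rw [MonoidHom.map_closure, himg] at h1
    have h2 : ({π x, π y, 1} : Set (G ⧸ Subgroup.center G)) = insert 1 {π x, π y} := by
      ext q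
      simp only [Set.mem_insert_iff, Set.mem_singleton_iff]
      tauto
    rw [h2, Subgroup.closure_insert_one] at h1
    exact h1
  refine ⟨?_, hcl⟩
  apply comm_of_closure_eq_top _ hcl
  intro a ha b hb
  simp only [Set.mem_insert_iff, Set.mem_singleton_iff] at ha hb
  rcases ha with rfl | rfl <;> rcases hb with rfl | rfl
  · rfl
  · exact hπxy
  · exact hπxy.symm
  · rfl

/-- All commutators are central. -/
theorem comm_mem_center (x y z : G) (hgen : Subgroup.closure ({x, y, z} : Set G) = ⊤)
    (hz : z ∈ Subgroup.center G) (hxy : (x * y)⁻¹ * (y * x) ∈ Subgroup.center G) (a b : G) :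
    ⁅a, b⁆ ∈ Subgroup.center G := by
  obtain ⟨hc, -⟩ := quot_center_data x y z hgen hz hxy
  rw [← QuotientGroup.eq_one_iff, commutatorElement_def]
  have := hc (QuotientGroup.mk a) (QuotientGroup.mk b)
  simp only [QuotientGroup.mk_mul, QuotientGroup.mk_inv]
  rw [this]
  group

/-- An element commuting with the generators is central. -/
theorem mem_center_of_gen (k : Set G) (hk : Subgroup.closure k = ⊤) (z : G)
    (hz : ∀ a ∈ k, a * z = z * a) : z ∈ Subgroup.center G := by
  rw [Subgroup.mem_center_iff]
  intro g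
  have hg : g ∈ Subgroup.closure k := by rw [hk]; trivial
  have hle : Subgroup.closure k ≤ Subgroup.centralizer ({z} : Set G) := by
    rw [Subgroup.closure_le]
    intro a ha
    rw [SetLike.mem_coe, Subgroup.mem_centralizer_iff]
    intro w hw
    rw [Set.mem_singleton_iff] at hw
    subst hw
    exact (hz a ha).symm
  have := Subgroup.mem_centralizer_iff.mp (hle hg) z rfl
  exact this.symm

end Gen

theorem cpn_center_index {G : Type*} [Group G] [Finite G] {p : ℕ} [Fact p.Prime] (n : ℕ)
    (hn : 3 ≤ n) (hG : Nat.card G = p ^ n) (x y z : G)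
    (hgen : Subgroup.closure ({x, y, z} : Set G) = ⊤) (hx : x ^ p = 1) (hy : y ^ p = 1)
    (hz : z ^ p ^ (n - 2) = 1) (hxz : x * z = z * x) (hyz : y * z = z * y)
    (hxy : x⁻¹ * y * x = y * z ^ p ^ (n - 3)) : (Subgroup.center G).index ≤ p ^ 2 := by
  have hp : p.Prime := Fact.out
  have hzc : z ∈ Subgroup.center G := by
    apply mem_center_of_gen _ hgen
    intro a ha
    simp only [Set.mem_insert_iff, Set.mem_singleton_iff] at ha
    rcases ha with rfl | rfl | rfl
    · exact hxz
    · exact hyz
    · rfl
  have hxyc : (x * y)⁻¹ * (y * x) ∈ Subgroup.center G := by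
    have h1 : (x * y)⁻¹ * (y * x) = z ^ p ^ (n - 3) := by
      have : y * x = x * (y * z ^ p ^ (n - 3)) := by rw [← hxy]; group
      rw [this]; group
    rw [h1]
    exact Subgroup.pow_mem _ hzc _
  obtain ⟨hc, hcl⟩ := quot_center_data x y z hgen hzc hxyc
  letI : CommGroup (G ⧸ Subgroup.center G) :=
    { (inferInstance : Group (G ⧸ Subgroup.center G)) with mul_comm := hc }
  set a : G ⧸ Subgroup.center G := QuotientGroup.mk x with ha
  set b : G ⧸ Subgroup.center G := QuotientGroup.mk y with hb
  have hap : a ^ p = 1 := by rw [ha, ← QuotientGroup.mk_pow, hx]; rfl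
  have hbp : b ^ p = 1 := by rw [hb, ← QuotientGroup.mk_pow, hy]; rfl
  -- every element is `a ^ i * b ^ j` with `i, j < p`
  have hsurj : Function.Surjective
      (fun ij : Fin p × Fin p => a ^ (ij.1 : ℕ) * b ^ (ij.2 : ℕ)) := by
    intro q
    have hq : q ∈ Subgroup.closure ({a, b} : Set (G ⧸ Subgroup.center G)) := by
      rw [hcl]; trivial
    obtain ⟨m, k, hmk⟩ := Subgroup.mem_closure_pair.mp hq
    have hp0 : (p : ℤ) ≠ 0 := by exact_mod_cast hp.ne_zero
    have hppos : (0 : ℤ) < p := by exact_mod_cast hp.pos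
    have h1 : a ^ m = a ^ (m % (p : ℤ)).toNat := by
      have h2 : a ^ ((p : ℤ)) = 1 := by rw [zpow_natCast]; exact hap
      rw [zpow_eq_zpow_emod m h2, ← zpow_natCast, Int.toNat_of_nonneg (Int.emod_nonneg m hp0)]
    have h2 : b ^ k = b ^ (k % (p : ℤ)).toNat := by
      have h2 : b ^ ((p : ℤ)) = 1 := by rw [zpow_natCast]; exact hbp
      rw [zpow_eq_zpow_emod k h2, ← zpow_natCast, Int.toNat_of_nonneg (Int.emod_nonneg k hp0)]
    have hm : (m % (p : ℤ)).toNat < p := by
      have := Int.emod_lt_of_pos m hppos
      have h3 := Int.emod_nonneg m hp0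
      omega
    have hk : (k % (p : ℤ)).toNat < p := by
      have := Int.emod_lt_of_pos k hppos
      have h3 := Int.emod_nonneg k hp0
      omega
    refine ⟨(⟨_, hm⟩, ⟨_, hk⟩), ?_⟩
    simp only
    rw [← h1, ← h2, hmk]
  have hcard := Nat.card_le_card_of_surjective _ hsurj
  rw [Nat.card_prod, Nat.card_fin] at hcard
  rw [Subgroup.index_eq_card, pow_two]
  exact hcard

theorem cpn_exponent {G : Type*} [Group G] [Finite G] {p : ℕ} [Fact p.Prime] (hp : p ≠ 2)
    (hG : Nat.card G = p ^ 3) (x y z : G) (hgen : Subgroup.closure ({x, y, z} : Set G) = ⊤)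
    (hx : x ^ p = 1) (hy : y ^ p = 1) (hz : z ^ p = 1) (hxz : x * z = z * x)
    (hyz : y * z = z * y) (hxy : x⁻¹ * y * x = y * z) : Monoid.exponent G = p := by
  have hpp : p.Prime := Fact.out
  have hzc : z ∈ Subgroup.center G := by
    apply mem_center_of_gen _ hgen
    intro a ha
    simp only [Set.mem_insert_iff, Set.mem_singleton_iff] at ha
    rcases ha with rfl | rfl | rfl
    · exact hxz
    · exact hyz
    · rfl
  have hxyc : (x * y)⁻¹ * (y * x) ∈ Subgroup.center G := by
    have h1 : (x * y)⁻¹ * (y * x) = z := by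
      have : y * x = x * (y * z) := by rw [← hxy]; group
      rw [this]; group
    rw [h1]
    exact hzc
  have hcc := comm_mem_center x y z hgen hzc hxyc
  have hcomm : ∀ a b c : G, Commute ⁅a, b⁆ c := fun a b c =>
    ((Subgroup.mem_center_iff.mp (hcc a b)) c).symm
  -- `p ∣ choose p 2`
  have hchoose : p ∣ p.choose 2 := by
    apply hpp.dvd_choose_self (by norm_num)
    have := hpp.two_le
    omega
  -- the `p`-th power map kills products of elements killed by it
  have hmul : ∀ a b : G, a ^ p = 1 → b ^ p = 1 → (a * b) ^ p = 1 := by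
    intro a b ha hb
    rw [Cfsg.Agent.Helper25.PFour.mul_pow_of_central (hcomm b a a) (hcomm b a b) p, ha, hb,
      one_mul, one_mul]
    obtain ⟨m, hm⟩ := hchoose
    have h1 : ⁅b, a⁆ ^ p = 1 := by
      rw [← Cfsg.Agent.Helper25.PFour.commutator_pow_of_central (hcomm b a b) p, hb]
      simp [commutatorElement_def]
    rw [hm, pow_mul, h1, one_pow]
  have hall : ∀ g : G, g ^ p = 1 := by
    intro g
    have hg : g ∈ Subgroup.closure ({x, y, z} : Set G) := by rw [hgen]; trivial
    induction hg using Subgroup.closure_induction with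
    | mem a ha =>
      simp only [Set.mem_insert_iff, Set.mem_singleton_iff] at ha
      rcases ha with rfl | rfl | rfl
      · exact hx
      · exact hy
      · exact hz
    | one => exact one_pow p
    | mul a b _ _ iha ihb => exact hmul a b iha ihb
    | inv a _ iha => rw [inv_pow, iha, inv_one]
  have hdvd : Monoid.exponent G ∣ p := Monoid.exponent_dvd_of_forall_pow_eq_one hall
  rcases (Nat.dvd_prime hpp).mp hdvd with h | h
  · exfalso
    have hsub : Subsingleton G := Monoid.exp_eq_one_iff.mp h
    have h1 : Nat.card G = 1 := Nat.card_eq_one_iff_unique.mpr ⟨hsub, ⟨1⟩⟩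
    rw [hG] at h1
    have := hpp.one_lt
    have h2 : 1 < p ^ 3 := Nat.one_lt_pow (by norm_num) this
    omega
  · exact h

end Cfsg.Agent.Helper24.R2CC
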