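import Mathlib
import Cfsg.Agent.Helper2.RGD.Defs

set_option autoImplicit false
set_option linter.unusedSectionVars false
set_option linter.unusedVariables false

/-! Generic Bruhat decomposition, piece GREACH (driver helper2): `B̂` and the `n_s(u)` generate. -/

namespace Cfsg.Agent.RGD

variable {M : Type*} [Group M] {R : Type*} {D : Datum M R}

/-- GREACH -/
theorem closure_Bh_nS (hD : IsRGD D) :
    Subgroup.closure ((D.Bh : Set M) ∪ {g | ∃ s, D.Simple s ∧ g ∈ D.nS s}) = ⊤ := by
  rw [eq_top_iff, ← hD.gen, Subgroup.closure_le]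
  have hU : ∀ s, D.Simple s → ∀ g ∈ D.U s,
      g ∈ Subgroup.closure ((D.Bh : Set M) ∪ {g | ∃ s, D.Simple s ∧ g ∈ D.nS s}) := by
    intro s hs g hg
    apply Subgroup.subset_closure
    left
    have h1 : g ∈ D.Uh := Subgroup.subset_closure ⟨s, hD.simple_pos s hs, hg⟩
    exact (le_sup_left : D.Uh ≤ D.Uh ⊔ D.T) h1
  rintro g ⟨s, hs, hg | hg⟩
  · exact hU s hs g hg
  · by_cases h1 : g = 1
    · rw [h1]
      exact Subgroup.one_mem _
    · obtain ⟨y, hy, n, hn, y', hy', rfl⟩ := hD.rank_one s hs g hg h1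
      refine Subgroup.mul_mem _ (Subgroup.mul_mem _ (hU s hs y hy) ?_) (hU s hs y' hy')
      apply Subgroup.subset_closure
      right
      exact ⟨s, hs, hn⟩

end Cfsg.Agent.RGD
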