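import Mathlib
import Cfsg.Agent.Helper10.S2092.DefsT
import Cfsg.Agent.Helper23.S2092GEN
import Cfsg.Agent.Helper19.S2092CLCROSS

set_option autoImplicit false
set_option linter.unusedSectionVars false
set_option linter.unusedVariables false

/-! S2092, part T, piece MULC: the relation `⁅Ys a b s, Ys b c t⁆ = Ys a c (s t)` for
torus-equivariant additive lifts of the short root elements. -/

namespace Cfsg.Agent.S2092P

open scoped commutatorElement
open Cfsg.Agent.S3352P Cfsg.Agent.S2096P Cfsg.Agent.S2400P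
open Cfsg.Agent.S2086P (CL cl)

variable {n : ℕ} {F : Type*} [Field F] {G : Type*} [Group G] {E : Type*} [Group E]

namespace MULC

/-- the character of `x` on `dOne i v` is trivial for `ab x ≠ i` -/
theorem chi_dOne_of_ne (i : Fin n) (v : Fˣ) (x : J n) (hx : ab x ≠ i) :
    chi (dOne i v) x = (1 : F) := by
  cases x with
  | inl y =>
    have hy : y ≠ i := hx
    simp [dOne, hy]
  | inr y =>
    have hy : y ≠ i := hx
    simp [dOne, hy]

/-- the character of `a` on `dOne (ab a) v` is not `1` for `v ≠ 1` -/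
theorem chi_dOne_self_ne_one (v : Fˣ) (hv : ((v : Fˣ) : F) ≠ 1) (a : J n) :
    chi (dOne (ab a) v) a ≠ (1 : F) := by
  cases a with
  | inl y =>
    have : ab (Sum.inl y : J n) = y := rfl
    simp [dOne, this, hv]
  | inr y =>
    have : ab (Sum.inr y : J n) = y := rfl
    simp only [dOne, this, chi_inr, if_true]
    intro h
    apply hv
    have h1 : v⁻¹ = 1 := Units.ext (by rw [Units.val_one]; exact h)
    have h2 : v = 1 := by simpa using h1
    rw [h2]; simp

/-- a unit `≠ 1` in a field with at least three elements -/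
theorem exists_unit_ne_one [Fintype F] (hF : 3 ≤ Fintype.card F) :
    ∃ v : Fˣ, ((v : Fˣ) : F) ≠ 1 := by
  classical
  by_contra hcon
  push Not at hcon
  have hsub : (Finset.univ : Finset F) ⊆ {0, 1} := by
    intro x _
    by_cases hx : x = 0
    · simp [hx]
    · have := hcon (Units.mk0 x hx)
      simp only [Units.val_mk0] at this
      simp [this]
  have h1 := Finset.card_le_card hsub
  have h2 : ({0, 1} : Finset F).card ≤ 2 := Finset.card_le_two
  rw [Finset.card_univ] at h1
  omega

end MULC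

theorem mul_of_eLiftS [Fintype F] (hF : 3 ≤ Fintype.card F) (S : CnT n F G) (ψ : E →* G)
    (hψ : Function.Surjective ψ) (hc : ψ.ker ≤ Subgroup.center E) {Ys : J n → J n → F → E}
    (h : ELiftS S ψ Ys) (a b c : J n) (hab : IsRoot a b) (hbc : IsRoot b c) (hac : IsRoot a c)
    (s t : F) : ⁅Ys a b s, Ys b c t⁆ = Ys a c (s * t) := by
  obtain ⟨v, hv⟩ := MULC.exists_unit_ne_one (F := F) hF
  obtain ⟨e, he⟩ := hψ (S.H (dOne (ab a) v))
  have hab' : ab a ≠ ab b := isRoot_iff_ab.1 hab
  have hbc' : ab b ≠ ab c := isRoot_iff_ab.1 hbc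
  have hac' : ab a ≠ ab c := isRoot_iff_ab.1 hac
  have hb1 : chi (dOne (ab a) v) b = (1 : F) := MULC.chi_dOne_of_ne _ v b (Ne.symm hab')
  have hc1' : chi (dOne (ab a) v) c = (1 : F) := MULC.chi_dOne_of_ne _ v c (Ne.symm hac')
  refine rel_of_scale_left ψ hc (Y1 := Ys a b) (Y2 := Ys b c) (Y3 := Ys a c) (e := e)
    (c := chi (dOne (ab a) v) a) (MULC.chi_dOne_self_ne_one v hv a) (h.adds a b hab)
    (h.adds a c hac) ?_ ?_ ?_ ?_ ?_ s t
  · intro s t
    rw [map_commutatorElement, h.maps a b hab, h.maps b c hbc, h.maps a c hac]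
    exact S.rel.mul a b c hab hbc hac s t
  · intro s t
    have hb_ne : b ≠ ng a := by
      intro hh
      apply hab.2
      rw [hh, ng_ng]
    exact cl_comm_s hF S ψ hψ hc a b a c hab hac hab.1.symm hac.1 (ng_ne a).symm hac.2 hb_ne hbc.2
      s t _ _ (h.maps a b hab s) (h.maps a c hac t)
  · intro s
    rw [h.conjs e _ he a b hab s, hb1, inv_one, mul_one]
  · intro t
    rw [h.conjs e _ he b c hbc t, hb1, hc1', inv_one, mul_one, one_mul]
  · intro u
    rw [h.conjs e _ he a c hac u, hc1', inv_one, mul_one]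

end Cfsg.Agent.S2092P
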