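import Mathlib
import Cfsg.Agent.Helper10.S2510CHARPOW

/-! S2511 piece CHARPOW2 (driver helper13): if the minimal polynomial of `A` is `(φ ψ)^e` with
`φ, ψ` monic irreducible, then the characteristic polynomial is `φ^a ψ^b`. -/

set_option autoImplicit false

namespace Cfsg.Agent.S2511P

open Polynomial Matrix

namespace CHARPOW2

/-- a monic divisor of `φ^N * ψ^M` (`φ, ψ` monic irreducible) is `φ^a * ψ^b` -/
theorem eq_pow_mul_of_dvd {K : Type*} [Field K] (c φ ψ : K[X]) (hc : c.Monic) (hφ : φ.Monic)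
    (hψ : ψ.Monic) (hφi : Irreducible φ) (hψi : Irreducible ψ) (N M : ℕ)
    (h : c ∣ φ ^ N * ψ ^ M) : ∃ a b : ℕ, c = φ ^ a * ψ ^ b := by
  obtain ⟨c1, c2, h1, h2, rfl⟩ := exists_dvd_and_dvd_of_dvd_mul h
  obtain ⟨a, -, ha⟩ := (dvd_prime_pow hφi.prime _).1 h1
  obtain ⟨b, -, hb⟩ := (dvd_prime_pow hψi.prime _).1 h2
  refine ⟨a, b, ?_⟩
  exact eq_of_monic_of_associated hc ((hφ.pow a).mul (hψ.pow b)) (ha.mul_mul hb)

end CHARPOW2

/-- CHARPOW2 -/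
theorem charpoly_eq_pow_mul {K : Type*} [Field K] {n : ℕ} (A : Matrix (Fin n) (Fin n) K)
    (φ ψ : K[X]) (hφ : φ.Monic) (hψ : ψ.Monic) (hφi : Irreducible φ) (hψi : Irreducible ψ) (e : ℕ)
    (hμ : minpoly K A = (φ * ψ) ^ e) : ∃ a b : ℕ, A.charpoly = φ ^ a * ψ ^ b := by
  have h1 : A.charpoly ∣ φ ^ (e * n) * ψ ^ (e * n) := by
    have := Cfsg.Agent.S2510P.CHARPOW.charpoly_dvd_minpoly_pow A
    rwa [hμ, ← pow_mul, mul_pow] at this
  exact CHARPOW2.eq_pow_mul_of_dvd _ φ ψ (Matrix.charpoly_monic A) hφ hψ hφi hψi _ _ h1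

end Cfsg.Agent.S2511P
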