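import Mathlib
import Cfsg.Agent.Helper13.S2511Defs
import Cfsg.Agent.Helper6.S2263MULTSYM
import Cfsg.Agent.Helper24.S2511CHARPOW2
import Cfsg.Agent.Helper26.S2511CHARDAG

/-! S2511 piece CHARSHAPE (driver helper13): for a unitary `A` with minimal polynomial
`(φ · dag σ φ)^e`, `dag σ φ ≠ φ`, the characteristic polynomial is `(φ · dag σ φ)^m'`. -/

set_option autoImplicit false

namespace Cfsg.Agent.S2511P

open Polynomial Matrix
open Cfsg.Agent.S2263P Cfsg.Agent.S2264P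

namespace CHARSHAPE

/-- two distinct monic irreducible polynomials: `φ^a ψ^b = φ^b ψ^a` forces `a ≤ b` -/
theorem le_of_pow_mul_eq {K : Type*} [Field K] {φ ψ : K[X]} (hφ : φ.Monic) (hψ : ψ.Monic)
    (hφi : Irreducible φ) (hψi : Irreducible ψ) (hne : ψ ≠ φ) {a b : ℕ}
    (h : φ ^ a * ψ ^ b = φ ^ b * ψ ^ a) : a ≤ b := by
  have hcop : IsCoprime φ ψ := by
    rw [hφi.coprime_iff_not_dvd]
    intro hd
    have := (hφi.dvd_irreducible_iff_associated hψi).1 hd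
    exact hne (eq_of_monic_of_associated hφ hψ this).symm
  have h1 : φ ^ a ∣ φ ^ b * ψ ^ a := ⟨ψ ^ b, h.symm⟩
  have h2 : φ ^ a ∣ φ ^ b := (hcop.pow (m := a) (n := a)).dvd_of_dvd_mul_right h1
  exact (pow_dvd_pow_iff hφi.ne_zero hφi.not_isUnit).1 h2

end CHARSHAPE

/-- CHARSHAPE -/
theorem charpoly_pair {F : Type*} [Field F] {n : ℕ} (σ : F ≃+* F) (hσ2 : ∀ x, σ (σ x) = x)
    (A : Matrix (Fin n) (Fin n) F) (hA : Aᵀ * A.map (σ : F →+* F) = 1) {φ : F[X]} (hm : φ.Monic)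
    (hirr : Irreducible φ) (h0 : φ.coeff 0 ≠ 0) (hne : dag σ φ ≠ φ) (e : ℕ)
    (hμ : minpoly F A = (φ * dag σ φ) ^ e) : ∃ m' : ℕ, A.charpoly = (φ * dag σ φ) ^ m' := by
  have h0' : (φ.map (σ : F →+* F)).coeff 0 ≠ 0 := MULTSYM.map_coeff_zero_ne σ h0
  have hψm : (dag σ φ).Monic := recip_monic h0'
  have hψi : Irreducible (dag σ φ) := by
    have hirr' : Irreducible (φ.map (σ : F →+* F)) := by
      have := hirr.map (Polynomial.mapEquiv σ)
      rwa [Polynomial.mapEquiv_apply] at this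
    exact recip_irreducible hirr' h0'
  obtain ⟨a, b, hab⟩ := charpoly_eq_pow_mul A φ (dag σ φ) hm hψm hirr hψi e hμ
  have hd := charpoly_dag σ hσ2 A hA
  rw [hab, MULTSYM.dag_mul, MULTSYM.dag_pow, MULTSYM.dag_pow, MULTSYM.dag_dag σ hσ2 hm h0] at hd
  -- hd : (dag σ φ)^a * φ^b = φ^a * (dag σ φ)^b
  have h1 : φ ^ a * dag σ φ ^ b = φ ^ b * dag σ φ ^ a := by rw [← hd]; ring
  have hle1 : a ≤ b := CHARSHAPE.le_of_pow_mul_eq hm hψm hirr hψi hne h1
  have hle2 : b ≤ a := CHARSHAPE.le_of_pow_mul_eq hm hψm hirr hψi hne h1.symm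
  have hab' : a = b := le_antisymm hle1 hle2
  refine ⟨a, ?_⟩
  rw [hab, ← hab', mul_pow]

end Cfsg.Agent.S2511P
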