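import Mathlib
import Cfsg.Agent.Helper10.S2548Defs
import Cfsg.Agent.Helper10.MatBNC

set_option autoImplicit false
open scoped Matrix

/-! S2548 piece QNONDEG: the polar form of the hyperbolic form `QJf` is nondegenerate. -/

namespace Cfsg.Agent.S2548P

open Cfsg.Agent.MatBN
open Cfsg.Agent.S2546P (E)

variable {K : Type*} [Field K] {n : ℕ}

namespace QNONDEG

theorem rev_lt_iff (hn : n % 2 = 0) (i : Fin n) : i.rev.val < n / 2 ↔ ¬ i.val < n / 2 := by
  have := i.isLt
  rw [Fin.val_rev]
  omega

/-- the polar form of `QJ` is `BJ` (own copy, independent of piece PRES) -/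
theorem polar_eq_BJ' (hn : n % 2 = 0) (u v : Fin n → K) :
    QuadraticMap.polar (QJ (K := K) n) u v = BJ n u v := by
  have h1 : QuadraticMap.polar (QJ (K := K) n) u v =
      ∑ i : Fin n, ((if i.val < n / 2 then u i * v i.rev else 0) +
        (if i.val < n / 2 then v i * u i.rev else 0)) := by
    unfold QuadraticMap.polar
    rw [QJ_apply, QJ_apply, QJ_apply, ← Finset.sum_sub_distrib, ← Finset.sum_sub_distrib]
    apply Finset.sum_congr rfl
    intro i _
    split_ifs
    · simp only [Pi.add_apply]
      ring
    · simp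
  rw [h1, Finset.sum_add_distrib]
  have h2 : ∑ i : Fin n, (if i.val < n / 2 then v i * u i.rev else 0) =
      ∑ i : Fin n, (if ¬ i.val < n / 2 then u i * v i.rev else 0) := by
    rw [← Equiv.sum_comp (Fin.revPerm : Equiv.Perm (Fin n))]
    apply Finset.sum_congr rfl
    intro i _
    rw [Fin.revPerm_apply, Fin.rev_rev]
    by_cases h : i.val < n / 2
    · rw [if_neg (by rw [rev_lt_iff hn]; exact not_not.2 h), if_neg (not_not.2 h)]
    · rw [if_pos ((rev_lt_iff hn i).2 h), if_pos h, mul_comm]
  rw [h2, ← Finset.sum_add_distrib]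
  unfold BJ
  apply Finset.sum_congr rfl
  intro i _
  by_cases h : i.val < n / 2
  · rw [if_pos h, if_neg (not_not.2 h), add_zero]
  · rw [if_neg h, if_pos h, zero_add]

theorem BJ_single_right (u : Fin n → K) (c : Fin n) :
    BJ n u (Pi.single c 1) = u c.rev := by
  unfold BJ
  rw [Finset.sum_eq_single c.rev]
  · rw [Fin.rev_rev, Pi.single_eq_same, mul_one]
  · intro b _ hb
    have : b.rev ≠ c := by
      intro h
      apply hb
      rw [← h, Fin.rev_rev]
    rw [Pi.single_eq_of_ne this, mul_zero]
  · intro h
    exact absurd (Finset.mem_univ _) h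

theorem polarBilin_nondegenerate (hn : n % 2 = 0) :
    (QuadraticMap.polarBilin (QJf K n)).Nondegenerate := by
  have hL : ∀ x : Fin n → K, (∀ y, QuadraticMap.polar (QJ (K := K) n) x y = 0) → x = 0 := by
    intro x hx
    funext a
    have := hx (Pi.single a.rev 1)
    rw [polar_eq_BJ' hn, BJ_single_right, Fin.rev_rev] at this
    exact this
  constructor
  · intro x hx
    exact hL x (fun y => hx y)
  · intro y hy
    apply hL y
    intro x
    rw [QuadraticMap.polar_comm]
    exact hy x

end QNONDEG

end Cfsg.Agent.S2548P
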