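import Mathlib
import Cfsg.Agent.Helper10.S2548Defs
import Cfsg.Agent.Helper10.MatBNC
import Cfsg.Agent.Helper28.Spin1
import Cfsg.Agent.Helper28.CartanDieudonne
import Cfsg.Agent.Helper28.CD2
import Cfsg.Agent.Helper24.S2548QNONDEG

set_option autoImplicit false
open scoped Matrix

/-! S2548 piece OGEN: the reflections generate the isometry group of `QJ` (Cartan–Dieudonné). -/

namespace Cfsg.Agent.S2548P

open Cfsg.Agent.MatBN
open Cfsg.Agent.S2546P (E)

variable {K : Type*} [Field K] {n : ℕ}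

namespace OGEN

/-- the set of reflections -/
def RS (K : Type*) [Field K] (n : ℕ) : Set (OJ K n) :=
  {g : OJ K n | ∃ v : Fin n → K, QJ n v ≠ 0 ∧
      mat n g = Cfsg.reflectionMatrix (QJ (K := K) n) v}

theorem mat_inj {g h : OJ K n} (hgh : mat n g = mat n h) : g = h := by
  apply Subtype.ext
  apply Units.ext
  exact hgh

theorem exists_of_reflProd (L : List {v : Fin n → K // QJf K n v ≠ 0}) :
    ∃ h ∈ Subgroup.closure (RS K n), mat n h = Cfsg.Agent.Helper28.reflProd (QJf K n) L := by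
  induction L with
  | nil =>
    refine ⟨1, Subgroup.one_mem _, ?_⟩
    rw [map_one]
    simp [Cfsg.Agent.Helper28.reflProd]
  | cons a L ih =>
    obtain ⟨h, hh, hm⟩ := ih
    refine ⟨Cfsg.Agent.Helper28.Spin.reflO (QJf K n) a.1 a.2 * h, ?_, ?_⟩
    · apply Subgroup.mul_mem _ _ hh
      apply Subgroup.subset_closure
      exact ⟨a.1, a.2, rfl⟩
    · rw [map_mul, hm]
      simp only [Cfsg.Agent.Helper28.reflProd, List.map_cons, List.prod_cons]
      rfl

/-- Cartan–Dieudonné (Helper28.CartanDieudonne / Helper28.CD2) for `QJf` -/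
theorem refl_closure [Fintype K] (hn : n % 2 = 0) (hn2 : 2 ≤ n)
    (hne : ¬ (n = 4 ∧ Fintype.card K = 2)) :
    Subgroup.closure {g : OJ K n | ∃ v : Fin n → K, QJ n v ≠ 0 ∧
      mat n g = Cfsg.reflectionMatrix (QJ (K := K) n) v} = ⊤ := by
  have hQ := QNONDEG.polarBilin_nondegenerate (K := K) hn
  by_cases h2 : (2 : K) = 0
  · have hcard : Fintype.card K ≠ 2 ∨ Fintype.card (Fin n) ≠ 4 := by
      by_cases hK : Fintype.card K = 2
      · right
        rw [Fintype.card_fin]
        intro h4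
        exact hne ⟨h4, hK⟩
      · left
        exact hK
    have := Cfsg.Agent.Helper28.CD2.Rfl_eq_top (QJf K n) h2 hQ hcard
    exact this
  · rw [eq_top_iff]
    intro g _
    have hM : ∀ x, QJf K n (mat n g *ᵥ x) = QJf K n x :=
      fun x => Cfsg.Agent.Helper28.Spin.isom_apply (QJf K n) g x
    obtain ⟨L, hL⟩ := Cfsg.Agent.Helper28.cartan_dieudonne (QJf K n) h2 hQ (mat n g) hM
    obtain ⟨h, hh, hm⟩ := exists_of_reflProd (K := K) (n := n) L
    have : g = h := mat_inj (by rw [hL, hm])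
    rw [this]
    exact hh

end OGEN

end Cfsg.Agent.S2548P
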