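import Mathlib
import Cfsg.Agent.Helper10.S2548Defs
import Cfsg.Agent.Helper10.MatBNC
import Cfsg.Agent.Helper28.Spin1

set_option autoImplicit false
open scoped Matrix

/-! S2548 piece REFLCONJ: conjugating a reflection by an isometry. -/

namespace Cfsg.Agent.S2548P

open Cfsg.Agent.MatBN
open Cfsg.Agent.S2546P (E)

variable {K : Type*} [Field K] {n : ℕ}

namespace REFLCONJ

theorem refl_conj (hn : n % 2 = 0) (g : OJ K n) (v : Fin n → K) (hv : QJ n v ≠ 0) :
    mat n g * Cfsg.reflectionMatrix (QJ (K := K) n) v * mat n g⁻¹ =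
      Cfsg.reflectionMatrix (QJ (K := K) n) (mat n g *ᵥ v) := by
  have hv' : QJf K n (mat n g *ᵥ v) ≠ 0 := by
    have := Cfsg.Agent.Helper28.Spin.isom_apply (QJf K n) g v
    show QJf K n (((g : Matrix.GeneralLinearGroup (Fin n) K) : Matrix (Fin n) (Fin n) K) *ᵥ v) ≠ 0
    rw [this]
    exact hv
  have h := Cfsg.Agent.Helper28.Spin.reflO_conj (QJf K n) g v hv hv'
  have h2 := congrArg (fun x => mat n x) h
  simp only [map_mul] at h2
  exact h2.symm

end REFLCONJ

end Cfsg.Agent.S2548P
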