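import Mathlib
import Cfsg.Prelude.Def_Solvable
import Cfsg.Agent.Lead.S2553Defs
import Cfsg.Agent.Helper11.PermSylow
import Cfsg.Agent.Helper11.SimpleTools

set_option autoImplicit false

/-! S2553 piece N5: the normalizer in `A₈` of a subgroup of order 5 has order 60. -/

namespace Cfsg.Agent.S2553P

open Equiv in
/-- N5 -/
theorem card_alt_inf_normalizer_five (P : Subgroup Γ8) (hP : Nat.card ↥P = 5) :
    Nat.card ↥(A8 ⊓ Subgroup.normalizer (P : Set Γ8)) = 60 := by
  classical
  have hp5 : Nat.Prime 5 := by norm_num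
  haveI : Fact (Nat.Prime 5) := ⟨hp5⟩
  -- a generator
  haveI : IsCyclic ↥P := isCyclic_of_prime_card hP
  obtain ⟨g, hg⟩ := IsCyclic.exists_ofOrder_eq_natCard (α := ↥P)
  set σ : Γ8 := (g : Γ8) with hσdef
  have hσP : σ ∈ P := g.2
  have hσ : orderOf σ = 5 := by
    rw [← hP, ← hg]
    exact Subgroup.orderOf_coe g
  have hct : ∀ τ : Γ8, orderOf τ = 5 → τ.cycleType = {5} := fun τ hτ =>
    Cfsg.Agent.Helper11.cycleType_of_orderOf_prime hp5 (by simp) τ hτ
  have hconj : ∀ τ ∈ P, orderOf τ = 5 → IsConj σ τ := by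
    intro τ _ hτ
    rw [Equiv.Perm.isConj_iff_cycleType_eq, hct σ hσ, hct τ hτ]
  have hrel := Cfsg.Agent.Helper11.relIndex_centralizer_normalizer_of_conj hp5 P hP σ hσP hσ hconj
  -- the centralizer
  have hPz : Subgroup.zpowers σ = P := by
    apply Subgroup.eq_of_le_of_card_ge (Subgroup.zpowers_le.mpr hσP)
    rw [Nat.card_zpowers, hσ, hP]
  have hcent : Subgroup.centralizer (P : Set Γ8) = Subgroup.centralizer {σ} := by
    apply le_antisymm
    · apply Subgroup.centralizer_le
      intro x hx
      rw [Set.mem_singleton_iff] at hx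
      rw [hx]
      exact hσP
    · intro x hx
      rw [Subgroup.mem_centralizer_iff] at hx ⊢
      intro τ hτ
      rw [← hPz] at hτ
      obtain ⟨k, rfl⟩ := Subgroup.mem_zpowers_iff.mp hτ
      have h1 : Commute σ x := hx σ rfl
      exact (h1.zpow_left k).eq
  have hC : Nat.card ↥(Subgroup.centralizer (P : Set Γ8)) = 30 := by
    rw [hcent, Equiv.Perm.nat_card_centralizer, hct σ hσ]
    simp
    decide
  have hN : Nat.card ↥(Subgroup.normalizer (P : Set Γ8)) = 120 := by
    have h1 := Cfsg.Agent.Helper11.relIndex_mul_card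
      (Subgroup.centralizer_le_normalizer (P : Set Γ8))
    rw [hrel, hC] at h1
    omega
  -- an odd element of the normalizer
  have hsupp : σ.support.card = 5 := by
    rw [← Equiv.Perm.sum_cycleType, hct σ hσ]
    simp
  have hcompl : 1 < (σ.supportᶜ).card := by
    rw [Finset.card_compl, hsupp]
    simp
  obtain ⟨a, ha, b, hb, hab⟩ := Finset.one_lt_card.mp hcompl
  rw [Finset.mem_compl, Equiv.Perm.notMem_support] at ha hb
  have hdisj : Equiv.Perm.Disjoint (Equiv.swap a b) σ := by
    intro x
    by_cases hxa : x = a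
    · right; rw [hxa]; exact ha
    by_cases hxb : x = b
    · right; rw [hxb]; exact hb
    left
    exact Equiv.swap_apply_of_ne_of_ne hxa hxb
  have hswapN : Equiv.swap a b ∈ Subgroup.normalizer (P : Set Γ8) := by
    apply Subgroup.centralizer_le_normalizer
    rw [hcent, Subgroup.mem_centralizer_iff]
    intro τ hτ
    rw [Set.mem_singleton_iff] at hτ
    rw [hτ]
    exact hdisj.commute.eq.symm
  have hswapA : Equiv.swap a b ∉ A8 := by
    rw [Equiv.Perm.mem_alternatingGroup, Equiv.Perm.sign_swap hab]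
    decide
  -- the index
  have h1 : A8.relIndex (Subgroup.normalizer (P : Set Γ8)) = 2 := by
    have hd : A8.relIndex (Subgroup.normalizer (P : Set Γ8)) ∣ 2 := by
      have := Subgroup.relIndex_dvd_index_of_normal A8 (Subgroup.normalizer (P : Set Γ8))
      rwa [alternatingGroup.index_eq_two] at this
    have hne : A8.relIndex (Subgroup.normalizer (P : Set Γ8)) ≠ 1 := by
      intro h
      rw [Subgroup.relIndex_eq_one] at h
      exact hswapA (h hswapN)
    rcases (Nat.dvd_prime Nat.prime_two).mp hd with h | h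
    · exact absurd h hne
    · exact h
  have h2 : (A8 ⊓ Subgroup.normalizer (P : Set Γ8)).relIndex (Subgroup.normalizer (P : Set Γ8)) = 2 := by
    rw [Subgroup.inf_relIndex_right, h1]
  have h3 := Cfsg.Agent.Helper11.relIndex_mul_card
    (inf_le_right : A8 ⊓ Subgroup.normalizer (P : Set Γ8) ≤ Subgroup.normalizer (P : Set Γ8))
  rw [h2, hN] at h3
  omega

end Cfsg.Agent.S2553P
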