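import Mathlib
import Cfsg.Prelude.Def_FusionSystem
import Cfsg.Prelude.Def_KGroupFacts
import Cfsg.Agent.Helper7.S2647.Defs

/-! S2647 piece NF (driver helper7): normal forms in `E0`, `S0`, `H0`. -/

set_option autoImplicit false
set_option linter.unusedSectionVars false
set_option linter.unusedVariables false

namespace Cfsg.Agent.S2647P

open Matrix Cfsg.Agent.Helper28.IsoTransport Cfsg.Agent.Helper28.Spin

variable {F : Type*} [Field F]

namespace NF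

/-- extensionality in `Od F` through the action on vectors -/
theorem od_ext {g g' : Od F}
    (h : ∀ x : J → F, (((g : Od F) : GL J F) : Matrix J J F) *ᵥ x =
      (((g' : Od F) : GL J F) : Matrix J J F) *ᵥ x) : g = g' := by
  apply Subtype.ext
  apply Units.ext
  apply Matrix.toLin'.injective
  apply LinearMap.ext
  intro x
  rw [Matrix.toLin'_apply, Matrix.toLin'_apply]
  exact h x

theorem mul_mulVec (g g' : Od F) (x : J → F) :
    (((g * g' : Od F) : GL J F) : Matrix J J F) *ᵥ x =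
      (((g : Od F) : GL J F) : Matrix J J F) *ᵥ ((((g' : Od F) : GL J F) : Matrix J J F) *ᵥ x) := by
  rw [Subgroup.coe_mul, Units.val_mul, Matrix.mulVec_mulVec]

/-- own copy of CONJ's `pm_dg_conj` (so that NF does not wait for CONJ) -/
theorem pm_dg_conj' (π : Equiv.Perm J) (ε : J → ℤˣ) :
    pm F π * dg F ε * (pm F π)⁻¹ = dg F (fun j => ε (π⁻¹ j)) := by
  rw [← map_inv]
  apply od_ext
  intro x
  rw [mul_mulVec, mul_mulVec, pm_mulVec, dg_mulVec, pm_mulVec, dg_mulVec]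
  funext j
  simp

theorem dg_pm_mul' (ε ε' : J → ℤˣ) (π π' : Equiv.Perm J) :
    (dg F ε * pm F π) * (dg F ε' * pm F π') =
      dg F (fun j => ε j * ε' (π⁻¹ j)) * pm F (π * π') := by
  have h1 : (fun j => ε j * ε' (π⁻¹ j)) = ε * (fun j => ε' (π⁻¹ j)) := rfl
  rw [h1, map_mul, map_mul, ← pm_dg_conj']
  group

theorem dg_pm_inv' (ε : J → ℤˣ) (π : Equiv.Perm J) :
    (dg F ε * pm F π)⁻¹ = dg F (fun j => ε (π j)) * pm F π⁻¹ := by
  have h1 : (fun j => ε (π j)) = (fun j => ε⁻¹ ((π⁻¹)⁻¹ j)) := by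
    funext j
    rw [inv_inv, Pi.inv_apply, Int.units_inv_eq_self]
  rw [h1, ← pm_dg_conj', map_inv, map_inv]
  group

/-- `Ev` is stable under permutations of the coordinates -/
theorem comp_mem_Ev {ε : J → ℤˣ} (hε : ε ∈ Ev) (π : Equiv.Perm J) : (fun j => ε (π j)) ∈ Ev := by
  rw [mem_Ev] at hε ⊢
  rw [Equiv.prod_comp π ε, hε]

/-- the normal form in `E0 ⋊ P` -/
theorem mem_sup_iff (P : Subgroup (Equiv.Perm J)) (g : Od F) :
    g ∈ E0 F ⊔ P.map (pm F) ↔ ∃ ε ∈ Ev, ∃ σ ∈ P, g = dg F ε * pm F σ := by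
  constructor
  · intro hg
    let X : Subgroup (Od F) :=
      { carrier := {g | ∃ ε ∈ Ev, ∃ σ ∈ P, g = dg F ε * pm F σ}
        one_mem' := ⟨1, Ev.one_mem, 1, P.one_mem, by rw [map_one, map_one, one_mul]⟩
        mul_mem' := by
          rintro a b ⟨ε, hε, σ, hσ, rfl⟩ ⟨ε', hε', σ', hσ', rfl⟩
          refine ⟨fun j => ε j * ε' (σ⁻¹ j), ?_, σ * σ', P.mul_mem hσ hσ', dg_pm_mul' ε ε' σ σ'⟩
          exact Ev.mul_mem hε (comp_mem_Ev hε' σ⁻¹)
        inv_mem' := by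
          rintro a ⟨ε, hε, σ, hσ, rfl⟩
          exact ⟨fun j => ε (σ j), comp_mem_Ev hε σ, σ⁻¹, P.inv_mem hσ, dg_pm_inv' ε σ⟩ }
    have hle : E0 F ⊔ P.map (pm F) ≤ X := by
      apply sup_le
      · rintro x ⟨ε, hε, rfl⟩
        exact ⟨ε, hε, 1, P.one_mem, by rw [map_one, mul_one]⟩
      · rintro x ⟨σ, hσ, rfl⟩
        exact ⟨1, Ev.one_mem, σ, hσ, by rw [map_one, one_mul]⟩
    exact hle hg
  · rintro ⟨ε, hε, σ, hσ, rfl⟩
    exact Subgroup.mul_mem _ (Subgroup.mem_sup_left ⟨ε, hε, rfl⟩)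
      (Subgroup.mem_sup_right ⟨σ, hσ, rfl⟩)

end NF

/-- NF (S-M) -/
theorem mem_E0_iff (g : Od F) : g ∈ E0 F ↔ ∃ ε ∈ Ev, g = dg F ε := by
  constructor
  · rintro ⟨ε, hε, rfl⟩
    exact ⟨ε, hε, rfl⟩
  · rintro ⟨ε, hε, rfl⟩
    exact ⟨ε, hε, rfl⟩

theorem mem_S0_iff (g : Od F) : g ∈ S0 F ↔ ∃ ε ∈ Ev, ∃ σ ∈ Dp, g = dg F ε * pm F σ :=
  NF.mem_sup_iff Dp g

theorem mem_H0_iff (g : Od F) :
    g ∈ H0 F ↔ ∃ ε ∈ Ev, ∃ σ ∈ alternatingGroup J, g = dg F ε * pm F σ :=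
  NF.mem_sup_iff (alternatingGroup J) g

end Cfsg.Agent.S2647P
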