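import Mathlib
import Cfsg.Agent.Helper29.TV2Basic
import Cfsg.Agent.S2905

/-! Board `tv2pieces`, row PMIN (helper24): basics of the 2-minimal group `P`. -/

set_option autoImplicit false
set_option linter.unusedSectionVars false

namespace Cfsg.Agent.TV2

variable {P : Type*} [Group P] [Finite P] {W : Type*} [AddCommGroup W] [Module (ZMod 2) W] [Finite W] [DistribMulAction P W]

theorem PMIN_maxsub (C : Ctx P W) (H : Subgroup P) (hT : (C.T : Subgroup P) ≤ H) (hH : H ≠ ⊤) : H ≤ C.M := by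
  rcases IsCoatomic.eq_top_or_exists_le_coatom H with h | ⟨M', hM', hHM'⟩
  · exact absurd h hH
  · have := (C.hmin C.T).2.unique ⟨hM', hT.trans hHM'⟩ ⟨C.hM, C.hTM⟩
    rw [← this]; exact hHM'

theorem PMIN_gen (C : Ctx P W) {g : P} (hg : g ∉ C.M) (H : Subgroup P) (hT : (C.T : Subgroup P) ≤ H) (hgH : g ∈ H) : H = ⊤ := by
  by_contra hH
  exact hg (PMIN_maxsub C H hT hH hgH)

theorem PMIN_normal_two_group (C : Ctx P W) (N : Subgroup P) (hN : N.Normal) (h4 : ∀ g ∈ N, g ^ 4 = 1) : N = ⊥ := by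
  have hp : IsPGroup 2 N := by
    intro g
    refine ⟨2, ?_⟩
    apply Subtype.ext
    rw [Subgroup.coe_pow]
    exact h4 g.1 g.2
  have hle : N ≤ Cfsg.pCore 2 P := le_sSup ⟨hN, hp⟩
  rw [C.hOp] at hle
  exact le_bot_iff.1 hle

theorem PMIN_core_no_invol (C : Ctx P W) {g : P} (hg : g ∈ C.M.normalCore) (h2 : g * g = 1) : g = 1 := by
  have : Fact (Nat.Prime 2) := ⟨Nat.prime_two⟩
  have : C.M.normalCore.Normal := Subgroup.normalCore_normal C.M
  have hS := (Cfsg.Agent.S2905.result C.hmin C.T C.M C.hM C.hTM).1 C.M.normalCore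
    (Subgroup.Normal.isSubnormal inferInstance) (Subgroup.normalCore_le C.M)
  rw [C.hOp] at hS
  -- the 2-group generated by `g`
  have hp : IsPGroup 2 (Subgroup.zpowers g) := by
    rintro ⟨x, hx⟩
    refine ⟨1, ?_⟩
    apply Subtype.ext
    rw [Subgroup.coe_pow]
    obtain ⟨k, rfl⟩ := Subgroup.mem_zpowers_iff.1 hx
    show (g ^ k) ^ 2 ^ 1 = 1
    rw [pow_one, ← zpow_natCast, ← zpow_mul, mul_comm, zpow_mul, zpow_natCast, pow_two, h2, one_zpow]
  obtain ⟨Q, hQ⟩ := hp.exists_le_sylow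
  obtain ⟨h, hh⟩ := MulAction.exists_smul_eq P Q C.T
  have hgQ : g ∈ (Q : Subgroup P) := hQ (Subgroup.mem_zpowers g)
  have hconj : h * g * h⁻¹ ∈ (C.T : Subgroup P) := by
    rw [← hh, Sylow.coe_subgroup_smul]
    rw [Subgroup.mem_pointwise_smul_iff_inv_smul_mem]
    have e : (MulAut.conj h)⁻¹ • (h * g * h⁻¹) = g := by
      rw [MulAut.smul_def, MulAut.conj_inv_apply]; group
    rw [e]; exact hgQ
  have hconj2 : h * g * h⁻¹ ∈ C.M.normalCore := (inferInstance : C.M.normalCore.Normal).conj_mem g hg h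
  have h1 : h * g * h⁻¹ = 1 := by
    have := hS ⟨hconj2, hconj⟩
    exact Subgroup.mem_bot.1 this
  have : g = h⁻¹ * (h * g * h⁻¹) * h := by group
  rw [this, h1]; group

end Cfsg.Agent.TV2
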