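import Mathlib
import Cfsg.Agent.Helper29.TV2Basic
import Cfsg.Agent.Helper24.TV2_PMIN

/-! Board `tv2pieces`, row DE (helper24): basics about the class `D` and `E = ⟨D⟩`. -/

set_option autoImplicit false
set_option linter.unusedSectionVars false

namespace Cfsg.Agent.TV2

variable {P : Type*} [Group P] [Finite P] {W : Type*} [AddCommGroup W] [Module (ZMod 2) W] [Finite W] [DistribMulAction P W]

/-- a subgroup all of whose elements conjugate `T` into `T` normalizes `T` -/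
theorem DE_aux_le_normalizer {G : Type*} [Group G] (A T : Subgroup G)
    (h : ∀ a ∈ A, ∀ t ∈ T, a * t * a⁻¹ ∈ T) : A ≤ Subgroup.normalizer (T : Set G) := by
  intro a ha
  rw [Subgroup.mem_normalizer_iff]
  intro t
  constructor
  · exact h a ha t
  · intro ht
    have := h a⁻¹ (A.inv_mem ha) _ ht
    have e : a⁻¹ * (a * t * a⁻¹) * a⁻¹⁻¹ = t := by group
    rwa [e] at this

/-- a subgroup generated by a set closed under conjugation by `g` is closed under conjugation by `g` -/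
theorem DE_aux_conj_closure {G : Type*} [Group G] (S : Set G) (g : G) (h : ∀ s ∈ S, g * s * g⁻¹ ∈ S) :
    ∀ x ∈ Subgroup.closure S, g * x * g⁻¹ ∈ Subgroup.closure S := by
  intro x hx
  have hle : (Subgroup.closure S).map (MulAut.conj g).toMonoidHom ≤ Subgroup.closure S := by
    rw [MonoidHom.map_closure, Subgroup.closure_le]
    rintro _ ⟨s, hs, rfl⟩
    exact Subgroup.subset_closure (h s hs)
  exact hle ⟨x, hx, rfl⟩

theorem DE_tv (C : Ctx P W) {d : P} (hd : d ∈ C.D) : Tv W d := by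
  obtain ⟨g, rfl⟩ := hd
  exact C.ha.conj g

theorem DE_a_mem (C : Ctx P W) : C.a ∈ C.D := ⟨1, by group⟩

theorem DE_conj (C : Ctx P W) {d : P} (hd : d ∈ C.D) (g : P) : g * d * g⁻¹ ∈ C.D := by
  obtain ⟨h, rfl⟩ := hd
  exact ⟨g * h, by group⟩

theorem DE_conj_D1 (C : Ctx P W) {d : P} (hd : d ∈ C.D1) {m : P} (hm : m ∈ C.M) : m * d * m⁻¹ ∈ C.D1 := by
  refine ⟨DE_conj C hd.1 m, fun hmem => hd.2 ?_⟩
  have : d = m⁻¹ * (m * d * m⁻¹) * m := by group
  rw [this]
  exact C.M.mul_mem (C.M.mul_mem (C.M.inv_mem hm) hmem) hm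

theorem DE_exists_conj (C : Ctx P W) {d e : P} (hd : d ∈ C.D) (he : e ∈ C.D) : ∃ g : P, e = g * d * g⁻¹ := by
  obtain ⟨g, rfl⟩ := hd
  obtain ⟨h, rfl⟩ := he
  exact ⟨h * g⁻¹, by group⟩

theorem DE_normal (C : Ctx P W) : C.E.Normal := by
  refine ⟨fun n hn g => ?_⟩
  exact DE_aux_conj_closure C.D g (fun s hs => DE_conj C hs g) n hn

theorem DE_exists_D1 (C : Ctx P W) : ∃ x, x ∈ C.D1 := by
  by_contra hcon
  push Not at hcon
  have hDM : C.D ⊆ (C.M : Set P) := by
    intro d hd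
    by_contra hdM
    exact hcon d ⟨hd, hdM⟩
  have hEM : C.E ≤ C.M := (Subgroup.closure_le _).2 hDM
  have hEcore : C.E ≤ C.M.normalCore := (Subgroup.normal_le_normalCore (hN := DE_normal C)).2 hEM
  have ha : C.a ∈ C.M.normalCore := hEcore (Subgroup.subset_closure (DE_a_mem C))
  exact C.ha.ne_one (PMIN_core_no_invol C ha (C.ha.mul_self C.faith))

theorem DE_closure_conj_T (C : Ctx P W) {x : P} (hx : x ∈ C.D1) :
    Subgroup.closure {d | ∃ t ∈ (C.T : Subgroup P), d = t * x * t⁻¹} = C.E := by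
  set S : Set P := {d | ∃ t ∈ (C.T : Subgroup P), d = t * x * t⁻¹} with hS
  have hSD : S ⊆ C.D := by
    rintro _ ⟨t, -, rfl⟩
    exact DE_conj C hx.1 t
  have hle : Subgroup.closure S ≤ C.E := Subgroup.closure_mono hSD
  have hxS : x ∈ S := ⟨1, (C.T : Subgroup P).one_mem, by group⟩
  -- `T` normalizes the closure
  have hTn : (C.T : Subgroup P) ≤ Subgroup.normalizer (Subgroup.closure S : Set P) := by
    apply DE_aux_le_normalizer
    intro t ht n hn
    apply DE_aux_conj_closure S t _ n hn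
    rintro _ ⟨t', ht', rfl⟩
    exact ⟨t * t', (C.T : Subgroup P).mul_mem ht ht', by group⟩
  have htop : Subgroup.closure S ⊔ (C.T : Subgroup P) = ⊤ :=
    PMIN_gen C hx.2 _ le_sup_right (Subgroup.mem_sup_left (Subgroup.subset_closure hxS))
  have hnorm : (Subgroup.closure S).Normal := by
    rw [← Subgroup.normalizer_eq_top_iff, ← top_le_iff, ← htop]
    exact sup_le Subgroup.le_normalizer hTn
  apply le_antisymm hle
  rw [Ctx.E, Subgroup.closure_le]
  intro d hd
  obtain ⟨g, hg⟩ := DE_exists_conj C hx.1 hd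
  rw [hg]
  exact hnorm.conj_mem x (Subgroup.subset_closure hxS) g

theorem DE_closure_D1 (C : Ctx P W) : Subgroup.closure C.D1 = C.E := by
  apply le_antisymm
  · exact Subgroup.closure_mono (fun d hd => hd.1)
  · obtain ⟨x, hx⟩ := DE_exists_D1 C
    rw [← DE_closure_conj_T C hx]
    apply Subgroup.closure_mono
    rintro _ ⟨t, ht, rfl⟩
    exact DE_conj_D1 C hx (C.hTM ht)

theorem DE_sup (C : Ctx P W) : C.E ⊔ (C.T : Subgroup P) = ⊤ := by
  obtain ⟨x, hx⟩ := DE_exists_D1 C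
  exact PMIN_gen C hx.2 _ le_sup_right (Subgroup.mem_sup_left (Subgroup.subset_closure hx.1))

theorem DE_exists_mul (C : Ctx P W) (g : P) : ∃ e ∈ C.E, ∃ t ∈ (C.T : Subgroup P), g = e * t := by
  have := DE_normal C
  have hg : g ∈ (↑(C.E ⊔ (C.T : Subgroup P)) : Set P) := by
    rw [DE_sup C]; exact Set.mem_univ g
  rw [Subgroup.normal_mul] at hg
  obtain ⟨e, he, t, ht, rfl⟩ := Set.mem_mul.1 hg
  exact ⟨e, he, t, ht, rfl⟩

end Cfsg.Agent.TV2
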