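import Mathlib
import Cfsg.Agent.Helper29.TV2Basic
import Cfsg.Agent.Helper24.TV2_PMIN
import Cfsg.Agent.Helper24.TV2_DE

/-! Board `tv2pieces`, row ZB (helper24): base vectors. -/

set_option autoImplicit false
set_option linter.unusedSectionVars false

namespace Cfsg.Agent.TV2

variable {P : Type*} [Group P] [Finite P] {W : Type*} [AddCommGroup W] [Module (ZMod 2) W] [Finite W] [DistribMulAction P W]

theorem ZB_exists (C : Ctx P W) : ∃ z : W, C.IsBase z := by
  by_contra hcon
  push Not at hcon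
  have hall : ∀ g : P, g ∈ C.M := by
    intro g
    apply C.hCT
    intro w hw
    by_contra hgw
    exact hcon w ⟨hw, ⟨g, hgw⟩⟩
  exact C.hM.1 (Subgroup.eq_top_iff' _ |>.2 hall)

theorem ZB_fn (C : Ctx P W) {z : W} (hz : C.IsBase z) {x : P} (hx : x ∈ C.D1) : fn W x z = 1 := by
  by_contra hne
  have h0 : fn W x z = 0 := zmod2_ne_one hne
  have htv : Tv W x := DE_tv C hx.1
  have hxz : x • z = z := (htv.fixed_iff z).2 h0
  have htop : MulAction.stabilizer P z = ⊤ :=
    PMIN_gen C hx.2 _ (fun t ht => hz.fixT t ht) hxz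
  obtain ⟨g, hg⟩ := hz.moved
  have : g ∈ MulAction.stabilizer P z := by rw [htop]; exact Subgroup.mem_top g
  exact hg this

end Cfsg.Agent.TV2
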