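import Mathlib
import Cfsg.Agent.Helper29.TV2Basic
import Cfsg.Agent.Helper24.TV2_DE
import Cfsg.Agent.Helper24.TV2_ZB

/-! Board `tv2pieces`, row CA (helper24): Claim A, the coatom `M` fixes every base vector. -/

set_option autoImplicit false
set_option linter.unusedSectionVars false

namespace Cfsg.Agent.TV2

variable {P : Type*} [Group P] [Finite P] {W : Type*} [AddCommGroup W] [Module (ZMod 2) W] [Finite W] [DistribMulAction P W]

theorem CA (C : Ctx P W) {z : W} (hz : C.IsBase z) {m : P} (hm : m ∈ C.M) : m • z = z := by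
  classical
  -- (F) `m • z - z` is fixed by `E`
  have hF : ∀ m ∈ C.M, ∀ e ∈ C.E, e • (m • z - z) = m • z - z := by
    intro m hm
    have hsub : C.E ≤ MulAction.stabilizer P (m • z - z) := by
      rw [← DE_closure_D1 C, Subgroup.closure_le]
      intro d hd
      rw [SetLike.mem_coe, MulAction.mem_stabilizer_iff]
      have htv : Tv W d := DE_tv C hd.1
      rw [htv.fixed_iff, map_sub]
      have h1 : fn W d z = 1 := ZB_fn C hz hd
      have h2 : fn W d (m • z) = 1 := by
        have hconj : m⁻¹ * d * m⁻¹⁻¹ ∈ C.D1 := DE_conj_D1 C hd (C.M.inv_mem hm)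
        have := ZB_fn C hz hconj
        rw [htv.fn_conj, inv_inv] at this
        exact this
      rw [h1, h2, sub_self]
    intro e he
    exact MulAction.mem_stabilizer_iff.1 (hsub he)
  -- every `m ∈ M` moves `z` like an element of `M ⊓ E`
  have hdec : ∀ m ∈ C.M, ∃ e, e ∈ C.M ∧ e ∈ C.E ∧ m • z = e • z := by
    intro m hm
    obtain ⟨e, heE, t, ht, hmet⟩ := DE_exists_mul C m
    have heM : e ∈ C.M := by
      have : e = m * t⁻¹ := by rw [hmet]; group
      rw [this]; exact C.M.mul_mem hm (C.M.inv_mem (C.hTM ht))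
    refine ⟨e, heM, heE, ?_⟩
    rw [hmet, mul_smul, hz.fixT t ht]
  -- the additive subgroup `X`
  let X : AddSubgroup W :=
    { carrier := {x | ∃ e, e ∈ C.M ∧ e ∈ C.E ∧ x = e • z - z}
      zero_mem' := ⟨1, C.M.one_mem, C.E.one_mem, by rw [one_smul, sub_self]⟩
      add_mem' := by
        rintro x x' ⟨e, heM, heE, rfl⟩ ⟨e', heM', heE', rfl⟩
        refine ⟨e * e', C.M.mul_mem heM heM', C.E.mul_mem heE heE', ?_⟩
        have h1 := hF e' heM' e heE
        have h3 : (e * e') • z - z = e • (e' • z - z) + (e • z - z) := by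
          rw [mul_smul, smul_sub]; abel
        rw [h3, h1]; abel
      neg_mem' := by
        rintro x hx; rw [neg_eq_W]; exact hx }
  have hXmem : ∀ x, x ∈ X ↔ ∃ e, e ∈ C.M ∧ e ∈ C.E ∧ x = e • z - z := fun x => Iff.rfl
  have horb : MulAction.orbit ↥C.M z = (fun x => z + x) '' (X : Set W) := by
    ext w
    constructor
    · rintro ⟨⟨m, hm⟩, rfl⟩
      obtain ⟨e, heM, heE, he⟩ := hdec m hm
      refine ⟨e • z - z, (hXmem _).2 ⟨e, heM, heE, rfl⟩, ?_⟩
      show z + (e • z - z) = m • z
      rw [he]; abel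
    · rintro ⟨x, hx, rfl⟩
      obtain ⟨e, heM, heE, rfl⟩ := (hXmem _).1 hx
      refine ⟨⟨e, heM⟩, ?_⟩
      show e • z = z + (e • z - z)
      abel
  have hcard : (MulAction.orbit ↥C.M z).ncard = Nat.card X := by
    rw [horb, Set.ncard_image_of_injective _ (add_right_injective z)]
    exact (Nat.card_coe_set_eq _).symm
  have hidx := MulAction.index_stabilizer ↥C.M z
  have hst : MulAction.stabilizer ↥C.M z = (MulAction.stabilizer P z).subgroupOf C.M := by
    ext x
    rw [Subgroup.mem_subgroupOf, MulAction.mem_stabilizer_iff, MulAction.mem_stabilizer_iff]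
    rfl
  have hT : (C.T : Subgroup P) ≤ MulAction.stabilizer P z := fun t ht => hz.fixT t ht
  have hrel : (MulAction.stabilizer P z).relIndex C.M = Nat.card X := by
    unfold Subgroup.relIndex; rw [← hst, hidx, hcard]
  have hodd : ¬ 2 ∣ (MulAction.stabilizer P z).relIndex C.M := by
    intro h2
    have h3 : (MulAction.stabilizer P z).relIndex C.M ∣ (C.T : Subgroup P).index :=
      (Subgroup.relIndex_dvd_of_le_left C.M hT).trans (Subgroup.relIndex_dvd_index_of_le C.hTM)
    exact C.T.not_dvd_index (h2.trans h3)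
  have hX : ∀ x ∈ X, x = 0 := by
    intro x hx
    have h1 : addOrderOf (⟨x, hx⟩ : X) ∣ 2 := by
      rw [addOrderOf_dvd_iff_nsmul_eq_zero]
      apply Subtype.ext
      show (2 • (⟨x, hx⟩ : X) : X).1 = 0
      rw [AddSubgroup.coe_nsmul, two_nsmul]
      exact add_self_W x
    have h2 : addOrderOf (⟨x, hx⟩ : X) ∣ Nat.card X := addOrderOf_dvd_natCard _
    have h3 : addOrderOf (⟨x, hx⟩ : X) = 1 := by
      rcases (Nat.dvd_prime Nat.prime_two).1 h1 with h | h
      · exact h
      · exfalso; apply hodd; rw [hrel, ← h]; exact h2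
    rw [AddMonoid.addOrderOf_eq_one_iff] at h3
    exact congrArg Subtype.val h3
  obtain ⟨e, heM, heE, he⟩ := hdec m hm
  have : m • z - z ∈ X := (hXmem _).2 ⟨e, heM, heE, by rw [he]⟩
  exact sub_eq_zero.1 (hX _ this)

end Cfsg.Agent.TV2
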