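import Mathlib
import Cfsg.Agent.Helper29.TV2Basic
import Cfsg.Agent.Helper24.TV2_PMIN
import Cfsg.Agent.Helper24.TV2_DE
import Cfsg.Agent.Helper24.TV2_ZB
import Cfsg.Agent.Helper24.TV2_CA
import Cfsg.Agent.Helper11.TV2_CB
import Cfsg.Agent.Helper11.TV2_L0ND
import Cfsg.Agent.Helper11.TV2_SYMC
import Cfsg.Agent.Helper8.TV2_SYMM
import Cfsg.Agent.Helper18.TV2_USPAN

/-! Board `tv2pieces`, row K2B (helper24), core: no `y ∈ D1` has two distinct neighbours in `D ∩ T`;
`INJ_cen` is a hypothesis (two modules on main declare it). -/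

set_option autoImplicit false
set_option linter.unusedSectionVars false

namespace Cfsg.Agent.TV2

variable {P : Type*} [Group P] [Finite P] {W : Type*} [AddCommGroup W] [Module (ZMod 2) W] [Finite W] [DistribMulAction P W]

theorem K2B_aux_core (C : Ctx P W)
    (hINJ : ∀ {d e : P}, d ∈ C.D → e ∈ C.D → cen W d = cen W e → d = e) {z : W} (hz : C.IsBase z) {y e e' : P} (hy : y ∈ C.D1) (he : e ∈ C.D) (he' : e' ∈ C.D)
    (heT : e ∈ (C.T : Subgroup P)) (heT' : e' ∈ (C.T : Subgroup P)) (hne : e ≠ e') (h1 : B W y e = 1) (h2 : B W y e' = 1) :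
    False := by
  have hTp : IsPGroup 2 (C.T : Subgroup P) := C.T.isPGroup'
  have ty : Tv W y := DE_tv C hy.1
  have te : Tv W e := DE_tv C he
  have te' : Tv W e' := DE_tv C he'
  have hee' : B W e e' = 0 := SYMC_two_group C C.T hTp he he' heT heT'
  have he'e : B W e' e = 0 := SYMC_two_group C C.T hTp he' he heT' heT
  have hey : B W e y = 1 := by rw [← SYMM C hy.1 he]; exact h1
  have he'y : B W e' y = 1 := by rw [← SYMM C hy.1 he']; exact h2
  -- `x2 = e y e⁻¹`
  have hx2D : e * y * e⁻¹ ∈ C.D := DE_conj C hy.1 e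
  have tx2 : Tv W (e * y * e⁻¹) := ty.conj e
  have cx2 : cen W (e * y * e⁻¹) = cen W y + cen W e := by
    rw [ty.cen_conj_tv te, hey, one_smul]
  have fx2 : ∀ w, fn W (e * y * e⁻¹) w = fn W y w + fn W e w := by
    intro w; rw [ty.fn_conj_tv te, h1, mul_one]
  -- `x3 = e' x2 e'⁻¹`
  have hx3D : e' * (e * y * e⁻¹) * e'⁻¹ ∈ C.D := DE_conj C hx2D e'
  have tx3 : Tv W (e' * (e * y * e⁻¹) * e'⁻¹) := tx2.conj e'
  have hB1 : B W e' (e * y * e⁻¹) = 1 := by
    unfold B; rw [cx2, map_add]
    change B W e' y + B W e' e = 1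
    rw [he'y, he'e, add_zero]
  have hB2 : B W (e * y * e⁻¹) e' = 1 := by
    unfold B; rw [fx2]
    change B W y e' + B W e e' = 1
    rw [h2, hee', add_zero]
  have cx3 : cen W (e' * (e * y * e⁻¹) * e'⁻¹) = cen W y + (cen W e + cen W e') := by
    rw [tx2.cen_conj_tv te', hB1, one_smul, cx2, add_assoc]
  have fx3 : ∀ w, fn W (e' * (e * y * e⁻¹) * e'⁻¹) w = fn W y w + fn W e w + fn W e' w := by
    intro w; rw [tx2.fn_conj_tv te', hB2, mul_one, fx2]
  generalize hx3 : e' * (e * y * e⁻¹) * e'⁻¹ = x3 at hx3D tx3 cx3 fx3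
  -- values at `z`
  have hyz : fn W y z = 1 := ZB_fn C hz hy
  have hez : fn W e z = 0 := (CB_iff C hz he).1 (C.hTM heT)
  have he'z : fn W e' z = 0 := (CB_iff C hz he').1 (C.hTM heT')
  have hx3z : fn W x3 z = 1 := by rw [fx3, hyz, hez, he'z]; rfl
  have hyx3 : B W y x3 = 0 := by
    unfold B; rw [cx3, map_add, map_add]
    change B W y y + (B W y e + B W y e') = 0
    rw [B_self ty, h1, h2]; rfl
  have hx3y : B W x3 y = 0 := by rw [← SYMM C hy.1 hx3D]; exact hyx3
  -- the vector `v = c_e + c_e'`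
  have hv : cen W e + cen W e' ≠ 0 := by
    intro h0
    apply hne
    apply hINJ he he'
    have := add_eq_zero_iff_eq_neg.1 h0
    rw [this, neg_eq_W]
  -- action of `g' = y * x3`
  have hact : ∀ w, fn W x3 w = fn W y w → (y * x3) • w = w + fn W y w • (cen W e + cen W e') := by
    intro w hw
    rw [ty.mul_act tx3 hyx3 w, hw, cx3, smul_add, ← add_assoc, add_assoc w, ← add_smul]
    rcases zmod2_cases (fn W y w) with h0 | h0
    · rw [h0]; simp
    · rw [h0, show (1 : ZMod 2) + 1 = 0 from rfl, zero_smul, add_zero]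
  have hgz : (y * x3) • z = z + (cen W e + cen W e') := by
    rw [hact z (by rw [hx3z, hyz]), hyz, one_smul]
  have hgM : y * x3 ∉ C.M := by
    intro hM
    have := CA C hz hM
    rw [hgz] at this
    exact hv (add_eq_left.1 this)
  have hginv : (y * x3)⁻¹ = y * x3 := by
    have hc : y * x3 = x3 * y := commute_of_B_eq_zero C.faith ty tx3 hyx3 hx3y
    have h3 : y * x3 * (y * x3) = 1 := by
      calc y * x3 * (y * x3) = y * (x3 * y) * x3 := by group
        _ = y * (y * x3) * x3 := by rw [hc]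
        _ = (y * y) * (x3 * x3) := by group
        _ = 1 := by rw [ty.mul_self C.faith, tx3.mul_self C.faith, one_mul]
    exact inv_eq_of_mul_eq_one_left h3
  -- the subgroup `W'`
  set W' : AddSubgroup W :=
    AddSubgroup.closure ({z} ∪ {u | ∃ b ∈ C.D, b ∈ (C.T : Subgroup P) ∧ u = cen W b}) with hW'
  have hzW' : z ∈ W' := AddSubgroup.subset_closure (Or.inl rfl)
  have hcW' : ∀ b ∈ C.D, b ∈ (C.T : Subgroup P) → cen W b ∈ W' :=
    fun b hb hbT => AddSubgroup.subset_closure (Or.inr ⟨b, hb, hbT, rfl⟩)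
  have hvW' : cen W e + cen W e' ∈ W' := W'.add_mem (hcW' e he heT) (hcW' e' he' heT')
  have hTinv : ∀ t ∈ (C.T : Subgroup P), ∀ w ∈ W', t • w ∈ W' := by
    intro t ht w hw
    induction hw using AddSubgroup.closure_induction with
    | mem u hu =>
      rcases hu with hu | ⟨b, hb, hbT, rfl⟩
      · rw [Set.mem_singleton_iff] at hu
        rw [hu, hz.fixT t ht]; exact hzW'
      · rw [← (DE_tv C hb).cen_conj t]
        exact hcW' _ (DE_conj C hb t) ((C.T : Subgroup P).mul_mem ((C.T : Subgroup P).mul_mem ht hbT)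
          ((C.T : Subgroup P).inv_mem ht))
    | zero => rw [smul_zero]; exact W'.zero_mem
    | add a b _ _ ha hb => rw [smul_add]; exact W'.add_mem ha hb
    | neg a _ ha => rw [smul_neg]; exact W'.neg_mem ha
  have hginvW : ∀ w ∈ W', (y * x3) • w ∈ W' := by
    intro w hw
    induction hw using AddSubgroup.closure_induction with
    | mem u hu =>
      rcases hu with hu | ⟨b, hb, hbT, rfl⟩
      · rw [Set.mem_singleton_iff] at hu
        rw [hu, hgz]; exact W'.add_mem hzW' hvW'
      · have hb1 : B W e b = 0 := SYMC_two_group C C.T hTp he hb heT hbT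
        have hb2 : B W e' b = 0 := SYMC_two_group C C.T hTp he' hb heT' hbT
        have hfb : fn W x3 (cen W b) = fn W y (cen W b) := by
          rw [fx3]
          change fn W y (cen W b) + B W e b + B W e' b = fn W y (cen W b)
          rw [hb1, hb2, add_zero, add_zero]
        rw [hact _ hfb]
        apply W'.add_mem (hcW' b hb hbT)
        rcases zmod2_cases (fn W y (cen W b)) with h0 | h0
        · rw [h0, zero_smul]; exact W'.zero_mem
        · rw [h0, one_smul]; exact hvW'
    | zero => rw [smul_zero]; exact W'.zero_mem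
    | add a b _ _ ha hb => rw [smul_add]; exact W'.add_mem ha hb
    | neg a _ ha => rw [smul_neg]; exact W'.neg_mem ha
  -- the stabilizer of `W'`
  let H : Subgroup P :=
    { carrier := {g | ∀ w ∈ W', g • w ∈ W' ∧ g⁻¹ • w ∈ W'}
      one_mem' := by intro w hw; rw [inv_one, one_smul]; exact ⟨hw, hw⟩
      mul_mem' := by
        intro a b ha hb w hw
        refine ⟨?_, ?_⟩
        · rw [mul_smul]; exact (ha _ (hb w hw).1).1
        · rw [mul_inv_rev, mul_smul]; exact (hb _ (ha w hw).2).2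
      inv_mem' := by
        intro a ha w hw
        rw [inv_inv]; exact ⟨(ha w hw).2, (ha w hw).1⟩ }
  have hHmem : ∀ g, g ∈ H ↔ ∀ w ∈ W', g • w ∈ W' ∧ g⁻¹ • w ∈ W' := fun g => Iff.rfl
  have hTH : (C.T : Subgroup P) ≤ H := by
    intro t ht
    rw [hHmem]
    intro w hw
    exact ⟨hTinv t ht w hw, hTinv t⁻¹ ((C.T : Subgroup P).inv_mem ht) w hw⟩
  have hgH : y * x3 ∈ H := by
    rw [hHmem]
    intro w hw
    rw [hginv]
    exact ⟨hginvW w hw, hginvW w hw⟩
  have hHtop : H = ⊤ := PMIN_gen C hgM H hTH hgH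
  have hPinv : ∀ g : P, ∀ w ∈ W', g • w ∈ W' := by
    intro g w hw
    have : g ∈ H := by rw [hHtop]; exact Subgroup.mem_top g
    exact ((hHmem g).1 this w hw).1
  -- `U ≤ W'`
  have hUW' : C.U ≤ W' := by
    rw [USPAN_D1 C, cspan, AddSubgroup.closure_le]
    rintro _ ⟨d, hd, rfl⟩
    have hdz : fn W d z = 1 := ZB_fn C hz hd
    rw [SetLike.mem_coe, (DE_tv C hd.1).cen_eq_sub hdz]
    exact W'.sub_mem (hPinv d z hzW') hzW'
  -- `φ_e` vanishes on `W'`
  have hvan : ∀ w ∈ W', fn W e w = 0 := by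
    intro w hw
    induction hw using AddSubgroup.closure_induction with
    | mem u hu =>
      rcases hu with hu | ⟨b, hb, hbT, rfl⟩
      · rw [Set.mem_singleton_iff] at hu
        rw [hu]; exact hez
      · exact SYMC_two_group C C.T hTp he hb heT hbT
    | zero => exact map_zero _
    | add a b _ _ ha hb => rw [map_add, ha, hb, add_zero]
    | neg a _ ha => rw [map_neg, ha, neg_zero]
  obtain ⟨d', hd', hBd'⟩ := ND C he
  have := hvan _ (hUW' (USPAN_cen_mem C hd'))
  change B W e d' = 0 at this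
  rw [hBd'] at this
  exact one_ne_zero this

end Cfsg.Agent.TV2
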