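import Mathlib
import Cfsg.Agent.Helper24.TV2_K2Bcore
import Cfsg.Agent.Helper29.TV2_INJh

/-! Board `tv2pieces`, row K2B (helper24): wrapper of `K2B_aux_core` with `INJ_cen` from `Helper29.TV2_INJh`. -/

set_option autoImplicit false
set_option linter.unusedSectionVars false

namespace Cfsg.Agent.TV2

variable {P : Type*} [Group P] [Finite P] {W : Type*} [AddCommGroup W] [Module (ZMod 2) W] [Finite W] [DistribMulAction P W]

theorem K2B (C : Ctx P W) {z : W} (hz : C.IsBase z) {y e e' : P} (hy : y ∈ C.D1) (he : e ∈ C.D) (he' : e' ∈ C.D)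
    (heT : e ∈ (C.T : Subgroup P)) (heT' : e' ∈ (C.T : Subgroup P)) (hne : e ≠ e') (h1 : B W y e = 1) (h2 : B W y e' = 1) :
    False :=
  K2B_aux_core C (fun hd he h => INJ_cen C hd he h) hz hy he he' heT heT' hne h1 h2

end Cfsg.Agent.TV2
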