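import Mathlib

set_option autoImplicit false

/-! # S3557, piece WEL: an element of a `p`-group acting on an orbit of size `p²` without fixed points and with
`p`-th power trivial on it. -/

namespace Cfsg.Agent.S3557P

open MulAction

/-- A nontrivial finite `p`-group has a central element of order `p` (private copy of CENT). -/
theorem WEL_aux_cent {Q : Type*} [Group Q] [Finite Q] [Nontrivial Q] (p : ℕ) [Fact p.Prime]
    (hQ : IsPGroup p Q) : ∃ z : Q, z ∈ Subgroup.center Q ∧ orderOf z = p := by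
  have hnt : Nontrivial (Subgroup.center Q) := hQ.center_nontrivial
  have hpc : IsPGroup p (Subgroup.center Q) := hQ.to_subgroup _
  have hdvd : p ∣ Nat.card (Subgroup.center Q) := by
    rcases hpc.card_eq_or_dvd with h | h
    · exfalso
      have := Finite.one_lt_card (α := Subgroup.center Q)
      omega
    · exact h
  obtain ⟨z, hz⟩ := exists_prime_orderOf_dvd_card' p hdvd
  exact ⟨z, z.2, by rwa [Subgroup.orderOf_coe]⟩

/-- WEL: an element acting on an orbit of size `p²` without fixed points and with `p`-th power trivial on it. -/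
theorem WEL {P Ω : Type*} [Group P] [Finite P] [MulAction P Ω] (p : ℕ) [Fact p.Prime]
    (hP : IsPGroup p P) (b : Ω) (hb : Nat.card (orbit P b) = p ^ 2) :
    ∃ w : P, (∀ y ∈ orbit P b, w • y ≠ y) ∧ ∀ y ∈ orbit P b, (w ^ p) • y = y := by
  classical
  have hp : p.Prime := Fact.out
  have hfinO : Finite (orbit P b) := by
    apply Nat.finite_of_card_ne_zero
    rw [hb]
    exact pow_ne_zero _ hp.ne_zero
  let φ : P →* Equiv.Perm (orbit P b) := MulAction.toPermHom P (orbit P b)
  have hφ : ∀ (g : P) (y : orbit P b), ((φ g) y : Ω) = g • (y : Ω) := fun g y => rfl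
  have hQp : IsPGroup p φ.range := hP.of_surjective φ.rangeRestrict φ.rangeRestrict_surjective
  have hntQ : Nontrivial φ.range := by
    -- a second point of the orbit
    have h1 : 1 < Nat.card (orbit P b) := by
      rw [hb]
      exact Nat.one_lt_pow (by norm_num) hp.one_lt
    have hnt := Finite.one_lt_card_iff_nontrivial.mp h1
    obtain ⟨y, hy⟩ := exists_ne (⟨b, mem_orbit_self b⟩ : orbit P b)
    obtain ⟨g, hg⟩ := y.2
    refine ⟨⟨⟨φ g, g, rfl⟩, 1, ?_⟩⟩
    intro h
    have h2 : φ g = 1 := congrArg Subtype.val h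
    apply hy
    apply Subtype.ext
    have h3 := hφ g ⟨b, mem_orbit_self b⟩
    rw [h2] at h3
    simp only [Equiv.Perm.coe_one, id_eq] at h3
    rw [← hg]
    exact h3.symm
  obtain ⟨c, hc, hcp⟩ := WEL_aux_cent p hQp
  obtain ⟨w, hw⟩ := c.2
  have hc1 : (c : Equiv.Perm (orbit P b)) ≠ 1 := by
    intro h
    have : c = 1 := Subtype.ext h
    rw [this, orderOf_one] at hcp
    exact hp.one_lt.ne hcp
  have hcpow : (c : Equiv.Perm (orbit P b)) ^ p = 1 := by
    have := pow_orderOf_eq_one c
    rw [hcp] at this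
    exact congrArg Subtype.val this
  refine ⟨w, ?_, ?_⟩
  · intro y hy hfix
    apply hc1
    ext y'
    have hy' : (y' : Ω) ∈ orbit P y := by
      rw [orbit_eq_iff.mpr hy]
      exact y'.2
    obtain ⟨g, hg⟩ := hy'
    -- `c` commutes with `φ g`
    have hcomm : (⟨φ g, g, rfl⟩ : φ.range) * c = c * ⟨φ g, g, rfl⟩ :=
      Subgroup.mem_center_iff.mp hc _
    have hcomm' : φ g * (c : Equiv.Perm (orbit P b)) = (c : Equiv.Perm (orbit P b)) * φ g :=
      congrArg Subtype.val hcomm
    have hcy0 : (c : Equiv.Perm (orbit P b)) ⟨y, hy⟩ = ⟨y, hy⟩ := by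
      apply Subtype.ext
      rw [← hw]
      exact hfix
    have hy'eq : y' = φ g ⟨y, hy⟩ := Subtype.ext hg.symm
    apply congrArg Subtype.val
    calc (c : Equiv.Perm (orbit P b)) y' = (c : Equiv.Perm (orbit P b)) (φ g ⟨y, hy⟩) := by rw [← hy'eq]
      _ = ((c : Equiv.Perm (orbit P b)) * φ g) ⟨y, hy⟩ := rfl
      _ = (φ g * (c : Equiv.Perm (orbit P b))) ⟨y, hy⟩ := by rw [hcomm']
      _ = φ g ((c : Equiv.Perm (orbit P b)) ⟨y, hy⟩) := rfl
      _ = φ g ⟨y, hy⟩ := by rw [hcy0]
      _ = (1 : Equiv.Perm (orbit P b)) y' := hy'eq.symm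
  · intro y hy
    have h1 : φ (w ^ p) = 1 := by rw [map_pow, hw, hcpow]
    have h2 := hφ (w ^ p) ⟨y, hy⟩
    rw [h1] at h2
    exact h2.symm

end Cfsg.Agent.S3557P
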