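import Mathlib
import Cfsg.Agent.Helper10.S3805Defs
import Cfsg.Agent.Helper24.Linear
import Cfsg.Agent.Helper24.Expansion
import Cfsg.Agent.Helper24.Product

/-!
# S3805 piece QGEN

The class functions `aC j = φ ⊗ χ_j` are generalized characters of `Q = D3 × D3`.
-/

set_option autoImplicit false

namespace Cfsg.Agent.S3805P

open Cfsg Cfsg.Agent.Helper24

/-- The sign homomorphism `D3 → ℤ` (multiplicative). -/
def QGEN_sgnZ : D3 →* ℤ where
  toFun x := match x with
    | DihedralGroup.r _ => 1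
    | DihedralGroup.sr _ => -1
  map_one' := rfl
  map_mul' := by decide

theorem QGEN_sgnZ_apply (t : D3) : QGEN_sgnZ t = chiZ 1 t := by
  cases t <;> rfl

/-- The integral two-dimensional representation of `D3`. -/
def QGEN_matZ : D3 →* Matrix (Fin 2) (Fin 2) ℤ where
  toFun x := match x with
    | DihedralGroup.r i => (!![0, -1; 1, -1] : Matrix (Fin 2) (Fin 2) ℤ) ^ i.val
    | DihedralGroup.sr i => !![0, 1; 1, 0] * (!![0, -1; 1, -1] : Matrix (Fin 2) (Fin 2) ℤ) ^ i.val
  map_one' := by decide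
  map_mul' := by decide

theorem QGEN_trace_matZ (t : D3) : (QGEN_matZ t).trace = chiZ 2 t := by
  revert t
  decide

/-- The complex two-dimensional representation of `D3`. -/
noncomputable def QGEN_rep : Representation ℂ D3 (Fin 2 → ℂ) :=
  ((Matrix.toLinAlgEquiv' (R := ℂ) (n := Fin 2)).toAlgHom.toRingHom.toMonoidHom.comp
    ((Int.castRingHom ℂ).mapMatrix.toMonoidHom)).comp QGEN_matZ

theorem QGEN_rep_character : QGEN_rep.character = chiC 2 := by
  funext t
  show LinearMap.trace ℂ _ (Matrix.toLin' ((Int.castRingHom ℂ).mapMatrix (QGEN_matZ t))) = _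
  rw [Matrix.trace_toLin'_eq]
  have h := AddMonoidHom.map_trace (Int.castRingHom ℂ).toAddMonoidHom (QGEN_matZ t)
  rw [QGEN_trace_matZ] at h
  exact h.symm

theorem QGEN_chi0 : IsCharacter D3 (chiC 0) := by
  have h : chiC 0 = fun _ : D3 => (1 : ℂ) := by
    funext t
    simp [chiC, chiZ]
  rw [h]
  exact isCharacter_const_one

theorem QGEN_chi1 : IsCharacter D3 (chiC 1) := by
  have h := isCharacter_of_monoidHom
    ((Int.castRingHom ℂ).toMonoidHom.comp QGEN_sgnZ)
  have h2 : (fun g => ((Int.castRingHom ℂ).toMonoidHom.comp QGEN_sgnZ) g) = chiC 1 := by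
    funext t
    show ((QGEN_sgnZ t : ℤ) : ℂ) = _
    rw [QGEN_sgnZ_apply]
    rfl
  rw [h2] at h
  exact h

theorem QGEN_chi2 : IsCharacter D3 (chiC 2) := ⟨2, QGEN_rep, QGEN_rep_character⟩

theorem QGEN_chi (j : Fin 3) : IsCharacter D3 (chiC j) := by
  fin_cases j
  · exact QGEN_chi0
  · exact QGEN_chi1
  · exact QGEN_chi2

theorem QGEN_phi (t : D3) : ((phiZ t : ℤ) : ℂ) = chiC 0 t + chiC 1 t - chiC 2 t := by
  have h : phiZ t = chiZ 0 t + chiZ 1 t - chiZ 2 t := by
    revert t
    decide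
  rw [h]
  simp [chiC]

section CharPieces

variable {G : Type*} [Group G] [Fintype G]

/-- **QGEN.** -/
theorem aC_isGeneralizedCharacter (j : Fin 3) : IsGeneralizedCharacter Q (aC j) := by
  refine ⟨fun q => chiC 0 q.1 * chiC j q.2 + chiC 1 q.1 * chiC j q.2,
    fun q => chiC 2 q.1 * chiC j q.2,
    IsCharacter.add (isCharacter_prod QGEN_chi0 (QGEN_chi j))
      (isCharacter_prod QGEN_chi1 (QGEN_chi j)),
    isCharacter_prod QGEN_chi2 (QGEN_chi j), ?_⟩
  funext q
  show ((aZ j q : ℤ) : ℂ) = _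
  unfold aZ
  rw [Int.cast_mul, QGEN_phi]
  simp only [Pi.sub_apply, chiC]
  ring

end CharPieces

end Cfsg.Agent.S3805P
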