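import Mathlib
import Cfsg.Agent.Helper10.S3805Defs
import Cfsg.Agent.Helper24.Linear
import Cfsg.Agent.Helper8.CliffordAb

/-!
# S3805 piece LAMBDA

Multiplication by the linear character `sign ∘ π` on `Irr(G)`.
-/

set_option autoImplicit false

namespace Cfsg.Agent.S3805P

open Cfsg Cfsg.Agent.Helper24

/-- The sign homomorphism `D3 → ℤˣ`. -/
def LAMBDA_sgnZ : D3 →* ℤˣ where
  toFun x := match x with
    | DihedralGroup.r _ => 1
    | DihedralGroup.sr _ => -1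
  map_one' := rfl
  map_mul' := by decide

/-- The sign homomorphism `D3 → ℂˣ`. -/
noncomputable def LAMBDA_sgnC : D3 →* ℂˣ :=
  (Units.map (Int.castRingHom ℂ).toMonoidHom).comp LAMBDA_sgnZ

theorem LAMBDA_sgnZ_r (i : ZMod 3) : LAMBDA_sgnZ (DihedralGroup.r i) = 1 := rfl

theorem LAMBDA_sgnZ_sr (i : ZMod 3) : LAMBDA_sgnZ (DihedralGroup.sr i) = -1 := rfl

theorem LAMBDA_sgnC_apply (t : D3) : ((LAMBDA_sgnC t : ℂˣ) : ℂ) = chiC 1 t := by
  cases t with
  | r i => simp [LAMBDA_sgnC, LAMBDA_sgnZ_r, chiC, chiZ]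
  | sr i => simp [LAMBDA_sgnC, LAMBDA_sgnZ_sr, chiC, chiZ]

section Assemblies

variable {G : Type*} [Group G] [Fintype G] [Fintype (IrrCharacter G)]

/-- **LAMBDA.** Multiplication by the linear character `sign ∘ π` on `Irr(G)`. -/
theorem exists_Lambda (π : G →* D3) :
    ∃ Λ : IrrCharacter G → IrrCharacter G, ∀ (χ : IrrCharacter G) (g : G),
      ((Λ χ : IrrCharacter G) : G → ℂ) g = chiC 1 (π g) * (χ : G → ℂ) g := by
  refine ⟨fun χ => ⟨fun g => (((LAMBDA_sgnC.comp π) g : ℂˣ) : ℂ) * (χ : G → ℂ) g,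
    Helper8.isIrrCharacter_linear_mul (LAMBDA_sgnC.comp π) χ.2⟩, ?_⟩
  intro χ g
  show (((LAMBDA_sgnC.comp π) g : ℂˣ) : ℂ) * (χ : G → ℂ) g = _
  rw [MonoidHom.comp_apply, LAMBDA_sgnC_apply]

end Assemblies

end Cfsg.Agent.S3805P
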