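import Mathlib
import Cfsg.Agent.Helper10.S3805Defs
import Cfsg.Agent.Helper24.Linear
import Cfsg.Agent.Helper24.Orthogonality
import Cfsg.Agent.Helper24.Codegree

/-!
# S3805 piece KERCHAR

An element at which a non-trivial irreducible character takes its degree lies in a proper normal
subgroup (the kernel of the character).
-/

set_option autoImplicit false

namespace Cfsg.Agent.S3805P

open Cfsg Cfsg.Agent.Helper24

section CharPieces

variable {G : Type*} [Group G] [Fintype G]

/-- **KERCHAR.** -/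
theorem exists_normal_of_irr_eq_deg (χ : IrrCharacter G) (hχ : χ ≠ trivIrr G) (g : G)
    (hg : (χ : G → ℂ) g = (χ : G → ℂ) 1) : ∃ K : Subgroup G, K.Normal ∧ K ≠ ⊤ ∧ g ∈ K := by
  obtain ⟨N, hNn, hN, -⟩ := exists_kernel_quotient χ
  refine ⟨N, hNn, ?_, (hN g).mpr hg⟩
  intro htop
  have hall : ∀ x : G, (χ : G → ℂ) x = (χ : G → ℂ) 1 := by
    intro x
    rw [← hN, htop]
    exact Subgroup.mem_top x
  have hne := classInner_irr_ne hχ
  have hdeg : (χ : G → ℂ) 1 = (irrDeg χ : ℂ) := irrDeg_spec χ
  have hpos : 0 < irrDeg χ := irrDeg_pos χ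
  have h1 : classInner (χ : G → ℂ) (trivIrr G : G → ℂ) = (χ : G → ℂ) 1 := by
    unfold classInner
    simp only [hall, trivIrr_apply, map_one, mul_one]
    rw [Finset.sum_const, Finset.card_univ, nsmul_eq_mul, ← Nat.card_eq_fintype_card,
      ← mul_assoc, inv_mul_cancel₀ card_ne_zero_complex, one_mul]
  rw [h1, hdeg] at hne
  exact hpos.ne' (by exact_mod_cast hne)

end CharPieces

end Cfsg.Agent.S3805P
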