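import Mathlib
import Cfsg.Prelude.Def_GeometricClasses
import Cfsg.Agent.Helper27.S5634BDefs

set_option autoImplicit false
set_option linter.unusedSectionVars false
set_option linter.unusedVariables false

/-! # S5634 (half `m ≥ 2`, driver helper27) piece B_CMP: the projections `cmp D c` onto the blocks. -/

namespace Cfsg.Agent.S5634P

open Matrix Cfsg.Agent.Helper28.SLMax
open scoped MatrixGroups

variable {F : Type*} [Field F] {n t m : ℕ} {D : Fin t → Submodule F (Fin n → F)}

namespace CMP

theorem oth_eq (D : Fin t → Submodule F (Fin n → F)) (c : Fin t) :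
    Oth D c = ⨆ (b : Fin t) (_ : b ≠ c), D b := by
  unfold Oth
  rw [iSup_subtype']

theorem le_oth (D : Fin t → Submodule F (Fin n → F)) {b c : Fin t} (hbc : b ≠ c) :
    D b ≤ Oth D c := by
  unfold Oth
  exact le_iSup (fun b : {b : Fin t // b ≠ c} => D b.1) ⟨b, hbc⟩

end CMP

theorem CMP.isCompl (hD : Cfsg.Geo.IsMDecomposition m D) (c : Fin t) : IsCompl (D c) (Oth D c) := by
  constructor
  · rw [CMP.oth_eq]
    exact hD.indep c
  · rw [codisjoint_iff, eq_top_iff, ← hD.iSup_eq_top]
    apply iSup_le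
    intro b
    by_cases hbc : b = c
    · rw [hbc]
      exact le_sup_left
    · exact le_trans (CMP.le_oth D hbc) le_sup_right

namespace CMP

theorem cmp_eq (hD : Cfsg.Geo.IsMDecomposition m D) (c : Fin t) (x : Fin n → F) :
    cmp D c x = ((Submodule.projectionOnto (D c) (Oth D c) (CMP.isCompl hD c) x : D c) :
      Fin n → F) := by
  unfold cmp
  rw [dif_pos (CMP.isCompl hD c)]
  rfl

end CMP

theorem CMP.mem (hD : Cfsg.Geo.IsMDecomposition m D) (c : Fin t) (x : Fin n → F) : cmp D c x ∈ D c := by
  rw [CMP.cmp_eq hD]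
  exact Submodule.coe_mem _

theorem CMP.sub_mem (hD : Cfsg.Geo.IsMDecomposition m D) (c : Fin t) (x : Fin n → F) :
    x - cmp D c x ∈ Oth D c := by
  rw [← Submodule.projectionOnto_apply_eq_zero_iff (CMP.isCompl hD c), map_sub,
    CMP.cmp_eq hD, Submodule.projectionOnto_apply_left, sub_self]

theorem CMP.of_mem (hD : Cfsg.Geo.IsMDecomposition m D) {c : Fin t} {x : Fin n → F} (hx : x ∈ D c) :
    cmp D c x = x := by
  rw [CMP.cmp_eq hD]
  rw [Submodule.projectionOnto_apply_of_mem_left (CMP.isCompl hD c) hx]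

theorem CMP.of_mem_oth (hD : Cfsg.Geo.IsMDecomposition m D) {c : Fin t} {x : Fin n → F}
    (hx : x ∈ Oth D c) : cmp D c x = 0 := by
  rw [CMP.cmp_eq hD, (Submodule.projectionOnto_apply_eq_zero_iff (CMP.isCompl hD c)).2 hx]
  rfl

theorem CMP.of_mem_ne (hD : Cfsg.Geo.IsMDecomposition m D) {b c : Fin t} {x : Fin n → F} (hx : x ∈ D b)
    (hbc : b ≠ c) : cmp D c x = 0 :=
  CMP.of_mem_oth hD (CMP.le_oth D hbc hx)

theorem CMP.sum (hD : Cfsg.Geo.IsMDecomposition m D) (x : Fin n → F) : ∑ c, cmp D c x = x := by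
  have hx : x ∈ iSup D := by
    rw [hD.iSup_eq_top]
    exact Submodule.mem_top
  induction hx using Submodule.iSup_induction' with
  | mem b x hx =>
    rw [Finset.sum_eq_single b]
    · exact CMP.of_mem hD hx
    · intro c _ hcb
      exact CMP.of_mem_ne hD hx (Ne.symm hcb)
    · intro h
      exact absurd (Finset.mem_univ b) h
  | zero => simp
  | add x y _ _ hx hy =>
    simp only [map_add, Finset.sum_add_distrib]
    rw [hx, hy]

namespace CMP

/-- a vector lies in `D c` iff its other components vanish -/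
theorem mem_iff (hD : Cfsg.Geo.IsMDecomposition m D) {c : Fin t} {x : Fin n → F} :
    x ∈ D c ↔ ∀ b, b ≠ c → cmp D b x = 0 := by
  constructor
  · intro hx b hbc
    exact CMP.of_mem_ne hD hx (Ne.symm hbc)
  · intro h
    have h1 : ∑ b, cmp D b x = cmp D c x := by
      rw [Finset.sum_eq_single c]
      · intro b _ hbc
        exact h b hbc
      · intro h'
        exact absurd (Finset.mem_univ c) h'
    rw [← CMP.sum hD x, h1]
    exact CMP.mem hD c x

end CMP

/-- a vector in no block has two non-zero components -/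
theorem CMP.exists_two (hD : Cfsg.Geo.IsMDecomposition m D) {x : Fin n → F} (hx : ∀ c, x ∉ D c) :
    ∃ a b, a ≠ b ∧ cmp D a x ≠ 0 ∧ cmp D b x ≠ 0 := by
  by_contra hcon
  push Not at hcon
  by_cases h : ∃ b, cmp D b x ≠ 0
  · obtain ⟨b, hb⟩ := h
    apply hx b
    refine (CMP.mem_iff hD).2 ?_
    intro c hcb
    exact hcon b c (Ne.symm hcb) hb
  · push Not at h
    have h0 : x = 0 := by
      rw [← CMP.sum hD x]
      exact Finset.sum_eq_zero (fun c _ => h c)
    have ht : 0 < t := lt_of_lt_of_le (by norm_num) hD.two_le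
    apply hx ⟨0, ht⟩
    rw [h0]
    exact Submodule.zero_mem _

/-- `n = t m` (finrank of an internal direct sum) -/
theorem CMP.card (hD : Cfsg.Geo.IsMDecomposition m D) : t * m = n := by
  classical
  have hint : DirectSum.IsInternal D :=
    DirectSum.isInternal_submodule_of_iSupIndep_of_iSup_eq_top hD.indep hD.iSup_eq_top
  have b := hint.collectedBasis (fun i => Module.finBasis F (D i))
  have h1 := Module.finrank_eq_card_basis b
  rw [Module.finrank_fin_fun, Fintype.card_sigma] at h1
  simp only [Fintype.card_fin, hD.finrank_eq, Finset.sum_const, Finset.card_univ, smul_eq_mul] at h1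
  exact h1.symm

end Cfsg.Agent.S5634P
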