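import Cfsg.Agent.Helper29.S5677.Defs

set_option autoImplicit false
set_option linter.unusedSectionVars false
set_option linter.unusedVariables false

/-! S5677 piece GEOB (driver helper29): nonsingular vectors in nondegenerate subspaces. -/

namespace Cfsg.Agent.S5677P

open Matrix Cfsg.Agent.Helper28.Sg Cfsg.Agent.Helper28.Spin Cfsg.Agent.Helper12.OrthGen
  Cfsg.Agent.S2614 Cfsg.Agent.S5683P Cfsg.Agent.Helper28.NDM

variable {F : Type*} [Field F] {m t k : ℕ} {D : Fin t → Submodule F (Idx m → F)}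

/-- a nondegenerate `N ≠ 0` has a nonsingular vector -/
theorem GEOB.exists_nonsing (h2 : (2 : F) ≠ 0) (N : Submodule F (Idx m → F))
    (hN : NDon (QfOdd m F) N) {x : Idx m → F} (hx : x ∈ N) (hx0 : x ≠ 0) :
    ∃ w ∈ N, QfOdd m F w ≠ 0 := by
  by_contra hcon
  push Not at hcon
  obtain ⟨y, hyN, hxy⟩ := hN x hx hx0
  apply hxy
  have h1 := Q_add (QfOdd m F) x y
  rw [hcon x hx, hcon y hyN, hcon _ (N.add_mem hx hyN)] at h1
  linear_combination -h1

/-- a nonsingular vector of `N` perpendicular to a given singular one (`dim N ≥ 3`, `2 ≠ 0`) -/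
theorem GEOB.nonsing_perp [Fintype F] (h2 : (2 : F) ≠ 0) (N : Submodule F (Idx m → F))
    (hN : NDon (QfOdd m F) N) (h3 : 3 ≤ Module.finrank F N) {u : Idx m → F} (hu : u ∈ N)
    (hu0 : u ≠ 0) (hQu : QfOdd m F u = 0) :
    ∃ w ∈ N, B (QfOdd m F) u w = 0 ∧ QfOdd m F w ≠ 0 := by
  classical
  obtain ⟨f, hfN, hQf, huf⟩ :=
    Cfsg.Agent.Helper28.PDN.exists_partner_in (QfOdd m F) N hN.geo u hu hu0 hQu
  have hnd := NDon_perp_hyp (QfOdd m F) N hN u f hu hfN hQu hQf huf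
  have hfin := finrank_perpIn (QfOdd m F) (nondeg_odd h2 m) N ({u, f} : Finset (Idx m → F))
  have hc : ({u, f} : Finset (Idx m → F)).card ≤ 2 := Finset.card_le_two
  have hcoe : (({u, f} : Finset (Idx m → F)) : Set (Idx m → F)) = {u, f} := by simp
  rw [hcoe] at hfin
  have h3' := le_trans h3 hfin
  have hpos : 0 < Module.finrank F (perpIn (QfOdd m F) N {u, f}) := by omega
  obtain ⟨⟨x, hxP⟩, hx0⟩ := Module.finrank_pos_iff_exists_ne_zero.mp hpos
  have hx0' : x ≠ 0 := fun h0 => hx0 (Subtype.ext h0)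
  obtain ⟨w, hwP, hQw⟩ := GEOB.exists_nonsing h2 _ hnd hxP hx0'
  rw [mem_perpIn] at hwP
  exact ⟨w, hwP.1, hwP.2 u (by simp), hQw⟩

end Cfsg.Agent.S5677P
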