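import Cfsg.Agent.Helper29.S5677.Defs
import Cfsg.Agent.Helper29.S5677.Defs2
import Cfsg.Agent.Helper23.S5677SIEGMEM

set_option autoImplicit false
set_option linter.unusedSectionVars false
set_option linter.unusedVariables false

/-! S5677 piece LSUB (driver helper29): `Lsub M u = {w | ∀ s, s • w ∈ Rad M u}`. -/

namespace Cfsg.Agent.S5677P

open Matrix Cfsg.Agent.Helper28.Sg Cfsg.Agent.Helper28.Spin Cfsg.Agent.Helper12.OrthGen
  Cfsg.Agent.S2614 Cfsg.Agent.S5683P Cfsg.Agent.Helper28.NDM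

variable {F : Type*} [Field F] [Fintype F] {m t k : ℕ} {D : Fin t → Submodule F (Idx m → F)}
  {M : Subgroup (OG m F)}

theorem LSUB.mem_iff {u : Idx m → F} (hQu : QfOdd m F u = 0) {w : Idx m → F} :
    w ∈ Lsub M u hQu ↔ ∀ s : F, s • w ∈ Rad M u hQu := by
  constructor
  · rintro ⟨h1, h2⟩ s
    exact ⟨B_smul_right_zero (QfOdd m F) s h1, h2 s _⟩
  · intro hs
    refine ⟨?_, fun c hc => ?_⟩
    · have := (hs 1).1
      rwa [one_smul] at this
    · exact (hs c).2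

theorem LSUB.mem_rad {u : Idx m → F} (hQu : QfOdd m F u = 0) {w : Idx m → F}
    (hw : w ∈ Lsub M u hQu) : w ∈ Rad M u hQu := by
  have := (LSUB.mem_iff hQu).1 hw 1
  rwa [one_smul] at this

theorem LSUB.Tu_le (hD : HD k D) (hHM : HS D ≤ M) {c : Fin t} {u : Idx m → F} (hu : u ∈ D c)
    (hQu : QfOdd m F u = 0) : Tu D c u ≤ Lsub M u hQu := by
  intro w hw
  rw [LSUB.mem_iff]
  intro s
  exact SIEGMEM.Tu_le hD hHM hu hQu ((Tu D c u).smul_mem s hw)

/-- `x ∈ Lsub M u`, `x` singular `⟹ u ∈ Lsub M x` (`Rad_swap` for `s • x`, then `Rad_smul_left`) -/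
theorem LSUB.swap {u x : Idx m → F} (hQu : QfOdd m F u = 0) (hQx : QfOdd m F x = 0)
    (hx : x ∈ Lsub M u hQu) : u ∈ Lsub M x hQx := by
  rw [LSUB.mem_iff]
  intro s
  have h1 : s • x ∈ Rad M u hQu := (LSUB.mem_iff hQu).1 hx s
  have hsx : QfOdd m F (s • x) = 0 := by rw [Q_smul, hQx, mul_zero]
  have h2 : u ∈ Rad M (s • x) hsx := Rad_swap hsx h1
  exact Rad_smul_left hQx s hsx h2

end Cfsg.Agent.S5677P
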