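import Cfsg.Agent.Helper24.S5637.Defs

set_option autoImplicit false
set_option linter.unusedSectionVars false
set_option linter.unusedVariables false

/-! # S5637, piece TAUMAT: from the relation `ψ ↦ ψ'` on `w^⊥` to the matrix `B` -/

namespace Cfsg.Agent.S5637P

open Matrix Kronecker Cfsg.Agent.Helper28.SLMax Cfsg.Agent.S5634P
open scoped MatrixGroups

variable {F : Type*} [Field F] {n a b : ℕ} (e : Fin n ≃ Fin a × Fin b)

namespace TAUMAT

/-- a functional taking the value one at a non-zero vector -/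
theorem exists_dot_eq_one {m : ℕ} {w : Fin m → F} (hw : w ≠ 0) : ∃ ψ₀ : Fin m → F, ψ₀ ⬝ᵥ w = 1 := by
  obtain ⟨j, hj⟩ := Function.ne_iff.mp hw
  refine ⟨(w j)⁻¹ • Pi.single j 1, ?_⟩
  rw [smul_dotProduct, single_dotProduct, one_mul, smul_eq_mul]
  exact inv_mul_cancel₀ hj

/-- `c_χ = 0` forces `χ = 0` (when `a ≥ 1`) -/
theorem eq_zero_of_cps_eq_zero (ha : 1 ≤ a) (χ : Fin b → F) (h : ∀ x : Fin n → F, cps e χ x = 0) :
    χ = 0 := by
  funext j
  have h1 := h (tn e (Pi.single (⟨0, by omega⟩ : Fin a) 1) (Pi.single j 1))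
  rw [cps_tn, dotProduct_single, mul_one] at h1
  have h2 := congrFun h1 (⟨0, by omega⟩ : Fin a)
  simpa using h2

/-- the linear relation -/
def Gam (m : GL (Fin n) F) (α : GL (Fin a) F) (ψ ψ' : Fin b → F) : Prop :=
  ∀ x : Fin n → F, (α : Matrix (Fin a) (Fin a) F) *ᵥ cps e ψ x =
    cps e ψ' ((m : Matrix (Fin n) (Fin n) F) *ᵥ x)

theorem Gam_zero (m : GL (Fin n) F) (α : GL (Fin a) F) : Gam e m α 0 0 := by
  intro x
  rw [cps_zero, cps_zero, Matrix.mulVec_zero]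

theorem Gam_add (m : GL (Fin n) F) (α : GL (Fin a) F) {ψ₁ ψ₁' ψ₂ ψ₂' : Fin b → F}
    (h1 : Gam e m α ψ₁ ψ₁') (h2 : Gam e m α ψ₂ ψ₂') : Gam e m α (ψ₁ + ψ₂) (ψ₁' + ψ₂') := by
  intro x
  rw [cps_add, cps_add, Matrix.mulVec_add, h1 x, h2 x]

theorem Gam_smul (m : GL (Fin n) F) (α : GL (Fin a) F) (c : F) {ψ ψ' : Fin b → F}
    (h : Gam e m α ψ ψ') : Gam e m α (c • ψ) (c • ψ') := by
  intro x
  rw [cps_smul, cps_smul, Matrix.mulVec_smul, h x]

theorem Gam_sum (m : GL (Fin n) F) (α : GL (Fin a) F) {ι : Type*} (s : Finset ι) (c : ι → F)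
    (ψ ψ' : ι → Fin b → F) (h : ∀ i ∈ s, Gam e m α (ψ i) (ψ' i)) :
    Gam e m α (∑ i ∈ s, c i • ψ i) (∑ i ∈ s, c i • ψ' i) := by
  classical
  induction s using Finset.induction_on with
  | empty => simpa using Gam_zero e m α
  | insert i s hi ih =>
    rw [Finset.sum_insert hi, Finset.sum_insert hi]
    exact Gam_add e m α (Gam_smul e m α (c i) (h i (Finset.mem_insert_self i s)))
      (ih (fun k hk => h k (Finset.mem_insert_of_mem hk)))

/-- injectivity of the relation in its first argument -/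
theorem Gam_inj (ha : 1 ≤ a) (m : GL (Fin n) F) (α : GL (Fin a) F) {ψ : Fin b → F}
    (h : Gam e m α ψ 0) : ψ = 0 := by
  apply eq_zero_of_cps_eq_zero e ha
  intro x
  have h1 := h x
  rw [cps_zero] at h1
  have h2 := congrArg (fun z => ((α⁻¹ : GL (Fin a) F) : Matrix (Fin a) (Fin a) F) *ᵥ z) h1
  simpa only [Matrix.mulVec_mulVec, ← Units.val_mul, inv_mul_cancel, Units.val_one,
    Matrix.one_mulVec, Matrix.mulVec_zero] using h2

end TAUMAT

open TAUMAT in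
/-- TAUMAT -/
theorem TAUMAT (ha : 1 ≤ a) {w : Fin b → F} (hw : w ≠ 0) (m : GL (Fin n) F) (α : GL (Fin a) F)
    (hR : ∀ ψ : Fin b → F, ψ ⬝ᵥ w = 0 → ∃ ψ' : Fin b → F, ψ' ⬝ᵥ w = 0 ∧
      ∀ x : Fin n → F, (α : Matrix (Fin a) (Fin a) F) *ᵥ cps e ψ x =
        cps e ψ' ((m : Matrix (Fin n) (Fin n) F) *ᵥ x)) :
    ∃ B : GL (Fin b) F, (B : Matrix (Fin b) (Fin b) F) *ᵥ w = w ∧
      ∀ φ : Fin b → F, φ ⬝ᵥ w = 0 → ∀ x : Fin n → F,
        cps e φ ((m : Matrix (Fin n) (Fin n) F) *ᵥ x) =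
          (α : Matrix (Fin a) (Fin a) F) *ᵥ cps e (φ ᵥ* (B : Matrix (Fin b) (Fin b) F)) x := by
  classical
  obtain ⟨ψ₀, hψ₀⟩ := exists_dot_eq_one hw
  -- the projections of the basis vectors to `w^⊥`
  have hπ : ∀ j : Fin b, ((Pi.single j 1 : Fin b → F) - w j • ψ₀) ⬝ᵥ w = 0 := by
    intro j
    rw [sub_dotProduct, single_dotProduct, one_mul, smul_dotProduct, hψ₀, smul_eq_mul, mul_one,
      sub_self]
  choose ψ' hψ'w hψ'G using fun j : Fin b => hR _ (hπ j)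
  have hG : ∀ j : Fin b, Gam e m α ((Pi.single j 1 : Fin b → F) - w j • ψ₀) (ψ' j) := hψ'G
  -- the matrix `T`
  let T : Matrix (Fin b) (Fin b) F := Matrix.of (fun j => ψ' j + w j • ψ₀)
  have hT : ∀ φ : Fin b → F, φ ᵥ* T = (∑ j, φ j • ψ' j) + (φ ⬝ᵥ w) • ψ₀ := by
    intro φ
    rw [Matrix.vecMul_eq_sum]
    have : ∀ j : Fin b, φ j • T j = φ j • ψ' j + (φ j * w j) • ψ₀ := by
      intro j
      show φ j • (ψ' j + w j • ψ₀) = _
      rw [smul_add, smul_smul]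
    simp only [this, Finset.sum_add_distrib]
    rw [← Finset.sum_smul]
    rfl
  -- (a)
  have hTa : ∀ φ : Fin b → F, (φ ᵥ* T) ⬝ᵥ w = φ ⬝ᵥ w := by
    intro φ
    rw [hT, add_dotProduct, smul_dotProduct, hψ₀, smul_eq_mul, mul_one, sum_dotProduct]
    have : ∀ j ∈ Finset.univ, (φ j • ψ' j) ⬝ᵥ w = 0 := by
      intro j _
      rw [smul_dotProduct, hψ'w, smul_zero]
    rw [Finset.sum_eq_zero this, zero_add]
  -- (b)
  have hTb : ∀ φ : Fin b → F, φ ⬝ᵥ w = 0 → Gam e m α φ (φ ᵥ* T) := by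
    intro φ hφ
    have h1 : φ = ∑ j, φ j • ((Pi.single j 1 : Fin b → F) - w j • ψ₀) := by
      have h2 : ∀ j : Fin b, φ j • ((Pi.single j 1 : Fin b → F) - w j • ψ₀) =
          φ j • (Pi.single j 1 : Fin b → F) - (φ j * w j) • ψ₀ := by
        intro j
        rw [smul_sub, smul_smul]
      simp only [h2, Finset.sum_sub_distrib]
      rw [← Finset.sum_smul]
      have h3 : ∑ j, φ j * w j = φ ⬝ᵥ w := rfl
      rw [h3, hφ, zero_smul, sub_zero]
      funext i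
      simp [Finset.sum_apply, Pi.single_apply]
    have h4 : φ ᵥ* T = ∑ j, φ j • ψ' j := by rw [hT, hφ, zero_smul, add_zero]
    rw [h4]
    conv_lhs => rw [h1]
    exact Gam_sum e m α Finset.univ φ _ ψ' (fun j _ => hG j)
  -- `T` is invertible
  have hinj : Function.Injective T.vecMul := by
    intro φ₁ φ₂ h12
    have h0 : (φ₁ - φ₂) ᵥ* T = 0 := by
      rw [Matrix.sub_vecMul]
      exact sub_eq_zero.mpr h12
    have h1 : (φ₁ - φ₂) ⬝ᵥ w = 0 := by
      rw [← hTa, h0, zero_dotProduct]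
    have h2 := hTb _ h1
    rw [h0] at h2
    exact sub_eq_zero.mp (Gam_inj e ha m α h2)
  have hunit : IsUnit T := Matrix.vecMul_injective_iff_isUnit.mp hinj
  let Tu : GL (Fin b) F := hunit.unit
  have hTu : (Tu : Matrix (Fin b) (Fin b) F) = T := hunit.unit_spec
  have hBT : ∀ φ : Fin b → F,
      (φ ᵥ* ((Tu⁻¹ : GL (Fin b) F) : Matrix (Fin b) (Fin b) F)) ᵥ* T = φ := by
    intro φ
    rw [Matrix.vecMul_vecMul, ← hTu, ← Units.val_mul, inv_mul_cancel, Units.val_one,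
      Matrix.vecMul_one]
  refine ⟨Tu⁻¹, ?_, ?_⟩
  · funext i
    have h1 : (Pi.single i 1 : Fin b → F) ⬝ᵥ
        (((Tu⁻¹ : GL (Fin b) F) : Matrix (Fin b) (Fin b) F) *ᵥ w) =
        (Pi.single i 1 : Fin b → F) ⬝ᵥ w := by
      rw [Matrix.dotProduct_mulVec, ← hTa, hBT]
    rwa [single_dotProduct, single_dotProduct, one_mul, one_mul] at h1
  · intro φ hφ x
    have h1 : (φ ᵥ* ((Tu⁻¹ : GL (Fin b) F) : Matrix (Fin b) (Fin b) F)) ⬝ᵥ w = 0 := by
      rw [← hTa, hBT, hφ]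
    have h2 := hTb _ h1
    rw [hBT] at h2
    exact (h2 x).symm

end Cfsg.Agent.S5637P
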