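import Mathlib
import Cfsg.Prelude.Def_Characters
import Cfsg.Agent.Helper24.ProjLift
import Cfsg.Agent.Helper24.LinUnits
import Cfsg.Agent.Helper8.CliffordAb

/-!
An invariant irreducible character of a normal subgroup which extends to the preimages of the
Sylow subgroups of the quotient extends to the whole group (Isaacs 11.31).
-/

namespace Cfsg.Agent.Helper24

universe u

open Representation

section Twist

variable {Δ : Type u} [Group Δ] [Fintype Δ] (K : Subgroup Δ) [hK : K.Normal] [Fintype K]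

/-- Two irreducible characters with the same irreducible restriction to a normal subgroup differ
by a linear character trivial on the normal subgroup. -/
theorem exists_linear_twist (π η : Δ → ℂ) (hπ : IsIrrCharacter Δ π) (hη : IsIrrCharacter Δ η)
    (hπK : IsIrrCharacter K (fun k : K => π k)) (heq : ∀ k : K, η k = π k) :
    ∃ ν : Δ →* ℂˣ, (∀ k : K, ν k = 1) ∧ ∀ δ : Δ, η δ = ((ν δ : ℂˣ) : ℂ) * π δ := by
  classical
  haveI : Fintype (IrrCharacter K) := Fintype.ofFinite _
  have hne : classInner (fun k : K => η k) (fun k : K => π k) ≠ 0 := by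
    have : (fun k : K => η k) = (fun k : K => π k) := funext heq
    rw [this, (isIrrCharacter_iff_classInner_self.mp hπK).2]
    exact one_ne_zero
  obtain ⟨β, hβ⟩ := exists_gallagherTwist_eq K ⟨π, hπ⟩ hπK ⟨η, hη⟩ hne
  have hβ' : ∀ δ : Δ, η δ = (β : Δ ⧸ K → ℂ) (δ : Δ ⧸ K) * π δ := fun δ => congrFun hβ δ
  have hπ1 : π 1 ≠ 0 := irr_one_ne_zero ⟨π, hπ⟩
  have hβ1 : (β : Δ ⧸ K → ℂ) 1 = 1 := by
    have h1 := hβ' 1
    have h2 := heq 1
    rw [Subgroup.coe_one] at h2
    rw [h2, QuotientGroup.mk_one] at h1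
    have h3 : ((β : Δ ⧸ K → ℂ) 1 - 1) * π 1 = 0 := by rw [sub_mul, ← h1]; ring
    rcases mul_eq_zero.mp h3 with h4 | h4
    · exact sub_eq_zero.mp h4
    · exact absurd h4 hπ1
  have hlamc : IsCharacter Δ ((irrInflate K β : IrrCharacter Δ) : Δ → ℂ) :=
    IsIrrCharacter.isCharacter (irrInflate K β).2
  have hlam1 : ((irrInflate K β : IrrCharacter Δ) : Δ → ℂ) 1 = 1 := hβ1
  refine ⟨linUnits hlamc hlam1, ?_, ?_⟩
  · intro k
    apply Units.ext
    rw [linUnits_apply, Units.val_one]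
    show (β : Δ ⧸ K → ℂ) ((k : Δ) : Δ ⧸ K) = 1
    rw [(QuotientGroup.eq_one_iff (k : Δ)).mpr k.2]
    exact hβ1
  · intro δ
    rw [linUnits_apply]
    exact hβ' δ

end Twist

section Good

variable {G : Type u} [Group G] [Finite G] (N : Subgroup G) [hN : N.Normal] {d : ℕ}
  (Y : Representation ℂ N (Fin d → ℂ)) (k : ℕ) (hk : ∀ n : N, n ^ k = 1)

/-- The extension group. -/
noncomputable abbrev LG : Subgroup (G × GLd d) := liftGroup N (MonoidHom.toHomUnits Y) k

/-- Its projection. -/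
noncomputable abbrev lp : LG N Y k →* G := liftProj N (MonoidHom.toHomUnits Y) k

omit [Finite G] in
theorem liftIncl_mem_comap (n : N) : liftIncl N Y k hk n ∈ N.comap (lp N Y k) := by
  rw [Subgroup.mem_comap]
  exact n.2

omit [Finite G] in
theorem ker_le_comap : (lp N Y k).ker ≤ N.comap (lp N Y k) := by
  intro z hz
  rw [Subgroup.mem_comap, MonoidHom.mem_ker.mp hz]
  exact N.one_mem

/-- A homomorphism on a subgroup containing the preimage of `N` is good if it is trivial on the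
image of `N` and inverts the scalars of the kernel. -/
def IsGoodHom (H : Subgroup (LG N Y k)) (hH : N.comap (lp N Y k) ≤ H) (ν : H →* ℂˣ) : Prop :=
  (∀ n : N, ν ⟨liftIncl N Y k hk n, hH (liftIncl_mem_comap N Y k hk n)⟩ = 1) ∧
  ∀ (z : LG N Y k) (hz : z ∈ (lp N Y k).ker) (c : ℂˣ),
    (z : G × GLd d) = (1, scalarHom d c) → ν ⟨z, hH (ker_le_comap N Y k hz)⟩ * c = 1

omit [Finite G] in
/-- The values of a good homomorphism on the preimage of `N`. -/
theorem IsGoodHom.apply {H : Subgroup (LG N Y k)} {hH : N.comap (lp N Y k) ≤ H} {ν : H →* ℂˣ}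
    (h : IsGoodHom N Y k hk H hH ν) (z : LG N Y k) (hz : z ∈ (lp N Y k).ker) (c : ℂˣ)
    (hzc : (z : G × GLd d) = (1, scalarHom d c)) (n : N) (hmem : z * liftIncl N Y k hk n ∈ H) :
    ν ⟨z * liftIncl N Y k hk n, hmem⟩ = c⁻¹ := by
  have h1 : (⟨z * liftIncl N Y k hk n, hmem⟩ : H) =
      ⟨z, hH (ker_le_comap N Y k hz)⟩ *
        ⟨liftIncl N Y k hk n, hH (liftIncl_mem_comap N Y k hk n)⟩ := rfl
  rw [h1, map_mul, h.1 n, mul_one]
  exact eq_inv_of_mul_eq_one_left (h.2 z hz c hzc)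

/-- An extension of the character to `P ≥ N` gives a good homomorphism on the preimage of `P`. -/
theorem exists_isGoodHom [hY : Y.IsIrreducible] (hkpos : 0 < k)
    (hinv : ∀ (g : G) (n : N),
      Y.character ⟨g * n * g⁻¹, hN.conj_mem (n : G) n.2 g⟩ = Y.character n)
    (P : Subgroup G) (hNP : N ≤ P) (η : P → ℂ)
    (hη : IsIrrCharacter P η) (hηN : ∀ n : N, η ⟨(n : G), hNP n.2⟩ = Y.character n) :
    ∃ ν : (P.comap (lp N Y k)) →* ℂˣ,
      IsGoodHom N Y k hk (P.comap (lp N Y k)) (Subgroup.comap_mono hNP) ν := by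
  classical
  haveI : Fintype G := Fintype.ofFinite G
  haveI : Fintype N := Fintype.ofFinite N
  haveI : Finite (LG N Y k) := finite_liftGroup N Y k hkpos
  haveI : Fintype (P.comap (lp N Y k)) := Fintype.ofFinite _
  have hp : Function.Surjective (lp N Y k) := liftProj_surjective N Y k hinv
  haveI hNn : (liftIncl N Y k hk).range.Normal := liftIncl_range_normal N Y k hk
  haveI : ((liftIncl N Y k hk).range.subgroupOf (P.comap (lp N Y k))).Normal :=
    Subgroup.normal_subgroupOf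
  haveI : Fintype ((liftIncl N Y k hk).range.subgroupOf (P.comap (lp N Y k))) :=
    Fintype.ofFinite _
  have hmemP : ∀ n : N, liftIncl N Y k hk n ∈ P.comap (lp N Y k) := fun n =>
    Subgroup.comap_mono hNP (liftIncl_mem_comap N Y k hk n)
  -- the embedding of `N`
  let j : N →* P.comap (lp N Y k) := (liftIncl N Y k hk).codRestrict _ hmemP
  have hjK : ∀ n : N, j n ∈ (liftIncl N Y k hk).range.subgroupOf (P.comap (lp N Y k)) := by
    intro n
    rw [Subgroup.mem_subgroupOf]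
    exact ⟨n, rfl⟩
  let j' : N →* (liftIncl N Y k hk).range.subgroupOf (P.comap (lp N Y k)) := j.codRestrict _ hjK
  -- the two characters
  have hπc : IsCharacter (P.comap (lp N Y k))
      (fun δ : P.comap (lp N Y k) => (liftRep N Y k).character (δ : LG N Y k)) :=
    ⟨d, (liftRep N Y k).comp (P.comap (lp N Y k)).subtype, rfl⟩
  have hYirr : IsIrrCharacter N Y.character := ⟨d, Y, hY, rfl⟩
  have hπ : IsIrrCharacter (P.comap (lp N Y k))
      (fun δ : P.comap (lp N Y k) => (liftRep N Y k).character (δ : LG N Y k)) :=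
    isIrrCharacter_of_comp_irr j hπc hYirr
  have hηP : IsIrrCharacter (P.comap (lp N Y k))
      (fun δ : P.comap (lp N Y k) => η ((lp N Y k).subgroupComap P δ)) :=
    Helper8.isIrrCharacter_comp_surjective _
      (MonoidHom.subgroupComap_surjective_of_surjective _ _ hp) hη
  have hπK : IsIrrCharacter ((liftIncl N Y k hk).range.subgroupOf (P.comap (lp N Y k)))
      (fun κ : (liftIncl N Y k hk).range.subgroupOf (P.comap (lp N Y k)) =>
        (liftRep N Y k).character ((κ : P.comap (lp N Y k)) : LG N Y k)) :=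
    isIrrCharacter_of_comp_irr j'
      (Helper8.isCharacter_restrict _ hπc) hYirr
  have heq : ∀ κ : (liftIncl N Y k hk).range.subgroupOf (P.comap (lp N Y k)),
      η ((lp N Y k).subgroupComap P (κ : P.comap (lp N Y k))) =
      (liftRep N Y k).character ((κ : P.comap (lp N Y k)) : LG N Y k) := by
    intro κ
    obtain ⟨n, hn⟩ := Subgroup.mem_subgroupOf.mp κ.2
    have h1 : (κ : P.comap (lp N Y k)) = j n := Subtype.ext hn.symm
    rw [h1]
    exact hηN n
  obtain ⟨ν, hν1, hν2⟩ := exists_linear_twist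
    ((liftIncl N Y k hk).range.subgroupOf (P.comap (lp N Y k))) _ _ hπ hηP hπK heq
  refine ⟨ν, ?_, ?_⟩
  · intro n
    exact hν1 (j' n)
  · intro z hz c hzc
    have h1 := hν2 ⟨z, Subgroup.comap_mono hNP (ker_le_comap N Y k hz)⟩
    have h2 : η ((lp N Y k).subgroupComap P
        ⟨z, Subgroup.comap_mono hNP (ker_le_comap N Y k hz)⟩) = (d : ℂ) := by
      have h3 : (lp N Y k).subgroupComap P
          ⟨z, Subgroup.comap_mono hNP (ker_le_comap N Y k hz)⟩ = ⟨((1 : N) : G), hNP (1 : N).2⟩ :=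
        Subtype.ext (MonoidHom.mem_ker.mp hz)
      rw [h3, hηN 1, Representation.char_one, Module.finrank_fin_fun]
    have h4 : (liftRep N Y k).character z = (c : ℂ) * (d : ℂ) := by
      show LinearMap.trace ℂ _ (((z : G × GLd d).2 : GLd d) : Module.End ℂ (Fin d → ℂ)) = _
      rw [hzc]
      show LinearMap.trace ℂ _ ((scalarHom d c : GLd d) : Module.End ℂ (Fin d → ℂ)) = _
      rw [scalarHom_val, map_smul, LinearMap.trace_id, Module.finrank_fin_fun, smul_eq_mul]
    rw [h2] at h1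
    have h5 : (liftRep N Y k).character
        ((⟨z, Subgroup.comap_mono hNP (ker_le_comap N Y k hz)⟩ : P.comap (lp N Y k)) :
          LG N Y k) = (c : ℂ) * (d : ℂ) := h4
    rw [h5] at h1
    have hd0 : (d : ℂ) ≠ 0 := by
      have := finrank_pos_of_isIrreducible Y
      rw [Module.finrank_fin_fun] at this
      exact_mod_cast this.ne'
    apply Units.ext
    rw [Units.val_mul, Units.val_one]
    have h6 : ((ν ⟨z, Subgroup.comap_mono hNP (ker_le_comap N Y k hz)⟩ : ℂˣ) : ℂ) * (c : ℂ) *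
        (d : ℂ) = 1 * (d : ℂ) := by rw [one_mul, mul_assoc, ← h1]
    exact mul_right_cancel₀ hd0 h6

end Good

section Main

variable {G : Type u} [Group G] [Finite G] (N : Subgroup G) [hN : N.Normal]

/-- Isaacs 11.31 (statement S0888). -/
theorem extends_of_sylow_extensions (ϑ : N → ℂ) (hϑ : IsIrrCharacter N ϑ)
    (hinv : ∀ (g : G) (n : N), ϑ ⟨g * n * g⁻¹, hN.conj_mem (n : G) n.2 g⟩ = ϑ n)
    (hsyl : ∀ p : ℕ, p.Prime → ∃ (P : Subgroup G) (hNP : N ≤ P) (η : P → ℂ),
      Nat.Coprime P.index p ∧ IsIrrCharacter P η ∧ ∀ n : N, η ⟨(n : G), hNP n.2⟩ = ϑ n) :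
    ∃ χ : G → ℂ, IsIrrCharacter G χ ∧ ∀ n : N, χ n = ϑ n := by
  classical
  haveI : Fintype G := Fintype.ofFinite G
  haveI : Fintype N := Fintype.ofFinite N
  obtain ⟨d, Y, hY, hYϑ⟩ := hϑ
  haveI := hY
  subst hYϑ
  obtain ⟨k, hkdef⟩ : ∃ k : ℕ, k = Nat.card N := ⟨_, rfl⟩
  have hk : ∀ n : N, n ^ k = 1 := fun n => by rw [hkdef]; exact pow_card_eq_one'
  have hkpos : 0 < k := by rw [hkdef]; exact Nat.card_pos
  haveI : Finite (LG N Y k) := finite_liftGroup N Y k hkpos
  have hp : Function.Surjective (lp N Y k) := liftProj_surjective N Y k hinv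
  haveI hMn : (N.comap (lp N Y k)).Normal := Subgroup.Normal.comap hN _
  haveI hNn : (liftIncl N Y k hk).range.Normal := liftIncl_range_normal N Y k hk
  -- good homomorphisms for each prime
  have hgood : ∀ p : ℕ, p.Prime → ∃ (H : Subgroup (LG N Y k))
      (hH : N.comap (lp N Y k) ≤ H) (ν : H →* ℂˣ),
      Nat.Coprime H.index p ∧ IsGoodHom N Y k hk H hH ν := by
    intro p hp'
    obtain ⟨P, hNP, η, hcop, hη, hηN⟩ := hsyl p hp'
    obtain ⟨ν, hν⟩ := exists_isGoodHom N Y k hk hkpos hinv P hNP η hη hηN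
    refine ⟨P.comap (lp N Y k), Subgroup.comap_mono hNP, ν, ?_, hν⟩
    rw [Subgroup.index_comap_of_surjective _ hp]
    exact hcop
  obtain ⟨H₂, hH₂, ν₂, -, hν₂⟩ := hgood 2 Nat.prime_two
  -- decomposition of the elements of the preimage of `N`
  have hdecomp : ∀ m : LG N Y k, m ∈ N.comap (lp N Y k) →
      ∃ (z : LG N Y k) (_ : z ∈ (lp N Y k).ker) (c : ℂˣ) (n : N),
        (z : G × GLd d) = (1, scalarHom d c) ∧ m = z * liftIncl N Y k hk n := by
    intro m hm
    obtain ⟨z, hz, n, hmz⟩ := exists_ker_mul_liftIncl N Y k hk m hm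
    obtain ⟨c, hc, -⟩ := exists_scalar_of_mem_ker N Y k z hz
    exact ⟨z, hz, c, n, hc, hmz⟩
  have hval : ∀ (H : Subgroup (LG N Y k)) (hH : N.comap (lp N Y k) ≤ H) (ν : H →* ℂˣ),
      IsGoodHom N Y k hk H hH ν → ∀ m : N.comap (lp N Y k),
        ν ⟨m, hH m.2⟩ = ν₂ ⟨m, hH₂ m.2⟩ := by
    intro H hH ν hν m
    obtain ⟨z, hz, c, n, hzc, hm⟩ := hdecomp m m.2
    have hmem : z * liftIncl N Y k hk n ∈ N.comap (lp N Y k) := hm ▸ m.2
    have e1 : (⟨(m : LG N Y k), hH m.2⟩ : H) = ⟨z * liftIncl N Y k hk n, hH hmem⟩ :=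
      Subtype.ext hm
    have e2 : (⟨(m : LG N Y k), hH₂ m.2⟩ : H₂) = ⟨z * liftIncl N Y k hk n, hH₂ hmem⟩ :=
      Subtype.ext hm
    rw [e1, e2, hν.apply N Y k hk z hz c hzc n, hν₂.apply N Y k hk z hz c hzc n]
  -- the linear character of the preimage of `N`
  obtain ⟨β, hβ⟩ : ∃ β : LG N Y k →* ℂˣ, ∀ m : N.comap (lp N Y k),
      β m = (ν₂.comp (Subgroup.inclusion hH₂)) m := by
    apply exists_extension_hom_of_sylow (N.comap (lp N Y k)) (ν₂.comp (Subgroup.inclusion hH₂))
    · intro γ m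
      obtain ⟨z, hz, c, n, hzc, hm⟩ := hdecomp m m.2
      obtain ⟨n', hn'⟩ := hNn.conj_mem _ ⟨n, rfl⟩ γ
      have hzcen := Subgroup.mem_center_iff.mp (ker_liftProj_le_center N Y k hz)
      have h1 : γ * (m : LG N Y k) * γ⁻¹ = z * liftIncl N Y k hk n' := by
        rw [hm, hn', ← mul_assoc, hzcen γ]
        group
      have hmem : z * liftIncl N Y k hk n ∈ N.comap (lp N Y k) := hm ▸ m.2
      have hmem' : z * liftIncl N Y k hk n' ∈ N.comap (lp N Y k) :=
        h1 ▸ hMn.conj_mem _ m.2 γ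
      show ν₂ ⟨γ * (m : LG N Y k) * γ⁻¹, _⟩ = ν₂ ⟨(m : LG N Y k), _⟩
      have e1 : (⟨γ * (m : LG N Y k) * γ⁻¹, hH₂ (hMn.conj_mem _ m.2 γ)⟩ : H₂) =
          ⟨z * liftIncl N Y k hk n', hH₂ hmem'⟩ := Subtype.ext h1
      have e2 : (⟨(m : LG N Y k), hH₂ m.2⟩ : H₂) = ⟨z * liftIncl N Y k hk n, hH₂ hmem⟩ :=
        Subtype.ext hm
      rw [e1, e2, hν₂.apply N Y k hk z hz c hzc n, hν₂.apply N Y k hk z hz c hzc n']
    · intro p hp' _
      obtain ⟨H, hH, ν, hcop, hν⟩ := hgood p hp'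
      exact ⟨H, hH, ν, hcop, fun m => hval H hH ν hν m⟩
  have hβN : ∀ n : N, β (liftIncl N Y k hk n) = 1 := by
    intro n
    have h1 := hβ ⟨liftIncl N Y k hk n, liftIncl_mem_comap N Y k hk n⟩
    rw [h1]
    exact hν₂.1 n
  have hβZ : ∀ (z : LG N Y k) (_ : z ∈ (lp N Y k).ker) (c : ℂˣ),
      (z : G × GLd d) = (1, scalarHom d c) → β z * c = 1 := by
    intro z hz c hzc
    have h1 := hβ ⟨z, ker_le_comap N Y k hz⟩
    rw [h1]
    exact hν₂.2 z hz c hzc
  -- the twisted representation of the extension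
  let X : LG N Y k →* GLd d :=
    { toFun := fun γ => scalarHom d (β γ) * (γ : G × GLd d).2
      map_one' := by simp
      map_mul' := by
        intro γ δ
        rw [map_mul, map_mul, Subgroup.coe_mul, Prod.snd_mul]
        rw [mul_assoc, ← mul_assoc (scalarHom d (β δ)), scalarHom_comm d (β δ), mul_assoc,
          ← mul_assoc] }
  have hXapp : ∀ γ : LG N Y k, X γ = scalarHom d (β γ) * (γ : G × GLd d).2 := fun γ => rfl
  have hker : (lp N Y k).ker ≤ X.ker := by
    intro z hz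
    obtain ⟨c, hc, -⟩ := exists_scalar_of_mem_ker N Y k z hz
    rw [MonoidHom.mem_ker, hXapp, hc]
    show scalarHom d (β z) * scalarHom d c = 1
    rw [← map_mul, hβZ z hz c hc, map_one]
  let ρ : Representation ℂ G (Fin d → ℂ) :=
    (Units.coeHom (Module.End ℂ (Fin d → ℂ))).comp ((lp N Y k).liftOfSurjective hp ⟨X, hker⟩)
  have hρN : ∀ n : N, ρ (n : G) = Y n := by
    intro n
    have h1 : (n : G) = lp N Y k (liftIncl N Y k hk n) := rfl
    show ((((lp N Y k).liftOfSurjective hp ⟨X, hker⟩) (n : G) : GLd d) :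
      Module.End ℂ (Fin d → ℂ)) = Y n
    rw [h1, MonoidHom.liftOfRightInverse_comp_apply]
    show ((X (liftIncl N Y k hk n) : GLd d) : Module.End ℂ (Fin d → ℂ)) = Y n
    rw [hXapp, hβN n, map_one, one_mul]
    rfl
  refine ⟨ρ.character, ?_, ?_⟩
  · refine isIrrCharacter_of_comp_irr N.subtype ⟨d, ρ, rfl⟩ ?_
    have : (fun n : N => ρ.character (N.subtype n)) = Y.character := by
      funext n
      show LinearMap.trace ℂ _ (ρ (n : G)) = LinearMap.trace ℂ _ (Y n)
      rw [hρN n]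
    rw [this]
    exact ⟨d, Y, hY, rfl⟩
  · intro n
    show LinearMap.trace ℂ _ (ρ (n : G)) = LinearMap.trace ℂ _ (Y n)
    rw [hρN n]

end Main

end Cfsg.Agent.Helper24
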