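import Mathlib
import Cfsg.Prelude.Def_Characters
import Cfsg.Agent.Helper24.BrauerL
import Cfsg.Agent.Helper24.BrauerDescent
import Cfsg.Agent.Helper24.OrbitSum
import Cfsg.Agent.Helper23.OrbitSumIndex
import Cfsg.Agent.Helper24.RealOrbits
import Cfsg.Agent.Helper24.CliffordSurj
import Cfsg.Agent.Helper24.Product
import Cfsg.Agent.Helper8.CharComp
import Cfsg.Agent.Helper24.PResidualCount

/-!
Dade's theorem (Isaacs 8.24).
-/

set_option autoImplicit false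

namespace Cfsg.Agent.Helper24.Dade

open Cfsg Cfsg.Agent.Helper24

universe u

variable {G : Type u} [Group G] [Fintype G]

/-- the sum over `N` of an extension by zero from `E` is a sum over `E ⊓ N`. -/
theorem sum_ebz_eq (N E : Subgroup G) [Fintype N] [Fintype ↥(E ⊓ N)] (ψ : E → ℂ) (w : N → ℂ) :
    ∑ n : N, extendByZero E ψ (n : G) * w n =
      ∑ x : ↥(E ⊓ N), ψ ⟨(x : G), (Subgroup.mem_inf.mp x.2).1⟩ *
        w ⟨(x : G), (Subgroup.mem_inf.mp x.2).2⟩ := by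
  classical
  have h1 : ∀ n : N, extendByZero E ψ (n : G) * w n =
      if h : (n : G) ∈ E then ψ ⟨(n : G), h⟩ * w n else 0 := by
    intro n
    split_ifs with h
    · rw [Cfsg.Agent.Helper8.ebz_mem E ψ h]
    · rw [Cfsg.Agent.Helper8.ebz_not_mem E ψ h, zero_mul]
  simp_rw [h1]
  symm
  refine Finset.sum_bij_ne_zero
    (fun x _ _ => (⟨(x : G), (Subgroup.mem_inf.mp x.2).2⟩ : N)) (fun _ _ _ => Finset.mem_univ _)
    ?_ ?_ ?_
  · intro x _ _ y _ _ hxy
    apply Subtype.ext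
    exact congrArg (fun n : N => (n : G)) hxy
  · intro n _ hn
    by_cases h : (n : G) ∈ E
    · exact ⟨⟨(n : G), Subgroup.mem_inf.mpr ⟨h, n.2⟩⟩, Finset.mem_univ _,
        by rw [dif_pos h] at hn; exact hn, rfl⟩
    · rw [dif_neg h] at hn
      exact absurd rfl hn
  · intro x _ _
    have hx : (x : G) ∈ E := (Subgroup.mem_inf.mp x.2).1
    show _ = dite ((x : G) ∈ E) _ _
    rw [dif_pos hx]

theorem card_eq_relIndex_mul (N E : Subgroup G) :
    Nat.card E = N.relIndex E * Nat.card ↥(E ⊓ N) := by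
  rw [← Cfsg.Agent.Helper8.card_subgroupOf_of_le (inf_le_left : E ⊓ N ≤ E),
    Subgroup.inf_subgroupOf_left, Subgroup.relIndex, mul_comm, Subgroup.card_mul_index]

/-- the key computation in Dade's theorem -/
theorem dade_formula (N E : Subgroup G) [hN : N.Normal] [Fintype N] [Fintype E]
    [Fintype ↥(E ⊓ N)] (θ : N → ℂ)
    (hinv : ∀ (g : G) (n : N), θ ⟨g * n * g⁻¹, hN.conj_mem (n : G) n.2 g⟩ = θ n) (ψ : E → ℂ) :
    (N.relIndex E : ℂ) * ((Nat.card N : ℂ)⁻¹ *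
        ∑ n : N, indFun E ψ n * (θ n * (starRingEnd ℂ) (θ n))) =
      (N.index : ℂ) * ((Nat.card ↥(E ⊓ N) : ℂ)⁻¹ *
        ∑ x : ↥(E ⊓ N), ψ ⟨(x : G), (Subgroup.mem_inf.mp x.2).1⟩ *
          (θ ⟨(x : G), (Subgroup.mem_inf.mp x.2).2⟩ *
            (starRingEnd ℂ) (θ ⟨(x : G), (Subgroup.mem_inf.mp x.2).2⟩))) := by
  classical
  obtain ⟨w, hw⟩ : ∃ w : N → ℂ, w = fun n => θ n * (starRingEnd ℂ) (θ n) := ⟨_, rfl⟩
  have hwinv : ∀ (g : G) (n : N), w ((MulAut.conjNormal g : N ≃* N) n) = w n := by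
    intro g n
    have h1 : (MulAut.conjNormal g : N ≃* N) n = ⟨g * n * g⁻¹, hN.conj_mem (n : G) n.2 g⟩ :=
      Subtype.ext (MulAut.conjNormal_apply g n)
    rw [h1, hw]
    simp only [hinv]
  have hsum : ∀ g : G, ∑ n : N, extendByZero E ψ (g⁻¹ * (n : G) * g) * w n =
      ∑ n : N, extendByZero E ψ (n : G) * w n := by
    intro g
    rw [← Equiv.sum_comp (MulAut.conjNormal g⁻¹ : N ≃* N).toEquiv
      (fun n : N => extendByZero E ψ (n : G) * w n)]
    apply Finset.sum_congr rfl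
    intro n _
    simp only [MulEquiv.toEquiv_eq_coe, EquivLike.coe_coe]
    rw [hwinv, MulAut.conjNormal_apply, inv_inv]
  have h1 : ∑ n : N, indFun E ψ n * (θ n * (starRingEnd ℂ) (θ n)) =
      (Nat.card E : ℂ)⁻¹ * ((Nat.card G : ℂ) * ∑ n : N, extendByZero E ψ (n : G) * w n) := by
    have : ∀ n : N, indFun E ψ n * (θ n * (starRingEnd ℂ) (θ n)) =
        (Nat.card E : ℂ)⁻¹ * ∑ g : G, extendByZero E ψ (g⁻¹ * (n : G) * g) * w n := by
      intro n
      rw [Cfsg.Agent.Helper8.indFun_def, hw, mul_assoc, Finset.sum_mul]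
    simp_rw [this]
    rw [← Finset.mul_sum, Finset.sum_comm]
    simp_rw [hsum]
    rw [Finset.sum_const, Finset.card_univ, nsmul_eq_mul, ← Nat.card_eq_fintype_card]
  rw [h1, sum_ebz_eq N E ψ w, hw]
  have hG : (Nat.card G : ℂ) = (N.index : ℂ) * (Nat.card N : ℂ) := by
    rw [← Nat.cast_mul, Subgroup.index_mul_card]
  have hE : (Nat.card E : ℂ) = (N.relIndex E : ℂ) * (Nat.card ↥(E ⊓ N) : ℂ) := by
    rw [← Nat.cast_mul, ← card_eq_relIndex_mul]
  have hN0 : (Nat.card N : ℂ) ≠ 0 := Nat.cast_ne_zero.mpr Nat.card_pos.ne'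
  have hE0 : (Nat.card E : ℂ) ≠ 0 := Nat.cast_ne_zero.mpr Nat.card_pos.ne'
  have hD0 : (Nat.card ↥(E ⊓ N) : ℂ) ≠ 0 := Nat.cast_ne_zero.mpr Nat.card_pos.ne'
  have hr0 : (N.relIndex E : ℂ) ≠ 0 := by
    intro h
    rw [hE, h, zero_mul] at hE0
    exact hE0 rfl
  rw [hG, hE]
  field_simp

/-- If `A`, `B` are `G`-invariant characters of the normal subgroup `K` of `p`-power index with
`[A, B]` prime to `p`, then `B` has a `G`-invariant irreducible constituent of multiplicity prime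
to `p`. -/
theorem exists_fixed_constituent (K : Subgroup G) [hK : K.Normal] [Fintype K] (p : ℕ)
    (hp : p.Prime) (a : ℕ)
    (hKa : K.index = p ^ a) (A B : K → ℂ) (hA : IsCharacter K A) (hB : IsCharacter K B)
    (hAinv : ∀ (g : G) (k : K), A ⟨g * k * g⁻¹, hK.conj_mem (k : G) k.2 g⟩ = A k)
    (hBinv : ∀ (g : G) (k : K), B ⟨g * k * g⁻¹, hK.conj_mem (k : G) k.2 g⟩ = B k)
    (y : ℕ) (hy : classInner A B = y) (hpy : ¬ p ∣ y) :
    ∃ φ : K → ℂ, IsIrrCharacter K φ ∧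
      (∀ (g : G) (k : K), φ ⟨g * k * g⁻¹, hK.conj_mem (k : G) k.2 g⟩ = φ k) ∧
      ∃ m : ℕ, classInner B φ = m ∧ ¬ p ∣ m := by
  classical
  haveI : Fintype (IrrCharacter K) := Fintype.ofFinite _
  letI := irrConjAction K
  obtain ⟨mA, hmA⟩ : ∃ m : IrrCharacter K → ℕ,
      ∀ θ : IrrCharacter K, classInner A (θ : K → ℂ) = m θ :=
    ⟨fun θ => (IsCharacter.classInner_irr_nat hA θ).choose,
      fun θ => (IsCharacter.classInner_irr_nat hA θ).choose_spec⟩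
  obtain ⟨mB, hmB⟩ : ∃ m : IrrCharacter K → ℕ,
      ∀ θ : IrrCharacter K, classInner B (θ : K → ℂ) = m θ :=
    ⟨fun θ => (IsCharacter.classInner_irr_nat hB θ).choose,
      fun θ => (IsCharacter.classInner_irr_nat hB θ).choose_spec⟩
  have hysum : (y : ℤ) = ∑ θ : IrrCharacter K, (mA θ : ℤ) * (mB θ : ℤ) := by
    have h1 := IsCharacter.eq_sum_classInner hA
    have h2 := IsCharacter.eq_sum_classInner hB
    simp_rw [hmA] at h1
    simp_rw [hmB] at h2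
    have h3 : classInner A B = ∑ θ : IrrCharacter K, (mA θ : ℂ) * (starRingEnd ℂ) (mB θ : ℂ) := by
      conv_lhs => rw [h1, h2]
      exact classInner_sum_sum _ _
    rw [hy] at h3
    simp only [Complex.conj_natCast] at h3
    exact_mod_cast h3
  have hcinv : ∀ (C : K → ℂ), (∀ (g : G) (k : K),
      C ⟨g * k * g⁻¹, hK.conj_mem (k : G) k.2 g⟩ = C k) → ∀ (g : G) (θ : IrrCharacter K),
      classInner C ((g • θ : IrrCharacter K) : K → ℂ) = classInner C (θ : K → ℂ) := by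
    intro C hC g θ
    have h2 := classInner_comp_mulEquiv (MulAut.conjNormal g⁻¹ : K ≃* K) C (θ : K → ℂ)
    have h3 : (fun k : K => C ((MulAut.conjNormal g⁻¹ : K ≃* K) k)) = C := by
      funext k
      have h4 : (MulAut.conjNormal g⁻¹ : K ≃* K) k =
          ⟨g⁻¹ * k * g⁻¹⁻¹, hK.conj_mem (k : G) k.2 g⁻¹⟩ :=
        Subtype.ext (by rw [MulAut.conjNormal_apply])
      rw [h4]
      exact hC g⁻¹ k
    rw [h3] at h2
    exact h2
  have hf : ∀ (g : G) (θ : IrrCharacter K),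
      (mA (g • θ) : ℤ) * (mB (g • θ) : ℤ) = (mA θ : ℤ) * (mB θ : ℤ) := by
    intro g θ
    have h1 : mA (g • θ) = mA θ := by
      have := hcinv A hAinv g θ
      rw [hmA, hmA] at this
      exact_mod_cast this
    have h2 : mB (g • θ) = mB θ := by
      have := hcinv B hBinv g θ
      rw [hmB, hmB] at this
      exact_mod_cast this
    rw [h1, h2]
  have hmod := Cfsg.Agent.Helper23.OSI.sum_modEq_sum_fixed (G := G) (X := IrrCharacter K) p hp K a hKa
    (fun k hk θ => irr_smul_of_mem K k hk θ)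
    (fun θ => (mA θ : ℤ) * (mB θ : ℤ)) hf
  rw [← hysum] at hmod
  have hex : ∃ θ : IrrCharacter K, (∀ g : G, g • θ = θ) ∧
      ¬ (p : ℤ) ∣ (mA θ : ℤ) * (mB θ : ℤ) := by
    by_contra hcon
    push Not at hcon
    have h0 : (p : ℤ) ∣ ∑ θ ∈ Finset.univ.filter (fun θ : IrrCharacter K => ∀ g : G, g • θ = θ),
        (mA θ : ℤ) * (mB θ : ℤ) := by
      apply Finset.dvd_sum
      intro θ hθ
      exact hcon θ (Finset.mem_filter.mp hθ).2
    have h1 : (y : ℤ) ≡ 0 [ZMOD p] := hmod.trans ((Int.modEq_zero_iff_dvd).mpr h0)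
    have h2 : (p : ℤ) ∣ (y : ℤ) := (Int.modEq_zero_iff_dvd).mp h1
    exact hpy (by exact_mod_cast h2)
  obtain ⟨θ, hθfix, hθp⟩ := hex
  refine ⟨(θ : K → ℂ), θ.2, inv_of_smul_eq K θ hθfix, mB θ, hmB θ, ?_⟩
  intro h
  apply hθp
  exact Dvd.dvd.mul_left (by exact_mod_cast h) _

/-- the two incarnations of `E ∩ N` -/
def infIso' (N E : Subgroup G) : ↥(N.subgroupOf E) ≃* ↥(E ⊓ N) where
  toFun x := ⟨((x : E) : G), Subgroup.mem_inf.mpr ⟨(x : E).2, Subgroup.mem_subgroupOf.mp x.2⟩⟩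
  invFun y := ⟨⟨(y : G), (Subgroup.mem_inf.mp y.2).1⟩,
    Subgroup.mem_subgroupOf.mpr (Subgroup.mem_inf.mp y.2).2⟩
  left_inv _ := rfl
  right_inv _ := rfl
  map_mul' _ _ := rfl

/-- Step 1 of Dade's theorem: a `p`-elementary subgroup `E` and a character `ψ` of `E` with
`EN = G` and `[ψ ϑ, ϑ]_{E ∩ N}` prime to `p`. -/
theorem dade_step1 (p : ℕ) (hp : p.Prime) (N : Subgroup G) [hN : N.Normal]
    (hind : ∃ k : ℕ, N.index = p ^ k) (ϑ : N → ℂ) (hϑ : IsIrrCharacter N ϑ)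
    (hinv : ∀ (g : G) (n : N), ϑ ⟨g * n * g⁻¹, hN.conj_mem (n : G) n.2 g⟩ = ϑ n) :
    ∃ (E : Subgroup G) (ψ : E → ℂ) (y : ℕ), IsElementary p E ∧ IsCharacter E ψ ∧ E ⊔ N = ⊤ ∧
      ¬ p ∣ y ∧ (Nat.card ↥(E ⊓ N) : ℂ)⁻¹ *
        ∑ᶠ x : ↥(E ⊓ N), ψ ⟨(x : G), (Subgroup.mem_inf.mp x.2).1⟩ *
          (ϑ ⟨(x : G), (Subgroup.mem_inf.mp x.2).2⟩ *
            (starRingEnd ℂ) (ϑ ⟨(x : G), (Subgroup.mem_inf.mp x.2).2⟩)) = (y : ℂ) := by
  classical
  haveI : Fact p.Prime := ⟨hp⟩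
  haveI : Fintype N := Fintype.ofFinite _
  haveI : Fintype (IrrCharacter G) := Fintype.ofFinite _
  haveI : Fintype (IrrCharacter N) := Fintype.ofFinite _
  obtain ⟨k, hk⟩ := hind
  obtain ⟨l, hl, hmem⟩ := exists_coprime_smul_one_mem (G := G) p
  -- descend to integer coefficients
  obtain ⟨S, hSdef⟩ : ∃ S : Set (G → ℂ), S = {f | ∃ (E : Subgroup G) (ψ : E → ℂ),
      IsElementary p E ∧ IsCharacter E ψ ∧ f = indFun E ψ} := ⟨_, rfl⟩
  have hS : ∀ φ ∈ S, IsCharacter G φ := by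
    intro φ hφ
    rw [hSdef] at hφ
    obtain ⟨E, ψ, -, hψ, rfl⟩ := hφ
    exact isCharacter_indFun E hψ
  obtain ⟨e, he⟩ : ∃ e : IrrCharacter G → ℤ, e = fun χ => if χ = trivIrr G then (l : ℤ) else 0 :=
    ⟨_, rfl⟩
  have hsum : (∑ χ : IrrCharacter G, (e χ : ℂ) • (χ : G → ℂ)) = (l : ℂ) • (fun _ : G => (1 : ℂ)) := by
    rw [Finset.sum_eq_single (trivIrr G)]
    · rw [he]
      simp only [if_true, Int.cast_natCast]
      rfl
    · intro χ _ hne
      rw [he]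
      simp only [if_neg hne, Int.cast_zero, zero_smul]
    · intro h
      exact absurd (Finset.mem_univ _) h
  have hbA : (∑ χ : IrrCharacter G, (e χ : ℂ) • (χ : G → ℂ)) ∈ AddSubgroup.closure
      {h : G → ℂ | ∃ (a : ℂ) (φ : G → ℂ), IsIntegral ℤ a ∧ φ ∈ S ∧ h = a • φ} := by
    rw [hsum]
    refine AddSubgroup.closure_mono ?_ hmem
    rintro h ⟨a, E, ψ, ha, hE, hψ, rfl⟩
    refine ⟨a, indFun E ψ, ha, ?_, rfl⟩
    rw [hSdef]
    exact ⟨E, ψ, hE, hψ, rfl⟩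
  have hZ := mem_closure_of_mem_closure_integral S hS e hbA
  rw [hsum] at hZ
  -- the functional
  let Λ : (G → ℂ) →+ ℂ :=
    { toFun := fun f => (Nat.card N : ℂ)⁻¹ * ∑ n : N, f n * (ϑ n * (starRingEnd ℂ) (ϑ n))
      map_zero' := by simp
      map_add' := fun f g => by
        simp only [Pi.add_apply, add_mul, Finset.sum_add_distrib, mul_add] }
  have hΛdef : ∀ f : G → ℂ, Λ f = (Nat.card N : ℂ)⁻¹ *
      ∑ n : N, f n * (ϑ n * (starRingEnd ℂ) (ϑ n)) := fun _ => rfl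
  have hΛl : Λ ((l : ℂ) • (fun _ : G => (1 : ℂ))) = (l : ℂ) := by
    rw [hΛdef]
    have h1 := (isIrrCharacter_iff_classInner_self.mp hϑ).2
    unfold classInner at h1
    simp only [Pi.smul_apply, smul_eq_mul, mul_one]
    rw [← Finset.mul_sum, mul_left_comm, h1, mul_one]
  -- some generator is not sent into pℤ
  have hex : ∃ f ∈ S, Λ f ∉ AddSubgroup.zmultiples (p : ℂ) := by
    by_contra hcon
    push Not at hcon
    have hle : AddSubgroup.closure S ≤ (AddSubgroup.zmultiples (p : ℂ)).comap Λ := by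
      rw [AddSubgroup.closure_le]
      intro f hf
      exact hcon f hf
    have h1 := hle hZ
    rw [AddSubgroup.mem_comap, hΛl, AddSubgroup.mem_zmultiples_iff] at h1
    obtain ⟨z, hz⟩ := h1
    rw [zsmul_eq_mul] at hz
    have h2 : (z * p : ℤ) = (l : ℤ) := by exact_mod_cast hz
    apply hl
    have h3 : (p : ℤ) ∣ (l : ℤ) := ⟨z, by rw [← h2]; ring⟩
    exact_mod_cast h3
  obtain ⟨f, hfS, hfΛ⟩ := hex
  rw [hSdef] at hfS
  obtain ⟨E, ψ, hE, hψ, rfl⟩ := hfS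
  haveI : Fintype E := Fintype.ofFinite _
  haveI : Fintype ↥(E ⊓ N) := Fintype.ofFinite _
  haveI : Fintype (IrrCharacter ↥(E ⊓ N)) := Fintype.ofFinite _
  -- Y is a natural number
  have hψD : IsCharacter ↥(E ⊓ N) (fun x : ↥(E ⊓ N) => ψ ⟨(x : G), (Subgroup.mem_inf.mp x.2).1⟩) :=
    Cfsg.Agent.Helper8.isCharacter_comp (Subgroup.inclusion (inf_le_left : E ⊓ N ≤ E)) hψ
  have hϑD : IsCharacter ↥(E ⊓ N) (fun x : ↥(E ⊓ N) => ϑ ⟨(x : G), (Subgroup.mem_inf.mp x.2).2⟩) :=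
    Cfsg.Agent.Helper8.isCharacter_comp (Subgroup.inclusion (inf_le_right : E ⊓ N ≤ N))
      (IsIrrCharacter.isCharacter hϑ)
  obtain ⟨y, hy⟩ := IsCharacter.classInner_nat (IsCharacter.mul hψD hϑD) hϑD
  have hY : (Nat.card ↥(E ⊓ N) : ℂ)⁻¹ *
        ∑ x : ↥(E ⊓ N), ψ ⟨(x : G), (Subgroup.mem_inf.mp x.2).1⟩ *
          (ϑ ⟨(x : G), (Subgroup.mem_inf.mp x.2).2⟩ *
            (starRingEnd ℂ) (ϑ ⟨(x : G), (Subgroup.mem_inf.mp x.2).2⟩)) = (y : ℂ) := by
    rw [← hy]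
    unfold classInner
    congr 1
    apply Finset.sum_congr rfl
    intro x _
    simp only [Pi.mul_apply]
    ring
  have hform := dade_formula N E ϑ hinv ψ
  rw [hY, ← hΛdef] at hform
  -- the relative index is a power of p
  have hdvd : N.relIndex E ∣ p ^ k := by
    rw [← hk]
    exact Subgroup.relIndex_dvd_index_of_normal N E
  obtain ⟨j, hjk, hj⟩ := (Nat.dvd_prime_pow hp).mp hdvd
  rw [hj, hk] at hform
  have hΛval : Λ (indFun E ψ) = ((p ^ (k - j) * y : ℕ) : ℂ) := by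
    have hp0 : ((p ^ j : ℕ) : ℂ) ≠ 0 := Nat.cast_ne_zero.mpr (pow_ne_zero _ hp.pos.ne')
    apply mul_left_cancel₀ hp0
    rw [hform]
    have : p ^ k = p ^ j * p ^ (k - j) := by rw [← pow_add]; congr 1; omega
    rw [this]
    push_cast
    ring
  have hnd : ¬ p ∣ p ^ (k - j) * y := by
    intro hd
    apply hfΛ
    rw [hΛval, AddSubgroup.mem_zmultiples_iff]
    obtain ⟨c, hc⟩ := hd
    refine ⟨(c : ℤ), ?_⟩
    rw [zsmul_eq_mul, hc]
    push_cast
    ring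
  have hkj : k - j = 0 := by
    by_contra h
    apply hnd
    exact Dvd.dvd.mul_right (dvd_pow_self p h) y
  have hpy : ¬ p ∣ y := by
    rw [hkj, pow_zero, one_mul] at hnd
    exact hnd
  have hjk' : j = k := by omega
  have htop : E ⊔ N = ⊤ := by
    have h1 : N.relIndex (E ⊔ N) = N.index := by
      rw [Subgroup.relIndex_sup_right, hj, hk, hjk']
    have h2 := Subgroup.relIndex_mul_index (le_sup_right : N ≤ E ⊔ N)
    rw [h1] at h2
    have h3 : N.index ≠ 0 := Subgroup.index_ne_zero_of_finite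
    have h4 : (E ⊔ N).index = 1 := by
      have : N.index * (E ⊔ N).index = N.index * 1 := by rw [h2, mul_one]
      exact Nat.eq_of_mul_eq_mul_left (Nat.pos_of_ne_zero h3) this
    exact Subgroup.index_eq_one.mp h4
  refine ⟨E, ψ, y, hE, hψ, htop, hpy, ?_⟩
  rw [finsum_eq_sum_of_fintype]
  exact hY

/-- **Dade's theorem** (Isaacs 8.24). -/
theorem dade (p : ℕ) (hp : p.Prime) (N : Subgroup G) [hN : N.Normal]
    (hind : ∃ k : ℕ, N.index = p ^ k) (ϑ : N → ℂ) (hϑ : IsIrrCharacter N ϑ)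
    (hinv : ∀ (g : G) (n : N), ϑ ⟨g * n * g⁻¹, hN.conj_mem (n : G) n.2 g⟩ = ϑ n) :
    ∃ (E : Subgroup G) (φ : ↥(E ⊓ N) → ℂ), IsElementary p E ∧ E ⊔ N = ⊤ ∧
      IsIrrCharacter ↥(E ⊓ N) φ ∧
      (∀ (g : G) (hg : g ∈ E) (x : ↥(E ⊓ N)),
        φ ⟨g * x * g⁻¹, ⟨(E.mul_mem (E.mul_mem hg x.2.1) (E.inv_mem hg)),
          hN.conj_mem (x : G) x.2.2 g⟩⟩ = φ x) ∧
      ∃ m : ℕ, ¬ p ∣ m ∧ (Nat.card ↥(E ⊓ N) : ℂ)⁻¹ *
        ∑ᶠ x : ↥(E ⊓ N), ϑ ⟨(x : G), x.2.2⟩ * (starRingEnd ℂ) (φ x) = (m : ℂ) := by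
  classical
  obtain ⟨E, ψ, y, hE, hψ, htop, hpy, hY⟩ := dade_step1 p hp N hind ϑ hϑ hinv
  obtain ⟨k, hk⟩ := hind
  haveI : Fintype E := Fintype.ofFinite _
  haveI : Fintype ↥(E ⊓ N) := Fintype.ofFinite _
  haveI : Fintype ↥(N.subgroupOf E) := Fintype.ofFinite _
  rw [finsum_eq_sum_of_fintype] at hY
  -- the index of N ∩ E in E
  have hKa : (N.subgroupOf E).index = p ^ k := by
    show N.relIndex E = p ^ k
    rw [← Subgroup.relIndex_sup_right, htop, Subgroup.relIndex_top_right, hk]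
  -- the two characters of N ∩ E
  have hϑc : IsCharacter N ϑ := IsIrrCharacter.isCharacter hϑ
  have hB : IsCharacter ↥(N.subgroupOf E)
      (fun x : ↥(N.subgroupOf E) => ϑ ⟨((x : E) : G), Subgroup.mem_subgroupOf.mp x.2⟩) :=
    Cfsg.Agent.Helper8.isCharacter_comp
      ((Subgroup.inclusion (inf_le_right : E ⊓ N ≤ N)).comp (infIso' N E).toMonoidHom) hϑc
  have hA0 : IsCharacter ↥(N.subgroupOf E) (fun x : ↥(N.subgroupOf E) => ψ (x : E)) :=
    Cfsg.Agent.Helper8.isCharacter_restrict _ hψ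
  have hA := IsCharacter.mul hA0 hB
  have hψcf : IsClassFunction E ψ := IsCharacter.isClassFunction hψ
  have hBinv : ∀ (g : E) (x : ↥(N.subgroupOf E)),
      (fun x : ↥(N.subgroupOf E) => ϑ ⟨((x : E) : G), Subgroup.mem_subgroupOf.mp x.2⟩)
        ⟨g * x * g⁻¹, (inferInstance : (N.subgroupOf E).Normal).conj_mem (x : E) x.2 g⟩ =
      (fun x : ↥(N.subgroupOf E) => ϑ ⟨((x : E) : G), Subgroup.mem_subgroupOf.mp x.2⟩) x := by
    intro g x
    exact hinv (g : G) ⟨((x : E) : G), Subgroup.mem_subgroupOf.mp x.2⟩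
  have hAinv : ∀ (g : E) (x : ↥(N.subgroupOf E)),
      ((fun x : ↥(N.subgroupOf E) => ψ (x : E)) *
        (fun x : ↥(N.subgroupOf E) => ϑ ⟨((x : E) : G), Subgroup.mem_subgroupOf.mp x.2⟩))
        ⟨g * x * g⁻¹, (inferInstance : (N.subgroupOf E).Normal).conj_mem (x : E) x.2 g⟩ =
      ((fun x : ↥(N.subgroupOf E) => ψ (x : E)) *
        (fun x : ↥(N.subgroupOf E) => ϑ ⟨((x : E) : G), Subgroup.mem_subgroupOf.mp x.2⟩)) x := by
    intro g x
    have h1 := hBinv g x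
    simp only at h1
    simp only [Pi.mul_apply]
    rw [h1]
    congr 1
    exact hψcf (x : E) g
  have hy : classInner ((fun x : ↥(N.subgroupOf E) => ψ (x : E)) *
        (fun x : ↥(N.subgroupOf E) => ϑ ⟨((x : E) : G), Subgroup.mem_subgroupOf.mp x.2⟩))
      (fun x : ↥(N.subgroupOf E) => ϑ ⟨((x : E) : G), Subgroup.mem_subgroupOf.mp x.2⟩) = (y : ℂ) := by
    rw [← hY]
    unfold classInner
    rw [Nat.card_congr (infIso' N E).toEquiv]
    congr 1
    refine Fintype.sum_equiv (infIso' N E).toEquiv _ _ ?_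
    intro x
    simp only [Pi.mul_apply]
    rw [mul_assoc]
    rfl
  obtain ⟨φ', hφ', hφ'inv, m, hm, hpm⟩ := exists_fixed_constituent (N.subgroupOf E) p hp k hKa
    _ _ hA hB hAinv hBinv y hy hpy
  refine ⟨E, fun z => φ' ((infIso' N E).symm z), hE, htop, ?_, ?_, m, hpm, ?_⟩
  · exact Cfsg.Agent.Helper8.isIrrCharacter_comp_surjective (infIso' N E).symm.toMonoidHom
      (infIso' N E).symm.surjective hφ'
  · intro g hg x
    have := hφ'inv ⟨g, hg⟩ ((infIso' N E).symm x)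
    show φ' _ = φ' _
    rw [← this]
    congr 1
  · rw [finsum_eq_sum_of_fintype, ← hm]
    unfold classInner
    rw [Nat.card_congr (infIso' N E).toEquiv]
    congr 1
    symm
    refine Fintype.sum_equiv (infIso' N E).toEquiv _ _ ?_
    intro x
    rfl

end Cfsg.Agent.Helper24.Dade
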