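import Mathlib
import Cfsg.Prelude.Def_Characters
import Cfsg.Agent.Helper24.Dade
import Cfsg.Agent.Helper24.DegreeRatio
import Cfsg.Agent.Helper24.LinUnits
import Cfsg.Agent.Helper24.ColumnOrth
import Cfsg.Agent.Helper24.Abelian
import Cfsg.Agent.Helper8.CliffordAb

/-!
Extension of invariant characters when the quotient is a `p`-group and the Sylow `p`-subgroup
meets the normal subgroup centrally (Isaacs 8.26).
-/

namespace Cfsg.Agent.Helper24

universe u

open Representation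

section HomExt

/-- A homomorphism from a subgroup to `ℂˣ` which is trivial on the intersection with the
commutator subgroup extends to the whole finite group. -/
theorem exists_hom_extension_of_inf_commutator {E : Type u} [Group E] [Finite E] (A : Subgroup E)
    (L : A →* ℂˣ) (hL : ∀ a : A, (a : E) ∈ commutator E → L a = 1) :
    ∃ M : E →* ℂˣ, ∀ a : A, M a = L a := by
  classical
  let f : E →* Abelianization E := Abelianization.of
  have hf : ∀ e : E, f e = 1 ↔ e ∈ commutator E := by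
    intro e
    rw [← MonoidHom.mem_ker, Abelianization.ker_of]
  let g : A →* A.map f := f.subgroupMap A
  have hgsurj : Function.Surjective g := MonoidHom.subgroupMap_surjective f A
  have hker : g.ker ≤ L.ker := by
    intro a ha
    rw [MonoidHom.mem_ker] at ha ⊢
    apply hL
    rw [← hf]
    exact congrArg Subtype.val ha
  let L' : A.map f →* ℂˣ := g.liftOfSurjective hgsurj ⟨L, hker⟩
  have hL' : ∀ a : A, L' (g a) = L a := fun a => by
    show (g.liftOfSurjective hgsurj ⟨L, hker⟩) (g a) = L a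
    rw [MonoidHom.liftOfRightInverse_comp_apply]
  haveI : Finite (Abelianization E) :=
    Finite.of_surjective f (QuotientGroup.mk_surjective)
  have hexp : Monoid.exponent (Abelianization E) ≠ 0 := Monoid.exponent_ne_zero_of_finite
  haveI : NeZero ((Monoid.exponent (Abelianization E) : ℕ) : ℂ) := ⟨Nat.cast_ne_zero.mpr hexp⟩
  obtain ⟨Φ, hΦ⟩ := MonoidHom.domRestrict_surjective (M := ℂ) (A.map f) L'
  refine ⟨Φ.comp f, fun a => ?_⟩
  rw [← hL' a, ← hΦ]
  rfl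

end HomExt

section Mackey

variable {G : Type u} [Group G] [Fintype G]

/-- Mackey-type formula for `E N = G`: pairing the restriction to `N` of a function induced
from `E` with a `G`-invariant function on `N`. -/
theorem mackey_inner (N E : Subgroup G) [hN : N.Normal] [Fintype N] [Fintype E]
    [Fintype ↥(E ⊓ N)] (w : N → ℂ)
    (hinv : ∀ (g : G) (n : N), w ⟨g * n * g⁻¹, hN.conj_mem (n : G) n.2 g⟩ = w n) (ψ : E → ℂ) :
    (N.relIndex E : ℂ) * ((Nat.card N : ℂ)⁻¹ * ∑ n : N, indFun E ψ n * w n) =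
      (N.index : ℂ) * ((Nat.card ↥(E ⊓ N) : ℂ)⁻¹ *
        ∑ x : ↥(E ⊓ N), ψ ⟨(x : G), (Subgroup.mem_inf.mp x.2).1⟩ *
          w ⟨(x : G), (Subgroup.mem_inf.mp x.2).2⟩) := by
  classical
  have hwinv : ∀ (g : G) (n : N), w ((MulAut.conjNormal g : N ≃* N) n) = w n := by
    intro g n
    have h1 : (MulAut.conjNormal g : N ≃* N) n = ⟨g * n * g⁻¹, hN.conj_mem (n : G) n.2 g⟩ :=
      Subtype.ext (MulAut.conjNormal_apply g n)
    rw [h1, hinv]
  have hsum : ∀ g : G, ∑ n : N, extendByZero E ψ (g⁻¹ * (n : G) * g) * w n =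
      ∑ n : N, extendByZero E ψ (n : G) * w n := by
    intro g
    rw [← Equiv.sum_comp (MulAut.conjNormal g⁻¹ : N ≃* N).toEquiv
      (fun n : N => extendByZero E ψ (n : G) * w n)]
    apply Finset.sum_congr rfl
    intro n _
    simp only [MulEquiv.toEquiv_eq_coe, EquivLike.coe_coe]
    rw [hwinv, MulAut.conjNormal_apply, inv_inv]
  have h1 : ∑ n : N, indFun E ψ n * w n =
      (Nat.card E : ℂ)⁻¹ * ((Nat.card G : ℂ) * ∑ n : N, extendByZero E ψ (n : G) * w n) := by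
    have : ∀ n : N, indFun E ψ n * w n =
        (Nat.card E : ℂ)⁻¹ * ∑ g : G, extendByZero E ψ (g⁻¹ * (n : G) * g) * w n := by
      intro n
      rw [Cfsg.Agent.Helper8.indFun_def, mul_assoc, Finset.sum_mul]
    simp_rw [this]
    rw [← Finset.mul_sum, Finset.sum_comm]
    simp_rw [hsum]
    rw [Finset.sum_const, Finset.card_univ, nsmul_eq_mul, ← Nat.card_eq_fintype_card]
  rw [h1, Dade.sum_ebz_eq N E ψ w]
  have hG : (Nat.card G : ℂ) = (N.index : ℂ) * (Nat.card N : ℂ) := by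
    rw [← Nat.cast_mul, Subgroup.index_mul_card]
  have hE : (Nat.card E : ℂ) = (N.relIndex E : ℂ) * (Nat.card ↥(E ⊓ N) : ℂ) := by
    rw [← Nat.cast_mul, ← Dade.card_eq_relIndex_mul]
  have hN0 : (Nat.card N : ℂ) ≠ 0 := Nat.cast_ne_zero.mpr Nat.card_pos.ne'
  have hE0 : (Nat.card E : ℂ) ≠ 0 := Nat.cast_ne_zero.mpr Nat.card_pos.ne'
  have hD0 : (Nat.card ↥(E ⊓ N) : ℂ) ≠ 0 := Nat.cast_ne_zero.mpr Nat.card_pos.ne'
  have hr0 : (N.relIndex E : ℂ) ≠ 0 := by
    intro h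
    rw [hE, h, zero_mul] at hE0
    exact hE0 rfl
  rw [hG, hE]
  field_simp

end Mackey

section GroupPart

open scoped Pointwise commutatorElement

variable {G : Type u} [Group G] [Finite G]

/-- If `D ≤ Z(P)` and every linear character of `D` extends to `P`, then `D ∩ P' = 1`. -/
theorem eq_one_of_mem_commutator_of_linear_ext (P D : Subgroup G) (hDP : D ≤ P)
    (hcent : ∀ x ∈ D, ∀ y ∈ P, x * y = y * x)
    (hlin : ∀ lam : D → ℂ, IsCharacter D lam → lam 1 = 1 →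
      ∃ μ : P → ℂ, IsCharacter P μ ∧ μ 1 = 1 ∧ ∀ x : D, μ ⟨(x : G), hDP x.2⟩ = lam x)
    (x : G) (hxD : x ∈ D) (hxc : x ∈ ⁅P, P⁆) : x = 1 := by
  classical
  haveI : Fintype D := Fintype.ofFinite _
  haveI : Fintype (IrrCharacter D) := Fintype.ofFinite _
  by_contra hne
  have hDcomm : ∀ a b : D, a * b = b * a := by
    intro a b
    apply Subtype.ext
    exact hcent a a.2 b (hDP b.2)
  have hlin1 := (comm_iff_forall_irr_one (G := D)).mp hDcomm
  have hnc : ¬ IsConj (⟨x, hxD⟩ : D) 1 := by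
    intro hc
    rw [isConj_comm, isConj_one_right] at hc
    exact hne (congrArg Subtype.val hc)
  rw [isConj_iff_forall_irr] at hnc
  push Not at hnc
  obtain ⟨χ, hχ⟩ := hnc
  obtain ⟨μ, hμc, hμ1, hμ⟩ := hlin χ (IsIrrCharacter.isCharacter χ.2) (hlin1 χ)
  have hmem : (⟨x, hDP hxD⟩ : P) ∈ commutator P := by
    have h1 : x ∈ (commutator P).map P.subtype := by
      rw [Subgroup.map_subtype_commutator]
      exact hxc
    obtain ⟨y, hy, hyx⟩ := h1
    have : y = ⟨x, hDP hxD⟩ := Subtype.ext hyx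
    rw [← this]
    exact hy
  have h2 : linUnits hμc hμ1 ⟨x, hDP hxD⟩ = 1 :=
    Abelianization.commutator_subset_ker (linUnits hμc hμ1) hmem
  have h3 : μ ⟨x, hDP hxD⟩ = 1 := by
    rw [← linUnits_apply hμc hμ1, h2, Units.val_one]
  apply hχ
  rw [hlin1 χ, ← h3]
  exact (hμ ⟨x, hxD⟩).symm

/-- Transport of the centrality conditions from a Sylow subgroup to any `p`-subgroup. -/
theorem sylow_central_transport (p : ℕ) [Fact p.Prime] (N : Subgroup G) [hN : N.Normal]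
    (P : Sylow p G)
    (hcent : ∀ x ∈ (P : Subgroup G) ⊓ N, ∀ y ∈ (P : Subgroup G), x * y = y * x)
    (hcomm : ∀ x ∈ (P : Subgroup G) ⊓ N,
      x ∈ ⁅(P : Subgroup G), (P : Subgroup G)⁆ → x = 1)
    (Q : Subgroup G) (hQ : IsPGroup p Q) :
    (∀ x ∈ Q ⊓ N, ∀ y ∈ Q, x * y = y * x) ∧ (∀ x ∈ Q ⊓ N, x ∈ ⁅Q, Q⁆ → x = 1) := by
  obtain ⟨P₁, hQP₁⟩ := hQ.exists_le_sylow
  obtain ⟨g, hg⟩ := MulAction.exists_smul_eq G P₁ P
  have hconj : ∀ x ∈ Q, g * x * g⁻¹ ∈ (P : Subgroup G) := by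
    intro x hx
    have h1 : MulAut.conj g • x ∈ MulAut.conj g • (P₁ : Subgroup G) :=
      Subgroup.smul_mem_pointwise_smul _ _ _ (hQP₁ hx)
    rw [← Sylow.coe_subgroup_smul, hg] at h1
    exact h1
  have hmap : Q.map (MulAut.conj g).toMonoidHom ≤ (P : Subgroup G) := by
    rintro _ ⟨x, hx, rfl⟩
    exact hconj x hx
  constructor
  · intro x hx y hy
    have hx' : g * x * g⁻¹ ∈ (P : Subgroup G) ⊓ N :=
      Subgroup.mem_inf.mpr ⟨hconj x (Subgroup.mem_inf.mp hx).1,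
        hN.conj_mem x (Subgroup.mem_inf.mp hx).2 g⟩
    have h1 := hcent _ hx' _ (hconj y hy)
    have h2 : g * (x * y) * g⁻¹ = g * (y * x) * g⁻¹ := by
      calc g * (x * y) * g⁻¹ = (g * x * g⁻¹) * (g * y * g⁻¹) := by group
        _ = (g * y * g⁻¹) * (g * x * g⁻¹) := h1
        _ = g * (y * x) * g⁻¹ := by group
    exact mul_left_cancel (mul_right_cancel h2)
  · intro x hx hxc
    have hx' : g * x * g⁻¹ ∈ (P : Subgroup G) ⊓ N :=
      Subgroup.mem_inf.mpr ⟨hconj x (Subgroup.mem_inf.mp hx).1,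
        hN.conj_mem x (Subgroup.mem_inf.mp hx).2 g⟩
    have h1 : g * x * g⁻¹ ∈ ⁅(P : Subgroup G), (P : Subgroup G)⁆ := by
      have h2 : (MulAut.conj g).toMonoidHom x ∈ (⁅Q, Q⁆).map (MulAut.conj g).toMonoidHom :=
        Subgroup.mem_map_of_mem _ hxc
      rw [Subgroup.map_commutator] at h2
      exact Subgroup.commutator_mono hmap hmap h2
    have h3 := hcomm _ hx' h1
    have h4 : x = g⁻¹ * (g * x * g⁻¹) * g := by group
    rw [h4, h3]
    group

/-- In an elementary subgroup `E`, under the centrality conditions on `p`-subgroups, `E ∩ N` is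
central in `E` and meets the commutator subgroup of `E` trivially. -/
theorem elementary_central_of_sylow_central (p : ℕ) [hp : Fact p.Prime] (N : Subgroup G)
    [hN : N.Normal] (hind : ∃ k : ℕ, N.index = p ^ k)
    (hQ : ∀ Q : Subgroup G, IsPGroup p Q →
      (∀ x ∈ Q ⊓ N, ∀ y ∈ Q, x * y = y * x) ∧ (∀ x ∈ Q ⊓ N, x ∈ ⁅Q, Q⁆ → x = 1))
    (E : Subgroup G) (hE : IsElementary p E) :
    (∀ a ∈ E ⊓ N, ∀ e ∈ E, a * e = e * a) ∧ (∀ a ∈ E ⊓ N, a ∈ ⁅E, E⁆ → a = 1) := by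
  classical
  obtain ⟨x₀, hx₀c, hx₀p, k', hk'⟩ := hE
  obtain ⟨k, hk⟩ := hind
  obtain ⟨Q₀⟩ : Nonempty (Sylow p E) := inferInstance
  have hQp : IsPGroup p ((Q₀ : Subgroup E).map E.subtype) := Q₀.2.map _
  obtain ⟨hQ1, hQ2⟩ := hQ _ hQp
  -- the decomposition of `E`
  have hcardE : Nat.card E = orderOf x₀ * p ^ k' := by
    rw [← Nat.card_zpowers, ← hk', Subgroup.card_mul_index]
  have hnd : ¬ p ∣ orderOf x₀ := by
    intro h
    have := Nat.Coprime.eq_one_of_dvd hx₀p.symm h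
    exact hp.out.one_lt.ne' this
  have hcardQ : Nat.card Q₀ = p ^ k' := by
    rw [Sylow.card_eq_multiplicity, hcardE,
      Nat.factorization_mul (orderOf_pos x₀).ne' (pow_pos hp.out.pos k').ne',
      Nat.Prime.factorization_pow hp.out]
    simp [Nat.factorization_eq_zero_of_not_dvd hnd]
  have hcompl : Subgroup.IsComplement' (Subgroup.zpowers x₀) (Q₀ : Subgroup E) := by
    apply Subgroup.isComplement'_of_coprime
    · rw [Nat.card_zpowers, hcardQ, hcardE]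
    · rw [Nat.card_zpowers, hcardQ]
      exact Nat.Coprime.pow_right _ hx₀p
  have hdec : ∀ e : E, ∃ (i : ℤ) (q : E), q ∈ (Q₀ : Subgroup E) ∧ e = x₀ ^ i * q := by
    intro e
    obtain ⟨⟨c, q⟩, hcq⟩ := hcompl.2 e
    obtain ⟨i, hi⟩ := Subgroup.mem_zpowers_iff.mp c.2
    exact ⟨i, q, q.2, by rw [hi]; exact hcq.symm⟩
  -- the cyclic part lies in `N` and is central
  have hx₀N : ((x₀ : E) : G) ∈ N := by
    rw [← QuotientGroup.eq_one_iff]
    have h1 : ((x₀ : E) : G ⧸ N) ^ orderOf x₀ = 1 := by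
      rw [← QuotientGroup.mk_pow, ← Subgroup.coe_pow, pow_orderOf_eq_one]
      rfl
    have h2 : ((x₀ : E) : G ⧸ N) ^ (p ^ k) = 1 := by
      rw [← hk, ← QuotientGroup.mk_pow, QuotientGroup.eq_one_iff]
      exact Subgroup.pow_index_mem N _
    have h3 := pow_gcd_eq_one.mpr ⟨h1, h2⟩
    rw [Nat.Coprime.pow_right k hx₀p, pow_one] at h3
    exact h3
  have hcN : ∀ i : ℤ, ((x₀ ^ i : E) : G) ∈ N := by
    intro i
    rw [Subgroup.coe_zpow]
    exact N.zpow_mem hx₀N i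
  have hcC : ∀ (i : ℤ) (e : E), x₀ ^ i * e = e * x₀ ^ i := by
    intro i e
    exact ((Subgroup.mem_center_iff.mp ((Subgroup.center E).zpow_mem hx₀c i)) e).symm
  have hmemQ : ∀ q : E, q ∈ (Q₀ : Subgroup E) → (q : G) ∈ (Q₀ : Subgroup E).map E.subtype :=
    fun q hq => ⟨q, hq, rfl⟩
  constructor
  · intro a ha e he
    obtain ⟨i, q, hq, haq⟩ := hdec ⟨a, (Subgroup.mem_inf.mp ha).1⟩
    obtain ⟨j, r, hr, her⟩ := hdec ⟨e, he⟩
    have hqN : (q : G) ∈ N := by
      have h1 : q = (x₀ ^ i)⁻¹ * ⟨a, (Subgroup.mem_inf.mp ha).1⟩ := by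
        rw [haq, inv_mul_cancel_left]
      rw [h1, Subgroup.coe_mul, Subgroup.coe_inv]
      exact N.mul_mem (N.inv_mem (hcN i)) (Subgroup.mem_inf.mp ha).2
    have hqr : q * r = r * q := by
      apply Subtype.ext
      rw [Subgroup.coe_mul, Subgroup.coe_mul]
      exact hQ1 _ (Subgroup.mem_inf.mpr ⟨hmemQ q hq, hqN⟩) _ (hmemQ r hr)
    have h2 : (⟨a, (Subgroup.mem_inf.mp ha).1⟩ : E) * ⟨e, he⟩ =
        ⟨e, he⟩ * ⟨a, (Subgroup.mem_inf.mp ha).1⟩ := by
      rw [haq, her]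
      calc x₀ ^ i * q * (x₀ ^ j * r) = x₀ ^ i * (q * x₀ ^ j) * r := by group
        _ = x₀ ^ i * (x₀ ^ j * q) * r := by rw [hcC j q]
        _ = x₀ ^ i * x₀ ^ j * (q * r) := by group
        _ = x₀ ^ i * x₀ ^ j * (r * q) := by rw [hqr]
        _ = x₀ ^ j * (x₀ ^ i * r) * q := by
            rw [← zpow_add, add_comm, zpow_add]; group
        _ = x₀ ^ j * (r * x₀ ^ i) * q := by rw [hcC i r]
        _ = x₀ ^ j * r * (x₀ ^ i * q) := by group
    exact congrArg Subtype.val h2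
  · intro a ha hac
    have hle : ⁅E, E⁆ ≤ ⁅(Q₀ : Subgroup E).map E.subtype, (Q₀ : Subgroup E).map E.subtype⁆ := by
      rw [Subgroup.commutator_le]
      intro g₁ hg₁ g₂ hg₂
      obtain ⟨i, q, hq, h1⟩ := hdec ⟨g₁, hg₁⟩
      obtain ⟨j, r, hr, h2⟩ := hdec ⟨g₂, hg₂⟩
      have h3 : ⁅(⟨g₁, hg₁⟩ : E), (⟨g₂, hg₂⟩ : E)⁆ = ⁅q, r⁆ := by
        rw [h1, h2, commutatorElement_def, commutatorElement_def]
        have e1 : (x₀ ^ i * q)⁻¹ = q⁻¹ * (x₀ ^ i)⁻¹ := mul_inv_rev _ _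
        have e2 : (x₀ ^ j * r)⁻¹ = r⁻¹ * (x₀ ^ j)⁻¹ := mul_inv_rev _ _
        rw [e1, e2]
        calc x₀ ^ i * q * (x₀ ^ j * r) * (q⁻¹ * (x₀ ^ i)⁻¹) * (r⁻¹ * (x₀ ^ j)⁻¹)
            = x₀ ^ i * (q * x₀ ^ j) * r * q⁻¹ * ((x₀ ^ i)⁻¹ * r⁻¹) * (x₀ ^ j)⁻¹ := by group
          _ = x₀ ^ i * (x₀ ^ j * q) * r * q⁻¹ * (r⁻¹ * (x₀ ^ i)⁻¹) * (x₀ ^ j)⁻¹ := by
              rw [hcC j q]
              have : (x₀ ^ i)⁻¹ * r⁻¹ = r⁻¹ * (x₀ ^ i)⁻¹ := by
                rw [← mul_inv_rev, ← mul_inv_rev, hcC i r]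
              rw [this]
          _ = x₀ ^ i * x₀ ^ j * (q * r * q⁻¹ * r⁻¹) * ((x₀ ^ i)⁻¹ * (x₀ ^ j)⁻¹) := by group
          _ = (q * r * q⁻¹ * r⁻¹) * (x₀ ^ i * x₀ ^ j) * ((x₀ ^ i)⁻¹ * (x₀ ^ j)⁻¹) := by
              rw [← zpow_add, hcC (i + j) (q * r * q⁻¹ * r⁻¹), zpow_add]
          _ = (q * r * q⁻¹ * r⁻¹) * (x₀ ^ j * x₀ ^ i) * ((x₀ ^ i)⁻¹ * (x₀ ^ j)⁻¹) := by
              rw [← zpow_add, add_comm, zpow_add]
          _ = q * r * q⁻¹ * r⁻¹ := by group
      have h4 : ⁅g₁, g₂⁆ = ⁅(q : G), (r : G)⁆ := by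
        have := congrArg Subtype.val h3
        simpa [commutatorElement_def] using this
      rw [h4]
      exact Subgroup.commutator_mem_commutator (hmemQ q hq) (hmemQ r hr)
    have haQ' := hle hac
    have hsub : ⁅(Q₀ : Subgroup E).map E.subtype, (Q₀ : Subgroup E).map E.subtype⁆ ≤
        (Q₀ : Subgroup E).map E.subtype := by
      rw [Subgroup.commutator_le]
      intro g₁ hg₁ g₂ hg₂
      rw [commutatorElement_def]
      exact Subgroup.mul_mem _ (Subgroup.mul_mem _ (Subgroup.mul_mem _ hg₁ hg₂)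
        (Subgroup.inv_mem _ hg₁)) (Subgroup.inv_mem _ hg₂)
    exact hQ2 a (Subgroup.mem_inf.mpr ⟨hsub haQ', (Subgroup.mem_inf.mp ha).2⟩) haQ'

end GroupPart

section Main

variable {G : Type u} [Group G] [Fintype G]

/-- Isaacs 8.26 (statement S0897). -/
theorem extends_of_sylow_inf_central (p : ℕ) [hp : Fact p.Prime] (N : Subgroup G)
    [hN : N.Normal] (hind : ∃ k : ℕ, N.index = p ^ k) (P : Sylow p G)
    (hcent : ∀ x ∈ (P : Subgroup G) ⊓ N, ∀ y ∈ (P : Subgroup G), x * y = y * x)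
    (hlin : ∀ lam : ↥((P : Subgroup G) ⊓ N) → ℂ, IsCharacter ↥((P : Subgroup G) ⊓ N) lam →
      lam 1 = 1 → ∃ μ : ↥(P : Subgroup G) → ℂ, IsCharacter ↥(P : Subgroup G) μ ∧ μ 1 = 1 ∧
        ∀ x : ↥((P : Subgroup G) ⊓ N), μ ⟨(x : G), (Subgroup.mem_inf.mp x.2).1⟩ = lam x)
    (ϑ : N → ℂ) (hϑ : IsIrrCharacter N ϑ)
    (hinv : ∀ (g : G) (n : N), ϑ ⟨g * n * g⁻¹, hN.conj_mem (n : G) n.2 g⟩ = ϑ n) :
    ∃ χ : G → ℂ, IsIrrCharacter G χ ∧ ∀ n : N, χ n = ϑ n := by
  classical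
  haveI : Fintype N := Fintype.ofFinite _
  haveI : Fintype (IrrCharacter G) := Fintype.ofFinite _
  haveI : Fintype (IrrCharacter N) := Fintype.ofFinite _
  -- group theory
  have hcomm := eq_one_of_mem_commutator_of_linear_ext (P : Subgroup G)
    ((P : Subgroup G) ⊓ N) inf_le_left hcent hlin
  have hQ := sylow_central_transport p N P hcent (fun x hx hxc => hcomm x hx hxc)
  obtain ⟨E, φ, hE, htop, hφ, -, m, hpm, hm⟩ := Dade.dade p hp.out N hind ϑ hϑ hinv
  obtain ⟨hEc, hEd⟩ := elementary_central_of_sylow_central p N hind hQ E hE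
  obtain ⟨k, hk⟩ := hind
  haveI : Fintype E := Fintype.ofFinite _
  haveI : Fintype ↥(E ⊓ N) := Fintype.ofFinite _
  rw [finsum_eq_sum_of_fintype] at hm
  -- `φ` is linear
  have hAcomm : ∀ a b : ↥(E ⊓ N), a * b = b * a := fun a b =>
    Subtype.ext (hEc a a.2 b (Subgroup.mem_inf.mp b.2).1)
  have hφ1 : φ 1 = 1 := (comm_iff_forall_irr_one (G := ↥(E ⊓ N))).mp hAcomm ⟨φ, hφ⟩
  have hφc := IsIrrCharacter.isCharacter hφ
  -- extension to `E`
  obtain ⟨M, hM⟩ := exists_hom_extension_of_inf_commutator (N.subgroupOf E)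
    ((linUnits hφc hφ1).comp (Dade.infIso' N E).toMonoidHom) (by
      intro a ha
      have h1 : ((a : E) : G) ∈ ⁅E, E⁆ := by
        rw [← Subgroup.map_subtype_commutator]
        exact ⟨(a : E), ha, rfl⟩
      have h2 : ((a : E) : G) ∈ E ⊓ N :=
        Subgroup.mem_inf.mpr ⟨(a : E).2, Subgroup.mem_subgroupOf.mp a.2⟩
      have h3 := hEd _ h2 h1
      have h4 : a = 1 := Subtype.ext (Subtype.ext h3)
      rw [h4, map_one])
  have hψ := isLin_coe M
  have hψA : ∀ x : ↥(E ⊓ N),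
      ((M ⟨(x : G), (Subgroup.mem_inf.mp x.2).1⟩ : ℂˣ) : ℂ) = φ x := by
    intro x
    have h1 := hM ((Dade.infIso' N E).symm x)
    have h2 : (((Dade.infIso' N E).symm x : N.subgroupOf E) : E) =
        ⟨(x : G), (Subgroup.mem_inf.mp x.2).1⟩ := rfl
    rw [h2] at h1
    rw [h1]
    show ((linUnits hφc hφ1 ((Dade.infIso' N E) ((Dade.infIso' N E).symm x)) : ℂˣ) : ℂ) = φ x
    rw [MulEquiv.apply_symm_apply, linUnits_apply]
  -- the Mackey computation
  have hrel : N.relIndex E = N.index := by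
    rw [← Subgroup.relIndex_sup_right, htop, Subgroup.relIndex_top_right]
  have hidx0 : (N.index : ℂ) ≠ 0 := by
    rw [hk]
    exact_mod_cast (pow_pos hp.out.pos k).ne'
  have hmack := mackey_inner N E (fun n : N => (starRingEnd ℂ) (ϑ n))
    (fun g n => by rw [hinv]) (fun e : E => ((M e : ℂˣ) : ℂ))
  rw [hrel] at hmack
  have hinner : classInner (fun n : N => indFun E (fun e : E => ((M e : ℂˣ) : ℂ)) n) ϑ =
      (m : ℂ) := by
    have h1 := mul_left_cancel₀ hidx0 hmack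
    show (Nat.card N : ℂ)⁻¹ * ∑ n : N, indFun E (fun e : E => ((M e : ℂˣ) : ℂ)) n *
      (starRingEnd ℂ) (ϑ n) = (m : ℂ)
    rw [h1]
    have h2 := congrArg (starRingEnd ℂ) hm
    rw [Complex.conj_natCast, map_mul, map_inv₀, Complex.conj_natCast, map_sum] at h2
    rw [← h2]
    congr 1
    apply Finset.sum_congr rfl
    intro x _
    rw [hψA x, map_mul, Complex.conj_conj, mul_comm]
  -- expansion in irreducible characters
  have hΨc : IsCharacter G (indFun E (fun e : E => ((M e : ℂˣ) : ℂ))) :=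
    isCharacter_indFun E hψ.1
  obtain ⟨a, ha⟩ : ∃ a : IrrCharacter G → ℕ, ∀ χ : IrrCharacter G,
      classInner (indFun E (fun e : E => ((M e : ℂˣ) : ℂ))) (χ : G → ℂ) = a χ :=
    ⟨fun χ => (IsCharacter.classInner_irr_nat hΨc χ).choose,
      fun χ => (IsCharacter.classInner_irr_nat hΨc χ).choose_spec⟩
  obtain ⟨e, he⟩ : ∃ e : IrrCharacter G → ℕ, ∀ χ : IrrCharacter G,
      classInner (fun n : N => (χ : G → ℂ) n) ϑ = e χ :=
    ⟨fun χ => (IsCharacter.classInner_irr_nat (Helper8.isCharacter_restrict N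
        (IsIrrCharacter.isCharacter χ.2)) ⟨ϑ, hϑ⟩).choose,
      fun χ => (IsCharacter.classInner_irr_nat (Helper8.isCharacter_restrict N
        (IsIrrCharacter.isCharacter χ.2)) ⟨ϑ, hϑ⟩).choose_spec⟩
  have hexp : (fun n : N => indFun E (fun e : E => ((M e : ℂˣ) : ℂ)) n) =
      ∑ χ : IrrCharacter G, (a χ : ℂ) • (fun n : N => (χ : G → ℂ) n) := by
    funext n
    have h1 := congrFun (IsCharacter.eq_sum_classInner hΨc) (n : G)
    rw [h1, Finset.sum_apply, Finset.sum_apply]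
    apply Finset.sum_congr rfl
    intro χ _
    rw [ha χ]
    rfl
  have hmsum : m = ∑ χ : IrrCharacter G, a χ * e χ := by
    have h1 : (m : ℂ) = ∑ χ : IrrCharacter G, (a χ : ℂ) * (e χ : ℂ) := by
      rw [← hinner, hexp, classInner_sum_left]
      apply Finset.sum_congr rfl
      intro χ _
      rw [classInner_smul_left, he χ]
    exact_mod_cast h1
  obtain ⟨χ, hχp⟩ : ∃ χ : IrrCharacter G, ¬ p ∣ a χ * e χ := by
    by_contra hcon
    push Not at hcon
    apply hpm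
    rw [hmsum]
    exact Finset.dvd_sum (fun χ _ => hcon χ)
  have hpe : ¬ p ∣ e χ := fun h => hχp (dvd_mul_of_dvd_right h _)
  have he0 : e χ ≠ 0 := fun h => hpe (by rw [h]; exact dvd_zero p)
  have hover : classInner (fun n : N => (χ : G → ℂ) n) ϑ ≠ 0 := by
    rw [he χ]
    exact_mod_cast he0
  obtain ⟨e', he'1, he'2⟩ := degree_ratio_dvd_index N (χ : G → ℂ) χ.2 ϑ hϑ hover
  have hfr : classInner (indFun N ϑ) (χ : G → ℂ) = (e χ : ℂ) := by
    rw [Helper8.frobenius_reciprocity N ϑ _ (isClassFunction_irr χ), ← classInner_conj_symm,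
      he χ, Complex.conj_natCast]
  have hres := Helper8.restrict_eq_of_invariant N ϑ hϑ hinv (χ : G → ℂ) χ.2 (by
    rw [hfr]; exact_mod_cast he0)
  rw [hfr] at hres
  have hϑ1 : ϑ 1 ≠ 0 := irr_one_ne_zero ⟨ϑ, hϑ⟩
  have hee' : e χ = e' := by
    have h1 := congrFun hres 1
    simp only [Pi.smul_apply, smul_eq_mul, Subgroup.coe_one] at h1
    rw [he'1] at h1
    have h2 := mul_right_cancel₀ hϑ1 h1
    exact_mod_cast h2.symm
  have hone : e χ = 1 := by
    rw [hee']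
    rw [hk] at he'2
    obtain ⟨j, -, hj⟩ := (Nat.dvd_prime_pow hp.out).mp he'2
    rcases Nat.eq_zero_or_pos j with h0 | h0
    · rw [hj, h0, pow_zero]
    · exfalso
      apply hpe
      rw [hee', hj]
      exact dvd_pow_self p h0.ne'
  refine ⟨χ, χ.2, fun n => ?_⟩
  have h1 := congrFun hres n
  rw [hone] at h1
  simpa using h1

end Main

end Cfsg.Agent.Helper24
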