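import Mathlib
import Cfsg.Prelude.Def_Characters
import Cfsg.Prelude.Def_KGroupFacts
import Cfsg.Agent.Helper24.DadeExt
import Cfsg.Agent.Helper24.CyclicExtension
import Cfsg.Agent.Helper24.ColumnOrth

/-!
A finite group has trivial Schur multiplier (all finite stem extensions are trivial) if and only
if every complex projective representation lifts to a linear representation.
-/

namespace Cfsg.Agent.Helper24

universe u

open Representation

open scoped commutatorElement

section Lift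

/-- The general linear group. -/
abbrev GLn (n : ℕ) := GL (Fin n) ℂ

/-- Scalar matrices. -/
abbrev scGL (n : ℕ) : ℂˣ →* GLn n := Matrix.GeneralLinearGroup.scalar (Fin n)

theorem scGL_mem_center (n : ℕ) (c : ℂˣ) : scGL n c ∈ Subgroup.center (GLn n) := by
  rw [Matrix.GeneralLinearGroup.center_eq_range_scalar]
  exact ⟨c, rfl⟩

theorem scGL_comm (n : ℕ) (c : ℂˣ) (A : GLn n) : scGL n c * A = A * scGL n c :=
  ((Subgroup.mem_center_iff.mp (scGL_mem_center n c)) A).symm

/-- Central factors do not change commutators (left). -/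
theorem commutatorElement_mul_central_left {H : Type*} [Group H] (x y c : H)
    (hc : ∀ z : H, z * c = c * z) : ⁅x * c, y⁆ = ⁅x, y⁆ := by
  rw [commutatorElement_def, commutatorElement_def, _root_.mul_inv_rev]
  have h1 : c * y * c⁻¹ = y := by rw [← hc y, mul_inv_cancel_right]
  calc x * c * y * (c⁻¹ * x⁻¹) * y⁻¹ = x * (c * y * c⁻¹) * x⁻¹ * y⁻¹ := by group
    _ = x * y * x⁻¹ * y⁻¹ := by rw [h1]

/-- Central factors do not change commutators (right). -/
theorem commutatorElement_mul_central_right {H : Type*} [Group H] (x y d : H)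
    (hd : ∀ z : H, z * d = d * z) : ⁅x, y * d⁆ = ⁅x, y⁆ := by
  rw [commutatorElement_def, commutatorElement_def, _root_.mul_inv_rev]
  have h1 : d * x⁻¹ * d⁻¹ = x⁻¹ := by rw [← hd x⁻¹, mul_inv_cancel_right]
  calc x * (y * d) * x⁻¹ * (d⁻¹ * y⁻¹) = x * y * (d * x⁻¹ * d⁻¹) * y⁻¹ := by group
    _ = x * y * x⁻¹ * y⁻¹ := by rw [h1]

/-- Two homomorphisms which agree modulo the centre agree on the commutator subgroup. -/
theorem eq_on_commutator_of_eq_mod_center {Γ H : Type*} [Group Γ] [Group H] (f₁ f₂ : Γ →* H)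
    (h : ∀ g : Γ, (f₂ g)⁻¹ * f₁ g ∈ Subgroup.center H) (w : Γ) (hw : w ∈ commutator Γ) :
    f₁ w = f₂ w := by
  have hle : commutator Γ ≤ MonoidHom.eqLocus f₁ f₂ := by
    rw [commutator_eq_closure, Subgroup.closure_le]
    rintro _ ⟨a, b, rfl⟩
    show f₁ ⁅a, b⁆ = f₂ ⁅a, b⁆
    rw [map_commutatorElement, map_commutatorElement]
    have ha : f₁ a = f₂ a * ((f₂ a)⁻¹ * f₁ a) := by rw [mul_inv_cancel_left]
    have hb : f₁ b = f₂ b * ((f₂ b)⁻¹ * f₁ b) := by rw [mul_inv_cancel_left]
    rw [ha, hb, commutatorElement_mul_central_left _ _ _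
      (fun z => Subgroup.mem_center_iff.mp (h a) z),
      commutatorElement_mul_central_right _ _ _
      (fun z => Subgroup.mem_center_iff.mp (h b) z)]
  exact hle hw

/-- If all projective representations of `Q` lift, every finite stem extension of `Q` has
trivial kernel. -/
theorem ker_eq_bot_of_projective_lifts {Q : Type u} [Group Q]
    (hlift : ∀ (n : ℕ) (γ : Q →* (GLn n ⧸ Subgroup.center (GLn n))),
      ∃ ρ : Q →* GLn n, (QuotientGroup.mk' (Subgroup.center (GLn n))).comp ρ = γ)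
    {Γ : Type u} [Group Γ] [Finite Γ] (σ : Γ →* Q) (hσ : IsStemExtension σ) (z : Γ)
    (hz : z ∈ σ.ker) : z = 1 := by
  classical
  haveI : Fintype Γ := Fintype.ofFinite Γ
  haveI : Fintype (IrrCharacter Γ) := Fintype.ofFinite _
  by_contra hne
  have hnc : ¬ IsConj z 1 := by
    intro hc
    rw [isConj_comm, isConj_one_right] at hc
    exact hne hc
  rw [isConj_iff_forall_irr] at hnc
  push Not at hnc
  obtain ⟨χ, hχ⟩ := hnc
  obtain ⟨n, X, hXirr, hXχ⟩ := χ.2
  haveI := hXirr
  -- the matrix form of the representation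
  let Xm : Γ →* GLn n :=
    (Matrix.GeneralLinearGroup.toLin (n := Fin n) (R := ℂ)).symm.toMonoidHom.comp
      (MonoidHom.toHomUnits X)
  have hXm : ∀ g : Γ, ((Matrix.GeneralLinearGroup.toLin (Xm g) :
      LinearMap.GeneralLinearGroup ℂ (Fin n → ℂ)) : Module.End ℂ (Fin n → ℂ)) = X g := by
    intro g
    show ((Matrix.GeneralLinearGroup.toLin
      ((Matrix.GeneralLinearGroup.toLin (n := Fin n) (R := ℂ)).symm (MonoidHom.toHomUnits X g)) :
      LinearMap.GeneralLinearGroup ℂ (Fin n → ℂ)) : Module.End ℂ (Fin n → ℂ)) = X g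
    rw [MulEquiv.apply_symm_apply]
    rfl
  -- central elements go to the centre
  have hcen : ∀ z' : Γ, z' ∈ Subgroup.center Γ → Xm z' ∈ Subgroup.center (GLn n) := by
    intro z' hz'
    have hcomm : ∀ g : Γ, X z' ∘ₗ X g = X g ∘ₗ X z' := by
      intro g
      have h1 := Subgroup.mem_center_iff.mp hz' g
      show X z' * X g = X g * X z'
      rw [← map_mul, ← map_mul, h1]
    obtain ⟨c, hc⟩ := exists_scalar_of_commute X (X z') hcomm
    rw [Subgroup.mem_center_iff]
    intro A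
    apply (Matrix.GeneralLinearGroup.toLin (n := Fin n) (R := ℂ)).injective
    apply Units.ext
    rw [map_mul, map_mul, Units.val_mul, Units.val_mul, hXm, hc]
    ext v
    simp
  have hker : σ.ker ≤ ((QuotientGroup.mk' (Subgroup.center (GLn n))).comp Xm).ker := by
    intro z' hz'
    rw [MonoidHom.mem_ker, MonoidHom.comp_apply, QuotientGroup.mk'_apply,
      QuotientGroup.eq_one_iff]
    exact hcen z' (hσ.2.1 hz')
  obtain ⟨ρ, hρ⟩ := hlift n (σ.liftOfSurjective hσ.1
    ⟨(QuotientGroup.mk' (Subgroup.center (GLn n))).comp Xm, hker⟩)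
  have hmod : ∀ g : Γ, ((ρ.comp σ) g)⁻¹ * Xm g ∈ Subgroup.center (GLn n) := by
    intro g
    rw [← QuotientGroup.eq]
    have h1 := congrArg (fun f : Q →* (GLn n ⧸ Subgroup.center (GLn n)) => f (σ g)) hρ
    simp only [MonoidHom.comp_apply, QuotientGroup.mk'_apply] at h1
    rw [MonoidHom.comp_apply, h1, MonoidHom.liftOfRightInverse_comp_apply]
    rfl
  have h1 : Xm z = ρ (σ z) :=
    eq_on_commutator_of_eq_mod_center Xm (ρ.comp σ) hmod z (hσ.2.2 hz)
  rw [MonoidHom.mem_ker.mp hz, map_one] at h1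
  have h2 : X z = 1 := by
    rw [← hXm z, h1, map_one]
    rfl
  apply hχ
  rw [← hXχ]
  show LinearMap.trace ℂ _ (X z) = LinearMap.trace ℂ _ (X 1)
  rw [h2]
  exact congrArg _ (map_one X).symm

end Lift

section Pull

variable {Q : Type u} [Group Q] {n : ℕ} (γ : Q →* (GLn n ⧸ Subgroup.center (GLn n)))

/-- A group with a homomorphism to a finite group with finite kernel is finite. -/
theorem finite_of_finite_ker {Γ Q : Type*} [Group Γ] [Group Q] [Finite Q] (f : Γ →* Q)
    (h : Finite f.ker) : Finite Γ := by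
  haveI : Finite (Γ ⧸ f.ker) :=
    Finite.of_equiv _ (QuotientGroup.quotientKerEquivRange f).symm.toEquiv
  exact Finite.of_equiv _ (Subgroup.groupEquivQuotientProdSubgroup (s := f.ker)).symm

/-- The pull-back of `GL → PGL` along `γ`, cut down to determinant one. -/
def pullOne : Subgroup (Q × GLn n) :=
  MonoidHom.eqLocus
    ((QuotientGroup.mk' (Subgroup.center (GLn n))).comp (MonoidHom.snd Q (GLn n)))
    (γ.comp (MonoidHom.fst Q (GLn n))) ⊓
  (Matrix.GeneralLinearGroup.det.comp (MonoidHom.snd Q (GLn n))).ker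

theorem mem_pullOne (p : Q × GLn n) : p ∈ pullOne γ ↔
    ((p.2 : GLn n ⧸ Subgroup.center (GLn n)) = γ p.1 ∧
      Matrix.GeneralLinearGroup.det p.2 = 1) := by
  unfold pullOne
  rw [Subgroup.mem_inf, MonoidHom.mem_ker]
  rfl

/-- The projection of the pull-back. -/
def pullProj : pullOne γ →* Q := (MonoidHom.fst Q (GLn n)).comp (pullOne γ).subtype

theorem pullProj_apply (x : pullOne γ) : pullProj γ x = (x : Q × GLn n).1 := rfl

theorem mk_scGL (c : ℂˣ) : ((scGL n c : GLn n) : GLn n ⧸ Subgroup.center (GLn n)) = 1 :=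
  (QuotientGroup.eq_one_iff _).mpr (scGL_mem_center n c)

theorem det_scGL (c : ℂˣ) : Matrix.GeneralLinearGroup.det (scGL n c) = c ^ n := by
  rw [Matrix.GeneralLinearGroup.det_scalar, Fintype.card_fin]

theorem scGL_injective (hn : 0 < n) : Function.Injective (scGL n) := by
  haveI : Nonempty (Fin n) := ⟨⟨0, hn⟩⟩
  intro a b hab
  have h1 := congrArg Units.val hab
  rw [Matrix.GeneralLinearGroup.coe_scalar, Matrix.GeneralLinearGroup.coe_scalar,
    Matrix.scalar_inj] at h1
  exact Units.ext h1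

theorem pullProj_surjective (hn : 0 < n) : Function.Surjective (pullProj γ) := by
  intro q
  obtain ⟨A₀, hA₀⟩ := QuotientGroup.mk_surjective (γ q)
  obtain ⟨r, hr⟩ := IsAlgClosed.exists_pow_nat_eq
    ((Matrix.GeneralLinearGroup.det A₀ : ℂˣ) : ℂ)⁻¹ hn
  have hr0 : r ≠ 0 := by
    intro h0
    rw [h0, zero_pow hn.ne'] at hr
    exact inv_ne_zero (Units.ne_zero _) hr.symm
  refine ⟨⟨(q, scGL n (Units.mk0 r hr0) * A₀), ?_⟩, rfl⟩
  rw [mem_pullOne]
  constructor
  · show ((scGL n (Units.mk0 r hr0) * A₀ : GLn n) : GLn n ⧸ Subgroup.center (GLn n)) = γ q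
    rw [QuotientGroup.mk_mul, mk_scGL, one_mul, hA₀]
  · show Matrix.GeneralLinearGroup.det (scGL n (Units.mk0 r hr0) * A₀) = 1
    rw [map_mul, det_scGL]
    apply Units.ext
    rw [Units.val_mul, Units.val_pow_eq_pow_val, Units.val_mk0, hr, Units.val_one]
    exact inv_mul_cancel₀ (Units.ne_zero _)

theorem exists_scalar_of_mem_ker_pullProj (x : pullOne γ) (hx : x ∈ (pullProj γ).ker) :
    ∃ c : ℂˣ, (x : Q × GLn n) = (1, scGL n c) ∧ c ^ n = 1 := by
  rw [MonoidHom.mem_ker, pullProj_apply] at hx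
  have hmem := (mem_pullOne γ _).mp x.2
  have h1 : (x : Q × GLn n).2 ∈ Subgroup.center (GLn n) := by
    rw [← QuotientGroup.eq_one_iff, hmem.1, hx, map_one]
  rw [Matrix.GeneralLinearGroup.center_eq_range_scalar] at h1
  obtain ⟨c, hc⟩ := h1
  refine ⟨c, Prod.ext hx hc.symm, ?_⟩
  have h2 := hmem.2
  rw [← hc] at h2
  rw [← det_scGL]
  exact h2

theorem ker_pullProj_le_center :
    (pullProj γ).ker ≤ Subgroup.center (pullOne γ) := by
  intro x hx
  obtain ⟨c, hc, -⟩ := exists_scalar_of_mem_ker_pullProj γ x hx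
  rw [Subgroup.mem_center_iff]
  intro y
  apply Subtype.ext
  rw [Subgroup.coe_mul, Subgroup.coe_mul, hc]
  apply Prod.ext
  · simp
  · show (y : Q × GLn n).2 * scGL n c = scGL n c * (y : Q × GLn n).2
    rw [scGL_comm]

theorem finite_pullOne [Finite Q] (hn : 0 < n) : Finite (pullOne γ) := by
  haveI : NeZero n := ⟨hn.ne'⟩
  apply finite_of_finite_ker (pullProj γ)
  have hfin : ((fun c : ℂˣ => scGL n c) '' (rootsOfUnity n ℂ : Set ℂˣ)).Finite :=
    Set.Finite.image _ (Set.finite_coe_iff.mp (inferInstanceAs (Finite (rootsOfUnity n ℂ))))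
  have hker : ((pullProj γ).ker : Set (pullOne γ)).Finite := by
    refine Set.Finite.of_finite_image
      (f := fun x : pullOne γ => (x : Q × GLn n).2) (hfin.subset ?_) ?_
    · rintro _ ⟨x, hx, rfl⟩
      obtain ⟨c, hc, hcn⟩ := exists_scalar_of_mem_ker_pullProj γ x hx
      refine ⟨c, ?_, ?_⟩
      · rw [SetLike.mem_coe, mem_rootsOfUnity]
        exact hcn
      · show scGL n c = (x : Q × GLn n).2
        rw [hc]
    · intro x hx y hy h
      apply Subtype.ext
      apply Prod.ext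
      · have h1 := MonoidHom.mem_ker.mp hx
        have h2 := MonoidHom.mem_ker.mp hy
        rw [pullProj_apply] at h1 h2
        rw [h1, h2]
      · exact h
  exact hker

end Pull

section Main

variable {Q : Type u} [Group Q] [Finite Q]

/-- If every finite stem extension of `Q` is trivial, projective representations lift. -/
theorem exists_lift_of_stem_trivial
    (hstem : ∀ (Γ : Type u) [Group Γ] [Finite Γ] (σ : Γ →* Q), IsStemExtension σ →
      ∀ z ∈ σ.ker, z = 1)
    (n : ℕ) (hn : 0 < n) (γ : Q →* (GLn n ⧸ Subgroup.center (GLn n))) :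
    ∃ ρ : Q →* GLn n, (QuotientGroup.mk' (Subgroup.center (GLn n))).comp ρ = γ := by
  classical
  haveI : Finite (pullOne γ) := finite_pullOne γ hn
  have hp₁ : Function.Surjective (pullProj γ) := pullProj_surjective γ hn
  -- the scalar of an element of the kernel
  have hex : ∀ z : (pullProj γ).ker, ∃ c : ℂˣ,
      ((z : pullOne γ) : Q × GLn n) = (1, scGL n c) := fun z => by
    obtain ⟨c, hc, -⟩ := exists_scalar_of_mem_ker_pullProj γ z z.2
    exact ⟨c, hc⟩
  choose κf hκf using hex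
  have hκsnd : ∀ z : (pullProj γ).ker, scGL n (κf z) = ((z : pullOne γ) : Q × GLn n).2 :=
    fun z => (congrArg Prod.snd (hκf z)).symm
  let κ : (pullProj γ).ker →* ℂˣ :=
    { toFun := κf
      map_one' := by
        apply scGL_injective hn
        rw [hκsnd, map_one]
        rfl
      map_mul' := by
        intro a b
        apply scGL_injective hn
        rw [map_mul, hκsnd, hκsnd, hκsnd]
        rfl }
  have hκ : ∀ z : (pullProj γ).ker, ((z : pullOne γ) : Q × GLn n) = (1, scGL n (κ z)) := hκf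
  have hκinj : Function.Injective κ := by
    intro a b hab
    apply Subtype.ext
    apply Subtype.ext
    rw [hκ a, hκ b, hab]
  -- the intersection of the kernel with the commutator subgroup
  obtain ⟨m, hm⟩ : ∃ m : ℕ, m = Nat.card
      ((pullProj γ).ker ⊓ commutator (pullOne γ) : Subgroup (pullOne γ)) := ⟨_, rfl⟩
  have hmpos : 0 < m := hm ▸ Nat.card_pos
  haveI : NeZero m := ⟨hmpos.ne'⟩
  have hpowm : ∀ a : (pullProj γ).ker, (a : pullOne γ) ∈ commutator (pullOne γ) →
      κ a ^ m = 1 := by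
    intro a ha
    rw [← map_pow]
    have h1 : (⟨(a : pullOne γ), Subgroup.mem_inf.mpr ⟨a.2, ha⟩⟩ :
        ((pullProj γ).ker ⊓ commutator (pullOne γ) : Subgroup (pullOne γ))) ^ m = 1 := by
      rw [hm]
      exact pow_card_eq_one'
    have h2 : (a : pullOne γ) ^ m = 1 := by
      have := congrArg Subtype.val h1
      simpa using this
    have h3 : a ^ m = 1 := Subtype.ext (by simpa using h2)
    rw [h3, map_one]
  obtain ⟨β, hβ⟩ := exists_hom_extension_of_inf_commutator (pullProj γ).ker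
    ((powMonoidHom m).comp κ) hpowm
  have hβ' : ∀ z : (pullProj γ).ker, β z = κ z ^ m := hβ
  -- all `m`-th roots of unity occur in the commutator subgroup
  have hroots : ∀ t : ℂˣ, t ^ m = 1 →
      ((1 : Q), scGL n t) ∈ ⁅pullOne γ, pullOne γ⁆ := by
    intro t ht
    let f : ((pullProj γ).ker ⊓ commutator (pullOne γ) : Subgroup (pullOne γ)) →
        rootsOfUnity m ℂ := fun z =>
      ⟨κ ⟨(z : pullOne γ), (Subgroup.mem_inf.mp z.2).1⟩, by
        rw [mem_rootsOfUnity]
        exact hpowm ⟨(z : pullOne γ), (Subgroup.mem_inf.mp z.2).1⟩ (Subgroup.mem_inf.mp z.2).2⟩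
    have hfinj : Function.Injective f := by
      intro a b hab
      have h1 := congrArg Subtype.val hab
      have h2 := hκinj h1
      have h3 := congrArg (fun w : (pullProj γ).ker => (w : pullOne γ)) h2
      exact Subtype.ext h3
    have hfbij : Function.Bijective f := by
      apply Function.Injective.bijective_of_nat_card_le hfinj
      rw [Complex.card_rootsOfUnity, hm]
    obtain ⟨z, hz⟩ := hfbij.2 ⟨t, (mem_rootsOfUnity _ _).mpr ht⟩
    have hz' : κ ⟨(z : pullOne γ), (Subgroup.mem_inf.mp z.2).1⟩ = t :=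
      congrArg Subtype.val hz
    have h3 := hκ ⟨(z : pullOne γ), (Subgroup.mem_inf.mp z.2).1⟩
    rw [hz'] at h3
    rw [← Subgroup.map_subtype_commutator]
    exact ⟨(z : pullOne γ), (Subgroup.mem_inf.mp z.2).2, h3⟩
  -- the new extension
  let θ : pullOne γ × ℂˣ →* ℂˣ :=
    ((powMonoidHom m).comp (MonoidHom.snd (pullOne γ) ℂˣ)) *
      (β.comp (MonoidHom.fst (pullOne γ) ℂˣ))
  have hθ : ∀ (x : pullOne γ) (s : ℂˣ), θ (x, s) = s ^ m * β x := fun x s => rfl
  let Φ : pullOne γ × ℂˣ →* Q × GLn n :=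
    MonoidHom.prod ((pullProj γ).comp (MonoidHom.fst (pullOne γ) ℂˣ))
      (MonoidHom.noncommCoprod ((MonoidHom.snd Q (GLn n)).comp (pullOne γ).subtype) (scGL n)
        (fun x s => (scGL_comm n s _).symm))
  have hΦ : ∀ (x : pullOne γ) (s : ℂˣ), Φ (x, s) =
      ((x : Q × GLn n).1, (x : Q × GLn n).2 * scGL n s) := fun x s => rfl
  have hmemΓ₂ : ∀ y : Q × GLn n, y ∈ θ.ker.map Φ ↔ ∃ (x : pullOne γ) (s : ℂˣ),
      s ^ m * β x = 1 ∧ y = ((x : Q × GLn n).1, (x : Q × GLn n).2 * scGL n s) := by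
    intro y
    rw [Subgroup.mem_map]
    constructor
    · rintro ⟨⟨x, s⟩, hxs, rfl⟩
      exact ⟨x, s, hxs, rfl⟩
    · rintro ⟨x, s, hxs, rfl⟩
      exact ⟨(x, s), hxs, rfl⟩
  have hlift : ∀ x : pullOne γ, ∃ s : ℂˣ, s ^ m * β x = 1 := by
    intro x
    obtain ⟨r, hr⟩ := IsAlgClosed.exists_pow_nat_eq ((β x : ℂˣ) : ℂ)⁻¹ hmpos
    have hr0 : r ≠ 0 := by
      intro h0
      rw [h0, zero_pow hmpos.ne'] at hr
      exact inv_ne_zero (Units.ne_zero _) hr.symm
    refine ⟨Units.mk0 r hr0, ?_⟩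
    apply Units.ext
    rw [Units.val_mul, Units.val_pow_eq_pow_val, Units.val_mk0, hr, Units.val_one]
    exact inv_mul_cancel₀ (Units.ne_zero _)
  -- finiteness
  haveI : Finite θ.ker := by
    obtain ⟨N, hN⟩ : ∃ N : ℕ, N = Nat.card (pullOne γ) := ⟨_, rfl⟩
    have hNpos : 0 < N := hN ▸ Nat.card_pos
    haveI : NeZero (m * N) := ⟨(Nat.mul_pos hmpos hNpos).ne'⟩
    have hfin : ((Set.univ : Set (pullOne γ)) ×ˢ (rootsOfUnity (m * N) ℂ : Set ℂˣ)).Finite :=
      Set.Finite.prod Set.finite_univ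
        (Set.finite_coe_iff.mp (inferInstanceAs (Finite (rootsOfUnity (m * N) ℂ))))
    apply Set.Finite.subset hfin
    rintro ⟨x, s⟩ hxs
    refine ⟨Set.mem_univ _, ?_⟩
    rw [SetLike.mem_coe, mem_rootsOfUnity, pow_mul]
    have h1 : s ^ m * β x = 1 := hxs
    have h2 : s ^ m = (β x)⁻¹ := eq_inv_of_mul_eq_one_left h1
    rw [h2, inv_pow, ← map_pow, hN, pow_card_eq_one', map_one, inv_one]
  haveI : Finite (θ.ker.map Φ) :=
    Finite.of_surjective (Φ.subgroupMap θ.ker) (MonoidHom.subgroupMap_surjective _ _)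
  -- the kernel of the projection
  have hkerdesc : ∀ y : θ.ker.map Φ, (y : Q × GLn n).1 = 1 →
      ∃ t : ℂˣ, t ^ m = 1 ∧ (y : Q × GLn n) = (1, scGL n t) := by
    intro y hy
    obtain ⟨x, s, hxs, hyx⟩ := (hmemΓ₂ _).mp y.2
    rw [hyx] at hy
    have hxker : x ∈ (pullProj γ).ker := hy
    have h1 := hκ ⟨x, hxker⟩
    have h2 : β x = κ ⟨x, hxker⟩ ^ m := hβ' ⟨x, hxker⟩
    refine ⟨κ ⟨x, hxker⟩ * s, ?_, ?_⟩
    · rw [mul_pow, ← h2, mul_comm]
      exact hxs
    · rw [hyx]
      have h3 : (x : Q × GLn n) = (1, scGL n (κ ⟨x, hxker⟩)) := h1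
      rw [h3, map_mul]
  have hstemΓ₂ : IsStemExtension
      ((MonoidHom.fst Q (GLn n)).comp (θ.ker.map Φ).subtype) := by
    refine ⟨?_, ?_, ?_⟩
    · intro q
      obtain ⟨x, hx⟩ := hp₁ q
      obtain ⟨s, hs⟩ := hlift x
      exact ⟨⟨Φ (x, s), Subgroup.mem_map_of_mem _ hs⟩, hx⟩
    · intro y hy
      obtain ⟨t, -, hyt⟩ := hkerdesc y hy
      rw [Subgroup.mem_center_iff]
      intro w
      apply Subtype.ext
      rw [Subgroup.coe_mul, Subgroup.coe_mul, hyt]
      apply Prod.ext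
      · simp
      · show (w : Q × GLn n).2 * scGL n t = scGL n t * (w : Q × GLn n).2
        rw [scGL_comm]
    · intro y hy
      obtain ⟨t, ht, hyt⟩ := hkerdesc y hy
      have hle : ⁅pullOne γ, pullOne γ⁆ ≤ ⁅θ.ker.map Φ, θ.ker.map Φ⁆ := by
        rw [Subgroup.commutator_le]
        intro g₁ hg₁ g₂ hg₂
        obtain ⟨s₁, hs₁⟩ := hlift ⟨g₁, hg₁⟩
        obtain ⟨s₂, hs₂⟩ := hlift ⟨g₂, hg₂⟩
        have hcen : ∀ (s : ℂˣ) (w : Q × GLn n),
            w * ((1 : Q), scGL n s) = ((1 : Q), scGL n s) * w := by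
          intro s w
          apply Prod.ext
          · simp
          · show w.2 * scGL n s = scGL n s * w.2
            rw [scGL_comm]
        have e1 : g₁ * ((1 : Q), scGL n s₁) ∈ θ.ker.map Φ := by
          rw [hmemΓ₂]
          refine ⟨⟨g₁, hg₁⟩, s₁, hs₁, ?_⟩
          apply Prod.ext <;> simp
        have e2 : g₂ * ((1 : Q), scGL n s₂) ∈ θ.ker.map Φ := by
          rw [hmemΓ₂]
          refine ⟨⟨g₂, hg₂⟩, s₂, hs₂, ?_⟩
          apply Prod.ext <;> simp
        have h3 := Subgroup.commutator_mem_commutator e1 e2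
        rw [commutatorElement_mul_central_left _ _ _ (hcen s₁),
          commutatorElement_mul_central_right _ _ _ (hcen s₂)] at h3
        exact h3
      have h4 : (y : Q × GLn n) ∈ ⁅θ.ker.map Φ, θ.ker.map Φ⁆ := by
        rw [hyt]
        exact hle (hroots t ht)
      rw [← Subgroup.map_subtype_commutator] at h4
      obtain ⟨y', hy', hyy'⟩ := h4
      have : y' = y := Subtype.ext hyy'
      rw [← this]
      exact hy'
  have htriv := hstem _ _ hstemΓ₂
  have hinj : Function.Injective ((MonoidHom.fst Q (GLn n)).comp (θ.ker.map Φ).subtype) := by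
    rw [injective_iff_map_eq_one]
    intro y hy
    exact htriv y hy
  let e : (θ.ker.map Φ) ≃* Q := MulEquiv.ofBijective _ ⟨hinj, hstemΓ₂.1⟩
  have he : ∀ y : θ.ker.map Φ, e y = (y : Q × GLn n).1 := fun y => rfl
  refine ⟨((MonoidHom.snd Q (GLn n)).comp (θ.ker.map Φ).subtype).comp e.symm.toMonoidHom, ?_⟩
  ext q
  show (((e.symm q : θ.ker.map Φ) : Q × GLn n).2 : GLn n ⧸ Subgroup.center (GLn n)) = γ q
  obtain ⟨x, s, -, hyx⟩ := (hmemΓ₂ _).mp (e.symm q).2
  have h1 : ((e.symm q : θ.ker.map Φ) : Q × GLn n).1 = q := by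
    rw [← he, MulEquiv.apply_symm_apply]
  rw [hyx] at h1 ⊢
  have h2 := ((mem_pullOne γ _).mp x.2).1
  show (((x : Q × GLn n).2 * scGL n s : GLn n) : GLn n ⧸ Subgroup.center (GLn n)) = γ q
  rw [QuotientGroup.mk_mul, mk_scGL, mul_one, h2]
  exact congrArg γ h1

end Main

end Cfsg.Agent.Helper24
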