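import Mathlib
import Cfsg.Agent.Helper2.S2096.Defs
import Cfsg.Agent.Helper24.S3352DIAGP
import Cfsg.Agent.Helper25.S2096WXID
import Cfsg.Agent.Helper5.S2096TXID

set_option autoImplicit false
set_option linter.unusedSectionVars false
set_option linter.unusedVariables false

/-! S2096/S2097 part B, piece HABEL (driver helper2): the torus `Ĥ` is abelian. -/

namespace Cfsg.Agent.S2096P

open Matrix Cfsg.Agent.S3352P Cfsg.Agent.S3351P Cfsg.Agent.S2086P

variable {n : ℕ} {F : Type*} [Field F] [Fintype F] {M : Type*} [Group M] {X : J n → J n → F → M}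

namespace HABEL

theorem xm_inj {a b : J n} (hab : IsRoot a b) {s t : F} (h : (xm a b s : Matrix (J n) (J n) F) =
    xm a b t) : s = t := by
  have h1 := congrFun (congrFun h a) b
  have hne : ¬ (ng b = a ∧ ng a = b) := fun h' => hab.2 h'.1.symm
  simpa [xm, Matrix.one_apply_ne hab.1, Matrix.single_apply, hne] using h1

theorem X_inj (π : M →* Matrix (J n) (J n) F)
    (hπ : ∀ a b, IsRoot a b → ∀ t : F, π (X a b t) = xm a b t) {a b : J n} (hab : IsRoot a b)
    {s t : F} (h : X a b s = X a b t) : s = t := by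
  have h1 := congrArg π h
  rw [hπ a b hab, hπ a b hab] at h1
  exact xm_inj hab h1

theorem conj_cm (h x y : M) : h * cm x y * h⁻¹ = cm (h * x * h⁻¹) (h * y * h⁻¹) := by
  unfold cm
  group

/-- multiplicativity of the scalars of a diagonal element -/
theorem scal_mul (π : M →* Matrix (J n) (J n) F)
    (hπ : ∀ a b, IsRoot a b → ∀ t : F, π (X a b t) = xm a b t) (hX : DRel X) {h : M}
    {c : J n → J n → F}
    (hc : ∀ a b, IsRoot a b → c a b ≠ 0 ∧ ∀ u : F, h * X a b u * h⁻¹ = X a b (c a b * u))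
    {a b e : J n} (hab : IsRoot a b) (hbe : IsRoot b e) (hae : IsRoot a e) :
    c a b * c b e = c a e := by
  have h1 := hX.mul a b e hab hbe hae 1 1
  have h2 : h * cm (X a b 1) (X b e 1) * h⁻¹ = h * X a e (1 * 1) * h⁻¹ := by rw [h1]
  rw [conj_cm, (hc a b hab).2, (hc b e hbe).2, (hc a e hae).2, hX.mul a b e hab hbe hae] at h2
  have h3 := X_inj π hπ hae h2
  simpa using h3

/-- the scalars on opposite roots are inverse to each other -/
theorem scal_inv (π : M →* Matrix (J n) (J n) F)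
    (hπ : ∀ a b, IsRoot a b → ∀ t : F, π (X a b t) = xm a b t) (hn : 3 ≤ n) (hX : DRel X) {h : M}
    {c : J n → J n → F}
    (hc : ∀ a b, IsRoot a b → c a b ≠ 0 ∧ ∀ u : F, h * X a b u * h⁻¹ = X a b (c a b * u))
    {a b : J n} (hab : IsRoot a b) : c a b * c b a = 1 := by
  obtain ⟨k, hka, hkb⟩ := exists_third_ab hn (ab a) (ab b)
  set e : J n := Sum.inl k with he
  have hea : IsRoot e a := isRoot_iff_ab.2 (by rw [he, ab_inl]; exact hka)
  have heb : IsRoot e b := isRoot_iff_ab.2 (by rw [he, ab_inl]; exact hkb)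
  have h1 := scal_mul π hπ hX hc hea hab heb
  have h2 := scal_mul π hπ hX hc heb hab.symm hea
  have h0 : c e a ≠ 0 := (hc e a hea).1
  have h3 : c e a * (c a b * c b a) = c e a * 1 := by
    rw [← mul_assoc, h1, h2, mul_one]
  exact mul_left_cancel₀ h0 h3

theorem conj_wX (π : M →* Matrix (J n) (J n) F)
    (hπ : ∀ a b, IsRoot a b → ∀ t : F, π (X a b t) = xm a b t) (hn : 3 ≤ n) (hX : DRel X) {h : M}
    {c : J n → J n → F}
    (hc : ∀ a b, IsRoot a b → c a b ≠ 0 ∧ ∀ u : F, h * X a b u * h⁻¹ = X a b (c a b * u))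
    {a b : J n} (hab : IsRoot a b) (u : F) :
    h * wX X a b u * h⁻¹ = wX X a b (c a b * u) := by
  have hinv := scal_inv π hπ hn hX hc hab
  have hba : c b a = (c a b)⁻¹ := by
    have h0 : c a b ≠ 0 := (hc a b hab).1
    field_simp
    rw [mul_comm]
    exact hinv
  unfold wX
  have e : h * (X a b u * X b a (-u⁻¹) * X a b u) * h⁻¹ =
      (h * X a b u * h⁻¹) * (h * X b a (-u⁻¹) * h⁻¹) * (h * X a b u * h⁻¹) := by group
  rw [e, (hc a b hab).2, (hc b a hab.symm).2, hba, mul_inv, mul_neg]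

theorem conj_tX (π : M →* Matrix (J n) (J n) F)
    (hπ : ∀ a b, IsRoot a b → ∀ t : F, π (X a b t) = xm a b t) (hn : 3 ≤ n) (hX : DRel X) {h : M}
    (hh : DiagP X h) {a b : J n} (hab : IsRoot a b) {u : F} (hu : u ≠ 0) :
    h * tX X a b u * h⁻¹ = tX X a b u := by
  obtain ⟨c, hc⟩ := hh
  have hα : c a b ≠ 0 := (hc a b hab).1
  have e : h * tX X a b u * h⁻¹ = (h * wX X a b u * h⁻¹) * (h * wX X a b (-1) * h⁻¹) := by
    unfold tX
    group
  rw [e, conj_wX π hπ hn hX hc hab, conj_wX π hπ hn hX hc hab, mul_neg, mul_one,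
    ← wX_inv' hX hab, wX_eq_tX_mul hX hab (c a b * u), wX_eq_tX_mul hX hab (c a b),
    mul_comm (c a b) u, tX_mul hn hX hab hu hα]
  group

end HABEL

/-- HABEL -/
theorem Hh_comm (π : M →* Matrix (J n) (J n) F)
    (hπ : ∀ a b, IsRoot a b → ∀ t : F, π (X a b t) = xm a b t) (hn : 3 ≤ n) (hX : DRel X) {h h' : M} (hh : h ∈ Hh X) (hh' : h' ∈ Hh X) :
    h * h' = h' * h := by
  have hd : DiagP X h := diagP_of_mem_Hh hn hX hh
  have hle : Hh X ≤ Subgroup.centralizer {h} := by
    unfold Hh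
    rw [Subgroup.closure_le]
    rintro _ ⟨a, b, t, hab, ht, rfl⟩
    rw [SetLike.mem_coe, Subgroup.mem_centralizer_iff]
    intro y hy
    rw [Set.mem_singleton_iff] at hy
    subst hy
    have h1 := HABEL.conj_tX π hπ hn hX hd hab ht
    calc y * tX X a b t = (y * tX X a b t * y⁻¹) * y := by group
      _ = tX X a b t * y := by rw [h1]
  have := hle hh'
  rw [Subgroup.mem_centralizer_iff] at this
  exact this h (Set.mem_singleton h)

end Cfsg.Agent.S2096P
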