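import Mathlib
import Cfsg.Agent.Helper5.S2536DefsA
import Cfsg.Agent.Helper5.S2536Basic
import Cfsg.Agent.Helper3.HallUnivA

/-! S2536 stage 2, piece MAXHALL: Hall subgroups are maximal `π`-subgroups; `D_π ⇒ C_π`;
conjugates of Hall subgroups are Hall subgroups. -/

set_option autoImplicit false

namespace Cfsg.Agent.S2536P

open Equiv Nat

universe u v

section General

variable {G : Type u} [Group G] [Finite G]

/-- MAXHALL1 -/
theorem maximal_of_isPiHall {π : Set ℕ} {H : Subgroup G} (hH : Cfsg.IsPiHall π H) :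
    Maximal (Cfsg.IsPiSubgroup π) H := by
  refine ⟨hH.1, fun L hL hHL => ?_⟩
  have hdvd : Nat.card L ∣ Nat.card H := card_dvd_card_of_isPiHall hH hL
  have hle : Nat.card L ≤ Nat.card H := Nat.le_of_dvd Nat.card_pos hdvd
  have : H = L := Subgroup.eq_of_le_of_card_ge hHL hle
  rw [this]

/-- MAXHALL3 -/
theorem isPiHall_map_conj {π : Set ℕ} {H : Subgroup G} (hH : Cfsg.IsPiHall π H) (g : G) :
    Cfsg.IsPiHall π (H.map (MulAut.conj g).toMonoidHom) := by
  have hcard : Nat.card (H.map (MulAut.conj g).toMonoidHom) = Nat.card H :=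
    Cfsg.Agent.Helper3.HallUniv.card_map_conj g H
  have hidx : (H.map (MulAut.conj g).toMonoidHom).index = H.index := by
    have h1 := Subgroup.card_mul_index H
    have h2 := Subgroup.card_mul_index (H.map (MulAut.conj g).toMonoidHom)
    rw [hcard, ← h1] at h2
    exact Nat.eq_of_mul_eq_mul_left Nat.card_pos h2
  refine ⟨?_, ?_⟩
  · rw [hcard]; exact hH.1
  · rw [hidx]; exact hH.2

/-- MAXHALL2 -/
theorem isCPiGroup_of_isDPiGroup {π : Set ℕ} (hD : Cfsg.IsDPiGroup π G) : Cfsg.IsCPiGroup π G := by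
  refine ⟨Cfsg.Agent.Helper3.HallUniv.isEPiGroup_of_isDPiGroup π hD, fun H K hH hK => ?_⟩
  exact hD H K (maximal_of_isPiHall hH) (maximal_of_isPiHall hK)

end General

end Cfsg.Agent.S2536P
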