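import Mathlib

/-!
# S3067 (Glauberman 1966): definitions and basic lemmas

Internal setting: `X` a finite group, `a : X` with `a ^ r = 1` (`r` prime), `G ≤ X` normalised by `a`,
`r ∤ |G|`, `τ ∈ G` an involution with `C_G(τ) ≤ C(a)`.  Claim: `R a G = ⟨[g,a] : g ∈ G⟩` has odd order.
-/

set_option autoImplicit false

namespace Cfsg.Agent.S3067P

variable {X : Type*} [Group X]

/-- The hypotheses of the main claim. -/
structure Hyp (a : X) (r : ℕ) (G : Subgroup X) (τ : X) : Prop where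
  hr : r.Prime
  har : a ^ r = 1
  hnorm : ∀ g ∈ G, a⁻¹ * g * a ∈ G
  hnorm' : ∀ g ∈ G, a * g * a⁻¹ ∈ G
  hcop : (Nat.card G).Coprime r
  hτG : τ ∈ G
  hτ2 : τ * τ = 1
  hτ1 : τ ≠ 1
  hcent : ∀ g ∈ G, g * τ = τ * g → g * a = a * g

/-- `[G,a]`, the subgroup generated by the commutators `g⁻¹ a⁻¹ g a`. -/
def R (a : X) (G : Subgroup X) : Subgroup X :=
  Subgroup.closure {x | ∃ g ∈ G, x = g⁻¹ * a⁻¹ * g * a}

/-- The kernel of the action of `G` on the `G`-conjugates of `a`. -/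
def N0 (a : X) (G : Subgroup X) : Subgroup X where
  carrier := {n | n ∈ G ∧ ∀ k ∈ G, n * (k⁻¹ * a * k) = (k⁻¹ * a * k) * n}
  one_mem' := ⟨G.one_mem, fun k _ => by simp⟩
  mul_mem' := by
    rintro x y ⟨hx, hx'⟩ ⟨hy, hy'⟩
    refine ⟨G.mul_mem hx hy, fun k hk => ?_⟩
    rw [mul_assoc, hy' k hk, ← mul_assoc, hx' k hk, mul_assoc]
  inv_mem' := by
    rintro x ⟨hx, hx'⟩
    refine ⟨G.inv_mem hx, fun k hk => ?_⟩
    have := hx' k hk
    calc x⁻¹ * (k⁻¹ * a * k) = x⁻¹ * ((k⁻¹ * a * k) * x) * x⁻¹ := by group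
      _ = x⁻¹ * (x * (k⁻¹ * a * k)) * x⁻¹ := by rw [this]
      _ = (k⁻¹ * a * k) * x⁻¹ := by group

theorem mem_N0 {a : X} {G : Subgroup X} {n : X} :
    n ∈ N0 a G ↔ n ∈ G ∧ ∀ k ∈ G, n * (k⁻¹ * a * k) = (k⁻¹ * a * k) * n := Iff.rfl

theorem N0_le (a : X) (G : Subgroup X) : N0 a G ≤ G := fun _ h => h.1

theorem N0_comm_a {a : X} {G : Subgroup X} {n : X} (hn : n ∈ N0 a G) : n * a = a * n := by
  have := hn.2 1 G.one_mem
  simpa using this

theorem N0_conj_mem {a : X} {G : Subgroup X} {n g : X} (hn : n ∈ N0 a G) (hg : g ∈ G) :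
    g⁻¹ * n * g ∈ N0 a G := by
  refine ⟨G.mul_mem (G.mul_mem (G.inv_mem hg) hn.1) hg, fun k hk => ?_⟩
  have := hn.2 (k * g⁻¹) (G.mul_mem hk (G.inv_mem hg))
  calc g⁻¹ * n * g * (k⁻¹ * a * k) = g⁻¹ * (n * ((k * g⁻¹)⁻¹ * a * (k * g⁻¹))) * g := by group
    _ = g⁻¹ * (((k * g⁻¹)⁻¹ * a * (k * g⁻¹)) * n) * g := by rw [this]
    _ = (k⁻¹ * a * k) * (g⁻¹ * n * g) := by group

theorem gen_mem_R {a : X} {G : Subgroup X} {g : X} (hg : g ∈ G) : g⁻¹ * a⁻¹ * g * a ∈ R a G :=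
  Subgroup.subset_closure ⟨g, hg, rfl⟩

section basic

variable {a τ : X} {r : ℕ} {G : Subgroup X}

/-- `L0`: an element of `G` whose product with a commuting `r`-element is an `r`-element is trivial. -/
theorem L0 (h : Hyp a r G τ) (c b : X) (hc : c ∈ G) (hcb : Commute c b) (hb : b ^ r = 1)
    (hcbr : (c * b) ^ r = 1) : c = 1 := by
  have h1 : c ^ r = 1 := by
    have := hcb.mul_pow r
    rw [hcbr, hb, mul_one] at this
    exact this.symm
  have h2 : orderOf c ∣ r := orderOf_dvd_of_pow_eq_one h1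
  have h3 : orderOf c ∣ Nat.card G := by
    have := Subgroup.orderOf_dvd_natCard G hc
    exact this
  have h4 : orderOf c ∣ 1 := by
    have := Nat.dvd_gcd h3 h2
    rwa [Nat.Coprime.gcd_eq_one h.hcop] at this
  exact orderOf_eq_one_iff.1 (Nat.dvd_one.1 h4)

/-- `a` commutes with `τ`. -/
theorem comm_τ_a (h : Hyp a r G τ) : τ * a = a * τ := h.hcent τ h.hτG rfl

/-- `L1` (fusion): a conjugate of `τ` commutes with exactly one conjugate of `a`. -/
theorem FUSION (h : Hyp a r G τ) (g k : X) (hg : g ∈ G) (hk : k ∈ G)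
    (hcomm : Commute (g⁻¹ * τ * g) (k⁻¹ * a * k)) : g⁻¹ * a * g = k⁻¹ * a * k := by
  -- q = g k⁻¹, u = q a q⁻¹ commutes with τ
  set q := g * k⁻¹ with hq
  have hqG : q ∈ G := G.mul_mem hg (G.inv_mem hk)
  have hu : Commute (q * a * q⁻¹) τ := by
    have h1 : (g⁻¹ * τ * g) * (k⁻¹ * a * k) = (k⁻¹ * a * k) * (g⁻¹ * τ * g) := hcomm
    show q * a * q⁻¹ * τ = τ * (q * a * q⁻¹)
    calc q * a * q⁻¹ * τ = g * ((k⁻¹ * a * k) * (g⁻¹ * τ * g)) * g⁻¹ := by rw [hq]; group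
      _ = g * ((g⁻¹ * τ * g) * (k⁻¹ * a * k)) * g⁻¹ := by rw [h1]
      _ = τ * (q * a * q⁻¹) := by rw [hq]; group
  set c := q * a * q⁻¹ * a⁻¹ with hc
  have hcG : c ∈ G := by
    have : c = q * (a * q⁻¹ * a⁻¹) := by rw [hc]; group
    rw [this]
    exact G.mul_mem hqG (h.hnorm' _ (G.inv_mem hqG))
  have hcτ : c * τ = τ * c := by
    have h2 : a⁻¹ * τ = τ * a⁻¹ := by
      have := comm_τ_a h
      calc a⁻¹ * τ = a⁻¹ * (τ * a) * a⁻¹ := by group
        _ = a⁻¹ * (a * τ) * a⁻¹ := by rw [this]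
        _ = τ * a⁻¹ := by group
    calc c * τ = q * a * q⁻¹ * (a⁻¹ * τ) := by rw [hc]; group
      _ = (q * a * q⁻¹ * τ) * a⁻¹ := by rw [h2]; group
      _ = (τ * (q * a * q⁻¹)) * a⁻¹ := by rw [hu.eq]
      _ = τ * c := by rw [hc]; group
  have hca : Commute c a := h.hcent c hcG hcτ
  have hca' : c * a = q * a * q⁻¹ := by rw [hc]; group
  have hpow : (c * a) ^ r = 1 := by
    rw [hca', conj_pow, h.har]; group
  have hc1 : c = 1 := L0 h c a hcG hca h.har hpow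
  have hqa : q * a = a * q := by
    have : q * a * q⁻¹ * a⁻¹ = 1 := hc1
    calc q * a = (q * a * q⁻¹ * a⁻¹) * a * q := by group
      _ = a * q := by rw [this, one_mul]
  calc g⁻¹ * a * g = k⁻¹ * (q⁻¹ * (a * q)) * k := by rw [hq]; group
    _ = k⁻¹ * (q⁻¹ * (q * a)) * k := by rw [hqa]
    _ = k⁻¹ * a * k := by group

/-- the centraliser in `G` of a conjugate of `τ` centralises the corresponding conjugate of `a`. -/
theorem CENTCONJ (h : Hyp a r G τ) (g c : X) (hg : g ∈ G) (hc : c ∈ G)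
    (hcomm : Commute c (g⁻¹ * τ * g)) : Commute c (g⁻¹ * a * g) := by
  have h1 : (g * c * g⁻¹) * τ = τ * (g * c * g⁻¹) := by
    have : c * (g⁻¹ * τ * g) = (g⁻¹ * τ * g) * c := hcomm
    calc (g * c * g⁻¹) * τ = g * (c * (g⁻¹ * τ * g)) * g⁻¹ := by group
      _ = g * ((g⁻¹ * τ * g) * c) * g⁻¹ := by rw [this]
      _ = τ * (g * c * g⁻¹) := by group
  have h2 := h.hcent _ (G.mul_mem (G.mul_mem hg hc) (G.inv_mem hg)) h1
  show c * (g⁻¹ * a * g) = (g⁻¹ * a * g) * c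
  calc c * (g⁻¹ * a * g) = g⁻¹ * ((g * c * g⁻¹) * a) * g := by group
    _ = g⁻¹ * (a * (g * c * g⁻¹)) * g := by rw [h2]
    _ = (g⁻¹ * a * g) * c := by group

/-- an element of `G` commuting with `a`-conjugate `g⁻¹ a g` and ... : `g⁻¹ a g = a` iff `g` centralises `a`. -/
theorem conj_eq_self_iff (g : X) : g⁻¹ * a * g = a ↔ g * a = a * g := by
  constructor
  · intro h1
    calc g * a = g * (g⁻¹ * a * g) := by rw [h1]
      _ = a * g := by group
  · intro h1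
    calc g⁻¹ * a * g = g⁻¹ * (a * g) := by group
      _ = g⁻¹ * (g * a) := by rw [h1]
      _ = a := by group

/-- A conjugate of `τ` that commutes with `a` is a conjugate by an element of `C_G(a)`. -/
theorem mem_H_of_comm (h : Hyp a r G τ) (g : X) (hg : g ∈ G)
    (hcomm : Commute (g⁻¹ * τ * g) a) : g * a = a * g := by
  have := FUSION h g 1 hg G.one_mem (by simpa using hcomm)
  rw [inv_one, one_mul, mul_one] at this
  exact (conj_eq_self_iff g).1 this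

/-- `R a G ≤ G`. -/
theorem R_le (h : Hyp a r G τ) : R a G ≤ G := by
  unfold R
  rw [Subgroup.closure_le]
  rintro x ⟨g, hg, rfl⟩
  have : g⁻¹ * a⁻¹ * g * a = g⁻¹ * (a⁻¹ * g * a) := by group
  rw [this]
  exact G.mul_mem (G.inv_mem hg) (h.hnorm g hg)

/-- `R a G` is normalised by `a`. -/
theorem R_ainv (h : Hyp a r G τ) : ∀ x ∈ R a G, a⁻¹ * x * a ∈ R a G := by
  intro x hx
  unfold R at hx ⊢
  induction hx using Subgroup.closure_induction with
  | mem y hy =>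
    obtain ⟨g, hg, rfl⟩ := hy
    apply Subgroup.subset_closure
    refine ⟨a⁻¹ * g * a, h.hnorm g hg, ?_⟩
    group
  | one => simp
  | mul y z _ _ hy hz =>
    have : a⁻¹ * (y * z) * a = (a⁻¹ * y * a) * (a⁻¹ * z * a) := by group
    rw [this]; exact Subgroup.mul_mem _ hy hz
  | inv y _ hy =>
    have : a⁻¹ * y⁻¹ * a = (a⁻¹ * y * a)⁻¹ := by group
    rw [this]; exact Subgroup.inv_mem _ hy

/-- `R a G` is normalised by `a⁻¹`. -/
theorem R_ainv' (h : Hyp a r G τ) : ∀ x ∈ R a G, a * x * a⁻¹ ∈ R a G := by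
  intro x hx
  unfold R at hx ⊢
  induction hx using Subgroup.closure_induction with
  | mem y hy =>
    obtain ⟨g, hg, rfl⟩ := hy
    apply Subgroup.subset_closure
    refine ⟨a * g * a⁻¹, h.hnorm' g hg, ?_⟩
    group
  | one => simp
  | mul y z _ _ hy hz =>
    have : a * (y * z) * a⁻¹ = (a * y * a⁻¹) * (a * z * a⁻¹) := by group
    rw [this]; exact Subgroup.mul_mem _ hy hz
  | inv y _ hy =>
    have : a * y⁻¹ * a⁻¹ = (a * y * a⁻¹)⁻¹ := by group
    rw [this]; exact Subgroup.inv_mem _ hy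

/-- `R a G` is normalised by `G`. -/
theorem R_normal : ∀ g ∈ G, ∀ x ∈ R a G, g⁻¹ * x * g ∈ R a G := by
  intro g hg x hx
  unfold R at hx ⊢
  induction hx using Subgroup.closure_induction with
  | mem y hy =>
    obtain ⟨k, hk, rfl⟩ := hy
    -- g⁻¹ [k,a] g = [k g, a] [g,a]⁻¹
    have e : g⁻¹ * (k⁻¹ * a⁻¹ * k * a) * g
        = ((k * g)⁻¹ * a⁻¹ * (k * g) * a) * (g⁻¹ * a⁻¹ * g * a)⁻¹ := by group
    rw [e]
    exact Subgroup.mul_mem _ (Subgroup.subset_closure ⟨k * g, G.mul_mem hk hg, rfl⟩)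
      (Subgroup.inv_mem _ (Subgroup.subset_closure ⟨g, hg, rfl⟩))
  | one => simp
  | mul y z _ _ hy hz =>
    have : g⁻¹ * (y * z) * g = (g⁻¹ * y * g) * (g⁻¹ * z * g) := by group
    rw [this]; exact Subgroup.mul_mem _ hy hz
  | inv y _ hy =>
    have : g⁻¹ * y⁻¹ * g = (g⁻¹ * y * g)⁻¹ := by group
    rw [this]; exact Subgroup.inv_mem _ hy

end basic

end Cfsg.Agent.S3067P
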