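import Mathlib
import Cfsg.Agent.Helper2.S3086Defs
import Cfsg.Agent.Helper2.S3086Basic
import Cfsg.Agent.Helper7.PLocal
import Cfsg.Agent.Helper7.PComponent3
import Cfsg.Agent.Helper7.Quasisimple

/-! S3086 board `s3086pieces`, row QS2: `QS_gen_pprime`, `QS_map`, `QS_exists_pprime`. -/

set_option autoImplicit false
set_option linter.unusedSectionVars false

namespace Cfsg.Agent.S3086P

section QS
variable {G : Type*} [Group G] {K : Subgroup G}

/-- a power of `a` by a suitable power of `q` has order coprime to `q` -/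
theorem QS2_aux_pow_coprime [Finite G] (q : ℕ) [hq : Fact q.Prime] (a : G) :
    ∃ k : ℕ, (orderOf (a ^ q ^ k)).Coprime q := by
  have hpos : 0 < orderOf a := orderOf_pos a
  obtain ⟨k, m, hm, hkm⟩ := Nat.exists_eq_pow_mul_and_not_dvd hpos.ne' q hq.out.ne_one
  refine ⟨k, ?_⟩
  have h1 : orderOf (a ^ q ^ k) = m := by
    rw [orderOf_pow a, hkm, Nat.gcd_eq_right (Dvd.intro _ rfl)]
    exact Nat.mul_div_cancel_left m (pow_pos hq.out.pos k)
  rw [h1]
  exact (Nat.Coprime.symm ((Nat.Prime.coprime_iff_not_dvd hq.out).mpr hm))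

/-- QSe (M): `K = O^p(K)` is generated by its `p'`-elements. -/
theorem QS_gen_pprime [Finite G] (hK : Cfsg.IsQuasisimple ↥K) (q : ℕ) [Fact q.Prime] :
    Subgroup.closure {x | x ∈ K ∧ (orderOf x).Coprime q} = K := by
  apply le_antisymm
  · rw [Subgroup.closure_le]
    rintro x ⟨hx, -⟩
    exact hx
  · have hperf : ⁅K, K⁆ = K := by
      have := hK.1
      exact Subgroup.isPerfect_iff.1 this
    apply Cfsg.Agent.Helper7.le_of_perfect_of_forall_pow_mem hperf q
    · intro k hk
      rw [Subgroup.mem_normalizer_iff]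
      -- conjugation by `k` preserves the generating set
      have key : ∀ g : G, g ∈ K → ∀ n, n ∈ Subgroup.closure {x | x ∈ K ∧ (orderOf x).Coprime q} →
          g * n * g⁻¹ ∈ Subgroup.closure {x | x ∈ K ∧ (orderOf x).Coprime q} := by
        intro g hg n hn
        induction hn using Subgroup.closure_induction with
        | mem x hx =>
          apply Subgroup.subset_closure
          refine ⟨K.mul_mem (K.mul_mem hg hx.1) (K.inv_mem hg), ?_⟩
          have : orderOf (g * x * g⁻¹) = orderOf x := by
            have := orderOf_injective (MulAut.conj g).toMonoidHom (MulAut.conj g).injective x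
            simpa [MulAut.conj_apply] using this
          rw [this]; exact hx.2
        | one => simp
        | mul x y _ _ hx hy =>
          have : g * (x * y) * g⁻¹ = (g * x * g⁻¹) * (g * y * g⁻¹) := by group
          rw [this]; exact Subgroup.mul_mem _ hx hy
        | inv x _ hx =>
          have : g * x⁻¹ * g⁻¹ = (g * x * g⁻¹)⁻¹ := by group
          rw [this]; exact Subgroup.inv_mem _ hx
      intro n
      constructor
      · intro hn
        exact key k hk n hn
      · intro hn
        have := key k⁻¹ (K.inv_mem hk) _ hn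
        have e : k⁻¹ * (k * n * k⁻¹) * k⁻¹⁻¹ = n := by group
        rwa [e] at this
    · intro a ha
      obtain ⟨k, hk⟩ := QS2_aux_pow_coprime q a
      exact ⟨k, Subgroup.subset_closure ⟨K.pow_mem ha _, hk⟩⟩

/-- QSf (M): a nontrivial homomorphic image of a quasisimple subgroup is quasisimple. -/
theorem QS_map {H : Type*} [Group H] [Finite G] (hK : Cfsg.IsQuasisimple ↥K) (f : G →* H) (hf : ¬ K ≤ f.ker) :
    Cfsg.IsQuasisimple ↥(K.map f) := by
  have hnt : Nontrivial ↥(K.map f) := by
    rw [Subgroup.nontrivial_iff_ne_bot]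
    intro h
    apply hf
    rw [← Subgroup.map_eq_bot_iff]
    exact h
  exact Cfsg.Agent.Helper7.isQuasisimple_of_surjective' hK (f.subgroupMap K) (f.subgroupMap_surjective K)

/-- QSg (S/M): a non-central element of `p'`-order exists. -/
theorem QS_exists_pprime [Finite G] (hK : Cfsg.IsQuasisimple ↥K) (q : ℕ) [Fact q.Prime] :
    ∃ x ∈ K, (orderOf x).Coprime q ∧ ∃ y ∈ K, x * y ≠ y * x := by
  by_contra hcon
  push Not at hcon
  have hle : K ≤ Subgroup.centralizer (K : Set G) := by
    conv_lhs => rw [← QS_gen_pprime hK q]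
    rw [Subgroup.closure_le]
    rintro x ⟨hx, hxq⟩
    show x ∈ Subgroup.centralizer (K : Set G)
    rw [Subgroup.mem_centralizer_iff]
    intro y hy
    exact (hcon x hx hxq y hy).symm
  apply Cfsg.Agent.Helper7.IsQuasisimple.not_isMulCommutative hK
  refine ⟨⟨?_⟩⟩
  rintro ⟨x, hx⟩ ⟨y, hy⟩
  apply Subtype.ext
  have := hle hx
  rw [Subgroup.mem_centralizer_iff] at this
  exact (this y hy).symm

end QS

end Cfsg.Agent.S3086P
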