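import Cfsg.Agent.Helper11.S3786Defs

/-! Board `s3786pieces`, row MODEL (helper24): for a subgroup `C` of class at most `2` with `C² ≤ Z(C)`, the model
`M = C/Z(C)` (additive, exponent 2) with the conjugation action of `N_H(C)` and the commutator form with values in
`Z(C)`. -/

set_option autoImplicit false

namespace Cfsg.Agent.S3786P

open Subgroup

universe u

section MODELsec

variable {H : Type u} [Group H] (C : Subgroup H)

theorem MODEL_aux_mem_center (a : ↥C) : a ∈ center ↥C ↔ (a : H) ∈ centralizer (C : Set H) := by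
  rw [mem_center_iff, mem_centralizer_iff]
  constructor
  · intro h c hc
    exact congrArg Subtype.val (h ⟨c, hc⟩)
  · intro h c
    exact Subtype.ext (h c c.2)

/-- conjugation by an element of the normaliser, as an endomorphism of `C` -/
def MODEL_aux_conj (g : ↥(normalizer (C : Set H))) : ↥C →* ↥C where
  toFun a := ⟨(g : H) * a * (g : H)⁻¹, (mem_normalizer_iff.mp g.2 a).mp a.2⟩
  map_one' := Subtype.ext (by simp)
  map_mul' a b := Subtype.ext (by simp [mul_assoc])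

theorem MODEL_aux_conj_coe (g : ↥(normalizer (C : Set H))) (a : ↥C) :
    ((MODEL_aux_conj C g a : ↥C) : H) = (g : H) * a * (g : H)⁻¹ := rfl

theorem MODEL_aux_conj_center (g : ↥(normalizer (C : Set H))) (a : ↥C) (ha : a ∈ center ↥C) :
    MODEL_aux_conj C g a ∈ center ↥C := by
  rw [ MODEL_aux_mem_center] at ha ⊢
  rw [mem_centralizer_iff] at ha ⊢
  intro c hc
  have hc' : (g : H)⁻¹ * c * (g : H) ∈ C := (mem_normalizer_iff''.mp g.2 c).mp hc
  have := ha _ hc'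
  rw [ MODEL_aux_conj_coe]
  calc c * ((g : H) * a * (g : H)⁻¹) = (g : H) * (((g : H)⁻¹ * c * (g : H)) * a) * (g : H)⁻¹ := by group
    _ = (g : H) * ((a : H) * ((g : H)⁻¹ * c * (g : H))) * (g : H)⁻¹ := by rw [this]
    _ = (g : H) * a * (g : H)⁻¹ * c := by group

/-- the induced map on `C / Z(C)` -/
def MODEL_aux_map (g : ↥(normalizer (C : Set H))) : (↥C ⧸ center ↥C) →* (↥C ⧸ center ↥C) :=
  QuotientGroup.map (center ↥C) (center ↥C) (MODEL_aux_conj C g) (fun a ha => MODEL_aux_conj_center C g a ha)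

theorem MODEL_aux_map_mk (g : ↥(normalizer (C : Set H))) (a : ↥C) :
    MODEL_aux_map C g (QuotientGroup.mk a) = QuotientGroup.mk (MODEL_aux_conj C g a) := rfl

theorem MODEL_aux_map_one (x : ↥C ⧸ center ↥C) : MODEL_aux_map C 1 x = x := by
  obtain ⟨a, rfl⟩ := QuotientGroup.mk_surjective x
  rw [ MODEL_aux_map_mk]
  congr 1
  exact Subtype.ext (by rw [ MODEL_aux_conj_coe]; simp)

theorem MODEL_aux_map_mul (g h : ↥(normalizer (C : Set H))) (x : ↥C ⧸ center ↥C) :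
    MODEL_aux_map C (g * h) x = MODEL_aux_map C g (MODEL_aux_map C h x) := by
  obtain ⟨a, rfl⟩ := QuotientGroup.mk_surjective x
  rw [ MODEL_aux_map_mk, MODEL_aux_map_mk, MODEL_aux_map_mk]
  congr 1
  exact Subtype.ext (by simp only [ MODEL_aux_conj_coe]; simp [mul_assoc])

variable (hcl : ∀ a ∈ C, ∀ b ∈ C, a * b * a⁻¹ * b⁻¹ ∈ centralizer (C : Set H))

/-- `C / Z(C)` is abelian -/
@[instance_reducible] def MODEL_aux_comm : CommGroup (↥C ⧸ center ↥C) :=
  { (inferInstance : Group (↥C ⧸ center ↥C)) with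
    mul_comm := by
      intro x y
      obtain ⟨a, rfl⟩ := QuotientGroup.mk_surjective x
      obtain ⟨b, rfl⟩ := QuotientGroup.mk_surjective y
      rw [← QuotientGroup.mk_mul, ← QuotientGroup.mk_mul, QuotientGroup.eq, MODEL_aux_mem_center]
      have := hcl _ (C.inv_mem b.2) _ (C.inv_mem a.2)
      simp only [inv_inv] at this
      convert this using 1
      simp [mul_assoc] }

/-- the action of `N_H(C)` on `M = C / Z(C)` -/
@[instance_reducible] def MODEL_aux_act :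
    DistribMulAction ↥(normalizer (C : Set H)) (Additive (↥C ⧸ center ↥C)) where
  smul := fun g m => Additive.ofMul (MODEL_aux_map C g m.toMul)
  one_smul := fun m => congrArg Additive.ofMul (MODEL_aux_map_one C m.toMul)
  mul_smul := fun g h m => congrArg Additive.ofMul (MODEL_aux_map_mul C g h m.toMul)
  smul_zero := fun g => congrArg Additive.ofMul (map_one (MODEL_aux_map C g))
  smul_add := fun g m m' => congrArg Additive.ofMul (map_mul (MODEL_aux_map C g) m.toMul m'.toMul)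

/-- the centre is abelian -/
@[instance_reducible] def MODEL_aux_centerComm : CommGroup ↥(center ↥C) :=
  { (inferInstance : Group ↥(center ↥C)) with
    mul_comm := fun a b => Subtype.ext (mem_center_iff.mp b.2 a) }

/-- the commutator, with values in the centre -/
def MODEL_aux_b0 (a b : ↥C) : ↥(center ↥C) :=
  ⟨a * b * a⁻¹ * b⁻¹, by
    rw [ MODEL_aux_mem_center]
    exact hcl a a.2 b b.2⟩

theorem MODEL_aux_b0_coe (a b : ↥C) : ((MODEL_aux_b0 C hcl a b : ↥(center ↥C)) : ↥C) = a * b * a⁻¹ * b⁻¹ := rfl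

theorem MODEL_aux_b0_mul_left (a a' b : ↥C) :
    MODEL_aux_b0 C hcl (a * a') b = MODEL_aux_b0 C hcl a b * MODEL_aux_b0 C hcl a' b := by
  have hk : ∀ x : ↥C, x * (a' * b * a'⁻¹ * b⁻¹) = (a' * b * a'⁻¹ * b⁻¹) * x :=
    fun x => mem_center_iff.mp (MODEL_aux_b0 C hcl a' b).2 x
  refine Subtype.ext ?_
  show a * a' * b * (a * a')⁻¹ * b⁻¹ = (a * b * a⁻¹ * b⁻¹) * (a' * b * a'⁻¹ * b⁻¹)
  calc a * a' * b * (a * a')⁻¹ * b⁻¹ = (a * (a' * b * a'⁻¹ * b⁻¹)) * (b * a⁻¹ * b⁻¹) := by group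
    _ = ((a' * b * a'⁻¹ * b⁻¹) * a) * (b * a⁻¹ * b⁻¹) := by rw [hk a]
    _ = (a' * b * a'⁻¹ * b⁻¹) * (a * b * a⁻¹ * b⁻¹) := by group
    _ = _ := (hk _).symm

theorem MODEL_aux_b0_mul_right (a b b' : ↥C) :
    MODEL_aux_b0 C hcl a (b * b') = MODEL_aux_b0 C hcl a b * MODEL_aux_b0 C hcl a b' := by
  have hk : ∀ x : ↥C, x * (a * b' * a⁻¹ * b'⁻¹) = (a * b' * a⁻¹ * b'⁻¹) * x :=
    fun x => mem_center_iff.mp (MODEL_aux_b0 C hcl a b').2 x
  refine Subtype.ext ?_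
  show a * (b * b') * a⁻¹ * (b * b')⁻¹ = (a * b * a⁻¹ * b⁻¹) * (a * b' * a⁻¹ * b'⁻¹)
  calc a * (b * b') * a⁻¹ * (b * b')⁻¹ = (a * b * a⁻¹) * ((a * b' * a⁻¹ * b'⁻¹) * b⁻¹) := by group
    _ = (a * b * a⁻¹) * (b⁻¹ * (a * b' * a⁻¹ * b'⁻¹)) := by rw [hk b⁻¹]
    _ = _ := by group

theorem MODEL_aux_b0_eq_one_iff (a b : ↥C) : MODEL_aux_b0 C hcl a b = 1 ↔ a * b = b * a := by
  rw [Subtype.ext_iff]
  show a * b * a⁻¹ * b⁻¹ = 1 ↔ a * b = b * a
  rw [mul_inv_eq_one, mul_inv_eq_iff_eq_mul]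

theorem MODEL_aux_b0_one_left (a b : ↥C) (ha : a ∈ center ↥C) : MODEL_aux_b0 C hcl a b = 1 := by
  rw [ MODEL_aux_b0_eq_one_iff]
  exact (mem_center_iff.mp ha b).symm

theorem MODEL_aux_b0_one_right (a b : ↥C) (hb : b ∈ center ↥C) : MODEL_aux_b0 C hcl a b = 1 := by
  rw [ MODEL_aux_b0_eq_one_iff]
  exact mem_center_iff.mp hb a

/-- the commutator form on `C / Z(C)` -/
def MODEL_aux_bQ (x y : ↥C ⧸ center ↥C) : ↥(center ↥C) :=
  Quotient.liftOn₂' x y (MODEL_aux_b0 C hcl) (by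
    intro a₁ b₁ a₂ b₂ ha hb
    rw [QuotientGroup.leftRel_apply] at ha hb
    have e1 : a₂ = a₁ * (a₁⁻¹ * a₂) := by group
    have e2 : b₂ = b₁ * (b₁⁻¹ * b₂) := by group
    rw [e1, e2, MODEL_aux_b0_mul_left, MODEL_aux_b0_mul_right, MODEL_aux_b0_one_left C hcl _ _ ha,
      MODEL_aux_b0_one_right C hcl _ _ hb, mul_one, mul_one])

theorem MODEL_aux_bQ_mk (a b : ↥C) :
    MODEL_aux_bQ C hcl (QuotientGroup.mk a) (QuotientGroup.mk b) = MODEL_aux_b0 C hcl a b := rfl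

/-- the form on `M` -/
def MODEL_aux_beta (u v : Additive (↥C ⧸ center ↥C)) : Additive ↥(center ↥C) :=
  Additive.ofMul (MODEL_aux_bQ C hcl u.toMul v.toMul)

end MODELsec

/-- K5. The model `M = C/Z(C)` (additive, exponent 2) with the action of `N_H(C)` and the commutator form. -/
theorem MODEL {H : Type u} [Group H] (C : Subgroup H) (hcl : ∀ a ∈ C, ∀ b ∈ C, a * b * a⁻¹ * b⁻¹ ∈ centralizer (C : Set H))
    (hsq : ∀ a ∈ C, a ^ 2 ∈ centralizer (C : Set H)) :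
    ∃ (M : Type u) (_ : AddCommGroup M) (_ : DistribMulAction ↥(normalizer (C : Set H)) M) (π : ↥C → M)
      (Z : Type u) (_ : AddCommGroup Z) (β : M → M → Z),
      Function.Surjective π ∧ (∀ a b : ↥C, π (a * b) = π a + π b) ∧
      (∀ a : ↥C, π a = 0 ↔ (a : H) ∈ centralizer (C : Set H)) ∧ (∀ m : M, m + m = 0) ∧
      (∀ (g : ↥(normalizer (C : Set H))) (a a' : ↥C), (a' : H) = (g : H) * (a : H) * (g : H)⁻¹ → g • π a = π a') ∧
      (∀ a b c, β (a + b) c = β a c + β b c) ∧ (∀ a b c, β a (b + c) = β a b + β a c) ∧ (∀ a, β a a = 0) ∧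
      (∀ a b : ↥C, β (π a) (π b) = 0 ↔ a * b = b * a) ∧
      (∀ g : ↥(normalizer (C : Set H)), (∀ a ∈ C, a ∈ centralizer (C : Set H) → (g : H) * a = a * (g : H)) →
        ∀ u v, β (g • u) (g • v) = β u v) := by
  let _ := MODEL_aux_comm C hcl
  let _ := MODEL_aux_centerComm C
  have hπ : ∀ m : Additive (↥C ⧸ center ↥C), ∃ a : ↥C, m = Additive.ofMul (QuotientGroup.mk a) := by
    intro m
    obtain ⟨a, ha⟩ := QuotientGroup.mk_surjective (Additive.toMul m)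
    exact ⟨a, by rw [ha]; rfl⟩
  refine ⟨Additive (↥C ⧸ center ↥C), inferInstance, MODEL_aux_act C,
    fun a => Additive.ofMul (QuotientGroup.mk a), Additive ↥(center ↥C), inferInstance,
    MODEL_aux_beta C hcl, ?_, ?_, ?_, ?_, ?_, ?_, ?_, ?_, ?_, ?_⟩
  · intro m
    obtain ⟨a, rfl⟩ := hπ m
    exact ⟨a, rfl⟩
  · intro a b
    rfl
  · intro a
    rw [← MODEL_aux_mem_center]
    show (QuotientGroup.mk a : ↥C ⧸ center ↥C) = 1 ↔ _
    exact QuotientGroup.eq_one_iff a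
  · intro m
    obtain ⟨a, rfl⟩ := hπ m
    show (QuotientGroup.mk a * QuotientGroup.mk a : ↥C ⧸ center ↥C) = 1
    rw [← QuotientGroup.mk_mul, QuotientGroup.eq_one_iff, MODEL_aux_mem_center]
    have := hsq a a.2
    rw [pow_two] at this
    exact this
  · intro g a a' h
    show Additive.ofMul (MODEL_aux_map C g (QuotientGroup.mk a)) = Additive.ofMul (QuotientGroup.mk a')
    rw [ MODEL_aux_map_mk]
    congr 2
    exact Subtype.ext (by rw [ MODEL_aux_conj_coe, h])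
  · intro m₁ m₂ m₃
    obtain ⟨a, rfl⟩ := hπ m₁
    obtain ⟨b, rfl⟩ := hπ m₂
    obtain ⟨c, rfl⟩ := hπ m₃
    show Additive.ofMul (MODEL_aux_b0 C hcl (a * b) c) =
      Additive.ofMul (MODEL_aux_b0 C hcl a c * MODEL_aux_b0 C hcl b c)
    rw [ MODEL_aux_b0_mul_left]
  · intro m₁ m₂ m₃
    obtain ⟨a, rfl⟩ := hπ m₁
    obtain ⟨b, rfl⟩ := hπ m₂
    obtain ⟨c, rfl⟩ := hπ m₃
    show Additive.ofMul (MODEL_aux_b0 C hcl a (b * c)) =
      Additive.ofMul (MODEL_aux_b0 C hcl a b * MODEL_aux_b0 C hcl a c)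
    rw [ MODEL_aux_b0_mul_right]
  · intro m
    obtain ⟨a, rfl⟩ := hπ m
    show Additive.ofMul (MODEL_aux_b0 C hcl a a) = Additive.ofMul 1
    rw [(MODEL_aux_b0_eq_one_iff C hcl a a).mpr rfl]
  · intro a b
    show Additive.ofMul (MODEL_aux_b0 C hcl a b) = Additive.ofMul 1 ↔ _
    rw [← MODEL_aux_b0_eq_one_iff C hcl a b]
    exact Additive.ofMul.injective.eq_iff
  · intro g hg u v
    obtain ⟨a, rfl⟩ := hπ u
    obtain ⟨b, rfl⟩ := hπ v
    show Additive.ofMul (MODEL_aux_b0 C hcl (MODEL_aux_conj C g a) (MODEL_aux_conj C g b)) =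
      Additive.ofMul (MODEL_aux_b0 C hcl a b)
    congr 1
    refine Subtype.ext (Subtype.ext ?_)
    show (g : H) * a * (g : H)⁻¹ * ((g : H) * b * (g : H)⁻¹) * ((g : H) * a * (g : H)⁻¹)⁻¹ *
      ((g : H) * b * (g : H)⁻¹)⁻¹ = (a : H) * b * (a : H)⁻¹ * (b : H)⁻¹
    have hk : (g : H) * ((a : H) * b * (a : H)⁻¹ * (b : H)⁻¹) = ((a : H) * b * (a : H)⁻¹ * (b : H)⁻¹) * (g : H) :=
      hg _ (C.mul_mem (C.mul_mem (C.mul_mem a.2 b.2) (C.inv_mem a.2)) (C.inv_mem b.2)) (hcl a a.2 b b.2)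
    calc (g : H) * a * (g : H)⁻¹ * ((g : H) * b * (g : H)⁻¹) * ((g : H) * a * (g : H)⁻¹)⁻¹ *
        ((g : H) * b * (g : H)⁻¹)⁻¹ = ((g : H) * ((a : H) * b * (a : H)⁻¹ * (b : H)⁻¹)) * (g : H)⁻¹ := by group
      _ = (a : H) * b * (a : H)⁻¹ * (b : H)⁻¹ := by rw [hk]; group

end Cfsg.Agent.S3786P
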