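import Mathlib

set_option autoImplicit false

/-!
Piece P9 of the small Ree cluster: the normaliser of a four-group `V` admitting an element which
moves all three involutions, in a group all of whose `2`-subgroups are abelian, has order
`3 * |C(V)|`.
-/

namespace Cfsg.Agent.Helper24.ReeP9

open Subgroup

/-- The automorphism group of a group of order `4` has order dividing `6`. -/
theorem card_mulAut_dvd_six {V : Type*} [Group V] [Finite V] (hV : Nat.card V = 4) :
    Nat.card (MulAut V) ∣ 6 := by
  classical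
  have : Fintype V := Fintype.ofFinite V
  have hVc : Fintype.card V = 4 := by rw [← Nat.card_eq_fintype_card]; exact hV
  -- `MulAut V` embeds in the stabilizer of `1` in `Perm V`
  let f : MulAut V →* MulAction.stabilizer (Equiv.Perm V) (1 : V) :=
    { toFun := fun α => ⟨MulAut.toPerm V α, by
        rw [MulAction.mem_stabilizer_iff]
        exact map_one α⟩
      map_one' := rfl
      map_mul' := fun α β => rfl }
  have hf : Function.Injective f := by
    intro α β h
    have h1 : MulAut.toPerm V α = MulAut.toPerm V β := congrArg Subtype.val h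
    ext v
    exact congrArg (fun σ : Equiv.Perm V => σ v) h1
  have h1 : Nat.card (MulAut V) ∣ Nat.card (MulAction.stabilizer (Equiv.Perm V) (1 : V)) :=
    Subgroup.card_dvd_of_injective f hf
  have h2 := MulAction.card_orbit_mul_card_stabilizer_eq_card_group (Equiv.Perm V) (1 : V)
  have h3 : MulAction.orbit (Equiv.Perm V) (1 : V) = Set.univ := MulAction.orbit_eq_univ _ _
  have h4 : Fintype.card (MulAction.orbit (Equiv.Perm V) (1 : V)) = 4 := by
    rw [← Nat.card_eq_fintype_card, h3, Nat.card_coe_set_eq, Set.ncard_univ, hV]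
  rw [h4, Fintype.card_perm, hVc] at h2
  have h5 : Nat.card (MulAction.stabilizer (Equiv.Perm V) (1 : V)) = 6 := by
    rw [Nat.card_eq_fintype_card]
    have : Nat.factorial 4 = 24 := by decide
    omega
  rwa [h5] at h1

/-- P9: the normaliser of a four-group with a 3-cycle, in a group with abelian 2-subgroups -/
theorem P9_card_normalizer_four {G : Type*} [Group G] [Finite G] (V : Subgroup G)
    (hV4 : Nat.card V = 4) (hVexp : ∀ v ∈ V, v * v = 1)
    (h2ab : ∀ Q : Subgroup G, IsPGroup 2 Q → ∀ a ∈ Q, ∀ b ∈ Q, Commute a b)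
    (g₀ : G) (hg₀ : g₀ ∈ Subgroup.normalizer (V : Set G))
    (hmove : ∀ v ∈ V, v ≠ 1 → g₀ * v * g₀⁻¹ ≠ v) :
    Nat.card (Subgroup.normalizer (V : Set G)) = 3 * Nat.card (Subgroup.centralizer (V : Set G)) := by
  classical
  set N := Subgroup.normalizer (V : Set G) with hN
  set φ : N →* MulAut V := V.normalizerMonoidHom with hφ
  have hφapp : ∀ (x : N) (v : V), ((φ x v : V) : G) = (x : G) * v * (x : G)⁻¹ := by
    intro x v; rfl
  have hV2 : IsPGroup 2 V := IsPGroup.of_card (n := 2) (by rw [hV4]; norm_num)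
  -- the kernel has the order of the centralizer
  have hker : Nat.card φ.ker = Nat.card (Subgroup.centralizer (V : Set G)) := by
    rw [hφ, Subgroup.normalizerMonoidHom_ker]
    exact Nat.card_congr
      (Subgroup.subgroupOfEquivOfLe (Subgroup.centralizer_le_normalizer (V : Set G))).toEquiv
  -- `|N| = |ker| * |range|`
  have hprod : Nat.card N = Nat.card φ.ker * Nat.card φ.range := by
    rw [← Subgroup.index_ker φ, mul_comm]
    exact (Subgroup.index_mul_card φ.ker).symm
  -- the range has order dividing 6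
  have h6 : Nat.card φ.range ∣ 6 :=
    (Subgroup.card_subgroup_dvd_card φ.range).trans (card_mulAut_dvd_six hV4)
  -- the range is nontrivial
  have hne : φ ⟨g₀, hg₀⟩ ≠ 1 := by
    intro h
    have hnt : Nontrivial V := Finite.one_lt_card_iff_nontrivial.mp (by rw [hV4]; norm_num)
    obtain ⟨v, hv⟩ := exists_ne (1 : V)
    have h1 := hφapp ⟨g₀, hg₀⟩ v
    rw [h, MulAut.one_apply] at h1
    exact hmove v v.2 (fun h2 => hv (Subtype.ext h2)) h1.symm
  have hne1 : Nat.card φ.range ≠ 1 := by
    intro h
    have hbot : φ.range = ⊥ := Subgroup.card_eq_one.mp h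
    have hmem : φ ⟨g₀, hg₀⟩ ∈ φ.range := ⟨_, rfl⟩
    rw [hbot, Subgroup.mem_bot] at hmem
    exact hne hmem
  -- every element of the range has odd order
  have hodd : ∀ x : N, ∃ m : ℕ, Odd m ∧ (φ x) ^ m = 1 := by
    intro x
    obtain ⟨k, m, hm2, hkm⟩ := Nat.exists_eq_two_pow_mul_odd (n := orderOf (x : G)) (orderOf_pos _).ne'
    refine ⟨m, hm2, ?_⟩
    -- `y = x ^ m` is a 2-element normalizing `V`
    set y : G := (x : G) ^ m with hy
    have hyN : y ∈ N := Subgroup.pow_mem _ x.2 m
    have hy2 : y ^ 2 ^ k = 1 := by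
      rw [hy, ← pow_mul, mul_comm, ← hkm]
      exact pow_orderOf_eq_one _
    have hZ2 : IsPGroup 2 (Subgroup.zpowers y) := by
      apply IsPGroup.of_card (n := Nat.log 2 (orderOf y))
      rw [Nat.card_zpowers]
      have hdvd : orderOf y ∣ 2 ^ k := orderOf_dvd_of_pow_eq_one hy2
      obtain ⟨j, -, hj⟩ := (Nat.dvd_prime_pow Nat.prime_two).mp hdvd
      rw [hj, Nat.log_pow (by norm_num)]
    have hle : Subgroup.zpowers y ≤ Subgroup.normalizer (V : Set G) := by
      rw [Subgroup.zpowers_le]; exact hyN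
    have hQ : IsPGroup 2 (Subgroup.zpowers y ⊔ V : Subgroup G) :=
      IsPGroup.to_sup_of_normal_right' hZ2 hV2 hle
    have hyQ : y ∈ (Subgroup.zpowers y ⊔ V : Subgroup G) :=
      (le_sup_left : Subgroup.zpowers y ≤ _) (Subgroup.mem_zpowers y)
    -- hence `y` centralizes `V`
    ext v
    have hvQ : (v : G) ∈ (Subgroup.zpowers y ⊔ V : Subgroup G) :=
      (le_sup_right : V ≤ _) v.2
    have hc := h2ab _ hQ y hyQ v hvQ
    have h1 : (φ x) ^ m = φ (x ^ m) := (map_pow φ x m).symm
    rw [h1, MulAut.one_apply]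
    rw [hφapp]
    show ((x ^ m : N) : G) * v * ((x ^ m : N) : G)⁻¹ = v
    rw [Subgroup.coe_pow, ← hy, hc.eq, mul_inv_cancel_right]
  -- so the range has odd order
  have hoddcard : ¬ 2 ∣ Nat.card φ.range := by
    intro h2
    have : Fact (Nat.Prime 2) := ⟨Nat.prime_two⟩
    obtain ⟨α, hα⟩ := exists_prime_orderOf_dvd_card' 2 h2
    obtain ⟨x, hx⟩ := α.2
    obtain ⟨m, hm, hpow⟩ := hodd x
    have h1 : (α : MulAut V) ^ m = 1 := by rw [← hx]; exact hpow
    have h3 : orderOf (α : MulAut V) ∣ m := orderOf_dvd_of_pow_eq_one h1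
    rw [Subgroup.orderOf_coe, hα] at h3
    exact (Nat.not_even_iff_odd.mpr hm) (even_iff_two_dvd.mpr h3)
  have h3 : Nat.card φ.range = 3 := by
    have hle : Nat.card φ.range ≤ 6 := Nat.le_of_dvd (by norm_num) h6
    have hpos : 0 < Nat.card φ.range := Nat.card_pos
    interval_cases h : Nat.card φ.range <;> simp_all
  rw [hprod, hker, h3, mul_comm]

end Cfsg.Agent.Helper24.ReeP9
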