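import Mathlib
import Cfsg.Agent.Helper25.S5165.Defs

set_option autoImplicit false
set_option linter.unusedSectionVars false
set_option linter.unusedVariables false

/-! # S5165 piece LIBA (driver helper25): the calculus of `base`, `torus`, `lift`. -/

namespace Cfsg.Agent.S5165P

open Equiv

section lib

variable {p : ℕ} [Fact p.Prime] {I : Type} [Fintype I] [DecidableEq I] {r : ℕ}

theorem LIBA.base_zero : base (0 : I → ZMod p) = (1 : Perm (X p I r)) := by
  ext x
  rcases x with ⟨i, x⟩ | k <;> simp

theorem LIBA.base_add (f g : I → ZMod p) : base (r := r) (f + g) = base f * base g := by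
  ext x
  rcases x with ⟨i, x⟩ | k
  · simp only [base_inl, Perm.coe_mul, Function.comp_apply, Pi.add_apply]
    congr 2
    ring
  · simp

theorem LIBA.base_neg (f : I → ZMod p) : base (r := r) (-f) = (base f)⁻¹ := by
  apply eq_inv_of_mul_eq_one_left
  rw [← LIBA.base_add, neg_add_cancel, LIBA.base_zero]

theorem LIBA.base_sub (f g : I → ZMod p) : base (r := r) (f - g) = base f * (base g)⁻¹ := by
  rw [sub_eq_add_neg, LIBA.base_add, LIBA.base_neg]

theorem LIBA.base_injective : Function.Injective (base : (I → ZMod p) → Perm (X p I r)) := by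
  intro f g h
  funext i
  have h1 := congrArg (fun e : Perm (X p I r) => e (Sum.inl (i, 0))) h
  simp only [base_inl, zero_add] at h1
  have h2 := Sum.inl_injective h1
  exact (Prod.mk.injEq _ _ _ _ ▸ h2 : i = i ∧ f i = g i).2

theorem LIBA.base_pow (f : I → ZMod p) (k : ℕ) : base (r := r) f ^ k = base (k • f) := by
  induction k with
  | zero => rw [pow_zero, zero_smul, LIBA.base_zero]
  | succ k ih => rw [pow_succ, ih, ← LIBA.base_add, succ_nsmul]

theorem LIBA.base_pow_p (f : I → ZMod p) : base (r := r) f ^ p = 1 := by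
  rw [LIBA.base_pow]
  have h : p • f = 0 := by
    funext i
    simp
  rw [h, LIBA.base_zero]

theorem LIBA.base_comm (f g : I → ZMod p) : base (r := r) f * base g = base g * base f := by
  rw [← LIBA.base_add, ← LIBA.base_add, add_comm]

theorem LIBA.torus_one : torus (1 : I → (ZMod p)ˣ) = (1 : Perm (X p I r)) := by
  ext x
  rcases x with ⟨i, x⟩ | k <;> simp

theorem LIBA.torus_mul (a b : I → (ZMod p)ˣ) : torus (r := r) (a * b) = torus a * torus b := by
  ext x
  rcases x with ⟨i, x⟩ | k
  · simp [mul_assoc]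
  · simp

theorem LIBA.torus_inv (a : I → (ZMod p)ˣ) : torus (r := r) a⁻¹ = (torus a)⁻¹ := by
  apply eq_inv_of_mul_eq_one_left
  rw [← LIBA.torus_mul, inv_mul_cancel, LIBA.torus_one]

theorem LIBA.torus_injective : Function.Injective (torus : (I → (ZMod p)ˣ) → Perm (X p I r)) := by
  intro a b h
  funext i
  have h1 := congrArg (fun e : Perm (X p I r) => e (Sum.inl (i, 1))) h
  simp only [torus_inl, mul_one] at h1
  have h2 := Sum.inl_injective h1
  exact Units.ext (Prod.mk.injEq _ _ _ _ ▸ h2 : i = i ∧ (a i : ZMod p) = b i).2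

theorem LIBA.lift_injective : Function.Injective (lift : Perm I → Perm (X p I r)) := by
  intro σ τ h
  ext i
  have h1 := congrArg (fun e : Perm (X p I r) => e (Sum.inl (i, 0))) h
  simp only [lift_inl] at h1
  have h2 := Sum.inl_injective h1
  exact (Prod.mk.injEq _ _ _ _ ▸ h2 : σ i = τ i ∧ (0 : ZMod p) = 0).1

/-- `lift σ * base f * (lift σ)⁻¹ = base (f ∘ σ⁻¹)` -/
theorem LIBA.lift_conj_base (σ : Perm I) (f : I → ZMod p) :
    lift σ * base (r := r) f * (lift σ)⁻¹ = base (fun i => f (σ.symm i)) := by
  rw [mul_inv_eq_iff_eq_mul]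
  ext x
  rcases x with ⟨i, x⟩ | k
  · simp
  · simp

theorem LIBA.torus_conj_base (a : I → (ZMod p)ˣ) (f : I → ZMod p) :
    torus a * base (r := r) f * (torus a)⁻¹ = base (fun i => (a i : ZMod p) * f i) := by
  rw [mul_inv_eq_iff_eq_mul]
  ext x
  rcases x with ⟨i, x⟩ | k
  · simp [mul_add]
  · simp

theorem LIBA.lift_conj_torus (σ : Perm I) (a : I → (ZMod p)ˣ) :
    lift σ * torus (r := r) a * (lift σ)⁻¹ = torus (fun i => a (σ.symm i)) := by
  rw [mul_inv_eq_iff_eq_mul]
  ext x
  rcases x with ⟨i, x⟩ | k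
  · simp
  · simp

/-- the normal form multiplies -/
theorem LIBA.nf_mul (f f' : I → ZMod p) (a a' : I → (ZMod p)ˣ) (σ σ' : Perm I) :
    (base (r := r) f * torus a * lift σ) * (base f' * torus a' * lift σ') =
      base (fun i => f i + (a i : ZMod p) * f' (σ.symm i)) * torus (fun i => a i * a' (σ.symm i)) *
        lift (σ * σ') := by
  ext x
  rcases x with ⟨i, x⟩ | k
  · simp only [Perm.coe_mul, Function.comp_apply, lift_inl, torus_inl, base_inl, symm_apply_apply,
      Units.val_mul]
    congr 2
    ring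
  · simp

/-- the normal form is unique -/
theorem LIBA.nf_unique (f f' : I → ZMod p) (a a' : I → (ZMod p)ˣ) (σ σ' : Perm I)
    (h : base (r := r) f * torus a * lift σ = base f' * torus a' * lift σ') :
    f = f' ∧ a = a' ∧ σ = σ' := by
  have key : ∀ (i : I) (x : ZMod p), σ i = σ' i ∧
      (a (σ i) : ZMod p) * x + f (σ i) = (a' (σ' i) : ZMod p) * x + f' (σ' i) := by
    intro i x
    have h1 := congrArg (fun e : Perm (X p I r) => e (Sum.inl (i, x))) h
    simp only [Perm.coe_mul, Function.comp_apply, lift_inl, torus_inl, base_inl] at h1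
    have h2 := Sum.inl_injective h1
    exact (Prod.mk.injEq _ _ _ _ ▸ h2)
  have hσ : σ = σ' := by
    ext i
    exact (key i 0).1
  subst hσ
  have hf : f = f' := by
    funext i
    have := (key (σ.symm i) 0).2
    simpa using this
  subst hf
  refine ⟨rfl, ?_, rfl⟩
  funext i
  have := (key (σ.symm i) 1).2
  simp only [apply_symm_apply, mul_one, add_left_inj] at this
  exact Units.ext this

end lib

end Cfsg.Agent.S5165P
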