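import Mathlib
import Cfsg.Agent.Helper25.S5165.Defs
import Cfsg.Agent.Helper24.S5165LIBA

set_option autoImplicit false
set_option linter.unusedSectionVars false
set_option linter.unusedVariables false

/-! # S5165 piece LIBB (driver helper25): `cyc`, `Bsub`, `SQ`. -/

namespace Cfsg.Agent.S5165P

open Equiv

section lib

variable {p : ℕ} [Fact p.Prime] {I : Type} [Fintype I] [DecidableEq I] {r : ℕ}

theorem LIBB.cyc_inl_self (i : I) (x : ZMod p) :
    cyc (r := r) i (Sum.inl (i, x)) = Sum.inl (i, x + 1) := by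
  unfold cyc
  rw [base_inl, Pi.single_eq_same]

theorem LIBB.cyc_inl_of_ne {i j : I} (h : j ≠ i) (x : ZMod p) :
    cyc (r := r) i (Sum.inl (j, x)) = Sum.inl (j, x) := by
  unfold cyc
  rw [base_inl, Pi.single_eq_of_ne h, add_zero]

theorem LIBB.lift_conj_cyc (σ : Perm I) (i : I) :
    lift σ * cyc (p := p) (r := r) i * (lift σ)⁻¹ = cyc (σ i) := by
  unfold cyc
  rw [LIBA.lift_conj_base]
  congr 1
  funext j
  by_cases hj : j = σ i
  · subst hj
    simp
  · have h1 : σ.symm j ≠ i := by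
      intro h
      apply hj
      rw [← h, apply_symm_apply]
    rw [Pi.single_eq_of_ne h1, Pi.single_eq_of_ne hj]

theorem LIBB.cyc_pow (i : I) (k : ℕ) :
    cyc (p := p) (r := r) i ^ k = base (Pi.single i (k : ZMod p)) := by
  unfold cyc
  rw [LIBA.base_pow]
  congr 1
  funext j
  by_cases hj : j = i
  · subst hj
    simp
  · simp [Pi.single_eq_of_ne hj]

namespace LIBB

/-- `base` of a single function is a power of `cyc` -/
theorem base_single_mem_closure (i : I) (c : ZMod p) :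
    base (r := r) (Pi.single i c) ∈ Subgroup.closure (Set.range (cyc : I → Perm (X p I r))) := by
  have h : base (r := r) (Pi.single i c) = cyc i ^ c.val := by
    rw [LIBB.cyc_pow, ZMod.natCast_zmod_val]
  rw [h]
  exact Subgroup.pow_mem _ (Subgroup.subset_closure (Set.mem_range_self i)) _

theorem base_sum_mem_closure (f : I → ZMod p) (s : Finset I) :
    base (r := r) (∑ i ∈ s, Pi.single i (f i)) ∈
      Subgroup.closure (Set.range (cyc : I → Perm (X p I r))) := by
  induction s using Finset.induction_on with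
  | empty =>
    rw [Finset.sum_empty, LIBA.base_zero]
    exact Subgroup.one_mem _
  | insert a s ha ih =>
    rw [Finset.sum_insert ha, LIBA.base_add]
    exact Subgroup.mul_mem _ (base_single_mem_closure a (f a)) ih

/-- the set of all `base f * lift q`, `q ∈ Q`, as a subgroup -/
def SQsub (r : ℕ) (Q : Subgroup (Perm I)) : Subgroup (Perm (X p I r)) where
  carrier := {g | ∃ f : I → ZMod p, ∃ q ∈ Q, g = base f * lift q}
  one_mem' := ⟨0, 1, Q.one_mem, by rw [LIBA.base_zero, map_one, mul_one]⟩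
  mul_mem' := by
    rintro _ _ ⟨f, q, hq, rfl⟩ ⟨f', q', hq', rfl⟩
    refine ⟨fun i => f i + f' (q.symm i), q * q', Q.mul_mem hq hq', ?_⟩
    have h := LIBA.nf_mul (r := r) f f' (1 : I → (ZMod p)ˣ) 1 q q'
    have h1 : (fun i : I => (1 : (ZMod p)ˣ)) = 1 := rfl
    simp only [LIBA.torus_one, mul_one, Pi.one_apply, Units.val_one, one_mul, h1] at h
    exact h
  inv_mem' := by
    rintro _ ⟨f, q, hq, rfl⟩
    refine ⟨fun i => - f (q i), q⁻¹, Q.inv_mem hq, ?_⟩
    rw [mul_inv_rev, ← LIBA.base_neg, ← map_inv]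
    have h := LIBA.lift_conj_base (r := r) q⁻¹ (-f)
    rw [mul_inv_eq_iff_eq_mul] at h
    rw [h]
    congr 2

theorem mem_SQsub (Q : Subgroup (Perm I)) (g : Perm (X p I r)) :
    g ∈ SQsub (p := p) r Q ↔ ∃ f : I → ZMod p, ∃ q ∈ Q, g = base f * lift q := Iff.rfl

theorem SQ_eq_SQsub (Q : Subgroup (Perm I)) : SQ (p := p) r Q = SQsub r Q := by
  apply le_antisymm
  · unfold SQ
    apply sup_le
    · intro g hg
      obtain ⟨f, rfl⟩ := mem_Bsub.1 hg
      exact ⟨f, 1, Q.one_mem, by rw [map_one, mul_one]⟩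
    · rintro _ ⟨q, hq, rfl⟩
      exact ⟨0, q, hq, by rw [LIBA.base_zero, one_mul]⟩
  · rintro _ ⟨f, q, hq, rfl⟩
    unfold SQ
    exact Subgroup.mul_mem _ (Subgroup.mem_sup_left (mem_Bsub.2 ⟨f, rfl⟩))
      (Subgroup.mem_sup_right (Subgroup.mem_map_of_mem _ hq))

end LIBB

theorem LIBB.Bsub_eq_closure :
    Bsub p I r = Subgroup.closure (Set.range (cyc : I → Perm (X p I r))) := by
  apply le_antisymm
  · intro g hg
    obtain ⟨f, rfl⟩ := mem_Bsub.1 hg
    have h := LIBB.base_sum_mem_closure (r := r) f Finset.univ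
    rw [Finset.univ_sum_single] at h
    exact h
  · rw [Subgroup.closure_le]
    rintro _ ⟨i, rfl⟩
    exact mem_Bsub.2 ⟨_, rfl⟩

theorem LIBB.mem_SQ_iff (Q : Subgroup (Perm I)) (g : Perm (X p I r)) :
    g ∈ SQ r Q ↔ ∃ f : I → ZMod p, ∃ q ∈ Q, g = base f * lift q := by
  rw [LIBB.SQ_eq_SQsub]
  exact LIBB.mem_SQsub Q g

theorem LIBB.Bsub_le_SQ (Q : Subgroup (Perm I)) : Bsub p I r ≤ SQ r Q := by
  unfold SQ
  exact le_sup_left

theorem LIBB.base_mul_lift_mem_SQ_iff (Q : Subgroup (Perm I)) (f : I → ZMod p) (τ : Perm I) :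
    base f * lift τ ∈ SQ (p := p) r Q ↔ τ ∈ Q := by
  rw [LIBB.mem_SQ_iff]
  constructor
  · rintro ⟨f', q, hq, h⟩
    have h1 : base (r := r) f * torus 1 * lift τ = base f' * torus 1 * lift q := by
      rw [LIBA.torus_one, mul_one, mul_one]
      exact h
    obtain ⟨-, -, h2⟩ := LIBA.nf_unique _ _ _ _ _ _ h1
    rw [h2]
    exact hq
  · intro h
    exact ⟨f, τ, h, rfl⟩

theorem LIBB.lift_mem_SQ_iff (Q : Subgroup (Perm I)) (τ : Perm I) :
    lift τ ∈ SQ (p := p) r Q ↔ τ ∈ Q := by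
  have h := LIBB.base_mul_lift_mem_SQ_iff (p := p) (r := r) Q 0 τ
  rw [LIBA.base_zero, one_mul] at h
  exact h

theorem LIBB.SQ_mono {Q Q' : Subgroup (Perm I)} (h : Q ≤ Q') : SQ (p := p) r Q ≤ SQ r Q' := by
  unfold SQ
  exact sup_le_sup_left (Subgroup.map_mono h) _

/-- the blocks are moved as a whole -/
theorem LIBB.SQ_apply_inl (Q : Subgroup (Perm I)) {g : Perm (X p I r)} (hg : g ∈ SQ r Q) :
    ∃ q ∈ Q, ∃ f : I → ZMod p, (∀ i x, g (Sum.inl (i, x)) = Sum.inl (q i, x + f (q i))) ∧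
      ∀ k, g (Sum.inr k) = Sum.inr k := by
  obtain ⟨f, q, hq, rfl⟩ := (LIBB.mem_SQ_iff Q g).1 hg
  refine ⟨q, hq, f, ?_, ?_⟩
  · intro i x
    simp
  · intro k
    simp

end lib

end Cfsg.Agent.S5165P
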