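import Mathlib
import Cfsg.Prelude.Def_Characters
import Cfsg.Agent.Helper12.LOPDefs
import Cfsg.Agent.Helper12.LSLDefs
import Cfsg.Agent.Helper24.CharBasic

set_option autoImplicit false

/-! S2345, piece KER (generic form, with the transitivity statement TRANS as a hypothesis): an
irreducible representation of degree at least two of `Ω⁺_{2(n+4)}(q)` is not trivial on the
radical `{uQ w}`. -/

namespace Cfsg.Agent.Helper12.LOP

open Matrix Cfsg Cfsg.Agent.Helper28.Sg Cfsg.Agent.Helper28.Spin Cfsg.Agent.Helper12.LSL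

variable {F : Type*} [Field F] {n : ℕ}

namespace KER

/-- the statement of TRANS (singular vectors) for `V_{n+4}` -/
def TransStmt (n : ℕ) (F : Type*) [Field F] : Prop :=
  ∀ (w w' : VV (n + 4) F), QfPlus (n + 4) F w = 0 → QfPlus (n + 4) F w' = 0 → w ≠ 0 → w' ≠ 0 →
    ∃ g : GO (n + 4) F, mt (QfPlus (n + 4) F) g.1 *ᵥ w = w'

theorem ee_ne_zero : (ee : VV (n + 1) F) ≠ 0 := by
  intro h
  have := congrFun h (Sum.inl 0)
  simp [ee] at this

theorem sieg_mem_of_normal (htr : TransStmt n F) (N : Subgroup (GO (n + 4) F))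
    [hN : N.Normal] (hu : ∀ w : VV (n + 3) F, uQ w ∈ N) (u v : VV (n + 4) F)
    (hu0 : QfPlus (n + 4) F u = 0) (huv : B (QfPlus (n + 4) F) u v = 0) :
    (sg (by omega) u v hu0 huv : GO (n + 4) F) ∈ N := by
  by_cases hu1 : u = 0
  · subst hu1
    have h1 : (sg (by omega) 0 v hu0 huv : GO (n + 4) F) = 1 := by
      apply Subtype.ext
      exact siegO_zero_left v hu0 huv
    rw [h1]; exact N.one_mem
  · obtain ⟨g, hg⟩ := htr ee u Q_ee hu0 ee_ne_zero hu1
    obtain ⟨v', hv'⟩ : ∃ v' : VV (n + 4) F, v' = mt (QfPlus (n + 4) F) g.1⁻¹ *ᵥ v := ⟨_, rfl⟩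
    have hgv : mt (QfPlus (n + 4) F) g.1 *ᵥ v' = v := by rw [hv']; exact mt_mulVec_inv _ _ _
    have hB : B (QfPlus (n + 4) F) (ee : VV (n + 4) F) v' = 0 := by
      rw [← B_isom (QfPlus (n + 4) F) g.1, hg, hgv]; exact huv
    have hdec : v' = jj (pp v') + v' (Sum.inl 0) • (ee : VV (n + 4) F) := by
      have h1 := decomp v'
      have h2 := hB
      rw [B_ee] at h2
      rw [h2, zero_smul, add_zero] at h1
      exact h1.trans (add_comm _ _)
    have hconj : g * (sg (by omega) ee v' Q_ee hB : GO (n + 4) F) * g⁻¹ =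
        sg (by omega) u v hu0 huv := by
      apply Subtype.ext
      show g.1 * siegO (QfPlus (n + 4) F) ee v' Q_ee hB * g.1⁻¹ =
        siegO (QfPlus (n + 4) F) u v hu0 huv
      rw [siegO_conj (QfPlus (n + 4) F) g.1 Q_ee hB (by rw [hg]; exact hu0)
        (by rw [hg, hgv]; exact huv)]
      exact siegO_congr _ _ _ _ _ hg hgv
    have hE : (sg (by omega) ee v' Q_ee hB : GO (n + 4) F) = uQ (pp v') := by
      apply Subtype.ext
      show siegO (QfPlus (n + 4) F) ee v' Q_ee hB =
        siegO (QfPlus (n + 4) F) ee (jj (pp v')) Q_ee (B_ee_jj _)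
      rw [← siegO_add_smul_self (QfPlus (n + 4) F) (v' (Sum.inl 0)) Q_ee (B_ee_jj (pp v'))
        (by rw [← hdec]; exact hB)]
      exact siegO_congr _ _ _ _ _ rfl hdec
    rw [← hconj, hE]
    exact hN.conj_mem _ (hu _) g

theorem eq_top_of_uQ_mem [Fintype F] (htr : TransStmt n F) (N : Subgroup (GO (n + 4) F))
    [hN : N.Normal] (hu : ∀ w : VV (n + 3) F, uQ w ∈ N) : N = ⊤ := by
  rw [eq_top_iff]
  intro g _
  have hg : g.1 ∈ S (QfPlus (n + 4) F) := by
    rw [← omega_eq_S (by omega)]; exact g.2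
  have key : S (QfPlus (n + 4) F) ≤ N.map (Cfsg.Omega F ⇑(QfPlus (n + 4) F)).subtype := by
    unfold S
    rw [Subgroup.closure_le]
    rintro x ⟨u, v, hu0, huv, rfl⟩
    exact ⟨sg (by omega) u v hu0 huv, sieg_mem_of_normal htr N hu u v hu0 huv, rfl⟩
  obtain ⟨y, hy, hyg⟩ := key hg
  have h1 : y = g := Subtype.ext hyg
  rw [← h1]; exact hy

theorem exists_uQ_char_ne_of [Fintype F] (htr : TransStmt n F) (k : ℕ)
    (ρ : Representation ℂ (GO (n + 4) F) (Fin k → ℂ))
    (hρ : ρ.IsIrreducible) (hk : 2 ≤ k) : ∃ w : VV (n + 3) F, ρ.character (uQ w) ≠ k := by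
  classical
  by_contra hcon
  push Not at hcon
  have hid : ∀ b : VV (n + 3) F, ρ (uQ b) = LinearMap.id := by
    intro b
    rw [← Cfsg.Agent.Helper24.char_eq_finrank_iff, Module.finrank_fin_fun]
    exact hcon b
  haveI hNn : (MonoidHom.ker ρ).Normal := MonoidHom.normal_ker ρ
  have hN : ∀ b : VV (n + 3) F, uQ b ∈ MonoidHom.ker ρ :=
    fun b => (MonoidHom.mem_ker).mpr (hid b)
  have htop : MonoidHom.ker ρ = ⊤ := eq_top_of_uQ_mem htr _ hN
  have hall : ∀ g : GO (n + 4) F, ρ g = 1 := by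
    intro g
    have : g ∈ MonoidHom.ker ρ := by rw [htop]; exact Subgroup.mem_top g
    exact MonoidHom.mem_ker.mp this
  let e : Fin k → ℂ := Pi.single ⟨0, by omega⟩ 1
  have he : e ≠ 0 := by
    intro h
    have := congrFun h ⟨0, by omega⟩
    simp [e] at this
  let W : Subrepresentation ρ :=
    { toSubmodule := Submodule.span ℂ {e}
      apply_mem_toSubmodule := by
        intro g v hv
        rw [hall g]
        exact hv }
  rcases hρ.eq_bot_or_eq_top W with h | h
  · have h1 : W.toSubmodule = ⊥ := by rw [h]; rfl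
    have : e ∈ (⊥ : Submodule ℂ (Fin k → ℂ)) := by
      rw [← h1]
      exact Submodule.mem_span_singleton_self e
    exact he ((Submodule.mem_bot ℂ).mp this)
  · have h1 : W.toSubmodule = ⊤ := by rw [h]; rfl
    have h2 : Module.finrank ℂ (Submodule.span ℂ {e}) = 1 := finrank_span_singleton he
    have h3 : Module.finrank ℂ (Submodule.span ℂ {e}) = k := by
      show Module.finrank ℂ W.toSubmodule = k
      rw [h1, finrank_top, Module.finrank_fin_fun]
    omega

end KER

end Cfsg.Agent.Helper12.LOP
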