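import Mathlib
import Cfsg.Prelude.Def_Characters
import Cfsg.Agent.Helper12.LOPDefs
import Cfsg.Agent.Helper12.LSLDefs
import Cfsg.Agent.Helper23.LOPTRANS
import Cfsg.Agent.Helper24.LOPKERAux

set_option autoImplicit false

/-! S2345, piece KER: an irreducible representation of degree at least two of `Ω⁺_{2(n+4)}(q)` is
not trivial on the radical `{uQ w}`. -/

namespace Cfsg.Agent.Helper12.LOP

open Matrix Cfsg Cfsg.Agent.Helper28.Sg Cfsg.Agent.Helper28.Spin Cfsg.Agent.Helper12.LSL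

variable {F : Type*} [Field F] {n : ℕ}

theorem exists_uQ_char_ne [Fintype F] (k : ℕ) (ρ : Representation ℂ (GO (n + 4) F) (Fin k → ℂ))
    (hρ : ρ.IsIrreducible) (hk : 2 ≤ k) : ∃ w : VV (n + 3) F, ρ.character (uQ w) ≠ k :=
  KER.exists_uQ_char_ne_of
    (fun w w' hw hw' hw0 hw'0 => exists_omega_map_singular (n := n + 1) w w' hw hw' hw0 hw'0)
    k ρ hρ hk

end Cfsg.Agent.Helper12.LOP
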