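import Mathlib

/-! S2547 pieces INVSQ and COMMEQ (generic group theory): the square of a product of involutions
lies in the commutator subgroup; a surjective homomorphism which is injective on the commutator
subgroup induces an isomorphism of commutator subgroups. -/

set_option autoImplicit false

namespace Cfsg.Agent.S2547P

namespace INVSQ

theorem of_prod_sq {G : Type*} [Group G] (L : List G) (hL : ∀ y ∈ L, y * y = 1) :
    Abelianization.of L.prod * Abelianization.of L.prod = 1 := by
  induction L with
  | nil => simp
  | cons y L ih =>
    have hy : y * y = 1 := hL y (List.mem_cons_self)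
    have hL' : ∀ z ∈ L, z * z = 1 := fun z hz => hL z (List.mem_cons_of_mem y hz)
    rw [List.prod_cons, map_mul, mul_mul_mul_comm, ih hL', mul_one, ← map_mul, hy, map_one]

end INVSQ

theorem sq_mem_commutator_of_involutions {G : Type*} [Group G] (L : List G)
    (hL : ∀ y ∈ L, y * y = 1) : L.prod * L.prod ∈ commutator G := by
  rw [← Abelianization.ker_of, MonoidHom.mem_ker, map_mul]
  exact INVSQ.of_prod_sq L hL

theorem nonempty_commutator_equiv {A B : Type*} [Group A] [Group B] (f : A →* B)
    (hf : Function.Surjective f) (hk : ∀ a ∈ commutator A, f a = 1 → a = 1) :
    Nonempty (↥(commutator A) ≃* ↥(commutator B)) := by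
  have hmap : (commutator A).map f = commutator B := by
    rw [commutator_def, Subgroup.map_commutator, Subgroup.map_top_of_surjective f hf,
      ← commutator_def]
  have hinj : Function.Injective (f.subgroupMap (commutator A)) := by
    rw [injective_iff_map_eq_one]
    intro a ha
    have h1 : f (a : A) = 1 := by
      have := congrArg Subtype.val ha
      simpa using this
    exact Subtype.ext (hk a a.2 h1)
  have hsurj : Function.Surjective (f.subgroupMap (commutator A)) :=
    f.subgroupMap_surjective (commutator A)
  exact ⟨(MulEquiv.ofBijective (f.subgroupMap (commutator A)) ⟨hinj, hsurj⟩).trans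
    (MulEquiv.subgroupCongr hmap)⟩

end Cfsg.Agent.S2547P
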