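import Mathlib
import Cfsg.Agent.Helper12.S5683Lib
import Cfsg.Agent.Helper13.QuadWitt

set_option autoImplicit false
set_option linter.unusedSectionVars false
set_option linter.unusedVariables false

/-! # S5683 piece EXB (driver helper12): for `|F| = |F₀|²` every line is orthogonal to two rational
singular points in general position. -/

namespace Cfsg.Agent.S5683P

open Matrix Cfsg.Agent.Helper28.Sg Cfsg.Agent.Helper28.Spin Cfsg.Agent.Helper12.OrthGen
  Cfsg.Agent.S2614

variable {F : Type*} [Field F] {m : ℕ}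

namespace EXB

open Module

/-- the embedding of the rational vectors -/
def emb (F₀ : Subfield F) (ι : Type) : (ι → ↥F₀) →ₗ[↥F₀] (ι → F) :=
  (Algebra.linearMap ↥F₀ F).compLeft ι

theorem emb_apply (F₀ : Subfield F) (ι : Type) (x : ι → ↥F₀) (i : ι) :
    emb F₀ ι x i = ((x i : ↥F₀) : F) := rfl

theorem emb_injective (F₀ : Subfield F) (ι : Type) : Function.Injective (emb F₀ ι) := by
  intro x y h
  funext i
  have := congrFun h i
  rw [emb_apply, emb_apply] at this
  exact Subtype.ext this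

/-- the rational vectors of an `F`-subspace -/
def ratSub (F₀ : Subfield F) {ι : Type} (W : Submodule F (ι → F)) : Submodule ↥F₀ (ι → ↥F₀) :=
  (W.restrictScalars ↥F₀).comap (emb F₀ ι)

theorem mem_ratSub (F₀ : Subfield F) {ι : Type} (W : Submodule F (ι → F)) (x : ι → ↥F₀) :
    x ∈ ratSub F₀ W ↔ emb F₀ ι x ∈ W := Iff.rfl

/-- the rational vectors of an `F`-subspace form an `F₀`-space of at most the same dimension -/
theorem finrank_ratSub_le (F₀ : Subfield F) {ι : Type} [Finite ι] (W : Submodule F (ι → F)) :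
    finrank ↥F₀ (ratSub F₀ W) ≤ finrank F W := by
  classical
  haveI : Fintype ι := Fintype.ofFinite ι
  set d := finrank ↥F₀ (ratSub F₀ W) with hd
  let y : Module.Basis (Fin d) ↥F₀ (ratSub F₀ W) := Module.finBasis ↥F₀ (ratSub F₀ W)
  have h1 : LinearIndependent ↥F₀ (fun k => ((y k : ratSub F₀ W) : ι → ↥F₀)) :=
    y.linearIndependent.map' (ratSub F₀ W).subtype (Submodule.ker_subtype _)
  have h2 : LinearIndependent F (fun k => algebraMap ↥F₀ F ∘ ((y k : ratSub F₀ W) : ι → ↥F₀)) :=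
    linearIndependent_algebraMap_comp_iff.2 h1
  let g : Fin d → W := fun k => ⟨emb F₀ ι (y k : ι → ↥F₀), (y k).2⟩
  have h3 : LinearIndependent F g := by
    apply LinearIndependent.of_comp W.subtype
    exact h2
  have := h3.fintype_card_le_finrank
  simpa using this

theorem finrank_of_card [Fintype F] (F₀ : Subfield F)
    (hcard : Fintype.card F = Nat.card F₀ ^ 2) : finrank ↥F₀ F = 2 := by
  have h1 := Module.natCard_eq_pow_finrank (K := ↥F₀) (V := F)
  rw [Nat.card_eq_fintype_card, hcard] at h1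
  have h2 : 2 ≤ Nat.card ↥F₀ := by
    have : 1 < Nat.card ↥F₀ := Finite.one_lt_card
    omega
  exact (Nat.pow_right_injective h2 h1).symm

/-- a singular rational vector in the kernel of two functionals, outside a small subspace -/
theorem exists_avoid [Fintype F] (F₀ : Subfield F) (hcard : Fintype.card F = Nat.card F₀ ^ 2)
    {ι : Type} [Fintype ι] (Q₀ : QuadraticForm ↥F₀ (ι → ↥F₀))
    (ℓ₁ ℓ₂ : (ι → F) →ₗ[F] F) (W : Submodule F (ι → F))
    (hdim : finrank F W + 7 ≤ Fintype.card ι) :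
    ∃ x : ι → ↥F₀, x ≠ 0 ∧ Q₀ x = 0 ∧ ℓ₁ (emb F₀ ι x) = 0 ∧ ℓ₂ (emb F₀ ι x) = 0 ∧
      emb F₀ ι x ∉ W := by
  classical
  have hF : finrank ↥F₀ F = 2 := finrank_of_card F₀ hcard
  haveI : Module.Finite ↥F₀ F := Module.finite_of_finrank_pos (by omega)
  obtain ⟨C, hC⟩ := Submodule.exists_isCompl (ratSub F₀ W)
  let p := Submodule.projectionOnto (ratSub F₀ W) C hC
  let φ₁ : (ι → ↥F₀) →ₗ[↥F₀] F := (ℓ₁.restrictScalars ↥F₀).comp (emb F₀ ι)
  let φ₂ : (ι → ↥F₀) →ₗ[↥F₀] F := (ℓ₂.restrictScalars ↥F₀).comp (emb F₀ ι)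
  let ψ : (ι → ↥F₀) →ₗ[↥F₀] (F × F) × ↥(ratSub F₀ W) := (φ₁.prod φ₂).prod p
  have htarget : finrank ↥F₀ ((F × F) × ↥(ratSub F₀ W)) ≤ 4 + finrank F W := by
    rw [Module.finrank_prod, Module.finrank_prod, hF]
    have := finrank_ratSub_le F₀ W
    omega
  have hrn := LinearMap.finrank_range_add_finrank_ker ψ
  have hrange : finrank ↥F₀ (LinearMap.range ψ) ≤ finrank ↥F₀ ((F × F) × ↥(ratSub F₀ W)) :=
    Submodule.finrank_le _
  have hV : finrank ↥F₀ (ι → ↥F₀) = Fintype.card ι := Module.finrank_fintype_fun_eq_card ↥F₀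
  have hker : 3 ≤ finrank ↥F₀ (LinearMap.ker ψ) := by omega
  obtain ⟨x, hx0, hQx⟩ := Cfsg.Agent.Helper13.exists_singular
    (Q₀.comp (LinearMap.ker ψ).subtype) hker
  have hxker : ψ (x : ι → ↥F₀) = 0 := x.2
  have h1 : φ₁ (x : ι → ↥F₀) = 0 := congrArg (fun z => z.1.1) hxker
  have h2 : φ₂ (x : ι → ↥F₀) = 0 := congrArg (fun z => z.1.2) hxker
  have h3 : p (x : ι → ↥F₀) = 0 := congrArg (fun z => z.2) hxker
  refine ⟨(x : ι → ↥F₀), ?_, hQx, h1, h2, ?_⟩
  · intro h
    exact hx0 (Subtype.ext h)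
  · intro hW
    have hmem : (x : ι → ↥F₀) ∈ ratSub F₀ W := hW
    have h4 := Submodule.projectionOnto_apply_left hC ⟨(x : ι → ↥F₀), hmem⟩
    have h5 : p (x : ι → ↥F₀) = ⟨(x : ι → ↥F₀), hmem⟩ := h4
    rw [h3] at h5
    apply hx0
    apply Subtype.ext
    exact (congrArg Subtype.val h5).symm

end EXB

namespace EXB

open Module

theorem Q_emb (F₀ : Subfield F) (x : Idx m → ↥F₀) :
    QfOdd m F (emb F₀ (Idx m) x) = ((QfOdd m ↥F₀ x : ↥F₀) : F) := by
  rw [Q_apply, Q_apply]
  push_cast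
  rfl

theorem rat_emb (F₀ : Subfield F) (x : Idx m → ↥F₀) : Rat F₀ (emb F₀ (Idx m) x) :=
  fun i => (x i).2

/-- one rational singular vector orthogonal to `v`, `w` outside a small subspace -/
theorem exists_one [Fintype F] (hm : 6 ≤ m) (F₀ : Subfield F)
    (hcard : Fintype.card F = Nat.card F₀ ^ 2) (v w : Idx m → F) (W : Submodule F (Idx m → F))
    (hW : finrank F W ≤ 3) :
    ∃ b : Idx m → F, Rat F₀ b ∧ QfOdd m F b = 0 ∧ B (QfOdd m F) b v = 0 ∧
      B (QfOdd m F) b w = 0 ∧ b ∉ W := by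
  have hcardI : Fintype.card (Idx m) = 1 + (m + m) := by
    simp [Fintype.card_sum]
  obtain ⟨x, -, hQ, h1, h2, h3⟩ := exists_avoid F₀ hcard (QfOdd m ↥F₀)
    ((QuadraticMap.polarBilin (QfOdd m F)).flip v) ((QuadraticMap.polarBilin (QfOdd m F)).flip w) W
    (le_trans (Nat.add_le_add_right hW 7) (by rw [hcardI]; omega))
  refine ⟨emb F₀ (Idx m) x, rat_emb F₀ x, ?_, h1, h2, h3⟩
  rw [Q_emb, hQ]
  rfl

end EXB

/-- EXB: for `|F| = |F₀|²` every line is orthogonal to two rational singular points in general position. -/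
theorem EXB.exists_two [Fintype F] (h2 : (2 : F) ≠ 0) (hm : 6 ≤ m) (F₀ : Subfield F)
    (hcard : Fintype.card F = Nat.card F₀ ^ 2) (v w : Idx m → F) (hind : Indep v w) :
    ∃ b b' : Idx m → F, Rat F₀ b ∧ Rat F₀ b' ∧ QfOdd m F b = 0 ∧ QfOdd m F b' = 0 ∧
      B (QfOdd m F) b v = 0 ∧ B (QfOdd m F) b w = 0 ∧ B (QfOdd m F) b' v = 0 ∧
      B (QfOdd m F) b' w = 0 ∧ LinearIndependent F ![v, w, b, b'] := by
  classical
  have hW1 : Module.finrank F (Submodule.span F (Set.range ![v, w])) ≤ 3 := by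
    have := finrank_range_le_card (R := F) ![v, w]
    simp only [Fintype.card_fin] at this
    exact le_trans this (by norm_num)
  obtain ⟨b, hb, hQb, hbv, hbw, hbW⟩ := EXB.exists_one hm F₀ hcard v w _ hW1
  have hW2 : Module.finrank F (Submodule.span F (Set.range ![v, w, b])) ≤ 3 := by
    have := finrank_range_le_card (R := F) ![v, w, b]
    simp only [Fintype.card_fin] at this
    exact this
  obtain ⟨b', hb', hQb', hbv', hbw', hbW'⟩ := EXB.exists_one hm F₀ hcard v w _ hW2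
  refine ⟨b, b', hb, hb', hQb, hQb', hbv, hbw, hbv', hbw', ?_⟩
  have hv1 : v ∈ Submodule.span F (Set.range ![v, w]) := Submodule.subset_span ⟨0, rfl⟩
  have hw1 : w ∈ Submodule.span F (Set.range ![v, w]) := Submodule.subset_span ⟨1, rfl⟩
  have hv2 : v ∈ Submodule.span F (Set.range ![v, w, b]) := Submodule.subset_span ⟨0, rfl⟩
  have hw2 : w ∈ Submodule.span F (Set.range ![v, w, b]) := Submodule.subset_span ⟨1, rfl⟩
  have hb2 : b ∈ Submodule.span F (Set.range ![v, w, b]) := Submodule.subset_span ⟨2, rfl⟩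
  rw [Fintype.linearIndependent_iff]
  intro g hg
  rw [Fin.sum_univ_four] at hg
  simp only [Matrix.cons_val_zero, Matrix.cons_val_one, Matrix.cons_val] at hg
  have h3 : g 3 = 0 := by
    by_contra h
    apply hbW'
    have e : b' = -(g 3)⁻¹ • (g 0 • v + g 1 • w + g 2 • b) := by
      have e1 : g 3 • b' = -(g 0 • v + g 1 • w + g 2 • b) := by
        rw [eq_neg_iff_add_eq_zero, add_comm]
        exact hg
      rw [neg_smul, ← smul_neg, ← e1, smul_smul, inv_mul_cancel₀ h, one_smul]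
    rw [e]
    exact Submodule.smul_mem _ _ (Submodule.add_mem _ (Submodule.add_mem _
      (Submodule.smul_mem _ _ hv2) (Submodule.smul_mem _ _ hw2)) (Submodule.smul_mem _ _ hb2))
  rw [h3, zero_smul, add_zero] at hg
  have h2' : g 2 = 0 := by
    by_contra h
    apply hbW
    have e : b = -(g 2)⁻¹ • (g 0 • v + g 1 • w) := by
      have e1 : g 2 • b = -(g 0 • v + g 1 • w) := by
        rw [eq_neg_iff_add_eq_zero, add_comm]
        exact hg
      rw [neg_smul, ← smul_neg, ← e1, smul_smul, inv_mul_cancel₀ h, one_smul]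
    rw [e]
    exact Submodule.smul_mem _ _ (Submodule.add_mem _
      (Submodule.smul_mem _ _ hv1) (Submodule.smul_mem _ _ hw1))
  rw [h2', zero_smul, add_zero] at hg
  obtain ⟨h0, h1⟩ := hind _ _ hg
  intro i
  fin_cases i
  · exact h0
  · exact h1
  · exact h2'
  · exact h3

end Cfsg.Agent.S5683P
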