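import Mathlib
import Cfsg.Agent.Helper12.SzTDefs

/-! SZT piece ORBIND: on `A \ 1` the orbit sum `orbSum A θ` equals the induced-restricted
character `indA A θ`; the value of `indA` at `1`, and `indA` of the trivial character. -/

set_option autoImplicit false

namespace Cfsg.Agent.SZT

open Cfsg Cfsg.Agent.Helper11.SCTI
open scoped Classical ComplexConjugate

universe u

variable {G : Type u} [Group G] [Fintype G]

omit [Fintype G] in
theorem ORBIND_conjN_coe (A : Subgroup G) (n : Subgroup.normalizer (A : Set G)) (x : A) :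
    ((conjN A n x : A) : G) = (n : G) * x * (n : G)⁻¹ := rfl

omit [Fintype G] in
theorem ORBIND_le_normalizer (A : Subgroup G) : A ≤ Subgroup.normalizer (A : Set G) :=
  Subgroup.le_normalizer

/-- the fibre of `n ↦ n x n⁻¹` over a conjugate `a` of `x` is a coset of `A` -/
theorem ORBIND_card_fiber {A : Subgroup G} (hA : SC A) (x : A) (hx : x ≠ 1) (a : A)
    (ha : IsConj (a : G) (x : G)) :
    (Finset.univ.filter (fun n : Subgroup.normalizer (A : Set G) => conjN A n x = a)).card =
      Nat.card A := by
  have hx' : (x : G) ≠ 1 := fun h => hx (Subtype.ext h)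
  obtain ⟨c, hc⟩ := isConj_iff.1 ha
  -- `g₀ = c⁻¹` conjugates `x` to `a`
  have hg₀ : c⁻¹ * (x : G) * (c⁻¹)⁻¹ = a := by
    rw [← hc]; group
  have hg₀N : c⁻¹ ∈ Subgroup.normalizer (A : Set G) :=
    hA.mem_normalizer x.2 hx' (by rw [hg₀]; exact a.2)
  let e : A → Subgroup.normalizer (A : Set G) := fun b =>
    ⟨c⁻¹ * (b : G), Subgroup.mul_mem _ hg₀N (ORBIND_le_normalizer A b.2)⟩
  have he : Function.Injective e := by
    intro b b' h
    have h' := congrArg (fun n : Subgroup.normalizer (A : Set G) => (n : G)) h
    simp only [e] at h'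
    exact Subtype.ext (mul_left_cancel h')
  have hfil : Finset.univ.filter (fun n : Subgroup.normalizer (A : Set G) => conjN A n x = a) =
      Finset.univ.image e := by
    ext n
    simp only [Finset.mem_filter, Finset.mem_univ, true_and, Finset.mem_image]
    constructor
    · intro hn
      have hn' : (n : G) * x * (n : G)⁻¹ = a := by
        have := congrArg (fun y : A => (y : G)) hn
        simpa only [ORBIND_conjN_coe] using this
      have hmem : c * (n : G) ∈ A := by
        have hcent : c * (n : G) ∈ Subgroup.centralizer ({(x : G)} : Set G) := by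
          rw [mem_centralizer_singleton]
          have h1 : c * (a : G) * c⁻¹ = x := hc
          calc (x : G) * (c * n) = (c * ((n : G) * x * (n : G)⁻¹) * c⁻¹) * (c * n) := by
                rw [hn', h1]
            _ = c * n * x := by group
        rw [hA (x : G) x.2 hx'] at hcent
        exact hcent
      refine ⟨⟨c * (n : G), hmem⟩, ?_⟩
      apply Subtype.ext
      simp only [e]
      group
    · rintro ⟨b, rfl⟩
      apply Subtype.ext
      rw [ORBIND_conjN_coe]
      simp only [e]
      have hcomm : (b : G) * x = x * b := hA.comm b b.2 x x.2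
      calc c⁻¹ * (b : G) * x * (c⁻¹ * (b : G))⁻¹ = c⁻¹ * ((b : G) * x) * (b : G)⁻¹ * c := by group
        _ = c⁻¹ * (x * b) * (b : G)⁻¹ * c := by rw [hcomm]
        _ = c⁻¹ * (x : G) * (c⁻¹)⁻¹ := by group
        _ = a := hg₀
  rw [hfil, Finset.card_image_of_injective _ he, Finset.card_univ, Nat.card_eq_fintype_card]

/-- the fibre over a non-conjugate is empty -/
theorem ORBIND_fiber_empty {A : Subgroup G} (x : A) (a : A)
    (ha : ¬ IsConj (a : G) (x : G)) :
    Finset.univ.filter (fun n : Subgroup.normalizer (A : Set G) => conjN A n x = a) = ∅ := by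
  rw [Finset.filter_eq_empty_iff]
  intro n _ hn
  apply ha
  have hn' : (n : G) * x * (n : G)⁻¹ = a := by
    have := congrArg (fun y : A => (y : G)) hn
    simpa only [ORBIND_conjN_coe] using this
  exact (isConj_iff.2 ⟨(n : G), hn'⟩).symm

/-- A4 -/
theorem orbSum_eq_indA {A : Subgroup G} (hA : SC A) (θ : A →* ℂˣ) (x : A) (hx : x ≠ 1) :
    orbSum A θ (x : G) = indA A θ x := by
  have hx' : (x : G) ≠ 1 := fun h => hx (Subtype.ext h)
  have hcard : (Nat.card A : ℂ) ≠ 0 := by
    have : Nat.card A ≠ 0 := Nat.card_pos.ne'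
    exact_mod_cast this
  have hsum : ∑ n : Subgroup.normalizer (A : Set G), ((θ (conjN A n x) : ℂˣ) : ℂ) =
      (Nat.card A : ℂ) * orbSum A θ (x : G) := by
    rw [← Finset.sum_fiberwise Finset.univ (fun n : Subgroup.normalizer (A : Set G) => conjN A n x)
      (fun n => ((θ (conjN A n x) : ℂˣ) : ℂ))]
    unfold orbSum
    rw [Finset.mul_sum]
    apply Finset.sum_congr rfl
    intro a _
    have h1 : ∑ n ∈ Finset.univ.filter
        (fun n : Subgroup.normalizer (A : Set G) => conjN A n x = a),
          ((θ (conjN A n x) : ℂˣ) : ℂ) =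
        ((Finset.univ.filter
          (fun n : Subgroup.normalizer (A : Set G) => conjN A n x = a)).card : ℂ) *
            ((θ a : ℂˣ) : ℂ) := by
      rw [Finset.sum_congr rfl (fun n hn => by rw [(Finset.mem_filter.1 hn).2]),
        Finset.sum_const, nsmul_eq_mul]
    rw [h1]
    by_cases ha : IsConj (a : G) (x : G)
    · have ha1 : (a : G) ≠ 1 := by
        intro h
        rw [h] at ha
        exact hx' (isConj_one_left.1 ha.symm)
      rw [ORBIND_card_fiber hA x hx a ha, if_pos ⟨ha1, ha⟩]
    · rw [ORBIND_fiber_empty x a ha, Finset.card_empty, if_neg (fun h => ha h.2)]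
      simp
  unfold indA
  rw [hsum, ← mul_assoc, inv_mul_cancel₀ hcard, one_mul]

/-- A5 -/
theorem indA_one (A : Subgroup G) (θ : A →* ℂˣ) :
    indA A θ 1 = (Nat.card (Subgroup.normalizer (A : Set G)) : ℂ) / (Nat.card A : ℂ) := by
  unfold indA
  simp only [map_one, Units.val_one, Finset.sum_const, Finset.card_univ, nsmul_eq_mul, mul_one]
  rw [Nat.card_eq_fintype_card (α := Subgroup.normalizer (A : Set G)), div_eq_inv_mul]

theorem indA_one_char (A : Subgroup G) (x : A) :
    indA A (1 : A →* ℂˣ) x =
      (Nat.card (Subgroup.normalizer (A : Set G)) : ℂ) / (Nat.card A : ℂ) := by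
  unfold indA
  simp only [MonoidHom.one_apply, Units.val_one, Finset.sum_const, Finset.card_univ,
    nsmul_eq_mul, mul_one]
  rw [Nat.card_eq_fintype_card (α := Subgroup.normalizer (A : Set G)), div_eq_inv_mul]

end Cfsg.Agent.SZT
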