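import Mathlib
import Cfsg.Agent.Helper12.SzTDefs
import Cfsg.Agent.Helper24.Expansion
import Cfsg.Agent.Helper24.Linear

/-! SZT piece INDCHAR: `indA A θ` (the restriction to `A` of the character induced from `A` to its
normaliser) is a character of `A`: it is the sum of the linear characters `θ ∘ conj_n` over coset
representatives `n` of `A` in its normaliser. -/

set_option autoImplicit false

namespace Cfsg.Agent.SZT

open Cfsg Cfsg.Agent.Helper11.SCTI Cfsg.Agent.Helper24
open scoped Classical ComplexConjugate

universe u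

variable {G : Type u} [Group G] [Fintype G]

omit [Fintype G] in
theorem INDCHAR_conjN_coe (A : Subgroup G) (n : Subgroup.normalizer (A : Set G)) (x : A) :
    ((conjN A n x : A) : G) = (n : G) * x * (n : G)⁻¹ := rfl

/-- the linear character `θ ∘ conj_n` of `A` -/
noncomputable def INDCHAR_psi (A : Subgroup G) (θ : A →* ℂˣ)
    (n : Subgroup.normalizer (A : Set G)) : A →* ℂ :=
  (Units.coeHom ℂ).comp (θ.comp (conjN A n).toMonoidHom)

omit [Fintype G] in
theorem INDCHAR_psi_apply (A : Subgroup G) (θ : A →* ℂˣ)
    (n : Subgroup.normalizer (A : Set G)) (x : A) :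
    INDCHAR_psi A θ n x = ((θ (conjN A n x) : ℂˣ) : ℂ) := rfl

omit [Fintype G] in
/-- `θ ∘ conj_{n a} = θ ∘ conj_n` for `a ∈ A` -/
theorem INDCHAR_psi_mul (A : Subgroup G) (θ : A →* ℂˣ)
    (n a : Subgroup.normalizer (A : Set G)) (ha : (a : G) ∈ A) (x : A) :
    INDCHAR_psi A θ (n * a) x = INDCHAR_psi A θ n x := by
  rw [INDCHAR_psi_apply, INDCHAR_psi_apply]
  have h1 : conjN A (n * a) x = conjN A n (⟨(a : G), ha⟩ * x * (⟨(a : G), ha⟩ : A)⁻¹) := by
    apply Subtype.ext
    rw [INDCHAR_conjN_coe, INDCHAR_conjN_coe]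
    simp only [Subgroup.coe_mul, Subgroup.coe_inv]
    group
  rw [h1, map_mul, map_mul, map_inv, map_mul, map_mul, map_inv]
  rw [mul_comm (θ (conjN A n ⟨(a : G), ha⟩)), mul_inv_cancel_right]

/-- the fibres of the quotient map have `|A|` elements -/
theorem INDCHAR_card_fiber (A : Subgroup G)
    (C : Subgroup.normalizer (A : Set G) ⧸ A.subgroupOf (Subgroup.normalizer (A : Set G))) :
    (Finset.univ.filter (fun n : Subgroup.normalizer (A : Set G) =>
      (QuotientGroup.mk n : Subgroup.normalizer (A : Set G) ⧸
        A.subgroupOf (Subgroup.normalizer (A : Set G))) = C)).card = Nat.card A := by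
  let e : A → Subgroup.normalizer (A : Set G) := fun b =>
    C.out * ⟨(b : G), Subgroup.le_normalizer b.2⟩
  have he : Function.Injective e := by
    intro b b' h
    have h' := mul_left_cancel h
    exact Subtype.ext (congrArg (fun n : Subgroup.normalizer (A : Set G) => (n : G)) h')
  have hfil : Finset.univ.filter (fun n : Subgroup.normalizer (A : Set G) =>
      (QuotientGroup.mk n : Subgroup.normalizer (A : Set G) ⧸
        A.subgroupOf (Subgroup.normalizer (A : Set G))) = C) = Finset.univ.image e := by
    ext n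
    simp only [Finset.mem_filter, Finset.mem_univ, true_and, Finset.mem_image]
    constructor
    · intro hn
      have h1 : (QuotientGroup.mk C.out : Subgroup.normalizer (A : Set G) ⧸
          A.subgroupOf (Subgroup.normalizer (A : Set G))) = QuotientGroup.mk n := by
        rw [hn]; exact QuotientGroup.out_eq' C
      rw [QuotientGroup.eq, Subgroup.mem_subgroupOf] at h1
      refine ⟨⟨((C.out⁻¹ * n : Subgroup.normalizer (A : Set G)) : G), h1⟩, ?_⟩
      apply Subtype.ext
      simp only [e, Subgroup.coe_mul, Subgroup.coe_inv]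
      group
    · rintro ⟨b, rfl⟩
      have h1 : (QuotientGroup.mk (e b) : Subgroup.normalizer (A : Set G) ⧸
          A.subgroupOf (Subgroup.normalizer (A : Set G))) = QuotientGroup.mk C.out := by
        rw [eq_comm, QuotientGroup.eq, Subgroup.mem_subgroupOf]
        simp only [e, Subgroup.coe_mul, Subgroup.coe_inv]
        rw [inv_mul_cancel_left]
        exact b.2
      rw [h1]
      exact QuotientGroup.out_eq' C
  rw [hfil, Finset.card_image_of_injective _ he, Finset.card_univ, Nat.card_eq_fintype_card]

/-- `indA A θ` is the sum of `θ ∘ conj_n` over coset representatives -/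
theorem INDCHAR_indA_eq_sum (A : Subgroup G) (θ : A →* ℂˣ) :
    indA A θ = ∑ C : Subgroup.normalizer (A : Set G) ⧸
      A.subgroupOf (Subgroup.normalizer (A : Set G)), fun x : A => INDCHAR_psi A θ C.out x := by
  funext x
  have hcard : (Nat.card A : ℂ) ≠ 0 := by
    have : Nat.card A ≠ 0 := Nat.card_pos.ne'
    exact_mod_cast this
  unfold indA
  rw [Finset.sum_apply]
  rw [← Finset.sum_fiberwise Finset.univ
    (fun n : Subgroup.normalizer (A : Set G) =>
      (QuotientGroup.mk n : Subgroup.normalizer (A : Set G) ⧸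
        A.subgroupOf (Subgroup.normalizer (A : Set G))))
    (fun n => ((θ (conjN A n x) : ℂˣ) : ℂ)), Finset.mul_sum]
  apply Finset.sum_congr rfl
  intro C _
  have h1 : ∀ n ∈ Finset.univ.filter (fun n : Subgroup.normalizer (A : Set G) =>
      (QuotientGroup.mk n : Subgroup.normalizer (A : Set G) ⧸
        A.subgroupOf (Subgroup.normalizer (A : Set G))) = C),
      ((θ (conjN A n x) : ℂˣ) : ℂ) = INDCHAR_psi A θ C.out x := by
    intro n hn
    have hn' := (Finset.mem_filter.1 hn).2
    have h2 : (QuotientGroup.mk C.out : Subgroup.normalizer (A : Set G) ⧸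
        A.subgroupOf (Subgroup.normalizer (A : Set G))) = QuotientGroup.mk n := by
      rw [hn']; exact QuotientGroup.out_eq' C
    rw [QuotientGroup.eq, Subgroup.mem_subgroupOf] at h2
    have h3 : n = C.out * (C.out⁻¹ * n) := by group
    rw [← INDCHAR_psi_apply, h3, INDCHAR_psi_mul A θ C.out (C.out⁻¹ * n) h2 x]
  rw [Finset.sum_congr rfl h1, Finset.sum_const, nsmul_eq_mul, INDCHAR_card_fiber A C,
    ← mul_assoc, inv_mul_cancel₀ hcard, one_mul]

/-- A3 -/
theorem isCharacter_indA (A : Subgroup G) (θ : A →* ℂˣ) : IsCharacter A (indA A θ) := by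
  rw [INDCHAR_indA_eq_sum]
  refine isCharacter_sum _ _ ?_
  intro C _
  exact isCharacter_of_monoidHom (INDCHAR_psi A θ C.out)

end Cfsg.Agent.SZT
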