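import Cfsg.Agent.Helper12.SzTDefs
import Cfsg.Agent.Helper24.BrauerChar
import Cfsg.Agent.Helper24.Generalized
import Cfsg.Agent.Helper14.SZTDELTA
import Cfsg.Agent.Helper24.SZTINDCHAR
import Cfsg.Agent.Helper24.SZTORBIND
import Cfsg.Agent.Helper12.SZTPHIVAL
import Cfsg.Agent.Helper14.SZTGENU

/-! SZT pieces RESSELF, RESOTHER: the restrictions of `phi d s t ε A θ` to `A` itself and to a
subgroup of odd order not meeting the conjugates of `A` are generalised characters. -/

set_option autoImplicit false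

namespace Cfsg.Agent.SZT

open Cfsg Cfsg.Agent.Helper11.SCTI Cfsg.Agent.Helper24
open scoped Classical ComplexConjugate

universe u

variable {G : Type u} [Group G] [Fintype G]

/-- generic: restriction of `phi` to `A` itself -/
theorem isGen_restrict_phi_self {A : Subgroup G} (hA : SC A) (hodd : Odd (Nat.card A))
    (d s t : ℂ) (ε : ℤ) (θ : A →* ℂˣ) (k : ℤ)
    (hk : d = (ε : ℂ) * ((Nat.card (Subgroup.normalizer (A : Set G)) : ℂ) / (Nat.card A : ℂ)) +
      (k : ℂ) * (Nat.card A : ℂ)) :
    IsGeneralizedCharacter A (fun x : A => phi d s t (ε : ℂ) A θ (x : G)) := by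
  have h1 : IsGeneralizedCharacter A ((ε : ℂ) • indA A θ) :=
    IsGeneralizedCharacter.zsmul (IsCharacter.isGeneralizedCharacter (isCharacter_indA A θ)) ε
  have h2 := isGen_delta A k
  have h3 := IsGeneralizedCharacter.add h1 h2
  convert h3 using 1
  funext x
  simp only [Pi.add_apply, Pi.smul_apply, smul_eq_mul]
  by_cases hx : x = 1
  · rw [if_pos hx, hx, indA_one, Subgroup.coe_one, phi_one, hk]
  · rw [if_neg hx, add_zero]
    exact phi_cov d s t (ε : ℂ) hA hodd θ x hx (x : G) (IsConj.refl _)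

/-- generic: restriction of `phi` to a subgroup of odd order not meeting the conjugates of `A` -/
theorem isGen_restrict_phi_other (A B : Subgroup G) (hodd : Odd (Nat.card B))
    (hAB : ∀ b ∈ B, b ≠ 1 → ∀ a ∈ A, a ≠ 1 → ¬ IsConj a b)
    (d s t ε : ℂ) (θ : A →* ℂˣ) (k : ℤ) (hk : d = (k : ℂ) * (Nat.card B : ℂ)) :
    IsGeneralizedCharacter B (fun x : B => phi d s t ε A θ (x : G)) := by
  have h2 := isGen_delta B k
  convert h2 using 1
  funext x
  by_cases hx : x = 1
  · rw [if_pos hx, hx, Subgroup.coe_one, phi_one, hk]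
  · rw [if_neg hx]
    have hx' : (x : G) ≠ 1 := fun h => hx (Subtype.ext h)
    have hord : orderOf (x : G) ∣ Nat.card B := by
      rw [Subgroup.orderOf_coe x]
      exact orderOf_dvd_natCard x
    have hoddx : Odd (orderOf (x : G)) := Odd.of_dvd_nat hodd hord
    have h2' : orderOf (x : G) ≠ 2 := by
      intro h
      rw [h] at hoddx
      exact absurd hoddx (by decide)
    have h4' : orderOf (x : G) ≠ 4 := by
      intro h
      rw [h] at hoddx
      exact absurd hoddx (by decide)
    exact phi_other d s t ε A θ (x : G) hx' h2' h4' (fun a ha ha1 => hAB x x.2 hx' a ha ha1)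

namespace Cfg

variable (C : Cfg G)

theorem isGen_restrict_phi_U (A : Subgroup G) (hodd : Odd (Nat.card A)) (d s t ε : ℂ)
    (θ : A →* ℂˣ) (a b c e : ℤ)
    (hd : d = (a : ℂ) + b * C.q + c * (((C.q : ℂ) - 1) * C.r) + e * (C.q : ℂ) ^ 2)
    (hs : s = (a : ℂ) + b * C.q - c * C.r) (ht : t = (a : ℂ)) :
    IsGeneralizedCharacter C.U (fun u : C.U => phi d s t ε A θ (u : G)) := by
  have h := C.isGen_U a b c e
  convert h using 1
  funext u
  by_cases h1 : (u : G) = 1
  · rw [if_pos h1, h1, phi_one, hd]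
  · rw [if_neg h1]
    by_cases h2 : orderOf (u : G) = 2
    · rw [if_pos h2, phi_two d s t ε A hodd θ (u : G) h2, hs]
    · rw [if_neg h2]
      rcases C.U_order (u : G) u.2 with h | h | h
      · exact absurd h h1
      · exact absurd h h2
      · rw [phi_four d s t ε A hodd θ (u : G) h, ht]

end Cfg

end Cfsg.Agent.SZT
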