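import Mathlib
import Cfsg.Agent.Helper12.SzTDefs

/-! SZT piece FREE: the normaliser of a self-centralising TI subgroup `A` acts freely (modulo `A`)
on the non-trivial linear characters of `A`. -/

set_option autoImplicit false

namespace Cfsg.Agent.SZT

open Cfsg Cfsg.Agent.Helper11.SCTI
open scoped Classical ComplexConjugate

universe u

variable {G : Type u} [Group G] [Fintype G]

omit [Fintype G] in
theorem FREE_conjN_coe (A : Subgroup G) (n : Subgroup.normalizer (A : Set G)) (x : A) :
    ((conjN A n x : A) : G) = (n : G) * x * (n : G)⁻¹ := rfl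

omit [Fintype G] in
/-- a non-identity element of `A` fixed by `n` forces `n ∈ A` -/
theorem FREE_fix {A : Subgroup G} (hA : SC A) (n : Subgroup.normalizer (A : Set G))
    (hn : (n : G) ∉ A) (x : A) (hx : conjN A n x = x) : x = 1 := by
  by_contra hx1
  have hx1' : (x : G) ≠ 1 := fun h => hx1 (Subtype.ext h)
  have hc := hA (x : G) x.2 hx1'
  apply hn
  have hmem : ∀ g : G, g ∈ Subgroup.centralizer ({(x : G)} : Set G) → g ∈ A := by
    intro g hg
    rw [hc] at hg
    exact hg
  apply hmem (n : G)
  rw [mem_centralizer_singleton]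
  have h1 : (n : G) * x * (n : G)⁻¹ = x := by
    have := congrArg (fun y : A => (y : G)) hx
    simpa only [FREE_conjN_coe] using this
  calc (x : G) * n = ((n : G) * x * (n : G)⁻¹) * n := by rw [h1]
    _ = n * x := by group

/-- A6 -/
theorem free_of_sc {A : Subgroup G} (hA : SC A) {θ : A →* ℂˣ} (hθ : θ ≠ 1)
    (n : Subgroup.normalizer (A : Set G)) (h : θ.comp (conjN A n).toMonoidHom = θ) :
    (n : G) ∈ A := by
  by_contra hn
  let f : A → A := fun x => x⁻¹ * conjN A n x
  have hinj : Function.Injective f := by
    intro x y hxy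
    have hxy' : x⁻¹ * conjN A n x = y⁻¹ * conjN A n y := hxy
    have h1 : conjN A n x = x * (y⁻¹ * conjN A n y) := by
      rw [← hxy']; group
    have h2 : conjN A n (x * y⁻¹) = x * y⁻¹ := by
      rw [map_mul, map_inv, h1]; group
    exact mul_inv_eq_one.1 (FREE_fix hA n hn _ h2)
  have hsurj : Function.Surjective f := Finite.surjective_of_injective hinj
  apply hθ
  ext y
  obtain ⟨x, rfl⟩ := hsurj y
  have hx : θ (conjN A n x) = θ x := DFunLike.congr_fun h x
  have : θ (f x) = 1 := by
    change θ (x⁻¹ * conjN A n x) = 1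
    rw [map_mul, map_inv, hx, inv_mul_cancel]
  rw [this, MonoidHom.one_apply]

end Cfsg.Agent.SZT
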