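import Cfsg.Agent.Helper12.SzTDefs
import Cfsg.Agent.Helper12.SZTARITH
import Cfsg.Agent.Helper24.Orthogonality
import Cfsg.Agent.Helper24.SZTORBIND
import Cfsg.Agent.Helper4.SZTSUMPHI

/-! SZT piece NORMX: the class function `cX = cF0 1 - 1` has norm `1`. -/

set_option autoImplicit false

namespace Cfsg.Agent.SZT

open Cfsg Cfsg.Agent.Helper11.SCTI Cfsg.Agent.Helper24
open scoped Classical ComplexConjugate

universe u

variable {G : Type u} [Group G] [Fintype G]

/-- a sum of a constant over the non-identity elements -/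
theorem NORMX_sum_ne_one (A : Subgroup G) (c : ℂ) :
    ∑ x : A, (if x = 1 then 0 else c) = ((Nat.card A : ℂ) - 1) * c := by
  have h : ∀ x : A, (if x = 1 then (0 : ℂ) else c) = c - (if x = 1 then c else 0) := by
    intro x
    split_ifs <;> simp
  rw [Finset.sum_congr rfl (fun x _ => h x), Finset.sum_sub_distrib, Finset.sum_const,
    Finset.card_univ, Finset.sum_ite_eq' Finset.univ (1 : A) (fun _ => c), if_pos (Finset.mem_univ _),
    nsmul_eq_mul, Nat.card_eq_fintype_card]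
  ring

namespace Cfg

variable (C : Cfg G)

theorem NORMX_q_ne : (C.q : ℂ) ≠ 0 := by
  have := C.hq
  have h : C.q ≠ 0 := by omega
  exact_mod_cast h

theorem NORMX_n0_ne : (C.q : ℂ) - 1 ≠ 0 := by
  have := C.hq
  rw [← C.cast_n0]
  have h : C.q - 1 ≠ 0 := by omega
  exact_mod_cast h

theorem NORMX_d0_ne : (C.q : ℂ) ^ 2 + 1 ≠ 0 := by
  have h : C.q ^ 2 + 1 ≠ 0 := by omega
  exact_mod_cast h

theorem NORMX_card_G : (Nat.card G : ℂ) = (C.q : ℂ) ^ 2 * ((C.q : ℂ) - 1) * ((C.q : ℂ) ^ 2 + 1) := by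
  rw [C.card_G]
  push_cast
  rw [C.cast_n0]

theorem NORMX_card_invol :
    (Nat.card {g : G // orderOf g = 2} : ℂ) = ((C.q : ℂ) ^ 2 + 1) * ((C.q : ℂ) - 1) := by
  rw [C.card_invol]
  push_cast
  rw [C.cast_n0]

theorem NORMX_card_four :
    (Nat.card {g : G // orderOf g = 4} : ℂ) = ((C.q : ℂ) ^ 2 + 1) * ((C.q : ℂ) - 1) * C.q := by
  rw [C.card_four]
  push_cast
  rw [C.cast_n0]

theorem NORMX_card_A0 : (Nat.card C.A0 : ℂ) = (C.q : ℂ) - 1 := by
  rw [C.card_A0, C.cast_n0]

theorem NORMX_card_N0 :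
    (Nat.card (Subgroup.normalizer (C.A0 : Set G)) : ℂ) = 2 * ((C.q : ℂ) - 1) := by
  rw [C.card_N0]
  push_cast
  rw [C.cast_n0]

theorem NORMX_indA_one (x : C.A0) : indA C.A0 (1 : C.A0 →* ℂˣ) x = 2 := by
  rw [indA_one_char, C.NORMX_card_N0, C.NORMX_card_A0]
  have := C.NORMX_n0_ne
  field_simp

theorem NORMX_inner_F_one : classInner (C.cF0 1) (fun _ : G => (1 : ℂ)) = 1 := by
  unfold classInner Cfg.cF0
  simp only [map_one, mul_one]
  rw [sum_phi C.sc_A0 C.odd_A0]
  simp only [C.NORMX_indA_one]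
  rw [NORMX_sum_ne_one, C.NORMX_card_G, C.NORMX_card_invol, C.NORMX_card_four, C.NORMX_card_A0,
    C.NORMX_card_N0]
  have h1 := C.NORMX_q_ne
  have h2 := C.NORMX_n0_ne
  have h3 := C.NORMX_d0_ne
  field_simp
  ring

theorem NORMX_inner_F_F : classInner (C.cF0 1) (C.cF0 1) = 2 := by
  unfold Cfg.cF0
  rw [classInner_phi C.sc_A0 C.odd_A0]
  simp only [C.NORMX_indA_one, map_one, mul_one, map_add, map_pow, Complex.conj_natCast, map_ofNat]
  rw [NORMX_sum_ne_one, C.NORMX_card_G, C.NORMX_card_invol, C.NORMX_card_four, C.NORMX_card_A0,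
    C.NORMX_card_N0]
  have h1 := C.NORMX_q_ne
  have h2 := C.NORMX_n0_ne
  have h3 := C.NORMX_d0_ne
  field_simp
  ring

theorem classInner_cX : classInner C.cX C.cX = 1 := by
  have hcX : C.cX = C.cF0 1 - (fun _ : G => (1 : ℂ)) := by
    funext g
    rfl
  have h11 : classInner (fun _ : G => (1 : ℂ)) (fun _ : G => (1 : ℂ)) = 1 := by
    unfold classInner
    simp only [map_one, mul_one, Finset.sum_const, Finset.card_univ, nsmul_eq_mul]
    rw [Nat.card_eq_fintype_card]
    have : (Fintype.card G : ℂ) ≠ 0 := by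
      have : Fintype.card G ≠ 0 := Fintype.card_ne_zero
      exact_mod_cast this
    field_simp
  have h1F : classInner (fun _ : G => (1 : ℂ)) (C.cF0 1) = 1 := by
    rw [← classInner_conj_symm, C.NORMX_inner_F_one, map_one]
  rw [hcX, classInner_sub_left, classInner_sub_right, classInner_sub_right, C.NORMX_inner_F_F,
    C.NORMX_inner_F_one, h1F, h11]
  norm_num

end Cfg

end Cfsg.Agent.SZT
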