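import Mathlib
import Cfsg.Prelude.Def_Characters
import Cfsg.Agent.Helper12.LSpWDefs
import Cfsg.Agent.Helper12.LSpWPDefs
import Cfsg.Agent.Helper12.WGDefs
import Cfsg.Agent.Helper12.WGDefsC
import Cfsg.Agent.Helper12.WGStruct

set_option autoImplicit false

/-! # S2524 chapter WEIL, piece WCONG: quadratic sums are invariant under congruence -/

namespace Cfsg.Agent.S2524P

open Matrix Cfsg Cfsg.Agent.S2333P Cfsg.Agent.Helper2.Sp Cfsg.Agent.Helper12.LSp Cfsg.Agent.Helper25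

variable {F : Type*} [Field F] [Fintype F]

/-- **WCONG**: the quadratic sums are invariant under congruence -/
theorem quad_sum_cong (φ : AddChar F ℂ) {n : ℕ} (A : Matrix (Fin n) (Fin n) F) (hA : A.det ≠ 0)
    (S : Matrix (Fin n) (Fin n) F) :
    ∑ w : Fin n → F, φ (-(w ⬝ᵥ ((A * S * Aᵀ) *ᵥ w))) =
      ∑ w : Fin n → F, φ (-(w ⬝ᵥ (S *ᵥ w))) := by
  have hkey : ∀ w : Fin n → F, w ⬝ᵥ ((A * S * Aᵀ) *ᵥ w) =
      (Aᵀ *ᵥ w) ⬝ᵥ (S *ᵥ (Aᵀ *ᵥ w)) := by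
    intro w
    rw [← Matrix.mulVec_mulVec, ← Matrix.mulVec_mulVec, Matrix.dotProduct_mulVec,
      Matrix.mulVec_transpose]
  have hunit : IsUnit Aᵀ := by
    rw [Matrix.isUnit_iff_isUnit_det, Matrix.det_transpose]
    exact isUnit_iff_ne_zero.mpr hA
  have hinj : Function.Injective (fun w : Fin n → F => Aᵀ *ᵥ w) :=
    Matrix.mulVec_injective_iff_isUnit.mpr hunit
  have hbij : Function.Bijective (fun w : Fin n → F => Aᵀ *ᵥ w) :=
    hinj.bijective_of_finite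
  simp_rw [hkey]
  exact Fintype.sum_bijective (fun w : Fin n → F => Aᵀ *ᵥ w) hbij
    (fun w => φ (-((Aᵀ *ᵥ w) ⬝ᵥ (S *ᵥ (Aᵀ *ᵥ w))))) (fun w => φ (-(w ⬝ᵥ (S *ᵥ w))))
    (fun w => rfl)

end Cfsg.Agent.S2524P
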