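import Mathlib
import Cfsg.Prelude.Def_Characters
import Cfsg.Agent.Helper12.LSpWDefs
import Cfsg.Agent.Helper12.LSpWPDefs
import Cfsg.Agent.Helper12.WGDefs
import Cfsg.Agent.Helper12.WGDefsC
import Cfsg.Agent.Helper12.WGStruct

set_option autoImplicit false

/-! # S2524 chapter WEIL, piece WGAUSS: a quadratic Gauss sum does not vanish -/

namespace Cfsg.Agent.S2524P

open Matrix Cfsg Cfsg.Agent.S2333P Cfsg.Agent.Helper2.Sp Cfsg.Agent.Helper12.LSp Cfsg.Agent.Helper25

variable {F : Type*} [Field F] [Fintype F]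

/-- the change of variables `(x, y) ↦ (x - y, x + y)` -/
def wgauss_equiv (h2 : (2 : F) ≠ 0) : F × F ≃ F × F where
  toFun p := (p.1 - p.2, p.1 + p.2)
  invFun p := ((p.1 + p.2) / 2, (p.2 - p.1) / 2)
  left_inv p := by
    apply Prod.ext
    · show (p.1 - p.2 + (p.1 + p.2)) / 2 = p.1
      field_simp
      ring
    · show (p.1 + p.2 - (p.1 - p.2)) / 2 = p.2
      field_simp
      ring
  right_inv p := by
    apply Prod.ext
    · show (p.1 + p.2) / 2 - (p.2 - p.1) / 2 = p.1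
      field_simp
      ring
    · show (p.1 + p.2) / 2 + (p.2 - p.1) / 2 = p.2
      field_simp
      ring

theorem wgauss_inner (φ : AddChar F ℂ) (hφ : φ ≠ 1) (s : F) (hs : s ≠ 0) (u : F) (hu : u ≠ 0) :
    ∑ v : F, φ (s * (u * v)) = 0 := by
  have hsu : s * u ≠ 0 := mul_ne_zero hs hu
  have h := Fintype.sum_equiv (Equiv.mulLeft₀ (s * u) hsu) (fun v : F => φ (s * (u * v)))
    (fun w : F => φ w) (by
      intro v
      show φ (s * (u * v)) = φ (s * u * v)
      rw [mul_assoc])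
  rw [h]
  exact AddChar.sum_eq_zero_of_ne_one hφ

/-- **WGAUSS**: a quadratic Gauss sum does not vanish -/
theorem gauss_sum_ne_zero (h2 : (2 : F) ≠ 0) (φ : AddChar F ℂ) (hφ : φ ≠ 1) (s : F)
    (hs : s ≠ 0) : ∑ x : F, φ (s * x ^ 2) ≠ 0 := by
  classical
  intro hG
  have hconj : ∀ a : F, (starRingEnd ℂ) (φ a) = φ (-a) :=
    fun a => (AddChar.map_neg_eq_conj φ a).symm
  have h1 : (∑ x : F, φ (s * x ^ 2)) * (starRingEnd ℂ) (∑ y : F, φ (s * y ^ 2)) =
      (Fintype.card F : ℂ) := by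
    rw [map_sum, Finset.sum_mul_sum]
    simp_rw [hconj, ← AddChar.map_add_eq_mul]
    rw [← Finset.sum_product', Finset.univ_product_univ]
    rw [Fintype.sum_equiv (wgauss_equiv h2) (fun p : F × F => φ (s * p.1 ^ 2 + -(s * p.2 ^ 2)))
      (fun p : F × F => φ (s * (p.1 * p.2))) (by
        intro p
        show φ (s * p.1 ^ 2 + -(s * p.2 ^ 2)) = φ (s * ((p.1 - p.2) * (p.1 + p.2)))
        congr 1
        ring)]
    rw [Fintype.sum_prod_type, Fintype.sum_eq_single 0]
    · simp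
    · intro u hu
      exact wgauss_inner φ hφ s hs u hu
  rw [hG, zero_mul] at h1
  have : (Fintype.card F : ℂ) ≠ 0 := Nat.cast_ne_zero.mpr Fintype.card_ne_zero
  exact this h1.symm

end Cfsg.Agent.S2524P
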