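import Mathlib
import Cfsg.Prelude.Def_Characters
import Cfsg.Agent.Helper12.LSpWDefs
import Cfsg.Agent.Helper12.LSpWPDefs
import Cfsg.Agent.Helper12.WGDefs
import Cfsg.Agent.Helper12.WGDefsC
import Cfsg.Agent.Helper12.WGStruct
import Cfsg.Agent.Helper24.WGWGAUSS

set_option autoImplicit false

/-! # S2524 chapter WEIL, piece WQSUM: the quadratic sum of `s E_jj` does not vanish -/

namespace Cfsg.Agent.S2524P

open Matrix Cfsg Cfsg.Agent.S2333P Cfsg.Agent.Helper2.Sp Cfsg.Agent.Helper12.LSp Cfsg.Agent.Helper25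

variable {F : Type*} [Field F] [Fintype F]

theorem wqsum_single {n : ℕ} (j : Fin n) (s : F) (w : Fin n → F) :
    w ⬝ᵥ ((Matrix.single j j s) *ᵥ w) = s * w j ^ 2 := by
  classical
  have h1 : (Matrix.single j j s) *ᵥ w = fun i => if i = j then s * w j else 0 := by
    funext i
    simp only [Matrix.mulVec, dotProduct, Matrix.single_apply]
    by_cases hij : i = j
    · subst hij
      simp
    · have : ∀ k, ¬ (j = i ∧ j = k) := fun k h => hij h.1.symm
      simp [this, hij]
  rw [h1]
  simp only [dotProduct]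
  rw [Finset.sum_eq_single j]
  · simp only [if_true]
    ring
  · intro i _ hij
    simp [hij]
  · intro h
    exact absurd (Finset.mem_univ j) h

theorem wqsum_split {n : ℕ} (j : Fin n) (f : F → ℂ) :
    ∑ w : Fin n → F, f (w j) =
      (Fintype.card ({i : Fin n // i ≠ j} → F) : ℂ) * ∑ x : F, f x := by
  classical
  have h := Fintype.sum_equiv (Equiv.funSplitAt j F) (fun w : Fin n → F => f (w j))
    (fun p : F × ({i : Fin n // i ≠ j} → F) => f p.1) (fun w => rfl)
  rw [h, Fintype.sum_prod_type]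
  simp only [Finset.sum_const, Finset.card_univ, nsmul_eq_mul]
  rw [Finset.mul_sum]

/-- **WQSUM**: the quadratic sum of `s E_jj` does not vanish -/
theorem quad_sum_single_ne_zero (h2 : (2 : F) ≠ 0) (φ : AddChar F ℂ) (hφ : φ ≠ 1) {n : ℕ}
    (j : Fin n) (s : F) :
    ∑ w : Fin n → F, φ (-(w ⬝ᵥ ((Matrix.single j j s) *ᵥ w))) ≠ 0 := by
  classical
  simp_rw [wqsum_single]
  rw [wqsum_split j (fun x : F => φ (-(s * x ^ 2)))]
  have hcard : (Fintype.card ({i : Fin n // i ≠ j} → F) : ℂ) ≠ 0 :=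
    Nat.cast_ne_zero.mpr Fintype.card_ne_zero
  refine mul_ne_zero hcard ?_
  by_cases hs : s = 0
  · subst hs
    simp only [zero_mul, neg_zero, AddChar.map_zero_eq_one, Finset.sum_const, Finset.card_univ,
      nsmul_eq_mul, mul_one]
    exact Nat.cast_ne_zero.mpr Fintype.card_ne_zero
  · have h := gauss_sum_ne_zero h2 φ hφ (-s) (neg_ne_zero.mpr hs)
    have h3 : ∀ x : F, -(s * x ^ 2) = -s * x ^ 2 := fun x => by ring
    simp_rw [h3]
    exact h

end Cfsg.Agent.S2524P
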