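import Mathlib
import Cfsg.Prelude.Def_Characters
import Cfsg.Agent.Helper7.S2333Defs
import Cfsg.Agent.Helper7.S2333Basic
import Cfsg.Agent.Helper12.WGDefs
import Cfsg.Agent.Helper13.WGGapDefs

set_option autoImplicit false

/-! # S2524 chapter GAP, piece GAP-LINE0 -/

namespace Cfsg.Agent.S2524P

open Matrix Cfsg Cfsg.Agent.S2333P

variable {F : Type*} [Field F] [Fintype F]

/-- **GAP-LINE0**: for a singular `u`, on each line `v + t u` of the hyperplane `polar Q u · = b0`
the form takes the value `c` exactly once (any characteristic) -/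
theorem gap_card_line_le_sing {n : ℕ} (M : Matrix (Fin n) (Fin n) F)
    (u : Fin n → F) (hu : qf M u = 0) (c b0 : F) (hb0 : b0 ≠ 0) :
    Fintype.card F * (open Classical in Finset.univ.filter (fun v : Fin n → F =>
        qf M v = c ∧ polar (qf M) u v = b0)).card ≤
      (open Classical in
        Finset.univ.filter (fun v : Fin n → F => polar (qf M) u v = b0)).card := by
  classical
  rw [mul_comm, ← Finset.card_univ (α := F), ← Finset.card_product]
  apply Finset.card_le_card_of_injOn (fun p : (Fin n → F) × F => p.1 + p.2 • u)
  · rintro ⟨v, t⟩ hp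
    rw [Finset.coe_product, Set.mem_prod] at hp
    have hv := hp.1
    rw [Finset.mem_coe, Finset.mem_filter] at hv
    rw [Finset.mem_coe, Finset.mem_filter]
    refine ⟨Finset.mem_univ _, ?_⟩
    show polar (qf M) u (v + t • u) = b0
    rw [polar_add_right, polar_smul_right, gap_polar_self, hu, hv.2.2]
    ring
  · rintro ⟨v, s⟩ hp ⟨v', t⟩ hp' heq
    rw [Finset.coe_product, Set.mem_prod] at hp hp'
    have hv := hp.1
    have hv' := hp'.1
    rw [Finset.mem_coe, Finset.mem_filter] at hv hv'
    have heq' : v + s • u = v' + t • u := heq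
    have h1 : v' = v + (s - t) • u := by
      rw [sub_smul]
      have : v' = v + s • u - t • u := by rw [heq']; abel
      rw [this]; abel
    have h2 : qf M v' = c + (s - t) * b0 := by
      rw [h1, qf_add_smul, hu, polar_comm, hv.2.2, hv.2.1]
      ring
    rw [hv'.2.1] at h2
    have h3 : (s - t) * b0 = 0 := by linear_combination -h2
    have h4 : s - t = 0 := by
      rcases mul_eq_zero.mp h3 with h | h
      · exact h
      · exact absurd h hb0
    have h5 : s = t := sub_eq_zero.mp h4
    rw [h4, zero_smul, add_zero] at h1
    rw [h1, h5]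

end Cfsg.Agent.S2524P
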