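import Mathlib
import Cfsg.Prelude.Def_Characters
import Cfsg.Agent.Helper7.S2333Defs
import Cfsg.Agent.Helper7.S2333Basic
import Cfsg.Agent.Helper12.WGDefs
import Cfsg.Agent.Helper13.WGGapDefs

set_option autoImplicit false

/-! # S2524 chapter GAP, piece GAP-UNIV -/

namespace Cfsg.Agent.S2524P

open Matrix Cfsg Cfsg.Agent.S2333P

variable {F : Type*} [Field F] [Fintype F]

/-- a diagonal binary form with nonzero coefficients over a finite field of odd order is
universal -/
theorem gap_UNIV_diag (h2 : (2 : F) ≠ 0) (a D d : F) (ha : a ≠ 0) (hD : D ≠ 0) :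
    ∃ X y : F, a * X ^ 2 + D * y ^ 2 = d := by
  have hcard : Fintype.card F % 2 = 1 := by
    have h := (FiniteField.even_card_iff_char_two (F := F)).not
    have hne : ¬ ringChar F = 2 := by
      intro h'
      apply h2
      have := ringChar.Nat.cast_ringChar (R := F)
      rw [h'] at this
      exact_mod_cast this
    have := h.mp hne
    omega
  have hf : (Polynomial.C a * Polynomial.X ^ 2 + Polynomial.C 0 * Polynomial.X +
      Polynomial.C (-d) : Polynomial F).degree = 2 := Polynomial.degree_quadratic ha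
  have hg : (Polynomial.C D * Polynomial.X ^ 2 + Polynomial.C 0 * Polynomial.X +
      Polynomial.C 0 : Polynomial F).degree = 2 := Polynomial.degree_quadratic hD
  obtain ⟨X, y, h⟩ := FiniteField.exists_root_sum_quadratic hf hg hcard
  refine ⟨X, y, ?_⟩
  simp only [Polynomial.eval_add, Polynomial.eval_mul, Polynomial.eval_C, Polynomial.eval_pow,
    Polynomial.eval_X, zero_mul, add_zero] at h
  linear_combination h

/-- **GAP-UNIV**: a nondegenerate binary quadratic form over a finite field of odd order is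
universal -/
theorem gap_exists_value (h2 : (2 : F) ≠ 0) {n : ℕ} (M : Matrix (Fin n) (Fin n) F)
    (u₀ v₀ : Fin n → F)
    (hd : 4 * qf M u₀ * qf M v₀ - (polar (qf M) u₀ v₀) ^ 2 ≠ 0) (d : F) :
    ∃ x y : F, qf M (x • u₀ + y • v₀) = d := by
  by_cases ha : qf M u₀ = 0
  · have hb : polar (qf M) u₀ v₀ ≠ 0 := by
      intro hb
      apply hd
      rw [ha, hb]
      ring
    refine ⟨(d - qf M v₀) / polar (qf M) u₀ v₀, 1, ?_⟩
    rw [gap_qf_plane, ha]
    field_simp
    ring
  · have h4 : (4 : F) ≠ 0 := by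
      have : (4 : F) = 2 * 2 := by norm_num
      rw [this]
      exact mul_ne_zero h2 h2
    have hD : (4 * qf M u₀ * qf M v₀ - (polar (qf M) u₀ v₀) ^ 2) / (4 * qf M u₀) ≠ 0 :=
      div_ne_zero hd (mul_ne_zero h4 ha)
    obtain ⟨X, y, h⟩ := gap_UNIV_diag h2 (qf M u₀) _ d ha hD
    refine ⟨X - polar (qf M) u₀ v₀ * y / (2 * qf M u₀), y, ?_⟩
    rw [gap_qf_plane, ← h]
    field_simp
    ring

/-- **GAP-UNIV**: every nonzero vector of a nondegenerate plane has a partner in the plane -/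
theorem gap_exists_partner {n : ℕ} (M : Matrix (Fin n) (Fin n) F) (u₀ v₀ : Fin n → F)
    (hd : 4 * qf M u₀ * qf M v₀ - (polar (qf M) u₀ v₀) ^ 2 ≠ 0) (x y : F)
    (hxy : x ≠ 0 ∨ y ≠ 0) :
    ∃ v₁ : Fin n → F, 4 * qf M (x • u₀ + y • v₀) * qf M v₁ -
      (polar (qf M) (x • u₀ + y • v₀) v₁) ^ 2 ≠ 0 := by
  rcases hxy with hx | hy
  · refine ⟨v₀, ?_⟩
    have h : 4 * qf M (x • u₀ + y • v₀) * qf M v₀ -
        (polar (qf M) (x • u₀ + y • v₀) v₀) ^ 2 =
        x ^ 2 * (4 * qf M u₀ * qf M v₀ - (polar (qf M) u₀ v₀) ^ 2) := by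
      rw [gap_qf_plane, polar_add_left, polar_smul_left, polar_smul_left, gap_polar_self]
      ring
    rw [h]
    exact mul_ne_zero (pow_ne_zero 2 hx) hd
  · refine ⟨u₀, ?_⟩
    have h : 4 * qf M (x • u₀ + y • v₀) * qf M u₀ -
        (polar (qf M) (x • u₀ + y • v₀) u₀) ^ 2 =
        y ^ 2 * (4 * qf M u₀ * qf M v₀ - (polar (qf M) u₀ v₀) ^ 2) := by
      rw [gap_qf_plane, polar_add_left, polar_smul_left, polar_smul_left, gap_polar_self,
        polar_comm (qf M) v₀ u₀]
      ring
    rw [h]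
    exact mul_ne_zero (pow_ne_zero 2 hy) hd

end Cfsg.Agent.S2524P
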