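import Mathlib
import Cfsg.Agent.Lead.GlaubermanRel

/-!
Glauberman's lemma for conjugacy classes, for a group of operators `S` normalizing `G`
inside an ambient group: the `S`-invariant classes of `G` are in bijection with the classes
of `C_G(S)`.
-/

set_option autoImplicit false

namespace Cfsg.Agent.Helper24

universe u

variable {Γ : Type u} [Group Γ]

/-- The conjugation action of a group on itself. -/
@[reducible] def conjSelfAction (Γ : Type u) [Group Γ] : MulAction Γ Γ :=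
  MulAction.compHom Γ (MulAut.conj : Γ →* MulAut Γ)

theorem conjSelfAction_smul (g x : Γ) :
    (@HSMul.hSMul Γ Γ Γ (@instHSMul Γ Γ (conjSelfAction Γ).toSMul) g x) = g * x * g⁻¹ := rfl

/-- The set stabilizer of `Ω` under conjugation. -/
def conjSetStab (Ω : Set Γ) : Subgroup Γ where
  carrier := {g | ∀ x, g * x * g⁻¹ ∈ Ω ↔ x ∈ Ω}
  one_mem' := by
    intro x
    simp
  mul_mem' := by
    intro a b ha hb x
    have : a * b * x * (a * b)⁻¹ = a * (b * x * b⁻¹) * a⁻¹ := by group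
    rw [this, ha, hb]
  inv_mem' := by
    intro a ha x
    have h := ha (a⁻¹ * x * a⁻¹⁻¹)
    have : a * (a⁻¹ * x * a⁻¹⁻¹) * a⁻¹ = x := by group
    rw [this] at h
    exact h.symm

theorem le_conjSetStab {H : Subgroup Γ} {Ω : Set Γ}
    (h : ∀ g ∈ H, ∀ x ∈ Ω, g * x * g⁻¹ ∈ Ω) : H ≤ conjSetStab Ω := by
  intro g hg x
  constructor
  · intro hx
    have := h g⁻¹ (H.inv_mem hg) _ hx
    have e : g⁻¹ * (g * x * g⁻¹) * g⁻¹⁻¹ = x := by group
    rw [e] at this
    exact this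
  · exact h g hg x

/-- The elements of `G` in a given class of `G`, as a subset of the ambient group. -/
def classSet (G : Subgroup Γ) (K : ConjClasses G) : Set Γ :=
  {x | ∃ h : x ∈ G, ConjClasses.mk (⟨x, h⟩ : G) = K}

/-- Glauberman's lemma for an `S`-invariant class of `G`: it contains an `S`-fixed element, and
the `S`-fixed elements are conjugate under `C_G(S)`. -/
theorem glauberman_classSet [Finite Γ] (G S : Subgroup Γ)
    (hSN : S ≤ Subgroup.normalizer (G : Set Γ)) (hcop : (Nat.card G).Coprime (Nat.card S))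
    (hsolv : Group.IsSolvable S ∨ Group.IsSolvable G) (K : ConjClasses G)
    (hK : ∀ s ∈ S, ∀ g g' : G, (g' : Γ) = s * g * s⁻¹ →
        ConjClasses.mk g = K → ConjClasses.mk g' = K) :
    ((classSet G K).Nonempty → ∃ x ∈ classSet G K, ∀ a ∈ S, a * x * a⁻¹ = x) ∧
      (∀ x ∈ classSet G K, ∀ y ∈ classSet G K, (∀ a ∈ S, a * x * a⁻¹ = x) →
        (∀ a ∈ S, a * y * a⁻¹ = y) →
        ∃ c ∈ G ⊓ Subgroup.centralizer (S : Set Γ), c * x * c⁻¹ = y) := by
  classical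
  have hconjG : ∀ s ∈ S, ∀ x ∈ G, s * x * s⁻¹ ∈ G := fun s hs x hx =>
    (Subgroup.mem_normalizer_iff.mp (hSN hs) x).mp hx
  have hinv : ∀ g ∈ G ⊔ S, ∀ x ∈ classSet G K, g * x * g⁻¹ ∈ classSet G K := by
    have hle : G ⊔ S ≤ conjSetStab (classSet G K) := by
      apply sup_le
      · apply le_conjSetStab
        rintro g hg x ⟨hx, hxK⟩
        refine ⟨G.mul_mem (G.mul_mem hg hx) (G.inv_mem hg), ?_⟩
        rw [← hxK, ConjClasses.mk_eq_mk_iff_isConj, isConj_iff]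
        exact ⟨⟨g, hg⟩⁻¹, by apply Subtype.ext; simp; group⟩
      · apply le_conjSetStab
        rintro s hs x ⟨hx, hxK⟩
        exact ⟨hconjG s hs x hx, hK s hs ⟨x, hx⟩ ⟨_, hconjG s hs x hx⟩ rfl hxK⟩
    intro g hg x hx
    exact ((hle hg) x).mpr hx
  have htrans : ∀ x ∈ classSet G K, ∀ y ∈ classSet G K, ∃ k ∈ G, k * x * k⁻¹ = y := by
    rintro x ⟨hx, hxK⟩ y ⟨hy, hyK⟩
    have h1 : ConjClasses.mk (⟨x, hx⟩ : G) = ConjClasses.mk (⟨y, hy⟩ : G) := hxK.trans hyK.symm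
    rw [ConjClasses.mk_eq_mk_iff_isConj, isConj_iff] at h1
    obtain ⟨c, hc⟩ := h1
    exact ⟨c, c.2, congrArg Subtype.val hc⟩
  exact @Cfsg.Agent.Lead.glauberman_rel Γ _ _ Γ (conjSelfAction Γ) G S hSN hcop.symm
    hsolv (classSet G K) hinv htrans

theorem card_invariant_conjClasses [Finite Γ] (G S : Subgroup Γ)
    (hSN : S ≤ Subgroup.normalizer (G : Set Γ)) (hcop : (Nat.card G).Coprime (Nat.card S))
    (hsolv : Group.IsSolvable S) :
    Nat.card {K : ConjClasses G // ∀ s ∈ S, ∀ g g' : G, (g' : Γ) = s * g * s⁻¹ →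
        ConjClasses.mk g = K → ConjClasses.mk g' = K} =
      Nat.card (ConjClasses ↥(G ⊓ Subgroup.centralizer (S : Set Γ))) := by
  classical
  -- conjugation by `s ∈ S` stays in `G`
  have hconjG : ∀ s ∈ S, ∀ x ∈ G, s * x * s⁻¹ ∈ G := fun s hs x hx =>
    (Subgroup.mem_normalizer_iff.mp (hSN hs) x).mp hx
  have key : ∀ K : ConjClasses G, (∀ s ∈ S, ∀ g g' : G, (g' : Γ) = s * g * s⁻¹ →
        ConjClasses.mk g = K → ConjClasses.mk g' = K) →
      ((classSet G K).Nonempty → ∃ x ∈ classSet G K, ∀ a ∈ S, a * x * a⁻¹ = x) ∧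
      (∀ x ∈ classSet G K, ∀ y ∈ classSet G K, (∀ a ∈ S, a * x * a⁻¹ = x) →
        (∀ a ∈ S, a * y * a⁻¹ = y) →
        ∃ c ∈ G ⊓ Subgroup.centralizer (S : Set Γ), c * x * c⁻¹ = y) :=
    fun K hK => glauberman_classSet G S hSN hcop (Or.inl hsolv) K hK
  -- elements of the fixed subgroup are fixed
  have hfixD : ∀ d : ↥(G ⊓ Subgroup.centralizer (S : Set Γ)), ∀ a ∈ S,
      a * (d : Γ) * a⁻¹ = (d : Γ) := by
    intro d a ha
    have hd : (d : Γ) ∈ Subgroup.centralizer (S : Set Γ) := d.2.2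
    rw [Subgroup.mem_centralizer_iff] at hd
    rw [hd a ha, mul_inv_cancel_right]
  have hfix_mem : ∀ x ∈ G, (∀ a ∈ S, a * x * a⁻¹ = x) →
      x ∈ G ⊓ Subgroup.centralizer (S : Set Γ) := by
    intro x hx hfix
    refine ⟨hx, ?_⟩
    show x ∈ Subgroup.centralizer (S : Set Γ)
    rw [Subgroup.mem_centralizer_iff]
    intro a ha
    have := hfix a ha
    calc a * x = a * x * a⁻¹ * a := by group
      _ = x * a := by rw [this]
  let ι : ↥(G ⊓ Subgroup.centralizer (S : Set Γ)) →* G := Subgroup.inclusion inf_le_left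
  -- classes of fixed elements are invariant
  have hwell : ∀ c : ConjClasses ↥(G ⊓ Subgroup.centralizer (S : Set Γ)),
      ∀ s ∈ S, ∀ g g' : G, (g' : Γ) = s * g * s⁻¹ →
        ConjClasses.mk g = ConjClasses.map ι c → ConjClasses.mk g' = ConjClasses.map ι c := by
    intro c s hs g g' hgg' hg
    obtain ⟨d, rfl⟩ := ConjClasses.exists_rep c
    have hmap : ConjClasses.map ι (ConjClasses.mk d) = ConjClasses.mk (ι d) := rfl
    rw [hmap] at hg ⊢
    rw [ConjClasses.mk_eq_mk_iff_isConj, isConj_iff] at hg ⊢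
    obtain ⟨c, hc⟩ := hg
    refine ⟨⟨s * c * s⁻¹, hconjG s hs c c.2⟩, ?_⟩
    apply Subtype.ext
    have hc' : (c : Γ) * (g : Γ) * (c : Γ)⁻¹ = (d : Γ) := congrArg Subtype.val hc
    have hd := hfixD d s hs
    show s * c * s⁻¹ * (g' : Γ) * (s * c * s⁻¹)⁻¹ = (d : Γ)
    rw [hgg']
    calc s * c * s⁻¹ * (s * g * s⁻¹) * (s * c * s⁻¹)⁻¹ = s * ((c : Γ) * g * (c : Γ)⁻¹) * s⁻¹ := by
          group
      _ = (d : Γ) := by rw [hc', hd]
  let f : ConjClasses ↥(G ⊓ Subgroup.centralizer (S : Set Γ)) →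
      {K : ConjClasses G // ∀ s ∈ S, ∀ g g' : G, (g' : Γ) = s * g * s⁻¹ →
        ConjClasses.mk g = K → ConjClasses.mk g' = K} :=
    fun c => ⟨ConjClasses.map ι c, hwell c⟩
  have hinj : Function.Injective f := by
    intro c c' hcc'
    obtain ⟨d, rfl⟩ := ConjClasses.exists_rep c
    obtain ⟨d', rfl⟩ := ConjClasses.exists_rep c'
    have h1 : ConjClasses.mk (ι d) = ConjClasses.mk (ι d') := congrArg Subtype.val hcc'
    have hK := hwell (ConjClasses.mk d)
    have hmap : ConjClasses.map ι (ConjClasses.mk d) = ConjClasses.mk (ι d) := rfl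
    rw [hmap] at hK
    obtain ⟨c, hc, hcd⟩ := (key _ hK).2 (d : Γ) ⟨d.2.1, rfl⟩ (d' : Γ) ⟨d'.2.1, h1.symm⟩
      (hfixD d) (hfixD d')
    rw [ConjClasses.mk_eq_mk_iff_isConj, isConj_iff]
    exact ⟨⟨c, hc⟩, Subtype.ext hcd⟩
  have hsurj : Function.Surjective f := by
    rintro ⟨K, hK⟩
    obtain ⟨k₀, rfl⟩ := ConjClasses.exists_rep K
    obtain ⟨x, ⟨hxG, hxK⟩, hfix⟩ := (key _ hK).1 ⟨(k₀ : Γ), k₀.2, rfl⟩
    refine ⟨ConjClasses.mk ⟨x, hfix_mem x hxG hfix⟩, ?_⟩
    apply Subtype.ext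
    exact hxK
  exact (Nat.card_congr (Equiv.ofBijective f ⟨hinj, hsurj⟩)).symm

end Cfsg.Agent.Helper24
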