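import Mathlib
import Cfsg.Agent.Helper24.GlaubP
import Cfsg.Agent.Helper24.DetSolvable
import Cfsg.Agent.Helper24.GlaubClasses

/-!
The Glauberman correspondence for solvable groups of operators, counting form
(Isaacs 13.24 / 13.1): if a solvable `S` normalizes `G` with coprime orders then the number of
`S`-invariant irreducible characters of `G` equals the number of `S`-invariant classes.
-/

set_option autoImplicit false

namespace Cfsg.Agent.Helper24

open Cfsg

universe u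

section PStep'

variable {Γ : Type u} [Group Γ] [Finite Γ]

/-- Transfer of `PCorr` along an equality of subgroups. -/
theorem PCorr.congr_sub {G C C' : Subgroup Γ} (h : C = C') (hCG : C ≤ G) (p : ℕ)
    (𝓘 : Set (IrrCharacter G)) (hP : PCorr p (Subgroup.inclusion hCG) 𝓘) :
    PCorr p (Subgroup.inclusion (h ▸ hCG : C' ≤ G)) 𝓘 := by
  subst h
  exact hP

/-- The cyclic step for an element acting on `G` as a `p`-element. -/
theorem pstep' (G : Subgroup Γ) (t : Γ) (htN : t ∈ Subgroup.normalizer (G : Set Γ)) (p : ℕ)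
    (hp : p.Prime) (hact : ∃ a : ℕ, t ^ (p ^ a) ∈ Subgroup.centralizer (G : Set Γ))
    (hcop : ¬ p ∣ Nat.card G ∨ (Nat.card G).Coprime (orderOf t)) :
    PCorr p (Subgroup.inclusion (fixC_le G t)) {χ : IrrCharacter G | InvAt G (χ : G → ℂ) t} := by
  classical
  obtain ⟨a, ha⟩ := hact
  have ho : orderOf t ≠ 0 := (orderOf_pos t).ne'
  obtain ⟨b, hb⟩ : ∃ b, b = (orderOf t).factorization p := ⟨_, rfl⟩
  obtain ⟨m, hm⟩ : ∃ m, m = orderOf t / p ^ b := ⟨_, rfl⟩
  have hPm : p ^ b * m = orderOf t := by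
    rw [hm, hb]; exact Nat.ordProj_mul_ordCompl_eq_self _ _
  have hpm : ¬ p ∣ m := by
    rw [hm, hb]; exact Nat.not_dvd_ordCompl hp ho
  have hcopPm : (p ^ b).Coprime m :=
    Nat.Coprime.pow_left _ ((Nat.Prime.coprime_iff_not_dvd hp).mpr hpm)
  obtain ⟨k, hk1, hk0⟩ := Nat.chineseRemainder hcopPm 1 0
  -- `z = t ^ (p^b)` centralizes `G`
  have hz : t ^ (p ^ b) ∈ Subgroup.centralizer (G : Set Γ) := by
    have hzord : orderOf (t ^ (p ^ b)) = m := by
      rw [orderOf_pow' t (pow_ne_zero _ hp.ne_zero),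
        Nat.gcd_eq_right (Dvd.intro _ hPm), hm]
    have hc : t ^ (p ^ (max a b)) ∈ Subgroup.centralizer (G : Set Γ) := by
      have : t ^ (p ^ (max a b)) = (t ^ (p ^ a)) ^ (p ^ (max a b - a)) := by
        rw [← pow_mul, ← pow_add, Nat.add_sub_cancel' (le_max_left a b)]
      rw [this]
      exact Subgroup.pow_mem _ ha _
    have hc2 : t ^ (p ^ (max a b)) = (t ^ (p ^ b)) ^ (p ^ (max a b - b)) := by
      rw [← pow_mul, ← pow_add, Nat.add_sub_cancel' (le_max_right a b)]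
    have hcopz : (p ^ (max a b - b)).Coprime (orderOf (t ^ (p ^ b))) := by
      rw [hzord]
      exact Nat.Coprime.pow_left _ ((Nat.Prime.coprime_iff_not_dvd hp).mpr hpm)
    obtain ⟨j, hj⟩ := exists_pow_eq_self_of_coprime hcopz
    rw [← hj, ← hc2]
    exact Subgroup.pow_mem _ hc _
  -- `t' = t ^ k = t * w` with `w` centralizing `G`
  obtain ⟨l, hl⟩ : ∃ l : ℤ, (k : ℤ) - 1 = (p ^ b : ℕ) * l := by
    have := (Nat.modEq_iff_dvd.mp hk1.symm)
    obtain ⟨l, hl⟩ := this
    exact ⟨l, by push_cast at hl ⊢; linarith⟩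
  obtain ⟨w, hw⟩ : ∃ w, w = (t ^ (p ^ b)) ^ l := ⟨_, rfl⟩
  have hwc : w ∈ Subgroup.centralizer (G : Set Γ) := by
    rw [hw]; exact Subgroup.zpow_mem _ hz _
  have htw : t ^ k = t * w := by
    have h1 : (t ^ k : Γ) = t ^ ((1 : ℤ) + ((k : ℤ) - 1)) := by
      rw [add_sub_cancel, zpow_natCast]
    rw [h1, zpow_add, zpow_one, hl, zpow_mul, zpow_natCast, hw]
  have hconj : ∀ g : Γ, g ∈ G → t ^ k * g * (t ^ k)⁻¹ = t * g * t⁻¹ := by
    intro g hg
    rw [Subgroup.mem_centralizer_iff] at hwc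
    have := hwc g hg
    rw [htw]
    calc t * w * g * (t * w)⁻¹ = t * (w * g) * w⁻¹ * t⁻¹ := by group
      _ = t * (g * w) * w⁻¹ * t⁻¹ := by rw [this]
      _ = t * g * t⁻¹ := by group
  -- apply `pstep` to `t ^ k`
  have ht'N : t ^ k ∈ Subgroup.normalizer (G : Set Γ) := Subgroup.pow_mem _ htN _
  obtain ⟨e, he⟩ : ∃ e, orderOf (t ^ k) = p ^ e := by
    have h1 : (t ^ k) ^ (p ^ b) = 1 := by
      rw [← pow_mul]
      apply orderOf_dvd_iff_pow_eq_one.mp
      rw [← hPm, mul_comm k]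
      exact mul_dvd_mul_left _ ((Nat.modEq_zero_iff_dvd).mp hk0)
    obtain ⟨e, -, he⟩ := (Nat.dvd_prime_pow hp).mp (orderOf_dvd_of_pow_eq_one h1)
    exact ⟨e, he⟩
  have hcop' : (Nat.card G).Coprime (orderOf (t ^ k)) := by
    rcases hcop with hcop | hcop
    · rw [he]
      exact Nat.Coprime.pow_right e ((Nat.Prime.coprime_iff_not_dvd hp).mpr hcop).symm
    · exact Nat.Coprime.coprime_dvd_right (orderOf_pow_dvd k) hcop
  have key := pstep G (t ^ k) ht'N p e hp he hcop'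
  have hfix : fixC G (t ^ k) = fixC G t := by
    ext x
    rw [mem_fixC, mem_fixC]
    constructor
    · rintro ⟨hx, h1⟩
      refine ⟨hx, ?_⟩
      have h2 : t ^ k * x * (t ^ k)⁻¹ = x := by rw [← h1]; group
      rw [hconj x hx] at h2
      calc x * t = t * x * t⁻¹ * t := by rw [h2]
        _ = t * x := by group
    · rintro ⟨hx, h1⟩
      refine ⟨hx, ?_⟩
      have h2 : t * x * t⁻¹ = x := by rw [← h1]; group
      rw [← hconj x hx] at h2
      calc x * t ^ k = t ^ k * x * (t ^ k)⁻¹ * t ^ k := by rw [h2]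
        _ = t ^ k * x := by group
  have hset : {χ : IrrCharacter G | ∀ g g' : G, (g' : Γ) = t ^ k * g * (t ^ k)⁻¹ →
      (χ : G → ℂ) g' = (χ : G → ℂ) g} = {χ : IrrCharacter G | InvAt G (χ : G → ℂ) t} := by
    ext χ
    simp only [Set.mem_ofPred_eq, InvAt]
    constructor
    · intro h g g' hgg'
      exact h g g' (by rw [hgg', hconj g g.2])
    · intro h g g' hgg'
      exact h g g' (by rw [hgg', hconj g g.2])
  rw [hset] at key
  exact PCorr.congr_sub hfix (fixC_le G (t ^ k)) p _ key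

end PStep'

section PQuot

variable {Γ : Type u} [Group Γ] [Finite Γ]

omit [Finite Γ] in
theorem isSolvable_of_le {S₀ S : Subgroup Γ} (h : S₀ ≤ S) (hS : Group.IsSolvable S) :
    Group.IsSolvable S₀ :=
  Group.isSolvable_of_isSolvable_injective (f := Subgroup.inclusion h)
    (Subgroup.inclusion_injective h)

/-- The `p`-correspondence for a solvable group of operators acting on `G` as a `p`-group. -/
theorem pcorr_pquot (p : ℕ) (hp : p.Prime) :
    ∀ (n : ℕ) (G S C : Subgroup Γ), Nat.card S = n → S ≤ Subgroup.normalizer (G : Set Γ) →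
      Group.IsSolvable S →
      (∀ x ∈ S, ∃ a : ℕ, x ^ (p ^ a) ∈ Subgroup.centralizer (G : Set Γ)) →
      (¬ p ∣ Nat.card G ∨ (Nat.card G).Coprime (Nat.card S)) →
      C = G ⊓ Subgroup.centralizer (S : Set Γ) → ∀ hCG : C ≤ G,
      PCorr p (Subgroup.inclusion hCG)
        {χ : IrrCharacter G | ∀ s ∈ S, InvAt G (χ : G → ℂ) s} := by
  intro n
  induction n using Nat.strong_induction_on with
  | _ n ih =>
  intro G S C hn hSN hsolv hact hcop hC hCG
  by_cases hbot : S = ⊥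
  · subst hbot
    have h1N : (1 : Γ) ∈ Subgroup.normalizer (G : Set Γ) := Subgroup.one_mem _
    have key := pstep G 1 h1N p 0 hp (by simp) (by simp)
    have hCeq : C = fixC G (1 : Γ) := by
      rw [hC]
      unfold fixC
      rw [Subgroup.coe_bot]
    subst hCeq
    have hset : {χ : IrrCharacter G | ∀ s ∈ (⊥ : Subgroup Γ), InvAt G (χ : G → ℂ) s} =
        {χ : IrrCharacter G | ∀ g g' : G, (g' : Γ) = 1 * g * 1⁻¹ →
          (χ : G → ℂ) g' = (χ : G → ℂ) g} := by
      ext χ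
      simp only [Set.mem_ofPred_eq, Subgroup.mem_bot]
      constructor
      · intro h
        exact h 1 rfl
      · intro h s hs
        subst hs
        exact h
    rw [hset]
    exact key
  · obtain ⟨S₀, t, hS₀S, hSN₀, hlt, htS, hsup⟩ := exists_max_normal S hsolv hbot
    have hS₀N : S₀ ≤ Subgroup.normalizer (G : Set Γ) := hS₀S.trans hSN
    have hcop₀ : ¬ p ∣ Nat.card G ∨ (Nat.card G).Coprime (Nat.card S₀) :=
      hcop.imp id (Nat.Coprime.coprime_dvd_right (Subgroup.card_dvd_of_le hS₀S))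
    have h₁ := ih (Nat.card S₀) (hn ▸ hlt) G S₀ (G ⊓ Subgroup.centralizer (S₀ : Set Γ)) rfl hS₀N
      (isSolvable_of_le hS₀S hsolv) (fun x hx => hact x (hS₀S hx)) hcop₀ rfl inf_le_left
    have htG : t ∈ Subgroup.normalizer (G : Set Γ) := hSN htS
    have htS₀ : t ∈ Subgroup.normalizer (S₀ : Set Γ) := hSN₀ htS
    have htG₁ := mem_normalizer_inf_centralizer htG htS₀
    have hact₁ : ∃ a : ℕ, t ^ (p ^ a) ∈ Subgroup.centralizer
        ((G ⊓ Subgroup.centralizer (S₀ : Set Γ) : Subgroup Γ) : Set Γ) := by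
      obtain ⟨a, ha⟩ := hact t htS
      refine ⟨a, Subgroup.centralizer_le ?_ ha⟩
      exact_mod_cast (inf_le_left : G ⊓ Subgroup.centralizer (S₀ : Set Γ) ≤ G)
    have hcopt : ¬ p ∣ Nat.card (G ⊓ Subgroup.centralizer (S₀ : Set Γ) : Subgroup Γ) ∨
        (Nat.card (G ⊓ Subgroup.centralizer (S₀ : Set Γ) : Subgroup Γ)).Coprime
        (orderOf t) := by
      rcases hcop with hcop | hcop
      · left
        intro hd
        exact hcop (hd.trans (Subgroup.card_dvd_of_le inf_le_left))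
      · right
        apply Nat.Coprime.coprime_dvd_left (Subgroup.card_dvd_of_le inf_le_left)
        apply Nat.Coprime.coprime_dvd_right (S.orderOf_dvd_natCard htS) hcop
    have h₂ := pstep' (G ⊓ Subgroup.centralizer (S₀ : Set Γ)) t htG₁ p hp hact₁ hcopt
    have hCeq : C = fixC (G ⊓ Subgroup.centralizer (S₀ : Set Γ)) t := by
      rw [hC, ← hsup]
      exact inf_centralizer_sup_zpowers G S₀ t
    subst hCeq
    have h𝓘₀ : ∀ χ ∈ {χ : IrrCharacter G | ∀ s ∈ S₀, InvAt G (χ : G → ℂ) s},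
        pullIrr (conjE G t htG) χ ∈ {χ : IrrCharacter G | ∀ s ∈ S₀, InvAt G (χ : G → ℂ) s} := by
      intro χ hχ s hs g g' hgg'
      simp only [pullIrr_apply]
      have hs' : t * s * t⁻¹ ∈ S₀ := (Subgroup.mem_normalizer_iff.mp htS₀ s).mp hs
      apply hχ _ hs'
      rw [conjE_apply, conjE_apply, hgg']
      group
    have key := PCorr.comp inf_le_left (fixC_le _ t) t htG htG₁ p hp _ h𝓘₀ h₁ h₂
    have hset : {χ : IrrCharacter G | ∀ s ∈ S, InvAt G (χ : G → ℂ) s} =
        {χ : IrrCharacter G | χ ∈ {χ : IrrCharacter G | ∀ s ∈ S₀, InvAt G (χ : G → ℂ) s} ∧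
          InvAt G (χ : G → ℂ) t} := by
      ext χ
      simp only [Set.mem_ofPred_eq]
      constructor
      · intro h
        exact ⟨fun s hs => h s (hS₀S hs), h t htS⟩
      · rintro ⟨h1, h2⟩ s hs
        have hle : S ≤ invStab G (χ : G → ℂ) := by
          rw [← hsup, sup_le_iff]
          constructor
          · intro y hy
            exact ⟨hS₀N hy, h1 y hy⟩
          · rw [Subgroup.zpowers_le]
            exact ⟨htG, h2⟩
        exact (hle hs).2
    rw [hset]
    exact key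

end PQuot

section GCorrDef

variable {Γ : Type u} [Group Γ]

/-- An equivariant bijective correspondence `𝓘 ↔ Irr(C)`, as a relation. -/
structure GCorr (G C : Subgroup Γ) (𝓘 : Set (IrrCharacter G)) (T : Subgroup Γ)
    (hTG : T ≤ Subgroup.normalizer (G : Set Γ)) (hTC : T ≤ Subgroup.normalizer (C : Set Γ))
    (R : IrrCharacter G → IrrCharacter C → Prop) : Prop where
  dom : ∀ χ β, R χ β → χ ∈ 𝓘
  tot : ∀ χ ∈ 𝓘, ∃ β, R χ β
  fn : ∀ χ β β', R χ β → R χ β' → β = β'
  inj : ∀ χ χ' β, R χ β → R χ' β → χ = χ'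
  surj : ∀ β, ∃ χ, R χ β
  eqv : ∀ x (hx : x ∈ T) χ β, R χ β →
    R (pullIrr (conjE G x (hTG hx)) χ) (pullIrr (conjE C x (hTC hx)) β)

theorem GCorr.card {G C : Subgroup Γ} {𝓘 : Set (IrrCharacter G)} {T : Subgroup Γ}
    {hTG : T ≤ Subgroup.normalizer (G : Set Γ)} {hTC : T ≤ Subgroup.normalizer (C : Set Γ)}
    {R : IrrCharacter G → IrrCharacter C → Prop} (h : GCorr G C 𝓘 T hTG hTC R) :
    Nat.card {χ : IrrCharacter G // χ ∈ 𝓘} = Nat.card (IrrCharacter C) := by
  classical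
  have hex : ∀ χ : {χ : IrrCharacter G // χ ∈ 𝓘}, ∃ β, R χ.1 β := fun χ => h.tot χ.1 χ.2
  choose f hf using hex
  apply Nat.card_congr
  refine Equiv.ofBijective f ⟨?_, ?_⟩
  · intro χ χ' hχ
    have h1 := hf χ
    have h2 := hf χ'
    rw [← hχ] at h2
    exact Subtype.ext (h.inj _ _ _ h1 h2)
  · intro β
    obtain ⟨χ, hχ⟩ := h.surj β
    refine ⟨⟨χ, h.dom χ β hχ⟩, ?_⟩
    exact h.fn χ _ _ (hf ⟨χ, h.dom χ β hχ⟩) hχ

/-- The subgroup of `S` generated by the elements of order prime to `q`. -/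
def opq (S : Subgroup Γ) (q : ℕ) : Subgroup Γ :=
  Subgroup.closure {x | x ∈ S ∧ ¬ q ∣ orderOf x}

theorem opq_le (S : Subgroup Γ) (q : ℕ) : opq S q ≤ S := by
  unfold opq
  rw [Subgroup.closure_le]
  intro x hx
  exact hx.1

theorem conj_mem_opq {S : Subgroup Γ} {q : ℕ} {x : Γ}
    (hx : x ∈ Subgroup.normalizer (S : Set Γ)) {y : Γ} (hy : y ∈ opq S q) :
    x * y * x⁻¹ ∈ opq S q := by
  unfold opq at hy ⊢
  induction hy using Subgroup.closure_induction with
  | mem y hy =>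
    apply Subgroup.subset_closure
    refine ⟨(Subgroup.mem_normalizer_iff.mp hx y).mp hy.1, ?_⟩
    have : orderOf (x * y * x⁻¹) = orderOf y := by
      have := orderOf_injective (MulAut.conj x).toMonoidHom (MulAut.conj x).injective y
      simpa using this
    rw [this]; exact hy.2
  | one => simp
  | mul y z _ _ hy hz =>
    have : x * (y * z) * x⁻¹ = (x * y * x⁻¹) * (x * z * x⁻¹) := by group
    rw [this]; exact Subgroup.mul_mem _ hy hz
  | inv y _ hy =>
    have : x * y⁻¹ * x⁻¹ = (x * y * x⁻¹)⁻¹ := by group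
    rw [this]; exact Subgroup.inv_mem _ hy

theorem normalizer_le_normalizer_opq (S : Subgroup Γ) (q : ℕ) :
    Subgroup.normalizer (S : Set Γ) ≤ Subgroup.normalizer (opq S q : Set Γ) := by
  intro x hx
  rw [Subgroup.mem_normalizer_iff]
  intro y
  constructor
  · exact conj_mem_opq hx
  · intro h
    have := conj_mem_opq (Subgroup.inv_mem _ hx) h
    have e : x⁻¹ * (x * y * x⁻¹) * x⁻¹⁻¹ = y := by group
    rw [e] at this
    exact this

theorem pow_mem_opq [Finite Γ] {S : Subgroup Γ} {q : ℕ} (hq : q.Prime) {x : Γ} (hx : x ∈ S) :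
    ∃ a : ℕ, x ^ (q ^ a) ∈ opq S q := by
  refine ⟨(orderOf x).factorization q, ?_⟩
  apply Subgroup.subset_closure
  refine ⟨Subgroup.pow_mem _ hx _, ?_⟩
  have ho : orderOf x ≠ 0 := (orderOf_pos x).ne'
  rw [orderOf_pow' x (pow_ne_zero _ hq.ne_zero), Nat.gcd_eq_right (Nat.ordProj_dvd _ _)]
  exact Nat.not_dvd_ordCompl hq ho

theorem exists_prime_opq_lt [Finite Γ] (S : Subgroup Γ) (hsolv : Group.IsSolvable S)
    (hne : S ≠ ⊥) : ∃ q : ℕ, q.Prime ∧ Nat.card (opq S q) < Nat.card S := by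
  classical
  haveI : Nontrivial S := by
    rw [Subgroup.nontrivial_iff_ne_bot]; exact hne
  have hsolv' : Group.IsSolvable (S ⧸ (⊥ : Subgroup S)) :=
    Group.isSolvable_of_surjective (f := QuotientGroup.mk' (⊥ : Subgroup S))
      (QuotientGroup.mk'_surjective _)
  obtain ⟨K, hKn, -, hKp⟩ := exists_normal_prime_index (⊥ : Subgroup S) hsolv' bot_ne_top
  refine ⟨K.index, hKp, ?_⟩
  have hle : opq S K.index ≤ K.map S.subtype := by
    unfold opq
    rw [Subgroup.closure_le]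
    rintro y ⟨hyS, hyq⟩
    refine ⟨⟨y, hyS⟩, ?_, rfl⟩
    rw [SetLike.mem_coe, ← QuotientGroup.eq_one_iff]
    have h1 : ((⟨y, hyS⟩ : S) : S ⧸ K) ^ orderOf y = 1 := by
      rw [← QuotientGroup.mk_pow]
      have : (⟨y, hyS⟩ : S) ^ orderOf y = 1 := by
        apply Subtype.ext
        simp [pow_orderOf_eq_one]
      rw [this]; rfl
    have h2 : ((⟨y, hyS⟩ : S) : S ⧸ K) ^ K.index = 1 := by
      rw [Subgroup.index_eq_card]
      exact pow_card_eq_one'
    have h3 : orderOf ((⟨y, hyS⟩ : S) : S ⧸ K) ∣ Nat.gcd (orderOf y) K.index :=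
      Nat.dvd_gcd (orderOf_dvd_of_pow_eq_one h1) (orderOf_dvd_of_pow_eq_one h2)
    have h4 : Nat.gcd (orderOf y) K.index = 1 :=
      ((Nat.Prime.coprime_iff_not_dvd hKp).mpr hyq).symm
    rw [h4, Nat.dvd_one, orderOf_eq_one_iff] at h3
    exact h3
  have h1 : Nat.card (K.map S.subtype) = Nat.card K :=
    Nat.card_congr (K.equivMapOfInjective _ S.subtype_injective).symm.toEquiv
  have h2 : Nat.card K < Nat.card S := by
    rw [← Subgroup.index_mul_card K]
    have : 2 ≤ K.index := hKp.two_le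
    have h3 : 0 < Nat.card K := Nat.card_pos
    nlinarith
  calc Nat.card (opq S K.index) ≤ Nat.card (K.map S.subtype) :=
        Nat.le_of_dvd Nat.card_pos (Subgroup.card_dvd_of_le hle)
    _ = Nat.card K := h1
    _ < Nat.card S := h2

end GCorrDef

section GCorrSolv

variable {Γ : Type u} [Group Γ] [Finite Γ]

omit [Finite Γ] in
/-- Invariance under `S` is preserved by pulling back along conjugation by a normalizing
element. -/
theorem invAt_pullIrr_conj {G S : Subgroup Γ} {x : Γ}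
    (hxG : x ∈ Subgroup.normalizer (G : Set Γ)) (hxS : x ∈ Subgroup.normalizer (S : Set Γ))
    (χ : IrrCharacter G) (h : ∀ s ∈ S, InvAt G (χ : G → ℂ) s) :
    ∀ s ∈ S, InvAt G (pullIrr (conjE G x hxG) χ : G → ℂ) s := by
  intro s hs g g' hgg'
  simp only [pullIrr_apply]
  have hs' : x * s * x⁻¹ ∈ S := (Subgroup.mem_normalizer_iff.mp hxS s).mp hs
  apply h _ hs'
  rw [conjE_apply, conjE_apply, hgg']
  group

omit [Finite Γ] in
theorem gcorr_inv_iff {G C : Subgroup Γ} {𝓘 : Set (IrrCharacter G)} {T : Subgroup Γ}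
    {hTG : T ≤ Subgroup.normalizer (G : Set Γ)} {hTC : T ≤ Subgroup.normalizer (C : Set Γ)}
    {R : IrrCharacter G → IrrCharacter C → Prop} (h : GCorr G C 𝓘 T hTG hTC R)
    {χ : IrrCharacter G} {γ : IrrCharacter C} (hR : R χ γ) {s : Γ} (hs : s ∈ T) :
    InvAt G (χ : G → ℂ) s ↔ InvAt C (γ : C → ℂ) s := by
  have h1 := h.eqv s hs χ γ hR
  rw [invAt_iff_pullIrr G s (hTG hs), invAt_iff_pullIrr C s (hTC hs)]
  constructor
  · intro h2
    rw [h2] at h1
    exact h.fn _ _ _ h1 hR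
  · intro h2
    rw [h2] at h1
    exact h.inj _ _ _ h1 hR

/-- **Glauberman correspondence, solvable case**, as an equivariant relation. -/
theorem gcorr_solvable :
    ∀ (n : ℕ) (G S T C : Subgroup Γ), Nat.card S = n →
      S ≤ Subgroup.normalizer (G : Set Γ) → Group.IsSolvable S →
      (Nat.card G).Coprime (Nat.card S) →
      ∀ (hTG : T ≤ Subgroup.normalizer (G : Set Γ)),
      T ≤ Subgroup.normalizer (S : Set Γ) →
      C = G ⊓ Subgroup.centralizer (S : Set Γ) →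
      ∀ (hTC : T ≤ Subgroup.normalizer (C : Set Γ)),
      ∃ R, GCorr G C {χ : IrrCharacter G | ∀ s ∈ S, InvAt G (χ : G → ℂ) s} T hTG hTC R := by
  intro n
  induction n using Nat.strong_induction_on with
  | _ n ih =>
  intro G S T C hn hSN hsolv hcop hTG hTS hC hTC
  by_cases hbot : S = ⊥
  · subst hbot
    have hCG : C = G := by
      rw [hC, Subgroup.coe_bot]
      apply le_antisymm inf_le_left
      intro x hx
      refine ⟨hx, ?_⟩
      show x ∈ Subgroup.centralizer ({1} : Set Γ)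
      rw [Subgroup.mem_centralizer_iff]
      intro y hy
      rw [Set.mem_singleton_iff] at hy
      subst hy
      simp
    subst hCG
    refine ⟨fun χ β => β = χ, ?_, ?_, ?_, ?_, ?_, ?_⟩
    · intro χ β _ s hs
      rw [Subgroup.mem_bot] at hs
      subst hs
      intro g g' hgg'
      have : g' = g := by apply Subtype.ext; rw [hgg']; group
      rw [this]
    · intro χ _
      exact ⟨χ, rfl⟩
    · intro χ β β' h1 h2
      rw [h1, h2]
    · intro χ χ' β h1 h2
      rw [← h1, ← h2]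
    · intro β
      exact ⟨β, rfl⟩
    · intro x hx χ β h1
      rw [h1]
  · obtain ⟨q, hq, hlt⟩ := exists_prime_opq_lt S hsolv hbot
    obtain ⟨S₀, hS₀⟩ : ∃ S₀, S₀ = opq S q := ⟨_, rfl⟩
    rw [← hS₀] at hlt
    have hS₀S : S₀ ≤ S := hS₀ ▸ opq_le S q
    have hNS₀ : Subgroup.normalizer (S : Set Γ) ≤ Subgroup.normalizer (S₀ : Set Γ) :=
      hS₀ ▸ normalizer_le_normalizer_opq S q
    have hT'G : T ⊔ S ≤ Subgroup.normalizer (G : Set Γ) := sup_le hTG hSN
    have hT'S : T ⊔ S ≤ Subgroup.normalizer (S : Set Γ) := sup_le hTS Subgroup.le_normalizer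
    have hT'S₀ : T ⊔ S ≤ Subgroup.normalizer (S₀ : Set Γ) := hT'S.trans hNS₀
    obtain ⟨G₁, hG₁⟩ : ∃ G₁, G₁ = G ⊓ Subgroup.centralizer (S₀ : Set Γ) := ⟨_, rfl⟩
    have hT'G₁ : T ⊔ S ≤ Subgroup.normalizer (G₁ : Set Γ) := by
      intro x hx
      rw [hG₁]
      exact mem_normalizer_inf_centralizer (hT'G hx) (hT'S₀ hx)
    have hS₀N : S₀ ≤ Subgroup.normalizer (G : Set Γ) := hS₀S.trans hSN
    have hcop₀ : (Nat.card G).Coprime (Nat.card S₀) :=
      Nat.Coprime.coprime_dvd_right (Subgroup.card_dvd_of_le hS₀S) hcop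
    obtain ⟨R₀, hR₀⟩ := ih (Nat.card S₀) (hn ▸ hlt) G S₀ (T ⊔ S) G₁ rfl hS₀N
      (isSolvable_of_le hS₀S hsolv) hcop₀ hT'G hT'S₀ hG₁ hT'G₁
    have hG₁G : G₁ ≤ G := hG₁ ▸ inf_le_left
    have hSG₁ : S ≤ Subgroup.normalizer (G₁ : Set Γ) := le_sup_right.trans hT'G₁
    have hS₀c : S₀ ≤ Subgroup.centralizer (G₁ : Set Γ) := by
      intro y hy
      rw [Subgroup.mem_centralizer_iff]
      intro g hg
      have hg' : g ∈ G ⊓ Subgroup.centralizer (S₀ : Set Γ) := hG₁ ▸ hg
      have : g ∈ Subgroup.centralizer (S₀ : Set Γ) := hg'.2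
      rw [Subgroup.mem_centralizer_iff] at this
      exact (this y hy).symm
    have hact₁ : ∀ x ∈ S, ∃ a : ℕ, x ^ (q ^ a) ∈ Subgroup.centralizer (G₁ : Set Γ) := by
      intro x hx
      obtain ⟨a, ha⟩ := pow_mem_opq hq hx (q := q)
      exact ⟨a, hS₀c (hS₀ ▸ ha)⟩
    have hcop₁ : (Nat.card G₁).Coprime (Nat.card S) :=
      Nat.Coprime.coprime_dvd_left (Subgroup.card_dvd_of_le hG₁G) hcop
    have hC' : C = G₁ ⊓ Subgroup.centralizer (S : Set Γ) := by
      rw [hC, hG₁, inf_assoc]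
      congr 1
      symm
      apply inf_eq_right.mpr
      exact Subgroup.centralizer_le (by exact_mod_cast hS₀S)
    have hCG₁ : C ≤ G₁ := hC' ▸ inf_le_left
    have hP := pcorr_pquot q hq (Nat.card S) G₁ S C rfl hSG₁ hsolv hact₁ (Or.inr hcop₁) hC' hCG₁
    have hTT' : T ≤ T ⊔ S := le_sup_left
    have hST' : S ≤ T ⊔ S := le_sup_right
    -- the relation
    refine ⟨fun χ β => ∃ γ : IrrCharacter G₁, R₀ χ γ ∧ (∀ s ∈ S, InvAt G (χ : G → ℂ) s) ∧
      (∀ s ∈ S, InvAt G₁ (γ : G₁ → ℂ) s) ∧ ¬ q ∣ mult (Subgroup.inclusion hCG₁) γ β,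
      ?_, ?_, ?_, ?_, ?_, ?_⟩
    · rintro χ β ⟨γ, -, h, -, -⟩
      exact h
    · intro χ hχ
      have hχ₀ : χ ∈ {χ : IrrCharacter G | ∀ s ∈ S₀, InvAt G (χ : G → ℂ) s} :=
        fun s hs => hχ s (hS₀S hs)
      obtain ⟨γ, hγ⟩ := hR₀.tot χ hχ₀
      have hγS : ∀ s ∈ S, InvAt G₁ (γ : G₁ → ℂ) s := fun s hs =>
        (gcorr_inv_iff hR₀ hγ (hST' hs)).mp (hχ s hs)
      obtain ⟨β, hβ, -⟩ := hP.exU γ hγS
      exact ⟨β, γ, hγ, hχ, hγS, hβ⟩
    · rintro χ β β' ⟨γ, h1, -, h3, h4⟩ ⟨γ', h1', -, -, h4'⟩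
      have : γ' = γ := hR₀.fn _ _ _ h1' h1
      subst this
      obtain ⟨β₀, -, hu⟩ := hP.exU γ' h3
      rw [hu β h4, hu β' h4']
    · rintro χ χ' β ⟨γ, h1, -, h3, h4⟩ ⟨γ', h1', -, h3', h4'⟩
      have : γ = γ' := hP.inj γ h3 γ' h3' β h4 h4'
      subst this
      exact hR₀.inj _ _ _ h1 h1'
    · intro β
      obtain ⟨γ, hγS, hγβ⟩ := hP.surj β
      obtain ⟨χ, hχ⟩ := hR₀.surj γ
      have hχS : ∀ s ∈ S, InvAt G (χ : G → ℂ) s := fun s hs =>
        (gcorr_inv_iff hR₀ hχ (hST' hs)).mpr (hγS s hs)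
      exact ⟨χ, γ, hχ, hχS, hγS, hγβ⟩
    · rintro x hx χ β ⟨γ, h1, h2, h3, h4⟩
      refine ⟨pullIrr (conjE G₁ x (hT'G₁ (hTT' hx))) γ, hR₀.eqv x (hTT' hx) χ γ h1,
        invAt_pullIrr_conj (hTG hx) (hTS hx) χ h2,
        invAt_pullIrr_conj (hT'G₁ (hTT' hx)) (hTS hx) γ h3, ?_⟩
      rw [mult_pullIrr (conjE C x (hTC hx)) (conjE G₁ x (hT'G₁ (hTT' hx)))
        (Subgroup.inclusion hCG₁) (Subgroup.inclusion hCG₁) (fun c => rfl) γ β]
      exact h4

/-- The number of `S`-invariant irreducible characters of `G` is the number of irreducible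
characters of `C_G(S)`. -/
theorem card_invariant_irr_eq_card_irr_fixed (G S : Subgroup Γ)
    (hSN : S ≤ Subgroup.normalizer (G : Set Γ)) (hcop : (Nat.card G).Coprime (Nat.card S))
    (hsolv : Group.IsSolvable S) :
    Nat.card {χ : IrrCharacter G // ∀ s ∈ S, InvAt G (χ : G → ℂ) s} =
      Nat.card (IrrCharacter ↥(G ⊓ Subgroup.centralizer (S : Set Γ))) := by
  have hbG : (⊥ : Subgroup Γ) ≤ Subgroup.normalizer (G : Set Γ) := bot_le
  have hbC : (⊥ : Subgroup Γ) ≤
      Subgroup.normalizer ((G ⊓ Subgroup.centralizer (S : Set Γ) : Subgroup Γ) : Set Γ) := bot_le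
  obtain ⟨R, hR⟩ := gcorr_solvable (Nat.card S) G S ⊥ (G ⊓ Subgroup.centralizer (S : Set Γ)) rfl
    hSN hsolv hcop hbG bot_le rfl hbC
  exact hR.card

/-- **Isaacs 13.24**: the number of `S`-invariant irreducible characters of `G` equals the number
of `S`-invariant classes of `G`. -/
theorem card_invariant_irr_eq_card_invariant_classes (G S : Subgroup Γ)
    (hSN : S ≤ Subgroup.normalizer (G : Set Γ)) (hcop : (Nat.card G).Coprime (Nat.card S))
    (hsolv : Group.IsSolvable S) :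
    Nat.card {χ : IrrCharacter G // ∀ s ∈ S, InvAt G (χ : G → ℂ) s} =
      Nat.card {K : ConjClasses G // ∀ s ∈ S, ∀ g g' : G, (g' : Γ) = s * g * s⁻¹ →
        ConjClasses.mk g = K → ConjClasses.mk g' = K} := by
  rw [card_invariant_irr_eq_card_irr_fixed G S hSN hcop hsolv,
    card_invariant_conjClasses G S hSN hcop hsolv, card_irr_eq_card_conjClasses]

end GCorrSolv

end Cfsg.Agent.Helper24
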