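import Mathlib
import Cfsg.Agent.Helper24.GlaubSolv
import Cfsg.Agent.Helper24.OrbitSum
import Cfsg.Agent.Helper24.Clifford
import Cfsg.Agent.Helper24.Regular
import Cfsg.Agent.Lead.HallPrep
import Cfsg.Agent.Helper19.Subnormal

/-!
Coprime action of a solvable group `S` on `G` stabilizing a normal subgroup `N`: every
`S`-invariant irreducible character of `N` lies under an `S`-invariant irreducible character
of `G` (Isaacs 13.30/13.31, solvable case).
-/

set_option autoImplicit false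

namespace Cfsg.Agent.Helper24

open Cfsg

universe u

section Over

variable {C G : Type u} [Group C] [Group G] [Finite C] [Finite G]

/-- Every irreducible character of a subgroup lies under some irreducible character. -/
theorem exists_irr_over (ι : C →* G) (hι : Function.Injective ι) (θ : IrrCharacter C) :
    ∃ χ : IrrCharacter G, mult ι χ θ ≠ 0 := by
  classical
  haveI : Fintype C := Fintype.ofFinite C
  haveI : Fintype G := Fintype.ofFinite G
  haveI : Fintype (IrrCharacter G) := Fintype.ofFinite _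
  by_contra h
  push Not at h
  have h1 : classInner (fun c : C => (Representation.leftRegular ℂ G).character (ι c))
      (θ : C → ℂ) = 0 := by
    rw [leftRegular_character_eq_sum]
    have : (fun c : C => (∑ χ : IrrCharacter G, (χ : G → ℂ) 1 • (χ : G → ℂ)) (ι c)) =
        ∑ χ : IrrCharacter G, (χ : G → ℂ) 1 • (fun c : C => (χ : G → ℂ) (ι c)) := by
      funext c
      simp only [Finset.sum_apply, Pi.smul_apply]
    rw [this, classInner_sum_left]
    apply Finset.sum_eq_zero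
    intro χ _
    rw [classInner_smul_left, mult_spec, h χ]
    simp
  have h2 : classInner (fun c : C => (Representation.leftRegular ℂ G).character (ι c))
      (θ : C → ℂ) = (Nat.card C : ℂ)⁻¹ * ((Nat.card G : ℂ) * (starRingEnd ℂ) ((θ : C → ℂ) 1)) := by
    unfold classInner
    congr 1
    rw [Finset.sum_eq_single (1 : C)]
    · simp only
      rw [map_one, leftRegular_character, if_pos rfl]
    · intro c _ hc
      simp only
      rw [leftRegular_character, if_neg, zero_mul]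
      intro hc1
      apply hc
      apply hι
      rw [hc1, map_one]
    · intro h
      exact absurd (Finset.mem_univ _) h
  rw [h2] at h1
  have hC : (Nat.card C : ℂ) ≠ 0 := by exact_mod_cast Nat.card_pos.ne'
  have hG : (Nat.card G : ℂ) ≠ 0 := by exact_mod_cast Nat.card_pos.ne'
  have hθ : (θ : C → ℂ) 1 ≠ 0 := by
    rw [irrDeg_spec]
    exact_mod_cast (irrDeg_pos θ).ne'
  rcases mul_eq_zero.mp h1 with h3 | h3
  · exact inv_ne_zero hC h3
  · rcases mul_eq_zero.mp h3 with h4 | h4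
    · exact hG h4
    · exact hθ ((map_eq_zero _).mp h4)

end Over

section CliffordDvd

variable {G : Type u} [Group G] [Finite G]

/-- Clifford: the multiplicity of a constituent of the restriction to a normal subgroup divides
the degree. -/
theorem mult_dvd_irrDeg (N : Subgroup G) [hN : N.Normal] (χ : IrrCharacter G)
    (θ : IrrCharacter N) (h : mult N.subtype χ θ ≠ 0) : mult N.subtype χ θ ∣ irrDeg χ := by
  classical
  haveI : Fintype G := Fintype.ofFinite G
  haveI : Fintype N := Fintype.ofFinite N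
  have hcon : classInner (fun n : N => (χ : G → ℂ) n) (θ : N → ℂ) ≠ 0 := by
    have := mult_spec N.subtype χ θ
    simp only [Subgroup.subtype_apply] at this
    rw [this]
    exact_mod_cast h
  have hcl := clifford_finset N χ.2 θ.2 hcon
  have hm : classInner (fun n : N => (χ : G → ℂ) n) (θ : N → ℂ) = (mult N.subtype χ θ : ℂ) := by
    have := mult_spec N.subtype χ θ
    simpa only [Subgroup.subtype_apply] using this
  rw [hm] at hcl
  have h1 := congrFun hcl 1
  simp only [OneMemClass.coe_one, Pi.smul_apply, Finset.sum_apply, smul_eq_mul] at h1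
  have hval : ∀ ψ ∈ Finset.univ.image (conjFun N (θ : N → ℂ)), ψ 1 = (irrDeg θ : ℂ) := by
    intro ψ hψ
    obtain ⟨g, -, rfl⟩ := Finset.mem_image.mp hψ
    rw [conjFun_apply, ← irrDeg_spec]
    have e : (⟨g * ((1 : N) : G) * g⁻¹, hN.conj_mem _ (1 : N).2 g⟩ : N) = 1 := by
      apply Subtype.ext
      simp
    rw [e]
  rw [Finset.sum_congr rfl hval, Finset.sum_const, nsmul_eq_mul, irrDeg_spec] at h1
  have h2 : irrDeg χ = mult N.subtype χ θ *
      ((Finset.univ.image (conjFun N (θ : N → ℂ))).card * irrDeg θ) := by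
    exact_mod_cast h1
  exact Dvd.intro _ h2.symm

end CliffordDvd

section Ambient

variable {Γ : Type u} [Group Γ] [Finite Γ]

theorem exists_irr_over_amb {N G : Subgroup Γ} (hNG : N ≤ G) (θ : IrrCharacter N) :
    ∃ χ : IrrCharacter G, mult (Subgroup.inclusion hNG) χ θ ≠ 0 :=
  exists_irr_over (Subgroup.inclusion hNG) (Subgroup.inclusion_injective hNG) θ

/-- Ambient form of `mult_dvd_irrDeg`. -/
theorem mult_dvd_irrDeg_amb {N G : Subgroup Γ} (hNG : N ≤ G)
    (hGN : G ≤ Subgroup.normalizer (N : Set Γ)) (χ : IrrCharacter G) (θ : IrrCharacter N)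
    (h : mult (Subgroup.inclusion hNG) χ θ ≠ 0) :
    mult (Subgroup.inclusion hNG) χ θ ∣ irrDeg χ := by
  haveI hn : (N.subgroupOf G).Normal := (Subgroup.normal_subgroupOf_iff_le_normalizer hNG).mpr hGN
  have key := mult_pullIrr (Subgroup.subgroupOfEquivOfLe hNG) (MulEquiv.refl G)
    (N.subgroupOf G).subtype (Subgroup.inclusion hNG) (fun c => rfl) χ θ
  have hχ : pullIrr (MulEquiv.refl G) χ = χ := Subtype.ext rfl
  rw [hχ] at key
  rw [← key] at h ⊢
  exact mult_dvd_irrDeg (N.subgroupOf G) χ _ h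

omit [Finite Γ] in
theorem mult_conj_invariant [Finite Γ] {A B : Subgroup Γ} (hAB : A ≤ B) (x : Γ)
    (hxA : x ∈ Subgroup.normalizer (A : Set Γ)) (hxB : x ∈ Subgroup.normalizer (B : Set Γ))
    (χ : IrrCharacter B) (η : IrrCharacter A) :
    mult (Subgroup.inclusion hAB) (pullIrr (conjE B x hxB) χ) (pullIrr (conjE A x hxA) η) =
      mult (Subgroup.inclusion hAB) χ η :=
  mult_pullIrr (conjE A x hxA) (conjE B x hxB) _ _ (fun _ => rfl) χ η

omit [Finite Γ] in
/-- Conjugation by an element centralizing `A` fixes every character of `A`. -/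
theorem pullIrr_conjE_of_mem_centralizer {A : Subgroup Γ} {x : Γ}
    (hxA : x ∈ Subgroup.normalizer (A : Set Γ)) (hc : x ∈ Subgroup.centralizer (A : Set Γ))
    (η : IrrCharacter A) : pullIrr (conjE A x hxA) η = η := by
  apply Subtype.ext
  funext a
  rw [pullIrr_apply]
  have e : conjE A x hxA a = a := by
    apply Subtype.ext
    rw [conjE_apply]
    rw [Subgroup.mem_centralizer_iff] at hc
    rw [← hc a a.2, mul_inv_cancel_right]
  rw [e]

/-- The action of a normalizing subgroup on the irreducible characters. -/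
@[reducible] noncomputable def irrConjAct (N P : Subgroup Γ) (hPN : P ≤ Subgroup.normalizer (N : Set Γ)) :
    MulAction P (IrrCharacter N) where
  smul x η := pullIrr (conjE N (x : Γ)⁻¹ (Subgroup.inv_mem _ (hPN x.2))) η
  one_smul η := by
    apply Subtype.ext
    funext n
    show (η : N → ℂ) (conjE N ((1 : P) : Γ)⁻¹ _ n) = (η : N → ℂ) n
    have e : conjE N ((1 : P) : Γ)⁻¹ (Subgroup.inv_mem _ (hPN (1 : P).2)) n = n := by
      apply Subtype.ext
      rw [conjE_apply]
      simp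
    rw [e]
  mul_smul x y η := by
    apply Subtype.ext
    funext n
    show (η : N → ℂ) (conjE N ((x * y : P) : Γ)⁻¹ _ n) =
      (η : N → ℂ) (conjE N ((y : P) : Γ)⁻¹ _ (conjE N ((x : P) : Γ)⁻¹ _ n))
    have e : conjE N ((x * y : P) : Γ)⁻¹ (Subgroup.inv_mem _ (hPN (x * y).2)) n =
        conjE N ((y : P) : Γ)⁻¹ (Subgroup.inv_mem _ (hPN y.2))
          (conjE N ((x : P) : Γ)⁻¹ (Subgroup.inv_mem _ (hPN x.2)) n) := by
      apply Subtype.ext
      rw [conjE_apply, conjE_apply, conjE_apply, Subgroup.coe_mul]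
      group
    rw [e]

omit [Finite Γ] in
theorem irrConjAct_smul (N P : Subgroup Γ) (hPN : P ≤ Subgroup.normalizer (N : Set Γ)) (x : P)
    (η : IrrCharacter N) :
    (@HSMul.hSMul P (IrrCharacter N) (IrrCharacter N)
      (@instHSMul P (IrrCharacter N) (irrConjAct N P hPN).toSMul) x η) =
      pullIrr (conjE N (x : Γ)⁻¹ (Subgroup.inv_mem _ (hPN x.2))) η := rfl

end Ambient

section Compat

variable {Γ : Type u} [Group Γ] [Finite Γ]

/-- The compatibility congruence between the `p`-correspondences of `G` and of a normal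
subgroup `N` (Isaacs 13.29 for `p`-groups, in congruence form). -/
theorem pcorr_compat (p : ℕ) (hp : p.Prime) {G N P : Subgroup Γ} (hNG : N ≤ G)
    (hPG : P ≤ Subgroup.normalizer (G : Set Γ)) (hPN : P ≤ Subgroup.normalizer (N : Set Γ))
    (hactN : ∀ x ∈ P, ∃ a : ℕ, x ^ (p ^ a) ∈ Subgroup.centralizer (N : Set Γ))
    {C D : Subgroup Γ} (hD : D = N ⊓ Subgroup.centralizer (P : Set Γ))
    (hCG : C ≤ G) (hDN : D ≤ N) (hDC : D ≤ C)
    (PG : PCorr p (Subgroup.inclusion hCG) {χ : IrrCharacter G | ∀ s ∈ P, InvAt G (χ : G → ℂ) s})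
    (PN : PCorr p (Subgroup.inclusion hDN) {θ : IrrCharacter N | ∀ s ∈ P, InvAt N (θ : N → ℂ) s})
    (χ : IrrCharacter G) (hχ : ∀ s ∈ P, InvAt G (χ : G → ℂ) s)
    (θ : IrrCharacter N) (hθ : ∀ s ∈ P, InvAt N (θ : N → ℂ) s)
    (β : IrrCharacter C) (δ : IrrCharacter D)
    (hβ : ¬ p ∣ mult (Subgroup.inclusion hCG) χ β)
    (hδ : ¬ p ∣ mult (Subgroup.inclusion hDN) θ δ) :
    (mult (Subgroup.inclusion hCG) χ β : ℤ) * (mult (Subgroup.inclusion hDC) β δ : ℤ) ≡
      (mult (Subgroup.inclusion hNG) χ θ : ℤ) * (mult (Subgroup.inclusion hDN) θ δ : ℤ)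
        [ZMOD p] := by
  classical
  haveI : Fact p.Prime := ⟨hp⟩
  haveI : Fintype (IrrCharacter C) := Fintype.ofFinite _
  haveI : Fintype (IrrCharacter N) := Fintype.ofFinite _
  have hι1 : Subgroup.inclusion (hDC.trans hCG) =
      (Subgroup.inclusion hCG).comp (Subgroup.inclusion hDC) := MonoidHom.ext fun _ => rfl
  have hι2 : Subgroup.inclusion (hDC.trans hCG) =
      (Subgroup.inclusion hNG).comp (Subgroup.inclusion hDN) := MonoidHom.ext fun _ => rfl
  -- first expansion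
  have E1 : (mult (Subgroup.inclusion (hDC.trans hCG)) χ δ : ℤ) ≡
      (mult (Subgroup.inclusion hCG) χ β : ℤ) * (mult (Subgroup.inclusion hDC) β δ : ℤ)
        [ZMOD p] := by
    obtain ⟨β₀, -, huniq⟩ := PG.exU χ hχ
    have hββ₀ : β = β₀ := huniq β hβ
    rw [hι1, mult_trans]
    push_cast
    rw [← Finset.add_sum_erase _ _ (Finset.mem_univ β)]
    have hrest : (p : ℤ) ∣ ∑ β' ∈ Finset.univ.erase β,
        (mult (Subgroup.inclusion hCG) χ β' : ℤ) * (mult (Subgroup.inclusion hDC) β' δ : ℤ) := by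
      apply Finset.dvd_sum
      intro β' hβ'
      have hne : β' ≠ β := (Finset.mem_erase.mp hβ').1
      have hd : p ∣ mult (Subgroup.inclusion hCG) χ β' := by
        by_contra hnd
        exact hne ((huniq β' hnd).trans hββ₀.symm)
      apply Dvd.dvd.mul_right
      exact_mod_cast hd
    rw [Int.modEq_iff_dvd]
    simpa using (dvd_neg.mpr hrest)
  -- second expansion
  have E2 : (mult (Subgroup.inclusion (hDC.trans hCG)) χ δ : ℤ) =
      ∑ η : IrrCharacter N, (mult (Subgroup.inclusion hNG) χ η : ℤ) *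
        (mult (Subgroup.inclusion hDN) η δ : ℤ) := by
    rw [hι2, mult_trans]
    push_cast
    rfl
  -- the orbit argument
  have hDcent : ∀ x ∈ P, x ∈ Subgroup.centralizer (D : Set Γ) := by
    intro x hx
    rw [Subgroup.mem_centralizer_iff]
    intro d hd
    have hd' : d ∈ N ⊓ Subgroup.centralizer (P : Set Γ) := hD ▸ hd
    have hd2 : d ∈ Subgroup.centralizer (P : Set Γ) := hd'.2
    rw [Subgroup.mem_centralizer_iff] at hd2
    exact (hd2 x hx).symm
  have hfinv : ∀ (x : Γ) (hx : x ∈ P) (η : IrrCharacter N),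
      (mult (Subgroup.inclusion hNG) χ (pullIrr (conjE N x (hPN hx)) η) : ℤ) *
        (mult (Subgroup.inclusion hDN) (pullIrr (conjE N x (hPN hx)) η) δ : ℤ) =
      (mult (Subgroup.inclusion hNG) χ η : ℤ) * (mult (Subgroup.inclusion hDN) η δ : ℤ) := by
    intro x hx η
    have h1 := mult_conj_invariant hNG x (hPN hx) (hPG hx) χ η
    rw [(invAt_iff_pullIrr G x (hPG hx) χ).mp (hχ x hx)] at h1
    have hxD : x ∈ Subgroup.normalizer (D : Set Γ) :=
      Subgroup.centralizer_le_normalizer _ (hDcent x hx)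
    have h2 := mult_conj_invariant hDN x hxD (hPN hx) η δ
    rw [pullIrr_conjE_of_mem_centralizer hxD (hDcent x hx) δ] at h2
    rw [h1, h2]
  letI : MulAction P (IrrCharacter N) := irrConjAct N P hPN
  have hQ : ∀ q : P, ∃ a : ℕ, ∀ η : IrrCharacter N, q ^ (p ^ a) • η = η := by
    intro q
    obtain ⟨a, ha⟩ := hactN q q.2
    refine ⟨a, fun η => ?_⟩
    show pullIrr (conjE N ((q ^ (p ^ a) : P) : Γ)⁻¹ _) η = η
    apply pullIrr_conjE_of_mem_centralizer
    apply Subgroup.inv_mem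
    rw [Subgroup.coe_pow]
    exact ha
  have E3 := sum_modEq_sum_fixed' (Q := P) (X := IrrCharacter N) (p := p) hQ
    (fun η => (mult (Subgroup.inclusion hNG) χ η : ℤ) * (mult (Subgroup.inclusion hDN) η δ : ℤ))
    (fun q η => hfinv (q : Γ)⁻¹ (Subgroup.inv_mem _ q.2) η)
  -- fixed points are the invariant characters
  have hfix : ∀ η : IrrCharacter N, (∀ q : P, q • η = η) → ∀ s ∈ P, InvAt N (η : N → ℂ) s := by
    intro η h s hs
    have h1 := h ⟨s⁻¹, Subgroup.inv_mem _ hs⟩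
    have h2 : pullIrr (conjE N ((s⁻¹)⁻¹) (Subgroup.inv_mem _ (hPN (Subgroup.inv_mem _ hs)))) η = η :=
      h1
    have h3 := (invAt_iff_pullIrr N ((s⁻¹)⁻¹) _ η).mpr h2
    rwa [inv_inv] at h3
  have hθfix : ∀ q : P, q • θ = θ := by
    intro q
    show pullIrr (conjE N ((q : P) : Γ)⁻¹ _) θ = θ
    exact (invAt_iff_pullIrr N _ _ θ).mp (hθ _ (Subgroup.inv_mem _ q.2))
  have E4 : ∑ η ∈ Finset.univ.filter (fun η : IrrCharacter N => ∀ q : P, q • η = η),
      (mult (Subgroup.inclusion hNG) χ η : ℤ) * (mult (Subgroup.inclusion hDN) η δ : ℤ) ≡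
      (mult (Subgroup.inclusion hNG) χ θ : ℤ) * (mult (Subgroup.inclusion hDN) θ δ : ℤ)
        [ZMOD p] := by
    have hθmem : θ ∈ Finset.univ.filter (fun η : IrrCharacter N => ∀ q : P, q • η = η) :=
      Finset.mem_filter.mpr ⟨Finset.mem_univ _, hθfix⟩
    rw [← Finset.add_sum_erase _ _ hθmem]
    have hrest : (p : ℤ) ∣ ∑ η ∈ (Finset.univ.filter
        (fun η : IrrCharacter N => ∀ q : P, q • η = η)).erase θ,
        (mult (Subgroup.inclusion hNG) χ η : ℤ) * (mult (Subgroup.inclusion hDN) η δ : ℤ) := by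
      apply Finset.dvd_sum
      intro η hη
      have hne : η ≠ θ := (Finset.mem_erase.mp hη).1
      have hηfix := (Finset.mem_filter.mp (Finset.mem_erase.mp hη).2).2
      have hd : p ∣ mult (Subgroup.inclusion hDN) η δ := by
        by_contra hnd
        exact hne (PN.inj η (hfix η hηfix) θ hθ δ hnd hδ)
      apply Dvd.dvd.mul_left
      exact_mod_cast hd
    rw [Int.modEq_iff_dvd]
    simpa using (dvd_neg.mpr hrest)
  rw [E2] at E1
  exact E1.symm.trans (E3.trans E4)

end Compat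

section Section

variable {Γ : Type u} [Group Γ] [Finite Γ]

/-- A proper normal subgroup `S₁` of a solvable `S` lies in a larger normal subgroup `S₂` of `S`
with `S₂/S₁` a `p`-group. -/
theorem exists_normal_p_section (S₁ S : Subgroup Γ) (h₁ : S₁ ≤ S)
    (hn : S ≤ Subgroup.normalizer (S₁ : Set Γ)) (hsolv : Group.IsSolvable S) (hne : S₁ ≠ S) :
    ∃ p : ℕ, p.Prime ∧ ∃ S₂ : Subgroup Γ, S₁ ≤ S₂ ∧ S₂ ≤ S ∧
      S ≤ Subgroup.normalizer (S₂ : Set Γ) ∧ Nat.card S₁ < Nat.card S₂ ∧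
      (∀ x ∈ S₂, ∃ a : ℕ, x ^ (p ^ a) ∈ S₁) ∧ p ∣ S₁.relIndex S := by
  classical
  haveI hKn : (S₁.subgroupOf S).Normal := (Subgroup.normal_subgroupOf_iff_le_normalizer h₁).mpr hn
  haveI : Group.IsSolvable (S ⧸ S₁.subgroupOf S) :=
    Group.isSolvable_of_surjective (f := QuotientGroup.mk' (S₁.subgroupOf S))
      (QuotientGroup.mk'_surjective _)
  haveI : Nontrivial (S ⧸ S₁.subgroupOf S) := by
    rw [QuotientGroup.nontrivial_iff]
    intro htop
    apply hne
    apply le_antisymm h₁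
    intro x hx
    have : (⟨x, hx⟩ : S) ∈ S₁.subgroupOf S := by rw [htop]; trivial
    exact Subgroup.mem_subgroupOf.mp this
  obtain ⟨p, hp, Pb, hPbn, hPbp, hPbne⟩ :=
    Cfsg.Agent.Lead.exists_normal_pgroup_of_isSolvable (G := S ⧸ S₁.subgroupOf S)
  haveI := hPbn
  haveI : Fact p.Prime := ⟨hp⟩
  obtain ⟨S₂', hS₂'⟩ : ∃ S₂' : Subgroup S, S₂' = Pb.comap (QuotientGroup.mk' (S₁.subgroupOf S)) :=
    ⟨_, rfl⟩
  have hmem' : ∀ y : S, y ∈ S₂' ↔ (QuotientGroup.mk y : S ⧸ S₁.subgroupOf S) ∈ Pb := by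
    intro y
    rw [hS₂']
    rfl
  haveI hS₂'n : S₂'.Normal := by
    rw [hS₂']
    infer_instance
  refine ⟨p, hp, S₂'.map S.subtype, ?_, Subgroup.map_subtype_le S₂', ?_, ?_, ?_, ?_⟩
  · intro x hx
    refine ⟨⟨x, h₁ hx⟩, ?_, rfl⟩
    rw [SetLike.mem_coe, hmem']
    have : (QuotientGroup.mk (⟨x, h₁ hx⟩ : S) : S ⧸ S₁.subgroupOf S) = 1 := by
      rw [QuotientGroup.eq_one_iff]
      exact Subgroup.mem_subgroupOf.mpr hx
    rw [this]
    exact Subgroup.one_mem _
  · intro x hx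
    rw [Subgroup.mem_normalizer_iff]
    intro y
    constructor
    · rintro ⟨k, hk, rfl⟩
      exact ⟨⟨x, hx⟩ * k * ⟨x, hx⟩⁻¹, hS₂'n.conj_mem k hk _, by simp⟩
    · rintro ⟨k, hk, hky⟩
      refine ⟨⟨x, hx⟩⁻¹ * k * ⟨x, hx⟩, ?_, ?_⟩
      · have := hS₂'n.conj_mem k hk ⟨x, hx⟩⁻¹
        simpa using this
      · simp only [Subgroup.subtype_apply, Subgroup.coe_mul, Subgroup.coe_inv] at hky ⊢
        rw [hky]; group
  · apply Cfsg.Agent.Helper19.card_lt_card_of_lt
    refine lt_of_le_of_ne ?_ ?_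
    · intro x hx
      refine ⟨⟨x, h₁ hx⟩, ?_, rfl⟩
      rw [SetLike.mem_coe, hmem']
      have : (QuotientGroup.mk (⟨x, h₁ hx⟩ : S) : S ⧸ S₁.subgroupOf S) = 1 := by
        rw [QuotientGroup.eq_one_iff]
        exact Subgroup.mem_subgroupOf.mpr hx
      rw [this]
      exact Subgroup.one_mem _
    · intro heq
      apply hPbne
      rw [eq_bot_iff]
      intro q hq
      obtain ⟨y, rfl⟩ := QuotientGroup.mk_surjective q
      have hy : (y : Γ) ∈ S₂'.map S.subtype := ⟨y, (hmem' y).mpr hq, rfl⟩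
      rw [← heq] at hy
      rw [Subgroup.mem_bot, QuotientGroup.eq_one_iff]
      exact Subgroup.mem_subgroupOf.mpr hy
  · rintro x ⟨y, hy, rfl⟩
    rw [SetLike.mem_coe, hmem'] at hy
    obtain ⟨a, ha⟩ := hPbp ⟨_, hy⟩
    refine ⟨a, ?_⟩
    have h1 : (QuotientGroup.mk y : S ⧸ S₁.subgroupOf S) ^ (p ^ a) = 1 := by
      have := congrArg Subtype.val ha
      simpa using this
    rw [← QuotientGroup.mk_pow, QuotientGroup.eq_one_iff] at h1
    have h2 := Subgroup.mem_subgroupOf.mp h1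
    simpa using h2
  · have h1 : p ∣ Nat.card Pb := by
      rcases hPbp.card_eq_or_dvd with h | h
      · exfalso
        apply hPbne
        exact Subgroup.card_eq_one.mp h
      · exact h
    have h2 : Nat.card Pb ∣ Nat.card (S ⧸ S₁.subgroupOf S) := Subgroup.card_subgroup_dvd_card Pb
    have h3 : Nat.card (S ⧸ S₁.subgroupOf S) = S₁.relIndex S := by
      rw [← Subgroup.index_eq_card]
      rfl
    rw [← h3]
    exact h1.trans h2

end Section

section MainOver

variable {Γ : Type u} [Group Γ] [Finite Γ]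

omit [Finite Γ] in
theorem le_centralizer_inf_centralizer (G S₂ : Subgroup Γ) :
    S₂ ≤ Subgroup.centralizer ((G ⊓ Subgroup.centralizer (S₂ : Set Γ) : Subgroup Γ) : Set Γ) := by
  intro y hy
  rw [Subgroup.mem_centralizer_iff]
  intro g hg
  have hg' : g ∈ G ⊓ Subgroup.centralizer (S₂ : Set Γ) := hg
  have : g ∈ Subgroup.centralizer (S₂ : Set Γ) := hg'.2
  rw [Subgroup.mem_centralizer_iff] at this
  exact (this y hy).symm

/-- **Isaacs 13.30 (solvable operators)**, in a form suitable for induction: `S₁ ⊴ S` acts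
trivially on `G` and `|S : S₁|` is prime to `|G|`. -/
theorem exists_invariant_over_aux :
    ∀ (n : ℕ) (G N S S₁ : Subgroup Γ), Nat.card S - Nat.card S₁ = n → S₁ ≤ S →
      S ≤ Subgroup.normalizer (S₁ : Set Γ) → S₁ ≤ Subgroup.centralizer (G : Set Γ) →
      (Nat.card G).Coprime (S₁.relIndex S) → Group.IsSolvable S →
      S ≤ Subgroup.normalizer (G : Set Γ) → S ≤ Subgroup.normalizer (N : Set Γ) →
      ∀ hNG : N ≤ G, G ≤ Subgroup.normalizer (N : Set Γ) →
      ∀ θ : IrrCharacter N, (∀ s ∈ S, InvAt N (θ : N → ℂ) s) →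
      ∃ χ : IrrCharacter G, mult (Subgroup.inclusion hNG) χ θ ≠ 0 ∧
        ∀ s ∈ S, InvAt G (χ : G → ℂ) s := by
  intro n
  induction n using Nat.strong_induction_on with
  | _ n ih =>
  intro G N S S₁ hn h₁ hSS₁ hS₁c hcop hsolv hSG hSN hNG hGN θ hθ
  by_cases heq : S₁ = S
  · -- `S` acts trivially
    obtain ⟨χ, hχ⟩ := exists_irr_over_amb hNG θ
    refine ⟨χ, hχ, ?_⟩
    intro s hs g g' hgg'
    have hsc : s ∈ Subgroup.centralizer (G : Set Γ) := hS₁c (heq ▸ hs)
    rw [Subgroup.mem_centralizer_iff] at hsc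
    have : g' = g := by
      apply Subtype.ext
      rw [hgg', ← hsc g g.2, mul_inv_cancel_right]
    rw [this]
  · obtain ⟨p, hp, S₂, h₁₂, h₂S, hSS₂, hlt, hpow, hpdvd⟩ :=
      exists_normal_p_section S₁ S h₁ hSS₁ hsolv heq
    have hpG : ¬ p ∣ Nat.card G := by
      intro hd
      have := Nat.Coprime.coprime_dvd_left hd (Nat.Coprime.coprime_dvd_right hpdvd hcop)
      rw [Nat.coprime_self] at this
      exact hp.one_lt.ne' this
    have hpN : ¬ p ∣ Nat.card N := fun hd => hpG (hd.trans (Subgroup.card_dvd_of_le hNG))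
    have hS₂G : S₂ ≤ Subgroup.normalizer (G : Set Γ) := h₂S.trans hSG
    have hS₂N : S₂ ≤ Subgroup.normalizer (N : Set Γ) := h₂S.trans hSN
    have hsolv₂ : Group.IsSolvable S₂ := isSolvable_of_le h₂S hsolv
    have hcGN : Subgroup.centralizer (G : Set Γ) ≤ Subgroup.centralizer (N : Set Γ) :=
      Subgroup.centralizer_le (by exact_mod_cast hNG)
    have hactG : ∀ x ∈ S₂, ∃ a : ℕ, x ^ (p ^ a) ∈ Subgroup.centralizer (G : Set Γ) := by
      intro x hx
      obtain ⟨a, ha⟩ := hpow x hx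
      exact ⟨a, hS₁c ha⟩
    have hactN : ∀ x ∈ S₂, ∃ a : ℕ, x ^ (p ^ a) ∈ Subgroup.centralizer (N : Set Γ) := by
      intro x hx
      obtain ⟨a, ha⟩ := hactG x hx
      exact ⟨a, hcGN ha⟩
    obtain ⟨G₁, hG₁⟩ : ∃ G₁, G₁ = G ⊓ Subgroup.centralizer (S₂ : Set Γ) := ⟨_, rfl⟩
    obtain ⟨N₁, hN₁⟩ : ∃ N₁, N₁ = N ⊓ Subgroup.centralizer (S₂ : Set Γ) := ⟨_, rfl⟩
    have hG₁G : G₁ ≤ G := hG₁ ▸ inf_le_left
    have hN₁N : N₁ ≤ N := hN₁ ▸ inf_le_left
    have hN₁G₁ : N₁ ≤ G₁ := by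
      rw [hG₁, hN₁]
      exact inf_le_inf_right _ hNG
    have PG := pcorr_pquot p hp (Nat.card S₂) G S₂ G₁ rfl hS₂G hsolv₂ hactG (Or.inl hpG) hG₁ hG₁G
    have PN := pcorr_pquot p hp (Nat.card S₂) N S₂ N₁ rfl hS₂N hsolv₂ hactN (Or.inl hpN) hN₁ hN₁N
    have hθ₂ : ∀ s ∈ S₂, InvAt N (θ : N → ℂ) s := fun s hs => hθ s (h₂S hs)
    obtain ⟨δ, hδ, hδuniq⟩ := PN.exU θ hθ₂
    -- normalizers
    have hSG₁ : S ≤ Subgroup.normalizer (G₁ : Set Γ) := by
      intro s hs
      rw [hG₁]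
      exact mem_normalizer_inf_centralizer (hSG hs) (hSS₂ hs)
    have hSN₁ : S ≤ Subgroup.normalizer (N₁ : Set Γ) := by
      intro s hs
      rw [hN₁]
      exact mem_normalizer_inf_centralizer (hSN hs) (hSS₂ hs)
    have hG₁N₁ : G₁ ≤ Subgroup.normalizer (N₁ : Set Γ) := by
      intro g hg
      have hg' : g ∈ G ⊓ Subgroup.centralizer (S₂ : Set Γ) := hG₁ ▸ hg
      rw [hN₁]
      exact mem_normalizer_inf_centralizer (hGN hg'.1)
        (Subgroup.centralizer_le_normalizer _ hg'.2)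
    -- `δ` is `S`-invariant
    have hδS : ∀ s ∈ S, InvAt N₁ (δ : N₁ → ℂ) s := by
      intro s hs
      rw [invAt_iff_pullIrr N₁ s (hSN₁ hs)]
      have h1 := mult_conj_invariant hN₁N s (hSN₁ hs) (hSN hs) θ δ
      rw [(invAt_iff_pullIrr N s (hSN hs) θ).mp (hθ s hs)] at h1
      apply hδuniq
      rw [h1]
      exact hδ
    -- induction
    have hS₂c : S₂ ≤ Subgroup.centralizer (G₁ : Set Γ) := by
      rw [hG₁]
      exact le_centralizer_inf_centralizer G S₂
    have hcop₁ : (Nat.card G₁).Coprime (S₂.relIndex S) :=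
      Nat.Coprime.coprime_dvd_left (Subgroup.card_dvd_of_le hG₁G)
        (Nat.Coprime.coprime_dvd_right (Subgroup.relIndex_dvd_of_le_left S h₁₂) hcop)
    have hn' : Nat.card S - Nat.card S₂ < n := by
      have h3 : Nat.card S₂ ≤ Nat.card S :=
        Nat.le_of_dvd Nat.card_pos (Subgroup.card_dvd_of_le h₂S)
      omega
    obtain ⟨χ₁, hχ₁θ, hχ₁S⟩ := ih _ hn' G₁ N₁ S S₂ rfl h₂S hSS₂ hS₂c hcop₁ hsolv hSG₁ hSN₁
      hN₁G₁ hG₁N₁ δ hδS
    -- pull back
    obtain ⟨χ, hχ₂, hχχ₁⟩ := PG.surj χ₁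
    have hχS : ∀ s ∈ S, InvAt G (χ : G → ℂ) s := by
      intro s hs
      rw [invAt_iff_pullIrr G s (hSG hs)]
      have h1 := mult_conj_invariant hG₁G s (hSG₁ hs) (hSG hs) χ χ₁
      rw [(invAt_iff_pullIrr G₁ s (hSG₁ hs) χ₁).mp (hχ₁S s hs)] at h1
      have h2 : pullIrr (conjE G s (hSG hs)) χ ∈
          {χ : IrrCharacter G | ∀ s ∈ S₂, InvAt G (χ : G → ℂ) s} :=
        invAt_pullIrr_conj (hSG hs) (hSS₂ hs) χ hχ₂
      exact PG.inj _ h2 χ hχ₂ χ₁ (by rw [h1]; exact hχχ₁) hχχ₁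
    refine ⟨χ, ?_, hχS⟩
    have hcc := pcorr_compat p hp hNG hS₂G hS₂N hactN hN₁ hG₁G hN₁N hN₁G₁ PG PN χ hχ₂ θ hθ₂
      χ₁ δ hχχ₁ hδ
    intro h0
    rw [h0] at hcc
    simp only [Nat.cast_zero, zero_mul] at hcc
    have hdvd : (p : ℤ) ∣ (mult (Subgroup.inclusion hG₁G) χ χ₁ : ℤ) *
        (mult (Subgroup.inclusion hN₁G₁) χ₁ δ : ℤ) := Int.modEq_zero_iff_dvd.mp hcc
    have hpz : Prime (p : ℤ) := Nat.prime_iff_prime_int.mp hp
    rcases hpz.dvd_or_dvd hdvd with h | h
    · exact hχχ₁ (by exact_mod_cast h)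
    · have h3 : p ∣ mult (Subgroup.inclusion hN₁G₁) χ₁ δ := by exact_mod_cast h
      have h4 := mult_dvd_irrDeg_amb hN₁G₁ hG₁N₁ χ₁ δ hχ₁θ
      have h5 : irrDeg χ₁ ∣ Nat.card G₁ := irrDeg_dvd_card χ₁
      exact hpG (h3.trans (h4.trans (h5.trans (Subgroup.card_dvd_of_le hG₁G))))

/-- **Isaacs 13.30 (solvable operators)**: an `S`-invariant irreducible character of an
`S`-invariant normal subgroup `N` of `G` lies under an `S`-invariant irreducible character. -/
theorem exists_invariant_over (G N S : Subgroup Γ) (hcop : (Nat.card G).Coprime (Nat.card S))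
    (hsolv : Group.IsSolvable S) (hSG : S ≤ Subgroup.normalizer (G : Set Γ))
    (hSN : S ≤ Subgroup.normalizer (N : Set Γ)) (hNG : N ≤ G)
    (hGN : G ≤ Subgroup.normalizer (N : Set Γ)) (θ : IrrCharacter N)
    (hθ : ∀ s ∈ S, InvAt N (θ : N → ℂ) s) :
    ∃ χ : IrrCharacter G, mult (Subgroup.inclusion hNG) χ θ ≠ 0 ∧
      ∀ s ∈ S, InvAt G (χ : G → ℂ) s := by
  refine exists_invariant_over_aux _ G N S ⊥ rfl bot_le ?_ bot_le ?_ hsolv hSG hSN hNG hGN θ hθ
  · intro s _
    rw [Subgroup.mem_normalizer_iff]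
    intro x
    simp [Subgroup.mem_bot]
  · rw [Subgroup.relIndex_bot_left]
    exact hcop

omit [Finite Γ] in
theorem le_normalizer_of_conj_mem {A B : Subgroup Γ}
    (h : ∀ a ∈ A, ∀ b ∈ B, a * b * a⁻¹ ∈ B) : A ≤ Subgroup.normalizer (B : Set Γ) := by
  intro a ha
  rw [Subgroup.mem_normalizer_iff]
  intro b
  constructor
  · exact h a ha b
  · intro hb
    have := h a⁻¹ (A.inv_mem ha) _ hb
    simpa [mul_assoc] using this

end MainOver

end Cfsg.Agent.Helper24
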