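import Mathlib
import Cfsg.Prelude.Def_Characters
import Cfsg.Agent.Helper5.FrobSchurIrr
import Cfsg.Agent.Helper5.BlockSupport
import Cfsg.Agent.Helper24.RealChar
import Cfsg.Agent.Helper24.Invariants
import Cfsg.Agent.Helper24.Induced
import Cfsg.Agent.Helper8.Ind
import Cfsg.Agent.Helper23.PrincipalBlock

/-!
Real constituents of `+` type of a permutation character.
-/

namespace Cfsg.Agent.Helper24

open Cfsg

universe u

section PermReal

variable {G : Type u} [Group G] [Fintype G]

/-- The Frobenius–Schur indicator of a function. -/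
noncomputable def fsInd (χ : G → ℂ) : ℂ := (Nat.card G : ℂ)⁻¹ * ∑ g : G, χ (g * g)

theorem fsInd_irr (χ : IrrCharacter G) :
    (fsInd (χ : G → ℂ) = 0 ∨ fsInd (χ : G → ℂ) = 1 ∨ fsInd (χ : G → ℂ) = -1) ∧
      (fsInd (χ : G → ℂ) ≠ 0 → ∀ g, ((χ : G → ℂ) g).im = 0) := by
  obtain ⟨n, ρ, hρ, hχ⟩ := χ.2
  haveI := hρ
  have h := Helper5.FrobSchur.indicator_trichotomy ρ
  have heq : fsInd (χ : G → ℂ) = Helper5.FrobSchur.indicator ρ := by
    unfold fsInd Helper5.FrobSchur.indicator
    rw [hχ]
  rw [heq]
  refine ⟨h.1, ?_⟩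
  intro hne g
  by_contra hg
  apply hne
  rw [h.2]
  exact ⟨g, by rw [hχ]; exact hg⟩

theorem fsInd_sum {ι : Type*} (s : Finset ι) (c : ι → ℂ) (f : ι → G → ℂ) :
    fsInd (∑ i ∈ s, c i • f i) = ∑ i ∈ s, c i * fsInd (f i) := by
  unfold fsInd
  simp only [Finset.sum_apply, Pi.smul_apply, smul_eq_mul]
  rw [Finset.sum_comm, Finset.mul_sum]
  refine Finset.sum_congr rfl fun i _ => ?_
  rw [← Finset.mul_sum]
  ring

/-- The indicator of a permutation character counts square roots of `H`. -/
theorem fsInd_indFun_one (H : Subgroup G) [DecidablePred (· ∈ H)] :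
    fsInd (indFun H (fun _ : H => (1 : ℂ))) =
      (Nat.card H : ℂ)⁻¹ * ((Finset.univ.filter (fun x : G => x * x ∈ H)).card : ℂ) := by
  classical
  unfold fsInd
  simp_rw [Helper8.indFun_def]
  rw [← Finset.mul_sum, Finset.sum_comm]
  have h1 : ∀ y : G, ∑ x : G, extendByZero H (fun _ : H => (1 : ℂ)) (y⁻¹ * (x * x) * y) =
      ((Finset.univ.filter (fun x : G => x * x ∈ H)).card : ℂ) := by
    intro y
    rw [← Equiv.sum_comp (MulAut.conj y).toEquiv]
    have h2 : ∀ x : G, extendByZero H (fun _ : H => (1 : ℂ))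
        (y⁻¹ * ((MulAut.conj y).toEquiv x * (MulAut.conj y).toEquiv x) * y) =
        if x * x ∈ H then (1 : ℂ) else 0 := by
      intro x
      have : y⁻¹ * ((MulAut.conj y).toEquiv x * (MulAut.conj y).toEquiv x) * y = x * x := by
        simp only [MulEquiv.toEquiv_eq_coe, EquivLike.coe_coe, MulAut.conj_apply]
        group
      rw [this]
      by_cases hx : x * x ∈ H
      · rw [if_pos hx, Helper8.ebz_mem H _ hx]
      · rw [if_neg hx, Helper8.ebz_not_mem H _ hx]
    simp_rw [h2]
    rw [Finset.sum_boole]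
  simp_rw [h1]
  rw [Finset.sum_const, Finset.card_univ, nsmul_eq_mul, ← Nat.card_eq_fintype_card]
  have hG : (Nat.card G : ℂ) ≠ 0 := by exact_mod_cast Nat.card_pos.ne'
  field_simp

/-- A constituent of the permutation character on `G/H` has the core of `H` in its kernel. -/
theorem core_le_ker_of_constituent (H : Subgroup G) (χ : IrrCharacter G)
    (h : classInner (indFun H (fun _ : H => (1 : ℂ))) (χ : G → ℂ) ≠ 0) :
    ∀ n ∈ H.normalCore, (χ : G → ℂ) n = (χ : G → ℂ) 1 := by
  classical
  haveI : Fintype H := Fintype.ofFinite _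
  haveI : Fintype H.normalCore := Fintype.ofFinite _
  obtain ⟨m, ρ, hρ, hχ⟩ := χ.2
  haveI := hρ
  rw [Helper8.frobenius_reciprocity H _ _ (isClassFunction_irr χ), ← classInner_conj_symm] at h
  have h1 : classInner (fun x : H => (χ : G → ℂ) x) (fun _ : H => (1 : ℂ)) ≠ 0 := by
    intro h0
    apply h
    rw [h0, map_zero]
  rw [← hχ, classInner_restrict_one_eq_finrank_invariants ρ H] at h1
  have h2 : Module.finrank ℂ (Representation.invariants (ρ.comp H.subtype)) ≠ 0 := by
    intro h0
    apply h1
    rw [h0]; simp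
  have h3 : Module.finrank ℂ (Representation.invariants (ρ.comp H.normalCore.subtype)) ≠ 0 := by
    intro h0
    apply h2
    have hle : Representation.invariants (ρ.comp H.subtype) ≤
        Representation.invariants (ρ.comp H.normalCore.subtype) := by
      intro v hv
      rw [mem_invariants_comp_subtype] at hv ⊢
      intro k hk
      exact hv k (H.normalCore_le hk)
    have := Submodule.finrank_mono hle
    omega
  have h4 : classInner (fun x : H.normalCore => (χ : G → ℂ) x) (fun _ => (1 : ℂ)) ≠ 0 := by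
    rw [← hχ, classInner_restrict_one_eq_finrank_invariants ρ H.normalCore]
    exact_mod_cast h3
  intro n hn
  exact Helper5.CC.eq_one_of_trivial_constituent H.normalCore χ h4 n hn

theorem classInner_indFun_one_trivIrr (H : Subgroup G) :
    classInner (indFun H (fun _ : H => (1 : ℂ))) ((trivIrr G : IrrCharacter G) : G → ℂ) = 1 := by
  haveI : Fintype H := Fintype.ofFinite _
  rw [Helper8.frobenius_reciprocity H _ _ (isClassFunction_irr (trivIrr G))]
  exact classInner_irr_self (trivIrr H)

theorem fsInd_trivIrr : fsInd ((trivIrr G : IrrCharacter G) : G → ℂ) = 1 := by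
  unfold fsInd
  simp only [trivIrr_apply, Finset.sum_const, Finset.card_univ, nsmul_eq_mul, mul_one]
  rw [← Nat.card_eq_fintype_card]
  exact inv_mul_cancel₀ (by exact_mod_cast Nat.card_pos.ne')

/-- `(1_H)^G` has a unique real irreducible constituent of `+` type iff the core of `H` has odd
index. -/
theorem card_real_plus_constituents_eq_one_iff (H : Subgroup G) :
    Nat.card {χ : IrrCharacter G //
      classInner (indFun H (fun _ : H => (1 : ℂ))) (χ : G → ℂ) ≠ 0 ∧
      (∀ g : G, (starRingEnd ℂ) ((χ : G → ℂ) g) = (χ : G → ℂ) g) ∧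
      (Nat.card G : ℂ)⁻¹ * ∑ g : G, (χ : G → ℂ) (g * g) = 1} = 1 ↔
    Odd H.normalCore.index := by
  classical
  haveI : Fintype (IrrCharacter G) := Fintype.ofFinite _
  haveI : Fintype H := Fintype.ofFinite _
  set π := indFun H (fun _ : H => (1 : ℂ)) with hπ
  have htrivS : classInner π ((trivIrr G : IrrCharacter G) : G → ℂ) ≠ 0 ∧
      (∀ g : G, (starRingEnd ℂ) ((trivIrr G : G → ℂ) g) = (trivIrr G : G → ℂ) g) ∧
      (Nat.card G : ℂ)⁻¹ * ∑ g : G, (trivIrr G : G → ℂ) (g * g) = 1 := by
    refine ⟨?_, ?_, ?_⟩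
    · rw [classInner_indFun_one_trivIrr]; exact one_ne_zero
    · intro g; simp
    · exact fsInd_trivIrr
  constructor
  · intro hcard
    by_contra hodd
    rw [Nat.not_odd_iff_even] at hodd
    obtain ⟨hsub, -⟩ := Nat.card_eq_one_iff_unique.mp hcard
    -- characters other than the trivial one do not have indicator one
    have hother : ∀ χ : IrrCharacter G, χ ≠ trivIrr G → classInner π (χ : G → ℂ) ≠ 0 →
        fsInd (χ : G → ℂ) ≠ 1 := by
      intro χ hχ hne h1
      apply hχ
      have hreal := (fsInd_irr χ).2 (by rw [h1]; exact one_ne_zero)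
      have := hsub.elim ⟨χ, hne, fun g => Complex.conj_eq_iff_im.mpr (hreal g), h1⟩
        ⟨trivIrr G, htrivS⟩
      exact congrArg Subtype.val this
    have hπchar : IsCharacter G π := isCharacter_indFun H isCharacter_const_one
    have hexp := IsCharacter.eq_sum_classInner hπchar
    have hfs : fsInd π = ∑ χ : IrrCharacter G, classInner π (χ : G → ℂ) * fsInd (χ : G → ℂ) := by
      conv_lhs => rw [hexp]
      exact fsInd_sum _ _ _
    rw [fsInd_indFun_one] at hfs
    -- integer versions
    have hn : ∀ χ : IrrCharacter G, ∃ n : ℕ, classInner π (χ : G → ℂ) = n :=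
      fun χ => IsCharacter.classInner_irr_nat hπchar χ
    choose n hn using hn
    have ht : ∀ χ : IrrCharacter G, ∃ t : ℤ, fsInd (χ : G → ℂ) = t ∧ t ≤ 1 ∧
        (χ ≠ trivIrr G → n χ ≠ 0 → t ≤ 0) := by
      intro χ
      rcases (fsInd_irr χ).1 with h | h | h
      · exact ⟨0, by rw [h]; simp, by norm_num, fun _ _ => le_refl _⟩
      · refine ⟨1, by rw [h]; simp, le_refl _, ?_⟩
        intro hχ hnχ
        exfalso
        apply hother χ hχ _ h
        rw [hn χ]
        exact_mod_cast hnχ
      · exact ⟨-1, by rw [h]; simp, by norm_num, fun _ _ => by norm_num⟩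
    choose t ht using ht
    set M := (Finset.univ.filter (fun x : G => x * x ∈ H)).card with hM
    have hHne : (Nat.card H : ℂ) ≠ 0 := by exact_mod_cast Nat.card_pos.ne'
    have heqC : (M : ℂ) = (Nat.card H : ℂ) * ∑ χ : IrrCharacter G, (n χ : ℂ) * (t χ : ℂ) := by
      have : ∑ χ : IrrCharacter G, (n χ : ℂ) * (t χ : ℂ) =
          ∑ χ : IrrCharacter G, classInner π (χ : G → ℂ) * fsInd (χ : G → ℂ) :=
        Finset.sum_congr rfl fun χ _ => by rw [hn χ, (ht χ).1]
      rw [this, ← hfs]
      field_simp
    have heqZ : (M : ℤ) = (Nat.card H : ℤ) * ∑ χ : IrrCharacter G, (n χ : ℤ) * t χ := by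
      have : ((M : ℤ) : ℂ) = (((Nat.card H : ℤ) * ∑ χ : IrrCharacter G, (n χ : ℤ) * t χ : ℤ) : ℂ) := by
        push_cast
        exact heqC
      exact_mod_cast this
    have hntriv : n (trivIrr G) = 1 := by
      have := hn (trivIrr G)
      rw [hπ, classInner_indFun_one_trivIrr] at this
      exact_mod_cast this.symm
    have hsumle : ∑ χ : IrrCharacter G, (n χ : ℤ) * t χ ≤ 1 := by
      rw [← Finset.add_sum_erase _ _ (Finset.mem_univ (trivIrr G)), hntriv]
      have h1 : ((1 : ℕ) : ℤ) * t (trivIrr G) ≤ 1 := by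
        simpa using (ht (trivIrr G)).2.1
      have h2 : ∑ χ ∈ Finset.univ.erase (trivIrr G), (n χ : ℤ) * t χ ≤ 0 := by
        apply Finset.sum_nonpos
        intro χ hχ
        by_cases hnχ : n χ = 0
        · rw [hnχ]; simp
        · have := (ht χ).2.2 (Finset.ne_of_mem_erase hχ) hnχ
          have hpos : (0 : ℤ) ≤ (n χ : ℤ) := Int.natCast_nonneg _
          nlinarith
      linarith
    have hMle : M ≤ Nat.card H := by
      have hHpos : (0 : ℤ) ≤ (Nat.card H : ℤ) := Int.natCast_nonneg _
      have : (M : ℤ) ≤ (Nat.card H : ℤ) := by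
        rw [heqZ]
        nlinarith
      exact_mod_cast this
    -- so every square root of an element of H lies in H
    have hsubset : Finset.univ.filter (fun x : G => x ∈ H) ⊆
        Finset.univ.filter (fun x : G => x * x ∈ H) := by
      intro x hx
      rw [Finset.mem_filter] at hx ⊢
      exact ⟨hx.1, H.mul_mem hx.2 hx.2⟩
    have hcardH : (Finset.univ.filter (fun x : G => x ∈ H)).card = Nat.card H := by
      rw [Nat.card_eq_fintype_card, Fintype.card_subtype]
    have hEq := Finset.eq_of_subset_of_card_le hsubset (by rw [hcardH]; exact hMle)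
    have hroot : ∀ x : G, x * x ∈ H → x ∈ H := by
      intro x hx
      have : x ∈ Finset.univ.filter (fun x : G => x * x ∈ H) :=
        Finset.mem_filter.mpr ⟨Finset.mem_univ _, hx⟩
      rw [← hEq] at this
      exact (Finset.mem_filter.mp this).2
    -- an involution of the quotient by the core
    have h2dvd : 2 ∣ Nat.card (G ⧸ H.normalCore) := by
      rw [← Subgroup.index_eq_card]; exact even_iff_two_dvd.mp hodd
    haveI : Fact (Nat.Prime 2) := ⟨Nat.prime_two⟩
    obtain ⟨y, hy⟩ := exists_prime_orderOf_dvd_card' 2 h2dvd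
    induction y using QuotientGroup.induction_on with
    | H x =>
      have hx1 : (QuotientGroup.mk x : G ⧸ H.normalCore) ≠ 1 := by
        intro h
        rw [h, orderOf_one] at hy
        norm_num at hy
      have hx2 : (QuotientGroup.mk x : G ⧸ H.normalCore) ^ 2 = 1 := by
        rw [← hy]; exact pow_orderOf_eq_one _
      rw [← QuotientGroup.mk_pow, QuotientGroup.eq_one_iff] at hx2
      rw [Ne, QuotientGroup.eq_one_iff] at hx1
      apply hx1
      intro b
      apply hroot
      have := hx2 b
      have h3 : b * x * b⁻¹ * (b * x * b⁻¹) = b * x ^ 2 * b⁻¹ := by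
        rw [pow_two]; group
      rw [h3]
      exact this
  · intro hodd
    rw [Nat.card_eq_one_iff_unique]
    refine ⟨⟨?_⟩, ⟨⟨trivIrr G, htrivS⟩⟩⟩
    have key : ∀ χ : IrrCharacter G, classInner π (χ : G → ℂ) ≠ 0 →
        (∀ g : G, (starRingEnd ℂ) ((χ : G → ℂ) g) = (χ : G → ℂ) g) → χ = trivIrr G := by
      intro χ hne hreal
      have hker := core_le_ker_of_constituent H χ hne
      obtain ⟨ψ, hψ⟩ := Helper23.PB.exists_irr_quotient H.normalCore χ hker
      have hoddQ : Odd (Nat.card (G ⧸ H.normalCore)) := by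
        rw [← Subgroup.index_eq_card]; exact hodd
      have hψreal : ∀ y : G ⧸ H.normalCore, ((ψ : G ⧸ H.normalCore → ℂ) y).im = 0 := by
        intro y
        induction y using QuotientGroup.induction_on with
        | H g =>
          have := hψ g
          rw [QuotientGroup.mk'_apply] at this
          rw [this]
          exact Complex.conj_eq_iff_im.mp (hreal g)
      have hψtriv := irr_eq_trivIrr_of_real_of_odd hoddQ ψ hψreal
      apply Subtype.ext
      funext g
      rw [← hψ g, hψtriv]
      rfl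
    intro a b
    apply Subtype.ext
    rw [key a.1 a.2.1 a.2.2.1, key b.1 b.2.1 b.2.2.1]

end PermReal

end Cfsg.Agent.Helper24
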