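import Mathlib
import Cfsg.Prelude.Def_Characters
import Cfsg.Agent.Helper24.RealOrbits
import Cfsg.Agent.Helper24.PermReal
import Cfsg.Agent.Helper24.Clifford

/-!
Real characters over real characters of a normal subgroup of odd index.
-/

namespace Cfsg.Agent.Helper24

universe u

section Elements

variable {G : Type*} [Group G] (N : Subgroup G) [hN : N.Normal]

theorem mem_of_sq_mem_of_odd_index (hodd : Odd N.index) {x : G} (h : x * x ∈ N) : x ∈ N := by
  obtain ⟨j, hj⟩ := hodd
  have h1 : x ^ N.index ∈ N := Subgroup.pow_index_mem N x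
  have h2 : x = ((x * x) ^ j)⁻¹ * x ^ N.index := by
    rw [hj, pow_succ x (2 * j), pow_mul, pow_two]
    group
  rw [h2]
  exact mul_mem (inv_mem (pow_mem h j)) h1

theorem odd_index_inverting (hodd : Odd N.index) {g h : G} (hg : h * g * h⁻¹ = g⁻¹) :
    g ∈ N ∧ ∃ n ∈ N, n * g * n⁻¹ = g⁻¹ := by
  have h2 : Commute (h * h) g := by
    have : (h * h) * g * (h * h)⁻¹ = g := by
      have e : (h * h) * g * (h * h)⁻¹ = h * (h * g * h⁻¹) * h⁻¹ := by group
      rw [e, hg]
      have e2 : h * g⁻¹ * h⁻¹ = (h * g * h⁻¹)⁻¹ := by group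
      rw [e2, hg, inv_inv]
    unfold Commute SemiconjBy
    calc (h * h) * g = ((h * h) * g * (h * h)⁻¹) * (h * h) := by group
      _ = g * (h * h) := by rw [this]
  obtain ⟨j, hj⟩ := hodd
  have h3 : Commute ((h * h) ^ j) g := h2.pow_left j
  have hn : h ^ N.index ∈ N := Subgroup.pow_index_mem N h
  have hn2 : h ^ N.index = (h * h) ^ j * h := by
    rw [hj, pow_succ h (2 * j), pow_mul, pow_two]
  have hinv : h ^ N.index * g * (h ^ N.index)⁻¹ = g⁻¹ := by
    rw [hn2]
    have e : (h * h) ^ j * h * g * ((h * h) ^ j * h)⁻¹ =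
        (h * h) ^ j * (h * g * h⁻¹) * ((h * h) ^ j)⁻¹ := by group
    rw [e, hg]
    have h4 : Commute ((h * h) ^ j) g⁻¹ := h3.inv_right
    rw [h4.eq]
    group
  have hsq : g * g ∈ N := by
    have e : (g * g)⁻¹ = (h ^ N.index) * (g * (h ^ N.index)⁻¹ * g⁻¹) := by
      have : g * (h ^ N.index)⁻¹ * g⁻¹ = (h ^ N.index)⁻¹ * ((h ^ N.index) * g * (h ^ N.index)⁻¹) * g⁻¹ := by
        group
      rw [this, hinv]
      group
    have h5 : (g * g)⁻¹ ∈ N := by
      rw [e]
      exact mul_mem hn (hN.conj_mem _ (inv_mem hn) g)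
    exact inv_mem_iff.mp h5
  exact ⟨mem_of_sq_mem_of_odd_index N ⟨j, hj⟩ hsq, h ^ N.index, hn, hinv⟩

end Elements

section Classes

variable {G : Type u} [Group G] [Finite G] (N : Subgroup G) [hN : N.Normal]

omit [Finite G] in
/-- Real classes of `G` correspond to `G`-orbits on the real elements of a normal subgroup of
odd index. -/
theorem card_real_classes_eq_card_quot (hodd : Odd N.index) :
    Nat.card {C : ConjClasses G // conjClassesInv C = C} =
      Nat.card (Quot (fun x y : {x : N // IsConj x x⁻¹} =>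
        ∃ g : G, (y.1 : G) = g * x.1 * g⁻¹)) := by
  symm
  let F : Quot (fun x y : {x : N // IsConj x x⁻¹} => ∃ g : G, (y.1 : G) = g * x.1 * g⁻¹) →
      {C : ConjClasses G // conjClassesInv C = C} :=
    Quot.lift (fun x => ⟨ConjClasses.mk (x.1 : G), by
      rw [conjClassesInv_mk, ConjClasses.mk_eq_mk_iff_isConj]
      obtain ⟨c, hc⟩ := isConj_iff.mp x.2
      rw [isConj_comm, isConj_iff]
      refine ⟨(c : G), ?_⟩
      have := congrArg Subtype.val hc
      simpa using this⟩) (by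
      rintro x y ⟨g, hg⟩
      apply Subtype.ext
      show ConjClasses.mk (x.1 : G) = ConjClasses.mk (y.1 : G)
      rw [ConjClasses.mk_eq_mk_iff_isConj, isConj_iff]
      exact ⟨g, hg.symm⟩)
  refine Nat.card_congr (Equiv.ofBijective F ⟨?_, ?_⟩)
  · rintro ⟨x⟩ ⟨y⟩ h
    have h1 : ConjClasses.mk (x.1 : G) = ConjClasses.mk (y.1 : G) := congrArg Subtype.val h
    rw [ConjClasses.mk_eq_mk_iff_isConj, isConj_iff] at h1
    obtain ⟨c, hc⟩ := h1
    exact Quot.sound ⟨c, hc.symm⟩
  · rintro ⟨C, hC⟩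
    obtain ⟨g, rfl⟩ := ConjClasses.mk_surjective C
    rw [conjClassesInv_mk, ConjClasses.mk_eq_mk_iff_isConj, isConj_comm, isConj_iff] at hC
    obtain ⟨h, hh⟩ := hC
    obtain ⟨hgN, n, hn, hinv⟩ := odd_index_inverting N hodd hh
    refine ⟨Quot.mk _ ⟨⟨g, hgN⟩, ?_⟩, rfl⟩
    rw [isConj_iff]
    refine ⟨⟨n, hn⟩, ?_⟩
    apply Subtype.ext
    simpa using hinv

/-- The number of real irreducible characters of `G` is the number of real classes. -/
theorem card_real_irr_eq_card_conjClassesInv_fixed :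
    Nat.card {χ : IrrCharacter G // ∀ g : G, ((χ : G → ℂ) g).im = 0} =
      Nat.card {C : ConjClasses G // conjClassesInv C = C} := by
  rw [card_real_irr_eq_card_real_conjClasses]
  refine Nat.card_congr (Equiv.subtypeEquivRight ?_)
  intro C
  constructor
  · intro h
    obtain ⟨g, rfl⟩ := ConjClasses.mk_surjective C
    rw [conjClassesInv_mk, ConjClasses.mk_eq_mk_iff_isConj]
    exact (h g rfl).symm
  · intro h g hg
    rw [← hg, conjClassesInv_mk, ConjClasses.mk_eq_mk_iff_isConj] at h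
    exact h.symm

/-- For a normal subgroup `N` of odd index, `G` has as many real irreducible characters as
orbits on the real irreducible characters of `N`. -/
theorem card_real_irr_eq_card_orbits (hodd : Odd N.index) :
    Nat.card {χ : IrrCharacter G // ∀ g : G, ((χ : G → ℂ) g).im = 0} =
    Nat.card (Quot (fun θ η : {θ : IrrCharacter N // ∀ k : N, ((θ : N → ℂ) k).im = 0} =>
      ∃ g : G, ∀ k k' : N, (k' : G) = g * (k : G) * g⁻¹ →
        (η.1 : N → ℂ) k' = (θ.1 : N → ℂ) k)) := by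
  rw [card_real_irr_eq_card_conjClassesInv_fixed, card_real_classes_eq_card_quot N hodd,
    card_orbits_real_irr_eq_card_orbits_real_classes N hodd]

end Classes

section Indicator

variable {G : Type u} [Group G] [Fintype G] (N : Subgroup G) [hN : N.Normal] [Fintype N]

/-- Induction from a normal subgroup of odd index preserves the Frobenius–Schur indicator. -/
theorem fsInd_indFun_of_odd_index (hodd : Odd N.index) (φ : N → ℂ) :
    fsInd (indFun N φ) = fsInd φ := by
  classical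
  unfold fsInd
  simp_rw [Helper8.indFun_def]
  rw [← Finset.mul_sum, Finset.sum_comm]
  have h1 : ∀ y : G, ∑ x : G, extendByZero N φ (y⁻¹ * (x * x) * y) = ∑ n : N, φ (n * n) := by
    intro y
    rw [← Equiv.sum_comp (MulAut.conj y).toEquiv]
    have h2 : ∀ x : G, extendByZero N φ
        (y⁻¹ * ((MulAut.conj y).toEquiv x * (MulAut.conj y).toEquiv x) * y) =
        extendByZero N φ (x * x) := by
      intro x
      congr 1
      simp only [MulEquiv.toEquiv_eq_coe, EquivLike.coe_coe, MulAut.conj_apply]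
      group
    simp_rw [h2]
    rw [← Finset.sum_subset (Finset.subset_univ (Finset.univ.filter (fun x : G => x ∈ N)))]
    · rw [Finset.sum_subtype (Finset.univ.filter (fun x : G => x ∈ N)) (p := fun x => x ∈ N)
        (fun x => by simp)]
      refine Finset.sum_congr rfl ?_
      intro n _
      exact Helper8.ebz_mem N φ (N.mul_mem n.2 n.2)
    · intro x _ hx
      apply Helper8.ebz_not_mem
      intro hxx
      apply hx
      rw [Finset.mem_filter]
      exact ⟨Finset.mem_univ _, mem_of_sq_mem_of_odd_index N hodd hxx⟩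
  simp_rw [h1]
  rw [Finset.sum_const, Finset.card_univ, nsmul_eq_mul, ← Nat.card_eq_fintype_card]
  have hG : (Nat.card G : ℂ) ≠ 0 := by exact_mod_cast Nat.card_pos.ne'
  have hNc : (Nat.card N : ℂ) ≠ 0 := by exact_mod_cast Nat.card_pos.ne'
  field_simp

theorem fsInd_ne_zero_of_real (χ : IrrCharacter G) (h : ∀ g : G, ((χ : G → ℂ) g).im = 0) :
    fsInd (χ : G → ℂ) ≠ 0 := by
  obtain ⟨n, ρ, hρ, hχ⟩ := χ.2
  haveI := hρ
  have ht := Helper5.FrobSchur.indicator_trichotomy ρ
  have heq : fsInd (χ : G → ℂ) = Helper5.FrobSchur.indicator ρ := by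
    unfold fsInd Helper5.FrobSchur.indicator
    rw [hχ]
  rw [heq]
  intro h0
  obtain ⟨s, hs⟩ := ht.2.mp h0
  apply hs
  rw [hχ]
  exact h s

end Indicator

section Main

variable {G : Type u} [Group G] [Fintype G] (N : Subgroup G) [hN : N.Normal] [Fintype N]

omit [Fintype G] [Fintype N] in
theorem orbit_rel_iff (θ η : IrrCharacter N) :
    (∃ g : G, ∀ k k' : N, (k' : G) = g * (k : G) * g⁻¹ → (η : N → ℂ) k' = (θ : N → ℂ) k) ↔
      ∃ g : G, (irrConjAction N).smul g θ = η := by
  constructor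
  · rintro ⟨g, hg⟩
    refine ⟨g, ?_⟩
    apply Subtype.ext
    funext k'
    show (θ : N → ℂ) (MulAut.conjNormal g⁻¹ k') = (η : N → ℂ) k'
    refine (hg (MulAut.conjNormal g⁻¹ k') k' ?_).symm
    rw [MulAut.conjNormal_apply]
    group
  · rintro ⟨g, hg⟩
    refine ⟨g, ?_⟩
    intro k k' hk
    rw [← hg]
    show (θ : N → ℂ) (MulAut.conjNormal g⁻¹ k') = (θ : N → ℂ) k
    have hkk : MulAut.conjNormal g⁻¹ k' = k := by
      apply Subtype.ext
      rw [MulAut.conjNormal_apply, hk]
      group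
    rw [hkk]

omit hN in
theorem exists_constituent_restrict (χ : IrrCharacter G) :
    ∃ φ : IrrCharacter N, classInner (fun n : N => (χ : G → ℂ) n) (φ : N → ℂ) ≠ 0 := by
  classical
  haveI : Fintype (IrrCharacter N) := Fintype.ofFinite _
  by_contra h
  push Not at h
  have hres : IsCharacter N (fun n : N => (χ : G → ℂ) n) :=
    Helper8.isCharacter_restrict N (IsIrrCharacter.isCharacter χ.2)
  have hexp := IsCharacter.eq_sum_classInner hres
  have h0 : (fun n : N => (χ : G → ℂ) n) = 0 := by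
    rw [hexp]
    apply Finset.sum_eq_zero
    intro ψ _
    rw [h ψ, zero_smul]
  have h1 := congrFun h0 1
  simp only [Pi.zero_apply, OneMemClass.coe_one] at h1
  rw [irrDeg_spec] at h1
  have := irrDeg_pos χ
  have h2 : irrDeg χ = 0 := by exact_mod_cast h1
  omega

/-- Clifford: two constituents of the restriction are conjugate. -/
theorem exists_smul_eq_of_constituents (χ : IrrCharacter G) (φ ψ : IrrCharacter N)
    (hφ : classInner (fun n : N => (χ : G → ℂ) n) (φ : N → ℂ) ≠ 0)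
    (hψ : classInner (fun n : N => (χ : G → ℂ) n) (ψ : N → ℂ) ≠ 0) :
    ∃ g : G, (irrConjAction N).smul g φ = ψ := by
  by_contra h
  push Not at h
  apply hψ
  refine classInner_restrict_eq_zero_of_not_conj N χ.2 φ.2 hφ ψ.2 ?_
  intro g hg
  apply h g⁻¹
  apply Subtype.ext
  funext k
  show (φ : N → ℂ) (MulAut.conjNormal (g⁻¹)⁻¹ k) = (ψ : N → ℂ) k
  rw [hg, conjFun_apply, inv_inv]
  congr 1

/-- A constituent of the restriction of a real character to a normal subgroup of odd index is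
real. -/
theorem real_of_constituent_of_real (hodd : Odd N.index) (χ : IrrCharacter G)
    (hχ : ∀ g : G, ((χ : G → ℂ) g).im = 0) (φ : IrrCharacter N)
    (hφ : classInner (fun n : N => (χ : G → ℂ) n) (φ : N → ℂ) ≠ 0) :
    ∀ k : N, ((φ : N → ℂ) k).im = 0 := by
  haveI : Finite G := Finite.of_fintype G
  letI := irrConjAction (G := G) N
  rw [← irrStar_eq_iff]
  have h1 : classInner (fun n : N => (χ : G → ℂ) n) ((irrStar φ : IrrCharacter N) : N → ℂ) ≠ 0 := by
    have hreal : (fun n : N => (χ : G → ℂ) n) =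
        fun n : N => (starRingEnd ℂ) ((χ : G → ℂ) n) :=
      funext fun n => (Complex.conj_eq_iff_im.mpr (hχ n)).symm
    intro h0
    apply hφ
    rw [hreal] at h0
    have h2 : classInner (fun n : N => (starRingEnd ℂ) ((χ : G → ℂ) n))
        (fun n : N => (starRingEnd ℂ) ((φ : N → ℂ) n)) = 0 := h0
    rw [classInner_star_star] at h2
    have := congrArg (starRingEnd ℂ) h2
    simpa using this
  obtain ⟨g, hg⟩ := exists_smul_eq_of_constituents N χ φ (irrStar φ) hφ h1
  have h2 := twisted_fixed_iff N hodd (irrStar : IrrCharacter N → IrrCharacter N)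
    irrStar_irrStar (irrStar_smul N) (irr_smul_of_mem N) g φ
  refine (h2.mp ?_).1
  have : g • φ = irrStar φ := hg
  rw [this]
  exact irrStar_irrStar φ

/-- The sum formula for the indicator of an induced character. -/
theorem fsInd_indFun_eq_sum (hodd : Odd N.index) (φ : IrrCharacter N)
    [Fintype (IrrCharacter G)] :
    fsInd (φ : N → ℂ) = ∑ χ : IrrCharacter G,
      (starRingEnd ℂ) (classInner (fun n : N => (χ : G → ℂ) n) (φ : N → ℂ)) *
        fsInd (χ : G → ℂ) := by
  have hψ : IsCharacter G (indFun N (φ : N → ℂ)) :=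
    isCharacter_indFun N (IsIrrCharacter.isCharacter φ.2)
  have hexp := IsCharacter.eq_sum_classInner hψ
  have hfs : fsInd (indFun N (φ : N → ℂ)) = ∑ χ : IrrCharacter G,
      classInner (indFun N (φ : N → ℂ)) (χ : G → ℂ) * fsInd (χ : G → ℂ) := by
    conv_lhs => rw [hexp]
    exact fsInd_sum _ _ _
  rw [fsInd_indFun_of_odd_index N hodd] at hfs
  rw [hfs]
  refine Finset.sum_congr rfl ?_
  intro χ _
  rw [Helper8.frobenius_reciprocity N _ _ (isClassFunction_irr χ), classInner_conj_symm]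

/-- Over a real irreducible character of a normal subgroup of odd index lies a real
irreducible character. -/
theorem exists_real_over_real (hodd : Odd N.index) (φ : IrrCharacter N)
    (hφ : ∀ k : N, ((φ : N → ℂ) k).im = 0) :
    ∃ χ : IrrCharacter G, fsInd (χ : G → ℂ) ≠ 0 ∧
      classInner (fun n : N => (χ : G → ℂ) n) (φ : N → ℂ) ≠ 0 := by
  haveI : Fintype (IrrCharacter G) := Fintype.ofFinite _
  have h1 := fsInd_indFun_eq_sum N hodd φ
  have h2 := fsInd_ne_zero_of_real φ hφ
  by_contra h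
  push Not at h
  apply h2
  rw [h1]
  apply Finset.sum_eq_zero
  intro χ _
  by_cases h3 : fsInd (χ : G → ℂ) = 0
  · rw [h3, mul_zero]
  · rw [h χ h3, map_zero, zero_mul]

/-- Over a real irreducible character of a normal subgroup of odd index lies at most one real
irreducible character. -/
theorem unique_real_over_real (hodd : Odd N.index) (φ : IrrCharacter N)
    (χ₁ χ₂ : IrrCharacter G)
    (h₁ : ∀ g : G, ((χ₁ : G → ℂ) g).im = 0) (h₂ : ∀ g : G, ((χ₂ : G → ℂ) g).im = 0)
    (hc₁ : classInner (fun n : N => (χ₁ : G → ℂ) n) (φ : N → ℂ) ≠ 0)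
    (hc₂ : classInner (fun n : N => (χ₂ : G → ℂ) n) (φ : N → ℂ) ≠ 0) : χ₁ = χ₂ := by
  haveI : Finite G := Finite.of_fintype G
  have hcard := card_real_irr_eq_card_orbits N hodd
  have hc : ∀ χ : {χ : IrrCharacter G // ∀ g : G, ((χ : G → ℂ) g).im = 0},
      ∃ θ : {θ : IrrCharacter N // ∀ k : N, ((θ : N → ℂ) k).im = 0},
        classInner (fun n : N => (χ.1 : G → ℂ) n) (θ.1 : N → ℂ) ≠ 0 := by
    intro χ
    obtain ⟨θ, hθ⟩ := exists_constituent_restrict N χ.1
    exact ⟨⟨θ, real_of_constituent_of_real N hodd χ.1 χ.2 θ hθ⟩, hθ⟩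
  choose c hc using hc
  obtain ⟨Φ, hΦ⟩ : ∃ Φ : {χ : IrrCharacter G // ∀ g : G, ((χ : G → ℂ) g).im = 0} →
      Quot (fun θ η : {θ : IrrCharacter N // ∀ k : N, ((θ : N → ℂ) k).im = 0} =>
        ∃ g : G, ∀ k k' : N, (k' : G) = g * (k : G) * g⁻¹ →
          (η.1 : N → ℂ) k' = (θ.1 : N → ℂ) k), Φ = fun χ => Quot.mk _ (c χ) := ⟨_, rfl⟩
  have hval : ∀ (χ : {χ : IrrCharacter G // ∀ g : G, ((χ : G → ℂ) g).im = 0})
      (θ : {θ : IrrCharacter N // ∀ k : N, ((θ : N → ℂ) k).im = 0}),
      classInner (fun n : N => (χ.1 : G → ℂ) n) (θ.1 : N → ℂ) ≠ 0 → Φ χ = Quot.mk _ θ := by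
    intro χ θ hθ
    rw [hΦ]
    apply Quot.sound
    rw [orbit_rel_iff]
    exact exists_smul_eq_of_constituents N χ.1 (c χ).1 θ.1 (hc χ) hθ
  have hsurj : Function.Surjective Φ := by
    rintro ⟨θ⟩
    obtain ⟨χ, hχ1, hχ2⟩ := exists_real_over_real N hodd θ.1 θ.2
    exact ⟨⟨χ, (fsInd_irr χ).2 hχ1⟩, hval _ θ hχ2⟩
  have hbij := hsurj.bijective_of_nat_card_le (le_of_eq hcard)
  have hφ : ∀ k : N, ((φ : N → ℂ) k).im = 0 := real_of_constituent_of_real N hodd χ₁ h₁ φ hc₁
  have e1 := hval ⟨χ₁, h₁⟩ ⟨φ, hφ⟩ hc₁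
  have e2 := hval ⟨χ₂, h₂⟩ ⟨φ, hφ⟩ hc₂
  have := hbij.1 (e1.trans e2.symm)
  exact congrArg Subtype.val this

/-- Over a strongly real irreducible character of a normal subgroup of odd index lies a unique
strongly real irreducible character. -/
theorem exists_unique_strongly_real (hodd : Odd N.index) (φ : IrrCharacter N)
    (hφ : fsInd (φ : N → ℂ) = 1) :
    ∃! χ : IrrCharacter G, fsInd (χ : G → ℂ) = 1 ∧
      classInner (fun n : N => (χ : G → ℂ) n) (φ : N → ℂ) ≠ 0 := by
  classical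
  haveI : Fintype (IrrCharacter G) := Fintype.ofFinite _
  have hreal : ∀ k : N, ((φ : N → ℂ) k).im = 0 :=
    (fsInd_irr φ).2 (by rw [hφ]; exact one_ne_zero)
  obtain ⟨χ₀, h01, h02⟩ := exists_real_over_real N hodd φ hreal
  have huniq : ∀ χ : IrrCharacter G, fsInd (χ : G → ℂ) ≠ 0 →
      classInner (fun n : N => (χ : G → ℂ) n) (φ : N → ℂ) ≠ 0 → χ = χ₀ := by
    intro χ h1 h2
    exact unique_real_over_real N hodd φ χ χ₀ ((fsInd_irr χ).2 h1) ((fsInd_irr χ₀).2 h01) h2 h02
  have hsum := fsInd_indFun_eq_sum N hodd φ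
  rw [hφ, Finset.sum_eq_single χ₀] at hsum
  rotate_left
  · intro χ _ hne
    by_cases h3 : fsInd (χ : G → ℂ) = 0
    · rw [h3, mul_zero]
    · by_cases h4 : classInner (fun n : N => (χ : G → ℂ) n) (φ : N → ℂ) = 0
      · rw [h4, map_zero, zero_mul]
      · exact absurd (huniq χ h3 h4) hne
  · intro h
    exact absurd (Finset.mem_univ _) h
  have hres : IsCharacter N (fun n : N => (χ₀ : G → ℂ) n) :=
    Helper8.isCharacter_restrict N (IsIrrCharacter.isCharacter χ₀.2)
  haveI : Fintype (IrrCharacter N) := Fintype.ofFinite _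
  obtain ⟨n, hn⟩ := IsCharacter.classInner_irr_nat hres φ
  rw [hn, Complex.conj_natCast] at hsum
  have h0 : fsInd (χ₀ : G → ℂ) = 1 := by
    rcases (fsInd_irr χ₀).1 with h | h | h
    · exact absurd h h01
    · exact h
    · rw [h] at hsum
      exfalso
      have h5 : ((1 : ℤ) : ℂ) = ((-(n : ℤ) : ℤ) : ℂ) := by
        push_cast
        rw [hsum]
        ring
      have h6 : (1 : ℤ) = -(n : ℤ) := by exact_mod_cast h5
      omega
  refine ⟨χ₀, ⟨h0, h02⟩, ?_⟩
  rintro χ ⟨h1, h2⟩
  exact huniq χ (by rw [h1]; exact one_ne_zero) h2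

end Main

section Statement

variable {G : Type u} [Group G] [Finite G]

/-- Statement S4873. -/
theorem strongly_real_over_strongly_real (N : Subgroup G) [N.Normal] (hodd : Odd N.index)
    (φ : Cfsg.IrrCharacter ↥N)
    (hφ : (Nat.card ↥N : ℂ)⁻¹ * ∑ᶠ g : ↥N, (φ : ↥N → ℂ) (g * g) = 1) :
    ∃! χ : Cfsg.IrrCharacter G, (Nat.card G : ℂ)⁻¹ * ∑ᶠ g : G, (χ : G → ℂ) (g * g) = 1 ∧
      (∑ᶠ n : ↥N, (χ : G → ℂ) n * (starRingEnd ℂ) ((φ : ↥N → ℂ) n)) ≠ 0 := by
  haveI : Fintype G := Fintype.ofFinite G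
  haveI : Fintype N := Fintype.ofFinite N
  have h := exists_unique_strongly_real N hodd φ (by
    unfold fsInd
    rw [← finsum_eq_sum_of_fintype]
    exact hφ)
  have hiff : ∀ χ : IrrCharacter G,
      (fsInd (χ : G → ℂ) = 1 ∧ classInner (fun n : N => (χ : G → ℂ) n) (φ : N → ℂ) ≠ 0) ↔
      ((Nat.card G : ℂ)⁻¹ * ∑ᶠ g : G, (χ : G → ℂ) (g * g) = 1 ∧
        (∑ᶠ n : ↥N, (χ : G → ℂ) n * (starRingEnd ℂ) ((φ : ↥N → ℂ) n)) ≠ 0) := by
    intro χ
    refine and_congr ?_ ?_
    · unfold fsInd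
      rw [← finsum_eq_sum_of_fintype]
    · unfold classInner
      rw [finsum_eq_sum_of_fintype]
      have hNc : (Nat.card N : ℂ)⁻¹ ≠ 0 := inv_ne_zero (by exact_mod_cast Nat.card_pos.ne')
      constructor
      · intro h1 h2
        apply h1
        rw [h2, mul_zero]
      · intro h1 h2
        rcases mul_eq_zero.mp h2 with h3 | h3
        · exact hNc h3
        · exact h1 h3
  obtain ⟨χ, hχ, huniq⟩ := h
  exact ⟨χ, (hiff χ).mp hχ, fun ψ hψ => huniq ψ ((hiff ψ).mpr hψ)⟩

end Statement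

end Cfsg.Agent.Helper24
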