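import Mathlib
import Cfsg.Agent.Helper24.GlaubOver
import Cfsg.Agent.Helper24.OddIndexReal
import Cfsg.Agent.Lead.GlaubermanRel
import Cfsg.Agent.Helper8.IrrCoherence

/-!
Isaacs 13.27: if `S` acts on `G` fixing a normal subgroup `N` with `(|S|, |G : N|) = 1` and `S` or
`G/N` solvable, then every `S`-invariant irreducible character of `G` has an `S`-invariant
irreducible constituent on `N`.
-/

set_option autoImplicit false

namespace Cfsg.Agent.Helper24

open Cfsg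

universe u

section

variable {Γ : Type u} [Group Γ] [Finite Γ]

/-- The restriction of an irreducible character to a subgroup has an irreducible constituent. -/
theorem exists_irr_constituent_restrict_amb {N G : Subgroup Γ} (hNG : N ≤ G)
    (χ : IrrCharacter G) : ∃ θ : IrrCharacter N, mult (Subgroup.inclusion hNG) χ θ ≠ 0 := by
  classical
  haveI : Fintype N := Fintype.ofFinite N
  have hres : IsCharacter N (fun n : N => (χ : G → ℂ) (Subgroup.inclusion hNG n)) :=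
    Helper8.isCharacter_comp (Subgroup.inclusion hNG) (IsIrrCharacter.isCharacter χ.2)
  have h1 : (fun n : N => (χ : G → ℂ) (Subgroup.inclusion hNG n)) 1 ≠ 0 := by
    simp only [map_one]
    rw [irrDeg_spec]
    exact_mod_cast (irrDeg_pos χ).ne'
  obtain ⟨θ, hθ⟩ := Helper8.exists_irr_constituent hres h1
  refine ⟨θ, ?_⟩
  rw [mult_spec] at hθ
  exact_mod_cast hθ

/-- Clifford, ambient form: two constituents of `χ_N` are conjugate under `G`. -/
theorem clifford_conj_amb {N G : Subgroup Γ} (hNG : N ≤ G)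
    (hGN : G ≤ Subgroup.normalizer (N : Set Γ)) (χ : IrrCharacter G) (θ θ' : IrrCharacter N)
    (h : mult (Subgroup.inclusion hNG) χ θ ≠ 0) (h' : mult (Subgroup.inclusion hNG) χ θ' ≠ 0) :
    ∃ (g : Γ) (hg : g ∈ G),
      pullIrr (conjE N g⁻¹ (Subgroup.inv_mem _ (hGN hg))) θ = θ' := by
  classical
  haveI : Fintype G := Fintype.ofFinite G
  haveI hn : (N.subgroupOf G).Normal := (Subgroup.normal_subgroupOf_iff_le_normalizer hNG).mpr hGN
  haveI : Fintype (N.subgroupOf G) := Fintype.ofFinite _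
  have hχ : pullIrr (MulEquiv.refl G) χ = χ := Subtype.ext rfl
  have key : ∀ η : IrrCharacter N, mult (N.subgroupOf G).subtype χ
      (pullIrr (Subgroup.subgroupOfEquivOfLe hNG) η) = mult (Subgroup.inclusion hNG) χ η := by
    intro η
    have := mult_pullIrr (Subgroup.subgroupOfEquivOfLe hNG) (MulEquiv.refl G)
      (N.subgroupOf G).subtype (Subgroup.inclusion hNG) (fun c => rfl) χ η
    rw [hχ] at this
    exact this
  have hcon : ∀ η : IrrCharacter N, mult (Subgroup.inclusion hNG) χ η ≠ 0 →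
      classInner (fun n : N.subgroupOf G => (χ : G → ℂ) n)
        (pullIrr (Subgroup.subgroupOfEquivOfLe hNG) η : N.subgroupOf G → ℂ) ≠ 0 := by
    intro η hη
    have h1 := mult_spec (N.subgroupOf G).subtype χ (pullIrr (Subgroup.subgroupOfEquivOfLe hNG) η)
    simp only [Subgroup.subtype_apply] at h1
    rw [h1, key η]
    exact_mod_cast hη
  obtain ⟨g, hg⟩ := exists_smul_eq_of_constituents (N.subgroupOf G) χ _ _ (hcon θ h) (hcon θ' h')
  refine ⟨(g : Γ), g.2, ?_⟩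
  apply Subtype.ext
  funext n
  rw [pullIrr_apply]
  have h2 := congrArg (fun ψ : IrrCharacter (N.subgroupOf G) =>
    (ψ : N.subgroupOf G → ℂ) ((Subgroup.subgroupOfEquivOfLe hNG).symm n)) hg
  simp only [irrConjAction_apply, pullIrr_apply, MulEquiv.apply_symm_apply] at h2
  rw [← h2]
  congr 1

omit [Finite Γ] in
/-- `G ⊔ S` stabilizes an `S`-invariant character of `G`. -/
theorem sup_le_invStab {G S : Subgroup Γ} (hSG : S ≤ Subgroup.normalizer (G : Set Γ))
    (χ : IrrCharacter G) (hχ : ∀ s ∈ S, InvAt G (χ : G → ℂ) s) :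
    G ⊔ S ≤ invStab G (χ : G → ℂ) := by
  apply sup_le
  · intro k hk
    refine ⟨Subgroup.le_normalizer hk, ?_⟩
    intro a a' haa'
    have : a' = (⟨k, hk⟩ : G) * a * (⟨k, hk⟩ : G)⁻¹ := Subtype.ext haa'
    rw [this]
    exact isClassFunction_irr χ a ⟨k, hk⟩
  · intro s hs
    exact ⟨hSG hs, hχ s hs⟩

/-- **Isaacs 13.27**. -/
theorem exists_invariant_constituent (G S N : Subgroup Γ)
    (hSG : S ≤ Subgroup.normalizer (G : Set Γ)) (hSN : S ≤ Subgroup.normalizer (N : Set Γ))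
    (hNG : N ≤ G) [hn : (N.subgroupOf G).Normal] (hcop : (N.relIndex G).Coprime (Nat.card S))
    (hsolv : Group.IsSolvable S ∨ Group.IsSolvable (G ⧸ N.subgroupOf G))
    (χ : IrrCharacter G) (hχ : ∀ s ∈ S, InvAt G (χ : G → ℂ) s) :
    ∃ θ : IrrCharacter N, mult (Subgroup.inclusion hNG) χ θ ≠ 0 ∧
      ∀ s ∈ S, InvAt N (θ : N → ℂ) s := by
  classical
  have hGN : G ≤ Subgroup.normalizer (N : Set Γ) :=
    (Subgroup.normal_subgroupOf_iff_le_normalizer hNG).mp hn
  obtain ⟨L, hL⟩ : ∃ L : Subgroup Γ, L = G ⊔ S := ⟨_, rfl⟩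
  have hGL : G ≤ L := hL ▸ le_sup_left
  have hSL : S ≤ L := hL ▸ le_sup_right
  have hNL : N ≤ L := hNG.trans hGL
  have hLN : L ≤ Subgroup.normalizer (N : Set Γ) := hL ▸ sup_le hGN hSN
  have hLstab : L ≤ invStab G (χ : G → ℂ) := hL ▸ sup_le_invStab hSG χ hχ
  letI act : MulAction L (IrrCharacter N) := irrConjAct N L hLN
  obtain ⟨φ, hφ⟩ : ∃ φ : L →* Equiv.Perm (IrrCharacter N),
      φ = MulAction.toPermHom L (IrrCharacter N) := ⟨_, rfl⟩
  have hφapp : ∀ (l : L) (θ : IrrCharacter N), φ l θ =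
      pullIrr (conjE N (l : Γ)⁻¹ (Subgroup.inv_mem _ (hLN l.2))) θ := by
    intro l θ
    rw [hφ]
    rfl
  -- `N` acts trivially
  have hNker : N.subgroupOf L ≤ φ.ker := by
    intro l hl
    rw [MonoidHom.mem_ker]
    apply Equiv.ext
    intro θ
    rw [hφapp, Equiv.Perm.one_apply]
    have hlN : (l : Γ) ∈ N := Subgroup.mem_subgroupOf.mp hl
    apply Subtype.ext
    funext n
    rw [pullIrr_apply]
    have e : conjE N (l : Γ)⁻¹ (Subgroup.inv_mem _ (hLN l.2)) n =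
        (⟨(l : Γ), hlN⟩ : N)⁻¹ * n * (⟨(l : Γ), hlN⟩ : N)⁻¹⁻¹ := by
      apply Subtype.ext
      rw [conjE_apply]
      simp
    rw [e]
    exact isClassFunction_irr θ n _
  obtain ⟨K', hK'⟩ : ∃ K' : Subgroup (Equiv.Perm (IrrCharacter N)),
      K' = (G.subgroupOf L).map φ := ⟨_, rfl⟩
  obtain ⟨A', hA'⟩ : ∃ A' : Subgroup (Equiv.Perm (IrrCharacter N)),
      A' = (S.subgroupOf L).map φ := ⟨_, rfl⟩
  have hmemK' : ∀ σ, σ ∈ K' ↔ ∃ l : L, (l : Γ) ∈ G ∧ φ l = σ := by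
    intro σ
    rw [hK', Subgroup.mem_map]
    constructor
    · rintro ⟨l, hl, rfl⟩
      exact ⟨l, Subgroup.mem_subgroupOf.mp hl, rfl⟩
    · rintro ⟨l, hl, rfl⟩
      exact ⟨l, Subgroup.mem_subgroupOf.mpr hl, rfl⟩
  have hmemA' : ∀ σ, σ ∈ A' ↔ ∃ l : L, (l : Γ) ∈ S ∧ φ l = σ := by
    intro σ
    rw [hA', Subgroup.mem_map]
    constructor
    · rintro ⟨l, hl, rfl⟩
      exact ⟨l, Subgroup.mem_subgroupOf.mp hl, rfl⟩
    · rintro ⟨l, hl, rfl⟩
      exact ⟨l, Subgroup.mem_subgroupOf.mpr hl, rfl⟩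
  -- normalizing
  have hAK : A' ≤ Subgroup.normalizer (K' : Set (Equiv.Perm (IrrCharacter N))) := by
    rw [hA', hK']
    refine le_trans (Subgroup.map_mono ?_) (Subgroup.le_normalizer_map φ)
    intro l hl
    have hlS : (l : Γ) ∈ S := Subgroup.mem_subgroupOf.mp hl
    rw [Subgroup.mem_normalizer_iff]
    intro x
    rw [Subgroup.mem_subgroupOf, Subgroup.mem_subgroupOf]
    have := Subgroup.mem_normalizer_iff.mp (hSG hlS) (x : Γ)
    simpa using this
  -- coprimality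
  have hcardA : Nat.card A' ∣ Nat.card S := by
    rw [hA']
    refine (Subgroup.card_map_dvd (S.subgroupOf L) φ).trans ?_
    rw [Nat.card_congr (Subgroup.subgroupOfEquivOfLe hSL).toEquiv]
  have hcardK : Nat.card K' ∣ N.relIndex G := by
    rw [hK', ← Subgroup.relIndex_ker, ← Subgroup.relIndex_subgroupOf hGL]
    exact Subgroup.relIndex_dvd_of_le_left _ hNker
  have hcop' : (Nat.card A').Coprime (Nat.card K') :=
    (Nat.Coprime.coprime_dvd_left hcardK (Nat.Coprime.coprime_dvd_right hcardA hcop)).symm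
  -- solvability
  have hsolv' : Group.IsSolvable A' ∨ Group.IsSolvable K' := by
    rcases hsolv with hs | hs
    · left
      rw [hA']
      haveI : Group.IsSolvable (S.subgroupOf L) :=
        Group.isSolvable_of_isSolvable_injective
          (f := (Subgroup.subgroupOfEquivOfLe hSL).toMonoidHom)
          (Subgroup.subgroupOfEquivOfLe hSL).injective
      exact Group.isSolvable_of_surjective (f := (φ.subgroupMap (S.subgroupOf L)))
        (φ.subgroupMap_surjective _)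
    · right
      -- a surjection from `G/N` onto `K'`
      let ψ₀ : G →* Equiv.Perm (IrrCharacter N) := φ.comp (Subgroup.inclusion hGL)
      have hψ₀ : N.subgroupOf G ≤ ψ₀.ker := by
        intro g hg
        rw [MonoidHom.mem_ker]
        show φ (Subgroup.inclusion hGL g) = 1
        rw [← MonoidHom.mem_ker]
        apply hNker
        exact Subgroup.mem_subgroupOf.mpr (Subgroup.mem_subgroupOf.mp hg)
      let ψ : G ⧸ N.subgroupOf G →* Equiv.Perm (IrrCharacter N) :=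
        QuotientGroup.lift (N.subgroupOf G) ψ₀ hψ₀
      have hle : K' ≤ ψ.range := by
        intro σ hσ
        obtain ⟨l, hl, rfl⟩ := (hmemK' σ).mp hσ
        refine ⟨QuotientGroup.mk ⟨(l : Γ), hl⟩, ?_⟩
        show φ (Subgroup.inclusion hGL ⟨(l : Γ), hl⟩) = φ l
        congr 1
      haveI : Group.IsSolvable ψ.range :=
        Group.isSolvable_of_surjective (f := ψ.rangeRestrict) ψ.rangeRestrict_surjective
      exact isSolvable_of_le hle inferInstance
  -- the set of constituents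
  obtain ⟨Ω, hΩ⟩ : ∃ Ω : Set (IrrCharacter N),
      Ω = {θ | mult (Subgroup.inclusion hNG) χ θ ≠ 0} := ⟨_, rfl⟩
  have hΩmem : ∀ θ, θ ∈ Ω ↔ mult (Subgroup.inclusion hNG) χ θ ≠ 0 := by
    intro θ; rw [hΩ]; rfl
  have hφΩ : ∀ (l : L) (θ : IrrCharacter N), θ ∈ Ω → φ l θ ∈ Ω := by
    intro l θ hθ
    rw [hΩmem] at hθ ⊢
    rw [hφapp]
    have hl' : (l : Γ)⁻¹ ∈ invStab G (χ : G → ℂ) := Subgroup.inv_mem _ (hLstab l.2)
    have h1 := mult_conj_invariant hNG (l : Γ)⁻¹ (Subgroup.inv_mem _ (hLN l.2)) hl'.1 χ θ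
    rw [(invAt_iff_pullIrr G _ hl'.1 χ).mp hl'.2] at h1
    rw [h1]
    exact hθ
  have hΩinv : ∀ σ ∈ K' ⊔ A', ∀ θ ∈ Ω, σ • θ ∈ Ω := by
    have hle : K' ⊔ A' ≤ φ.range := by
      apply sup_le
      · rw [hK']; exact Subgroup.map_le_range φ _
      · rw [hA']; exact Subgroup.map_le_range φ _
    intro σ hσ θ hθ
    obtain ⟨l, rfl⟩ := hle hσ
    exact hφΩ l θ hθ
  have htrans : ∀ θ ∈ Ω, ∀ θ' ∈ Ω, ∃ σ ∈ K', σ • θ = θ' := by
    intro θ hθ θ' hθ'
    obtain ⟨g, hg, hgθ⟩ := clifford_conj_amb hNG hGN χ θ θ' ((hΩmem θ).mp hθ) ((hΩmem θ').mp hθ')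
    refine ⟨φ ⟨g, hGL hg⟩, (hmemK' _).mpr ⟨⟨g, hGL hg⟩, hg, rfl⟩, ?_⟩
    show φ ⟨g, hGL hg⟩ θ = θ'
    rw [hφapp]
    exact hgθ
  have key := (Cfsg.Agent.Lead.glauberman_rel K' A' hAK hcop' hsolv' Ω hΩinv htrans).1
  obtain ⟨θ₀, hθ₀⟩ := exists_irr_constituent_restrict_amb hNG χ
  obtain ⟨θ, hθΩ, hθfix⟩ := key ⟨θ₀, (hΩmem θ₀).mpr hθ₀⟩
  refine ⟨θ, (hΩmem θ).mp hθΩ, ?_⟩
  intro s hs
  have h1 := hθfix (φ ⟨s⁻¹, hSL (Subgroup.inv_mem _ hs)⟩)
    ((hmemA' _).mpr ⟨⟨s⁻¹, hSL (Subgroup.inv_mem _ hs)⟩, Subgroup.inv_mem _ hs, rfl⟩)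
  have h2 : φ ⟨s⁻¹, hSL (Subgroup.inv_mem _ hs)⟩ θ = θ := h1
  rw [hφapp] at h2
  have h3 := (invAt_iff_pullIrr N ((s⁻¹)⁻¹) _ θ).mpr h2
  rwa [inv_inv] at h3

end

end Cfsg.Agent.Helper24
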