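import Mathlib
import Cfsg.Prelude.Def_Characters
import Cfsg.Agent.Helper24.Clifford
import Cfsg.Agent.Helper24.Ito
import Cfsg.Agent.Helper24.CliffordSurj
import Cfsg.Agent.Helper24.OddInduced
import Cfsg.Agent.Helper8.CliffordAb
import Cfsg.Agent.Helper8.CharComp

/-!
"Going down" for an abelian chief factor (Isaacs 6.18).
-/

set_option autoImplicit false

namespace Cfsg.Agent.Helper24.GoingDown

open Cfsg Cfsg.Agent.Helper24

variable {G : Type*} [Group G] [Fintype G]

/-- restriction of a function on `K` to the smaller subgroup `L` -/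
def resKL (K L : Subgroup G) (hLK : L ≤ K) (θ : K → ℂ) : L → ℂ := fun x => θ ⟨(x : G), hLK x.2⟩

omit [Fintype G] in
theorem resKL_apply (K L : Subgroup G) (hLK : L ≤ K) (θ : K → ℂ) (x : L) :
    resKL K L hLK θ x = θ ⟨(x : G), hLK x.2⟩ := rfl

/-- Clifford's theorem for `L ≤ K` both subgroups of `G`, `L` normal in `G`. -/
theorem clifford_three (K L : Subgroup G) [Fintype K] [Fintype L] [hL : L.Normal] (hLK : L ≤ K)
    {θ : K → ℂ}
    (hθ : IsIrrCharacter K θ) {φ : L → ℂ} (hφ : IsIrrCharacter L φ)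
    (hconst : classInner (resKL K L hLK θ) φ ≠ 0) [DecidableEq (L → ℂ)] :
    resKL K L hLK θ = classInner (resKL K L hLK θ) φ •
      ∑ ψ ∈ (Finset.univ : Finset ↥K).image (fun k : ↥K => conjFun L φ (k : G)), ψ := by
  classical
  haveI : Fintype (L.subgroupOf K) := Fintype.ofFinite _
  let ι : ↥(L.subgroupOf K) ≃* ↥L := Subgroup.subgroupOfEquivOfLe hLK
  have hι : ∀ x : ↥(L.subgroupOf K), ((ι x : L) : G) = ((x : K) : G) := fun x => rfl
  have hφ' : IsIrrCharacter (L.subgroupOf K) (fun x => φ (ι x)) :=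
    Cfsg.Agent.Helper8.isIrrCharacter_comp_surjective ι.toMonoidHom ι.surjective hφ
  have hres : (fun n : ↥(L.subgroupOf K) => θ n) = fun x => resKL K L hLK θ (ι x) := by
    funext x
    rfl
  have hconst' : classInner (fun n : ↥(L.subgroupOf K) => θ n) (fun x => φ (ι x)) ≠ 0 := by
    rw [hres, classInner_comp_mulEquiv ι]
    exact hconst
  have hcl := clifford_finset (L.subgroupOf K) hθ hφ' hconst'
  rw [hres, classInner_comp_mulEquiv ι] at hcl
  have hconj : ∀ k : K, conjFun (L.subgroupOf K) (fun x => φ (ι x)) k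
      = fun x => conjFun L φ (k : G) (ι x) := by
    intro k
    funext x
    rfl
  have himg : Finset.univ.image (conjFun (L.subgroupOf K) (fun x => φ (ι x)))
      = ((Finset.univ : Finset ↥K).image (fun k : ↥K => conjFun L φ (k : G))).image
          (fun ψ => fun x => ψ (ι x)) := by
    rw [Finset.image_image]
    apply Finset.image_congr
    intro k _
    exact hconj k
  funext x
  have h1 := congrFun hcl (ι.symm x)
  simp only [MulEquiv.apply_symm_apply] at h1
  rw [h1, himg, Finset.sum_image]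
  · simp only [Pi.smul_apply, Finset.sum_apply, MulEquiv.apply_symm_apply]
  · intro ψ₁ _ ψ₂ _ h
    funext y
    have := congrFun h (ι.symm y)
    simpa using this

/-- an irreducible constituent of `θ_L` is `K`-conjugate to any other. -/
theorem exists_conj_of_constituent (K L : Subgroup G) [Fintype K] [Fintype L] [hL : L.Normal]
    (hLK : L ≤ K) {θ : K → ℂ} (hθ : IsIrrCharacter K θ) {φ : L → ℂ} (hφ : IsIrrCharacter L φ)
    (hconst : classInner (resKL K L hLK θ) φ ≠ 0) {ψ : L → ℂ} (hψ : IsIrrCharacter L ψ)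
    (hψc : classInner (resKL K L hLK θ) ψ ≠ 0) : ∃ k : K, ψ = conjFun L φ (k : G) := by
  classical
  by_contra hcon
  push Not at hcon
  apply hψc
  rw [clifford_three K L hLK hθ hφ hconst, classInner_smul_left, classInner_sum_left]
  rw [Finset.sum_eq_zero, mul_zero]
  intro ψ' hψ'
  obtain ⟨k, _, rfl⟩ := Finset.mem_image.mp hψ'
  rw [classInner_of_isIrrCharacter (isIrrCharacter_conjFun L hφ (k : G)) hψ, if_neg]
  exact fun h => hcon k h.symm

omit [Fintype G] in
/-- the inner product is invariant under simultaneous conjugation. -/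
theorem classInner_conjFun_conjFun (L : Subgroup G) [Fintype L] [hL : L.Normal] (a b : L → ℂ)
    (g : G) : classInner (conjFun L a g) (conjFun L b g) = classInner a b := by
  unfold classInner
  congr 1
  refine Fintype.sum_equiv (MulAut.conjNormal g : L ≃* L).toEquiv _ _ ?_
  intro n
  simp only [MulEquiv.toEquiv_eq_coe, EquivLike.coe_coe]
  have h1 : ((MulAut.conjNormal g : L ≃* L) n : G) = g * n * g⁻¹ := MulAut.conjNormal_apply g n
  have h2 : (MulAut.conjNormal g : L ≃* L) n = ⟨g * n * g⁻¹, hL.conj_mem n n.2 g⟩ :=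
    Subtype.ext h1
  rw [conjFun_apply, conjFun_apply, h2]

/-- the inertia group in `K` of a constituent of `θ_L` is normal in `G` when `θ` is `G`-invariant and
`K/L` is abelian. -/
theorem inertia_inf_normal (K L : Subgroup G) [Fintype K] [Fintype L] [hK : K.Normal]
    [hL : L.Normal] (hLK : L ≤ K) (hab : ⁅K, K⁆ ≤ L) {θ : K → ℂ} (hθ : IsIrrCharacter K θ)
    (hinv : ∀ (g : G) (n : K), θ ⟨g * n * g⁻¹, hK.conj_mem (n : G) n.2 g⟩ = θ n)
    {φ : L → ℂ} (hφ : IsIrrCharacter L φ) (hconst : classInner (resKL K L hLK θ) φ ≠ 0) :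
    (inertiaSubgroup L φ ⊓ K).Normal := by
  constructor
  intro x hx g
  have hρ : conjFun L (resKL K L hLK θ) g = resKL K L hLK θ := by
    funext y
    exact hinv g ⟨(y : G), hLK y.2⟩
  have h1 : classInner (resKL K L hLK θ) (conjFun L φ g) ≠ 0 := by
    rw [← hρ, classInner_conjFun_conjFun]
    exact hconst
  obtain ⟨k, hk⟩ := exists_conj_of_constituent K L hLK hθ hφ hconst
    (isIrrCharacter_conjFun L hφ g) h1
  have hs : g * (k : G)⁻¹ ∈ inertiaSubgroup L φ := by
    show conjFun L φ (g * (k : G)⁻¹) = φ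
    rw [← conjFun_conjFun, hk, conjFun_conjFun, mul_inv_cancel, conjFun_one]
  have hkx : (k : G) * x * (k : G)⁻¹ ∈ inertiaSubgroup L φ ⊓ K := by
    have hcomm : (k : G) * x * (k : G)⁻¹ * x⁻¹ ∈ L := by
      have := hab (Subgroup.commutator_mem_commutator k.2 hx.2)
      rwa [commutatorElement_def] at this
    have h2 : (k : G) * x * (k : G)⁻¹ = ((k : G) * x * (k : G)⁻¹ * x⁻¹) * x := by group
    rw [h2]
    exact Subgroup.mul_mem _
      ⟨le_inertiaSubgroup L φ (IsCharacter.isClassFunction (IsIrrCharacter.isCharacter hφ)) hcomm,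
        hLK hcomm⟩ hx
  have h3 : g * x * g⁻¹ = (g * (k : G)⁻¹) * ((k : G) * x * (k : G)⁻¹) * (g * (k : G)⁻¹)⁻¹ := by
    group
  rw [h3]
  exact ⟨Subgroup.mul_mem _ (Subgroup.mul_mem _ hs hkx.1) (Subgroup.inv_mem _ hs),
    hK.conj_mem _ hkx.2 _⟩

theorem card_hom_units {W : Type*} [Group W] [Finite W] (hc : ∀ a b : W, a * b = b * a) :
    Nat.card (W →* ℂˣ) = Nat.card W := by
  let _ : CommGroup W := { ‹Group W› with mul_comm := hc }
  have := Cfsg.Agent.Helper8.hasEnoughRootsOfUnity_exponent W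
  exact CommGroup.card_monoidHom_of_hasEnoughRootsOfUnity W ℂ

/-- `[θ_N, θ_N]` is the number of linear characters `λ` of the abelian quotient `K/N` with
`λθ = θ`. -/
theorem classInner_restrict_eq_card_stab {K : Type*} [Group K] [Fintype K] (N : Subgroup K)
    [hN : N.Normal] [Fintype N] (hQc : ∀ a b : K ⧸ N, a * b = b * a) [Fintype ((K ⧸ N) →* ℂˣ)]
    (θ : K → ℂ) (hθ : IsIrrCharacter K θ)
    [DecidablePred (fun lam : (K ⧸ N) →* ℂˣ =>
      (fun k : K => ((lam (k : K ⧸ N) : ℂˣ) : ℂ) * θ k) = θ)] :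
    classInner (fun n : N => θ n) (fun n : N => θ n) =
      ((Finset.univ.filter (fun lam : (K ⧸ N) →* ℂˣ =>
        (fun k : K => ((lam (k : K ⧸ N) : ℂˣ) : ℂ) * θ k) = θ)).card : ℂ) := by
  classical
  have hirr : ∀ lam : (K ⧸ N) →* ℂˣ,
      IsIrrCharacter K (fun k : K => ((lam (k : K ⧸ N) : ℂˣ) : ℂ) * θ k) := fun lam =>
    Cfsg.Agent.Helper8.isIrrCharacter_linear_mul (lam.comp (QuotientGroup.mk' N)) hθ
  have h1 : ∑ lam : (K ⧸ N) →* ℂˣ,
      classInner (fun k : K => ((lam (k : K ⧸ N) : ℂˣ) : ℂ) * θ k) θ =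
      ((Finset.univ.filter (fun lam : (K ⧸ N) →* ℂˣ =>
        (fun k : K => ((lam (k : K ⧸ N) : ℂˣ) : ℂ) * θ k) = θ)).card : ℂ) := by
    rw [Finset.card_filter]
    push_cast
    apply Finset.sum_congr rfl
    intro lam _
    rw [classInner_of_isIrrCharacter (hirr lam) hθ]
  rw [← h1]
  unfold classInner
  rw [← Finset.mul_sum, Finset.sum_comm]
  have h2 : ∀ k : K, ∑ lam : (K ⧸ N) →* ℂˣ,
      ((lam (k : K ⧸ N) : ℂˣ) : ℂ) * θ k * (starRingEnd ℂ) (θ k) =
      if k ∈ N then (Fintype.card ((K ⧸ N) →* ℂˣ) : ℂ) * (θ k * (starRingEnd ℂ) (θ k)) else 0 := by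
    intro k
    simp_rw [mul_assoc]
    rw [← Finset.sum_mul, Cfsg.Agent.Helper8.sum_dual_quotient N hQc k]
    split_ifs <;> simp
  simp_rw [h2]
  rw [← Finset.sum_filter, Finset.sum_subtype (p := fun k => k ∈ N) _ (by simp), ← Finset.mul_sum]
  have hcard : (Fintype.card ((K ⧸ N) →* ℂˣ) : ℂ) * (Nat.card N : ℂ) = (Nat.card K : ℂ) := by
    rw [← Nat.card_eq_fintype_card, card_hom_units hQc, ← Nat.cast_mul, ← Subgroup.index_eq_card,
      Subgroup.index_mul_card]
  have hN0 : (Nat.card N : ℂ) ≠ 0 := Nat.cast_ne_zero.mpr Nat.card_pos.ne'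
  have hK0 : (Nat.card K : ℂ) ≠ 0 := Nat.cast_ne_zero.mpr Nat.card_pos.ne'
  rw [← hcard]
  field_simp

omit [Fintype G] in
/-- orbit-stabilizer for the conjugation action of `K` on functions on `L`. -/
theorem card_image_conjFun (K L : Subgroup G) [Fintype K] [hL : L.Normal] (φ : L → ℂ)
    [DecidableEq (L → ℂ)] :
    ((Finset.univ : Finset ↥K).image (fun k : ↥K => conjFun L φ (k : G))).card =
      (inertiaSubgroup L φ).relIndex K := by
  classical
  letI act : MulAction G (L → ℂ) :=
    { smul := fun g θ => conjFun L θ g⁻¹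
      one_smul := fun θ => by
        show conjFun L θ 1⁻¹ = θ
        rw [inv_one, conjFun_one]
      mul_smul := fun x y θ => by
        show conjFun L θ (x * y)⁻¹ = conjFun L (conjFun L θ y⁻¹) x⁻¹
        rw [conjFun_conjFun, mul_inv_rev] }
  have hsmul : ∀ (g : G) (θ : L → ℂ), g • θ = conjFun L θ g⁻¹ := fun _ _ => rfl
  have hsmulK : ∀ (k : K) (θ : L → ℂ), k • θ = conjFun L θ ((k : G))⁻¹ := fun _ _ => rfl
  have hstab : MulAction.stabilizer K φ = (inertiaSubgroup L φ).subgroupOf K := by
    ext k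
    rw [MulAction.mem_stabilizer_iff, hsmulK, Subgroup.mem_subgroupOf]
    constructor
    · intro h
      have h1 : ((k : G))⁻¹ ∈ inertiaSubgroup L φ := h
      simpa using (inertiaSubgroup L φ).inv_mem h1
    · intro h
      exact (inertiaSubgroup L φ).inv_mem h
  have horbit : MulAction.orbit K φ =
      ↑((Finset.univ : Finset ↥K).image (fun k : ↥K => conjFun L φ (k : G))) := by
    ext ψ
    simp only [Finset.coe_image, Finset.coe_univ, Set.image_univ, Set.mem_range]
    constructor
    · rintro ⟨k, rfl⟩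
      refine ⟨k⁻¹, ?_⟩
      show conjFun L φ ((k⁻¹ : K) : G) = k • φ
      rw [hsmulK, Subgroup.coe_inv]
    · rintro ⟨k, rfl⟩
      refine ⟨k⁻¹, ?_⟩
      show k⁻¹ • φ = conjFun L φ (k : G)
      rw [hsmulK, Subgroup.coe_inv, inv_inv]
  rw [Subgroup.relIndex, ← hstab, MulAction.index_stabilizer, horbit, Set.ncard_coe_finset]

/-- **Going down** for an abelian chief factor (Isaacs 6.18). -/
theorem going_down (K L : Subgroup G) [hK : K.Normal] [hL : L.Normal] (hLK : L < K)
    (hchief : ∀ M : Subgroup G, M.Normal → L ≤ M → M ≤ K → M = L ∨ M = K) (hab : ⁅K, K⁆ ≤ L)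
    (θ : K → ℂ) (hθ : IsIrrCharacter K θ)
    (hinv : ∀ (g : G) (n : K), θ ⟨g * n * g⁻¹, hK.conj_mem (n : G) n.2 g⟩ = θ n) :
    IsIrrCharacter L (fun x : L => θ ⟨(x : G), hLK.le x.2⟩) ∨
    (∃ (φ : L → ℂ) (e : ℕ), IsIrrCharacter L φ ∧
      (fun x : L => θ ⟨(x : G), hLK.le x.2⟩) = (e : ℂ) • φ ∧ e ^ 2 = L.relIndex K) ∨
    (∃ F : Finset (L → ℂ), (∀ φ ∈ F, IsIrrCharacter L φ) ∧ F.card = L.relIndex K ∧
      (fun x : L => θ ⟨(x : G), hLK.le x.2⟩) = ∑ φ ∈ F, φ) := by
  classical
  haveI : Fintype K := Fintype.ofFinite _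
  haveI : Fintype L := Fintype.ofFinite _
  haveI : Fintype (L.subgroupOf K) := Fintype.ofFinite _
  haveI : Fintype (IrrCharacter L) := Fintype.ofFinite _
  show IsIrrCharacter L (resKL K L hLK.le θ) ∨
    (∃ (φ : L → ℂ) (e : ℕ), IsIrrCharacter L φ ∧
      resKL K L hLK.le θ = (e : ℂ) • φ ∧ e ^ 2 = L.relIndex K) ∨
    (∃ F : Finset (L → ℂ), (∀ φ ∈ F, IsIrrCharacter L φ) ∧ F.card = L.relIndex K ∧
      resKL K L hLK.le θ = ∑ φ ∈ F, φ)
  have hρchar : IsCharacter L (resKL K L hLK.le θ) :=
    Cfsg.Agent.Helper8.isCharacter_comp (Subgroup.inclusion hLK.le) (IsIrrCharacter.isCharacter hθ)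
  -- a constituent
  have hρ0 : resKL K L hLK.le θ ≠ 0 := by
    intro h0
    obtain ⟨n, hn, h1⟩ := isIrrCharacter_one hθ
    have h2 : resKL K L hLK.le θ 1 = θ 1 := rfl
    rw [h0, h1] at h2
    have : (n : ℂ) = 0 := h2.symm
    exact hn.ne' (Nat.cast_eq_zero.mp this)
  obtain ⟨⟨φ, hφ⟩, hconst⟩ := IsCharacter.exists_irr_constituent hρchar hρ0
  simp only at hconst
  obtain ⟨e, he⟩ := IsCharacter.classInner_nat hρchar (IsIrrCharacter.isCharacter hφ)
  have he0 : e ≠ 0 := by
    rintro rfl
    exact hconst (by rw [he]; simp)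
  -- Clifford
  have hcl := clifford_three K L hLK.le hθ hφ hconst
  rw [he] at hcl
  obtain ⟨Ω, hΩ⟩ : ∃ Ω, Ω = (Finset.univ : Finset ↥K).image (fun k : ↥K => conjFun L φ (k : G)) :=
    ⟨_, rfl⟩
  rw [← hΩ] at hcl
  have hΩirr : ∀ ψ ∈ Ω, IsIrrCharacter L ψ := by
    intro ψ hψ
    rw [hΩ] at hψ
    obtain ⟨k, _, rfl⟩ := Finset.mem_image.mp hψ
    exact isIrrCharacter_conjFun L hφ (k : G)
  have hΩcard : Ω.card = (inertiaSubgroup L φ).relIndex K := by
    rw [hΩ]
    exact card_image_conjFun K L φ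
  -- the norm of the restriction
  have hnorm : classInner (resKL K L hLK.le θ) (resKL K L hLK.le θ) = ((e ^ 2 * Ω.card : ℕ) : ℂ) := by
    rw [hcl, classInner_smul_left, classInner_smul_right, classInner_sum_left]
    simp_rw [classInner_sum_right]
    have : ∀ ψ ∈ Ω, ∑ ψ' ∈ Ω, classInner ψ ψ' = 1 := by
      intro ψ hψ
      rw [Finset.sum_eq_single ψ]
      · rw [classInner_of_isIrrCharacter (hΩirr ψ hψ) (hΩirr ψ hψ), if_pos rfl]
      · intro ψ' hψ' hne
        rw [classInner_of_isIrrCharacter (hΩirr ψ hψ) (hΩirr ψ' hψ'), if_neg (Ne.symm hne)]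
      · intro h
        exact absurd hψ h
    rw [Finset.sum_congr rfl this]
    simp only [Complex.conj_natCast, Finset.sum_const, nsmul_eq_mul, mul_one]
    push_cast
    ring
  -- the dual group of K/L
  have hQc : ∀ a b : ↥K ⧸ L.subgroupOf K, a * b = b * a := by
    intro a b
    induction a using QuotientGroup.induction_on with
    | _ a =>
    induction b using QuotientGroup.induction_on with
    | _ b =>
    rw [← QuotientGroup.mk_mul, ← QuotientGroup.mk_mul, QuotientGroup.eq]
    rw [Subgroup.mem_subgroupOf]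
    have h1 := hab (Subgroup.commutator_mem_commutator (b⁻¹ : K).2 (a⁻¹ : K).2)
    rw [commutatorElement_def] at h1
    have h2 : (((a * b)⁻¹ * (b * a) : K) : G) =
        ((b⁻¹ : K) : G) * ((a⁻¹ : K) : G) * ((b⁻¹ : K) : G)⁻¹ * ((a⁻¹ : K) : G)⁻¹ := by
      simp only [Subgroup.coe_mul, Subgroup.coe_inv]
      group
    rw [h2]
    exact h1
  haveI : Finite ((↥K ⧸ L.subgroupOf K) →* ℂˣ) := Cfsg.Agent.Helper8.finite_hom_units hQc
  haveI : Fintype ((↥K ⧸ L.subgroupOf K) →* ℂˣ) := Fintype.ofFinite _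
  obtain ⟨U, hU⟩ : ∃ U, U = Finset.univ.filter (fun lam : (↥K ⧸ L.subgroupOf K) →* ℂˣ =>
        (fun k : K => ((lam (k : ↥K ⧸ L.subgroupOf K) : ℂˣ) : ℂ) * θ k) = θ) := ⟨_, rfl⟩
  have hUnorm : classInner (resKL K L hLK.le θ) (resKL K L hLK.le θ) = (U.card : ℂ) := by
    have h1 := classInner_restrict_eq_card_stab (L.subgroupOf K) hQc θ hθ
    rw [← hU] at h1
    rw [← h1]
    exact (classInner_comp_mulEquiv (Subgroup.subgroupOfEquivOfLe hLK.le) _ _).symm
  have hcardeq : e ^ 2 * Ω.card = U.card := by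
    have := hnorm.symm.trans hUnorm
    exact_mod_cast this
  have hΛcard : Fintype.card ((↥K ⧸ L.subgroupOf K) →* ℂˣ) = L.relIndex K := by
    rw [← Nat.card_eq_fintype_card, card_hom_units hQc, ← Subgroup.index_eq_card]
    rfl
  have hUle : U.card ≤ L.relIndex K := by
    rw [← hΛcard, hU]
    exact Finset.card_filter_le _ _
  -- the inertia group
  have hTn := inertia_inf_normal K L hLK.le hab hθ hinv hφ hconst
  have hLT : L ≤ inertiaSubgroup L φ ⊓ K :=
    le_inf (le_inertiaSubgroup L φ (IsCharacter.isClassFunction (IsIrrCharacter.isCharacter hφ)))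
      hLK.le
  have hidx0 : L.relIndex K ≠ 0 := by
    show (L.subgroupOf K).index ≠ 0
    exact Subgroup.index_ne_zero_of_finite
  rcases hchief _ hTn hLT inf_le_right with hT | hT
  · -- T = L : case (c)
    right; right
    have h1 : Ω.card = L.relIndex K := by
      rw [hΩcard, ← Subgroup.inf_relIndex_right, hT]
    have h2 : e = 1 := by
      rw [h1] at hcardeq
      have h3 : e ^ 2 * L.relIndex K ≤ 1 * L.relIndex K := by
        rw [hcardeq, one_mul]; exact hUle
      have h4 : e ^ 2 ≤ 1 := Nat.le_of_mul_le_mul_right h3 (Nat.pos_of_ne_zero hidx0)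
      have h5 : e ≤ 1 := by nlinarith
      omega
    refine ⟨Ω, hΩirr, h1, ?_⟩
    rw [hcl, h2]
    simp
  · -- T = K
    have hΩ1 : Ω = {φ} := by
      rw [hΩ]
      ext ψ
      simp only [Finset.mem_image, Finset.mem_univ, true_and, Finset.mem_singleton]
      have hk : ∀ k : K, conjFun L φ (k : G) = φ := by
        intro k
        have : (k : G) ∈ inertiaSubgroup L φ ⊓ K := by rw [hT]; exact k.2
        exact this.1
      constructor
      · rintro ⟨k, rfl⟩
        exact hk k
      · rintro rfl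
        exact ⟨1, hk 1⟩
    rw [hΩ1, Finset.sum_singleton] at hcl
    rw [hΩ1, Finset.card_singleton, mul_one] at hcardeq
    -- the subgroup generated by the support of θ
    obtain ⟨S, hS⟩ : ∃ S : Set G, S = {g : G | ∃ h : g ∈ K, θ ⟨g, h⟩ ≠ 0} := ⟨_, rfl⟩
    have hSK : S ⊆ K := by
      intro g hg
      rw [hS] at hg
      exact hg.1
    have hMn : (Subgroup.normalClosure S ⊔ L).Normal := inferInstance
    have hMK : Subgroup.normalClosure S ⊔ L ≤ K :=
      sup_le (Subgroup.normalClosure_le_normal hSK) hLK.le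
    have hmemU : ∀ lam : (↥K ⧸ L.subgroupOf K) →* ℂˣ, lam ∈ U ↔
        (fun k : K => ((lam (k : ↥K ⧸ L.subgroupOf K) : ℂˣ) : ℂ) * θ k) = θ := by
      intro lam
      rw [hU, Finset.mem_filter]
      simp
    rcases hchief _ hMn le_sup_right hMK with hM | hM
    · -- θ vanishes off L : case (b)
      right; left
      refine ⟨φ, e, hφ, hcl, ?_⟩
      rw [hcardeq, ← hΛcard, ← Finset.card_univ]
      congr 1
      apply Finset.eq_univ_of_forall
      intro lam
      rw [hmemU]
      funext k
      by_cases hk0 : θ k = 0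
      · rw [hk0, mul_zero]
      · have hkS : (k : G) ∈ S := by
          rw [hS]
          exact ⟨k.2, hk0⟩
        have hkL : (k : G) ∈ L := by
          rw [← hM]
          exact (le_sup_left : Subgroup.normalClosure S ≤ _) (Subgroup.subset_normalClosure hkS)
        have h1 : ((k : K) : ↥K ⧸ L.subgroupOf K) = 1 := by
          rw [QuotientGroup.eq_one_iff, Subgroup.mem_subgroupOf]
          exact hkL
        rw [h1, map_one, Units.val_one, one_mul]
    · -- the support generates K : case (a)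
      left
      have hU1 : U = {1} := by
        ext lam
        rw [hmemU, Finset.mem_singleton]
        constructor
        · intro hlam
          -- the subgroup where lam is trivial
          have hle : Subgroup.normalClosure S ⊔ L ≤
              (MonoidHom.ker (lam.comp (QuotientGroup.mk' (L.subgroupOf K)))).map K.subtype := by
            apply sup_le
            · apply (Subgroup.closure_le _).mpr
              intro a ha
              obtain ⟨b, hb, hba⟩ := Group.mem_conjugatesOfSet_iff.mp ha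
              obtain ⟨c, hc⟩ := isConj_iff.mp hba
              rw [hS] at hb
              obtain ⟨hbK, hb0⟩ := hb
              have haK : a ∈ K := by rw [← hc]; exact hK.conj_mem b hbK c
              have ha0 : θ ⟨a, haK⟩ ≠ 0 := by
                have := hinv c ⟨b, hbK⟩
                simp only [hc] at this
                rw [this]
                exact hb0
              refine ⟨⟨a, haK⟩, ?_, rfl⟩
              rw [SetLike.mem_coe, MonoidHom.mem_ker]
              have h2 := congrFun hlam ⟨a, haK⟩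
              have h3 : ((lam ((⟨a, haK⟩ : K) : ↥K ⧸ L.subgroupOf K) : ℂˣ) : ℂ) = 1 := by
                have h4 : (((lam ((⟨a, haK⟩ : K) : ↥K ⧸ L.subgroupOf K) : ℂˣ) : ℂ) - 1) *
                    θ ⟨a, haK⟩ = 0 := by
                  rw [sub_mul, h2, one_mul, sub_self]
                rcases mul_eq_zero.mp h4 with h5 | h5
                · exact sub_eq_zero.mp h5
                · exact absurd h5 ha0
              exact Units.ext h3
            · intro x hx
              refine ⟨⟨x, hLK.le hx⟩, ?_, rfl⟩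
              rw [SetLike.mem_coe, MonoidHom.mem_ker]
              show lam (((⟨x, hLK.le hx⟩ : K)) : ↥K ⧸ L.subgroupOf K) = 1
              have h1 : (((⟨x, hLK.le hx⟩ : K)) : ↥K ⧸ L.subgroupOf K) = 1 := by
                rw [QuotientGroup.eq_one_iff, Subgroup.mem_subgroupOf]
                exact hx
              rw [h1, map_one]
          rw [hM] at hle
          apply MonoidHom.ext
          intro q
          induction q using QuotientGroup.induction_on with
          | _ k =>
          obtain ⟨k', hk', hkk'⟩ := hle k.2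
          have : k' = k := Subtype.ext hkk'
          rw [this, SetLike.mem_coe, MonoidHom.mem_ker] at hk'
          exact hk'
        · rintro rfl
          funext k
          simp
      rw [hU1, Finset.card_singleton] at hcardeq
      have he1 : e = 1 := by
        have h5 : e ≤ 1 := by nlinarith
        omega
      rw [hcl, he1]
      simpa using hφ

end Cfsg.Agent.Helper24.GoingDown
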