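import Mathlib
import Cfsg.Prelude.Def_Characters
import Cfsg.Agent.Helper24.GoingDown
import Cfsg.Agent.Helper24.CliffordCorr
import Cfsg.Agent.Helper24.IndMore

/-!
Relative M-characters (Isaacs 6.22).
-/

set_option autoImplicit false

namespace Cfsg.Agent.Helper24.RelativeM

open Cfsg Cfsg.Agent.Helper24 Cfsg.Agent.Helper24.GoingDown

universe u

/-- the hypothesis on chief factors of subgroups -/
def ChiefHyp (G : Type u) [Group G] (N : Subgroup G) : Prop :=
  ∀ (H K L : Subgroup G), N ≤ L → L < K → K ≤ H → (∀ h ∈ H, ∀ k ∈ K, h * k * h⁻¹ ∈ K) →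
    (∀ h ∈ H, ∀ l ∈ L, h * l * h⁻¹ ∈ L) →
    (∀ M : Subgroup G, L ≤ M → M ≤ K → (∀ h ∈ H, ∀ m ∈ M, h * m * h⁻¹ ∈ M) → M = L ∨ M = K) →
    ¬ IsSquare (L.relIndex K)

/-- `χ` is a relative M-character with respect to `N`. -/
def RelM (G : Type u) [Group G] [Fintype G] (N : Subgroup G) (χ : G → ℂ) : Prop :=
  ∃ (H : Subgroup G) (hNH : N ≤ H) (ψ : H → ℂ), IsIrrCharacter H ψ ∧ indFun H ψ = χ ∧
    IsIrrCharacter N (fun n : N => ψ ⟨(n : G), hNH n.2⟩)

theorem chiefHyp_subgroup {G : Type u} [Group G] (N T : Subgroup G) (hNT : N ≤ T)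
    (h : ChiefHyp G N) : ChiefHyp ↥T (N.subgroupOf T) := by
  intro H' K' L' hNL hLK hKH hnK hnL hchief
  have hinj : Function.Injective T.subtype := Subtype.val_injective
  rw [← Subgroup.relIndex_map_map_of_injective L' K' hinj]
  have hKT : K'.map T.subtype ≤ T := Subgroup.map_subtype_le K'
  refine h (H'.map T.subtype) (K'.map T.subtype) (L'.map T.subtype) ?_ ?_ ?_ ?_ ?_ ?_
  · intro n hn
    exact ⟨⟨n, hNT hn⟩, hNL (Subgroup.mem_subgroupOf.mpr hn), rfl⟩
  · exact (Subgroup.map_lt_map_iff_of_injective hinj).mpr hLK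
  · exact Subgroup.map_mono hKH
  · rintro _ ⟨h', hh', rfl⟩ _ ⟨k', hk', rfl⟩
    exact ⟨h' * k' * h'⁻¹, hnK h' hh' k' hk', by simp⟩
  · rintro _ ⟨h', hh', rfl⟩ _ ⟨k', hk', rfl⟩
    exact ⟨h' * k' * h'⁻¹, hnL h' hh' k' hk', by simp⟩
  · intro M hLM hMK hMn
    have hMT : M ≤ T := hMK.trans hKT
    have h1 : L' ≤ M.subgroupOf T := by
      intro x hx
      exact Subgroup.mem_subgroupOf.mpr (hLM ⟨x, hx, rfl⟩)
    have h2 : M.subgroupOf T ≤ K' := by
      intro x hx
      obtain ⟨k', hk', hkx⟩ := hMK (Subgroup.mem_subgroupOf.mp hx)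
      have : k' = x := Subtype.ext hkx
      rwa [← this]
    have h3 : ∀ h ∈ H', ∀ m ∈ M.subgroupOf T, h * m * h⁻¹ ∈ M.subgroupOf T := by
      intro h' hh' m hm
      rw [Subgroup.mem_subgroupOf]
      have := hMn (h' : G) ⟨h', hh', rfl⟩ (m : G) (Subgroup.mem_subgroupOf.mp hm)
      simpa using this
    rcases hchief (M.subgroupOf T) h1 h2 h3 with h4 | h4
    · left
      rw [← h4, Subgroup.map_subgroupOf_eq_of_le hMT]
    · right
      rw [← h4, Subgroup.map_subgroupOf_eq_of_le hMT]

theorem relM_lift {G : Type u} [Group G] [Fintype G] (N T : Subgroup G) [Fintype T] (hNT : N ≤ T)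
    (ψ : T → ℂ) (h : RelM ↥T (N.subgroupOf T) ψ) : RelM G N (indFun T ψ) := by
  obtain ⟨H', hNH', η, hη, hind, hηN⟩ := h
  let iso : H' ≃* H'.map T.subtype := Subgroup.equivMapOfInjective H' T.subtype Subtype.val_injective
  have hiso : ∀ x : H', ((iso x : H'.map T.subtype) : G) = ((x : T) : G) := fun x => rfl
  have hNH : N ≤ H'.map T.subtype := by
    intro n hn
    exact ⟨⟨n, hNT hn⟩, hNH' (Subgroup.mem_subgroupOf.mpr hn), rfl⟩
  refine ⟨H'.map T.subtype, hNH, fun y => η (iso.symm y), ?_, ?_, ?_⟩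
  · exact Cfsg.Agent.Helper8.isIrrCharacter_comp_surjective iso.symm.toMonoidHom iso.symm.surjective hη
  · rw [← indFun_trans_map T H' (fun y => η (iso.symm y)), ← hind]
    congr 2
    funext k
    congr 1
    rw [MulEquiv.symm_apply_eq]
    exact Subtype.ext rfl
  · let ι : ↥(N.subgroupOf T) ≃* ↥N := Subgroup.subgroupOfEquivOfLe hNT
    have := Cfsg.Agent.Helper8.isIrrCharacter_comp_surjective ι.symm.toMonoidHom ι.symm.surjective hηN
    convert this using 2
    rename_i n
    show η (iso.symm _) = η _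
    congr 1
    rw [MulEquiv.symm_apply_eq]
    exact Subtype.ext rfl

theorem isSolvable_quotient_subgroupOf {G : Type u} [Group G] (N T : Subgroup G) [N.Normal]
    (h : Group.IsSolvable (G ⧸ N)) : Group.IsSolvable (↥T ⧸ N.subgroupOf T) := by
  let f : ↥T ⧸ N.subgroupOf T →* G ⧸ N :=
    QuotientGroup.map (N.subgroupOf T) N T.subtype (le_refl _)
  have hf : Function.Injective f := by
    rw [injective_iff_map_eq_one]
    intro q hq
    induction q using QuotientGroup.induction_on with
    | _ x =>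
    have h1 : f (x : ↥T ⧸ N.subgroupOf T) = ((x : G) : G ⧸ N) := rfl
    rw [h1, QuotientGroup.eq_one_iff] at hq
    rw [QuotientGroup.eq_one_iff, Subgroup.mem_subgroupOf]
    exact hq
  exact Group.isSolvable_of_isSolvable_injective hf

/-- a chief factor above `N` of a group with `G/N` solvable is abelian. -/
theorem commutator_le_of_chief {G : Type u} [Group G] (N K L : Subgroup G) [N.Normal]
    [hK : K.Normal] [hL : L.Normal] (hsolv : Group.IsSolvable (G ⧸ N)) (hNL : N ≤ L) (hLK : L < K)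
    (hchief : ∀ M : Subgroup G, M.Normal → L ≤ M → M ≤ K → M = L ∨ M = K) : ⁅K, K⁆ ≤ L := by
  have hMn : (⁅K, K⁆ ⊔ L).Normal := inferInstance
  have hcK : ⁅K, K⁆ ≤ K := Subgroup.commutator_le_right K K
  rcases hchief _ hMn le_sup_right (sup_le hcK hLK.le) with h | h
  · rw [← h]
    exact le_sup_left
  · exfalso
    -- G/L is solvable
    let f : G ⧸ N →* G ⧸ L := QuotientGroup.map N L (MonoidHom.id G) hNL
    have hf : Function.Surjective f := by
      intro q
      induction q using QuotientGroup.induction_on with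
      | _ x => exact ⟨(x : G ⧸ N), rfl⟩
    haveI : Group.IsSolvable (G ⧸ L) := Group.isSolvable_of_surjective hf
    have hne : K.map (QuotientGroup.mk' L) ≠ ⊥ := by
      intro h0
      rw [Subgroup.map_eq_bot_iff, QuotientGroup.ker_mk'] at h0
      exact absurd h0 (not_le_of_gt hLK)
    have hlt := Group.IsSolvable.commutator_lt_of_ne_bot hne
    rw [← Subgroup.map_commutator] at hlt
    have h2 : (⁅K, K⁆).map (QuotientGroup.mk' L) = (⁅K, K⁆ ⊔ L).map (QuotientGroup.mk' L) := by
      rw [Subgroup.map_sup]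
      have : L.map (QuotientGroup.mk' L) = ⊥ := by
        rw [Subgroup.map_eq_bot_iff, QuotientGroup.ker_mk']
      rw [this, sup_bot_eq]
    rw [h2, h] at hlt
    exact lt_irrefl _ hlt

/-- **Isaacs 6.22**: relative M-characters. -/
theorem relM_of_chiefHyp : ∀ (n : ℕ) (G : Type u) [Group G] [Fintype G] (N : Subgroup G)
    [N.Normal], Nat.card G = n → Group.IsSolvable (G ⧸ N) → ChiefHyp G N →
    ∀ χ : G → ℂ, IsIrrCharacter G χ → RelM G N χ := by
  intro n
  induction n using Nat.strong_induction_on with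
  | _ n ih =>
  intro G _ _ N hNn hcard hsolv hchief χ hχ
  classical
  haveI : Fintype N := Fintype.ofFinite _
  have hχc : IsClassFunction G χ := IsCharacter.isClassFunction (IsIrrCharacter.isCharacter hχ)
  by_cases hirr : IsIrrCharacter N (fun n : N => χ n)
  · refine ⟨⊤, le_top, fun h => χ h, ?_, indFun_top_restrict χ hχc, hirr⟩
    exact Cfsg.Agent.Helper8.isIrrCharacter_comp_surjective
      (Subgroup.topEquiv : (⊤ : Subgroup G) ≃* G).toMonoidHom Subgroup.topEquiv.surjective hχ
  -- a minimal normal subgroup K above N with χ_K irreducible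
  have htop : IsIrrCharacter (⊤ : Subgroup G) (fun k : (⊤ : Subgroup G) => χ k) :=
    Cfsg.Agent.Helper8.isIrrCharacter_comp_surjective
      (Subgroup.topEquiv : (⊤ : Subgroup G) ≃* G).toMonoidHom Subgroup.topEquiv.surjective hχ
  obtain ⟨K, ⟨hKn, hNK, hKirr⟩, hKmin⟩ := exists_minimal_of_wellFoundedLT
    (fun K : Subgroup G => K.Normal ∧ N ≤ K ∧ IsIrrCharacter K (fun k : K => χ k))
    ⟨⊤, inferInstance, le_top, htop⟩
  have hNK' : N < K := by
    refine lt_of_le_of_ne hNK ?_
    rintro rfl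
    exact hirr hKirr
  -- a maximal normal subgroup L of G with N ≤ L < K
  obtain ⟨L, ⟨hLn, hNL, hLK⟩, hLmax⟩ := exists_maximal_of_wellFoundedGT
    (fun L : Subgroup G => L.Normal ∧ N ≤ L ∧ L < K) ⟨N, hNn, le_rfl, hNK'⟩
  have chief' : ∀ M : Subgroup G, M.Normal → L ≤ M → M ≤ K → M = L ∨ M = K := by
    intro M hMn hLM hMK
    by_cases hMK' : M = K
    · right; exact hMK'
    · left
      exact le_antisymm (hLmax ⟨hMn, hNL.trans hLM, lt_of_le_of_ne hMK hMK'⟩ hLM) hLM
  have hab := commutator_le_of_chief N K L hsolv hNL hLK chief'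
  rcases going_down K L hLK chief' hab (fun k : K => χ k) hKirr (fun g n => hχc (n : G) g) with
    ha | ⟨φ, e, hφ, he, hsq⟩ | ⟨F, hFirr, hFcard, hFsum⟩
  · exact absurd (hKmin ⟨hLn, hNL, ha⟩ hLK.le) (not_le_of_gt hLK)
  · exfalso
    refine hchief ⊤ K L hNL hLK le_top (fun h _ k hk => hKn.conj_mem k hk h)
      (fun h _ k hk => hLn.conj_mem k hk h) ?_ ⟨e, by rw [← hsq, sq]⟩
    intro M hLM hMK hMn
    exact chief' M ⟨fun m hm g => hMn g (Subgroup.mem_top g) m hm⟩ hLM hMK
  · haveI : Fintype L := Fintype.ofFinite _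
    have hF2 : 1 < F.card := by
      rw [hFcard]
      by_contra hcon
      have h0 : L.relIndex K ≠ 0 := by
        show (L.subgroupOf K).index ≠ 0
        exact Subgroup.index_ne_zero_of_finite
      have h1 : L.relIndex K = 1 := by omega
      exact absurd (Subgroup.relIndex_eq_one.mp h1) (not_le_of_gt hLK)
    obtain ⟨φ₁, hφ₁, φ₂, hφ₂, hne⟩ := Finset.one_lt_card.mp hF2
    have hsum : (fun x : L => χ x) = ∑ φ ∈ F, φ := hFsum
    have hinner : ∀ φ ∈ F, classInner (fun x : L => χ x) φ = 1 := by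
      intro φ hφ
      rw [hsum, classInner_sum_left, Finset.sum_eq_single φ]
      · rw [classInner_of_isIrrCharacter (hFirr φ hφ) (hFirr φ hφ), if_pos rfl]
      · intro φ' hφ' hne'
        rw [classInner_of_isIrrCharacter (hFirr φ' hφ') (hFirr φ hφ), if_neg hne']
      · intro h
        exact absurd hφ h
    have hconst : classInner (fun x : L => χ x) φ₁ ≠ 0 := by
      rw [hinner φ₁ hφ₁]; exact one_ne_zero
    haveI : Fintype (inertiaSubgroup L φ₁) := Fintype.ofFinite _
    obtain ⟨ψ, hψ, hind⟩ := exists_irr_inertia_indFun_eq L χ hχ φ₁ (hFirr φ₁ hφ₁) hconst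
    have hT : inertiaSubgroup L φ₁ ≠ ⊤ := by
      intro hT
      have hcl := clifford_finset L hχ (hFirr φ₁ hφ₁) hconst
      have himg : Finset.univ.image (conjFun L φ₁) = {φ₁} := by
        ext ψ'
        simp only [Finset.mem_image, Finset.mem_univ, true_and, Finset.mem_singleton]
        have hg : ∀ g : G, conjFun L φ₁ g = φ₁ := by
          intro g
          have : g ∈ inertiaSubgroup L φ₁ := by rw [hT]; exact Subgroup.mem_top g
          exact this
        constructor
        · rintro ⟨g, rfl⟩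
          exact hg g
        · rintro rfl
          exact ⟨1, hg 1⟩
      rw [himg, Finset.sum_singleton] at hcl
      have h2 := hinner φ₂ hφ₂
      rw [hcl, classInner_smul_left,
        classInner_of_isIrrCharacter (hFirr φ₁ hφ₁) (hFirr φ₂ hφ₂), if_neg hne, mul_zero] at h2
      exact zero_ne_one h2
    have hNT : N ≤ inertiaSubgroup L φ₁ :=
      hNL.trans (le_inertiaSubgroup L φ₁
        (IsCharacter.isClassFunction (IsIrrCharacter.isCharacter (hFirr φ₁ hφ₁))))
    have hcardT : Nat.card (inertiaSubgroup L φ₁) < n := by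
      rw [← hcard]
      refine lt_of_le_of_ne (Subgroup.card_le_card_group _) ?_
      intro h
      exact hT (Subgroup.eq_top_of_card_eq _ h)
    have hrel := ih (Nat.card (inertiaSubgroup L φ₁)) hcardT ↥(inertiaSubgroup L φ₁)
      (N.subgroupOf (inertiaSubgroup L φ₁)) rfl
      (isSolvable_quotient_subgroupOf N _ hsolv) (chiefHyp_subgroup N _ hNT hchief) ψ hψ
    rw [← hind]
    exact relM_lift N _ hNT ψ hrel

end Cfsg.Agent.Helper24.RelativeM
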