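import Mathlib
import Cfsg.Prelude.Def_Blocks
import Cfsg.Agent.Helper24.Codegree
import Cfsg.Agent.Helper24.Restrict
import Cfsg.Agent.Helper24.Induced
import Cfsg.Agent.Helper5.IndFun
import Cfsg.Agent.Helper8.Ind
import Cfsg.Agent.Helper8.CharComp

/-!
Irreducible characters of `p`-power codegree are induced from Sylow `p`-subgroups.
-/

namespace Cfsg.Agent.Helper24

open Cfsg Representation Module

universe u

section SylowInduced

variable {G : Type u} [Group G] [Fintype G]

/-- A character containing the irreducible `χ` and of the same degree equals `χ`. -/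
theorem IsCharacter.eq_irr_of_constituent_of_deg [Fintype (IrrCharacter G)] {ψ : G → ℂ}
    (hψ : IsCharacter G ψ) (χ : IrrCharacter G) (hne : classInner ψ (χ : G → ℂ) ≠ 0)
    (h1 : ψ 1 = (χ : G → ℂ) 1) : ψ = (χ : G → ℂ) := by
  classical
  obtain ⟨n, hn⟩ := IsCharacter.exists_nat_coeff hψ
  have hcoef : classInner ψ (χ : G → ℂ) = n χ := by
    rw [hn]; exact classInner_sum_irr _ χ
  have hnχ : n χ ≠ 0 := by
    intro h0
    rw [hcoef, h0] at hne
    exact hne (by simp)
  have h2 : (irrDeg χ : ℂ) = ((∑ φ : IrrCharacter G, n φ * irrDeg φ : ℕ) : ℂ) := by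
    rw [← irrDeg_spec, ← h1, hn, Finset.sum_apply]
    push_cast
    refine Finset.sum_congr rfl ?_
    intro φ _
    rw [Pi.smul_apply, smul_eq_mul, irrDeg_spec]
  have h3 : irrDeg χ = ∑ φ : IrrCharacter G, n φ * irrDeg φ := by exact_mod_cast h2
  rw [← Finset.add_sum_erase _ _ (Finset.mem_univ χ)] at h3
  have hpos := irrDeg_pos χ
  have h4 : n χ = 1 ∧ ∑ φ ∈ Finset.univ.erase χ, n φ * irrDeg φ = 0 := by
    have h6 : 1 ≤ n χ := Nat.pos_of_ne_zero hnχ
    have h7 : irrDeg χ ≤ n χ * irrDeg χ := Nat.le_mul_of_pos_left _ h6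
    have h8 : n χ = 1 := by
      by_contra hc
      have h9 : 2 ≤ n χ := by omega
      have h10 : 2 * irrDeg χ ≤ n χ * irrDeg χ := Nat.mul_le_mul_right _ h9
      omega
    refine ⟨h8, ?_⟩
    rw [h8, one_mul] at h3
    omega
  have h5 : ∀ φ : IrrCharacter G, φ ≠ χ → n φ = 0 := by
    intro φ hφ
    have := (Finset.sum_eq_zero_iff.mp h4.2) φ (Finset.mem_erase.mpr ⟨hφ, Finset.mem_univ _⟩)
    rcases Nat.mul_eq_zero.mp this with h | h
    · exact h
    · exact absurd h (irrDeg_pos φ).ne'
  rw [hn, Finset.sum_eq_single χ]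
  · rw [h4.1]; simp
  · intro φ _ hφ
    rw [h5 φ hφ]; simp
  · intro h; exact absurd (Finset.mem_univ _) h

/-- If `θ ∈ Irr(P)` is a constituent of `χ_P`, then `χ(1) ≤ |G:P| θ(1)`. -/
theorem irrDeg_le_index_mul_of_constituent [Fintype (IrrCharacter G)] (P : Subgroup G)
    [Fintype P] (χ : IrrCharacter G) (θ : IrrCharacter P)
    (hne : classInner (θ : P → ℂ) (fun h : P => (χ : G → ℂ) h) ≠ 0) :
    irrDeg χ ≤ P.index * irrDeg θ := by
  have h1 : IsCharacter G (indFun P (θ : P → ℂ)) :=
    isCharacter_indFun P (IsIrrCharacter.isCharacter θ.2)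
  have h2 : classInner (indFun P (θ : P → ℂ)) (χ : G → ℂ) ≠ 0 := by
    rw [Helper8.frobenius_reciprocity P _ _ (isClassFunction_irr χ)]
    exact hne
  apply irrDeg_le_of_constituent h1 χ h2
  rw [Helper5.indFun_apply_one, irrDeg_spec]
  push_cast
  rfl

/-- An irreducible character has `p`-power "codegree" `|G| / χ(1)` iff it is induced from a
character of a Sylow `p`-subgroup. -/
theorem card_eq_pow_mul_charDegree_iff (p : ℕ) [hp : Fact p.Prime] (χ : IrrCharacter G) :
    (∃ k : ℕ, Nat.card G = p ^ k * charDegree (χ : G → ℂ)) ↔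
      ∃ (P : Sylow p G) (θ : ↥(P : Subgroup G) → ℂ), IsCharacter ↥(P : Subgroup G) θ ∧
        (χ : G → ℂ) = indFun (P : Subgroup G) θ := by
  classical
  haveI : Fintype (IrrCharacter G) := Fintype.ofFinite _
  rw [charDegree_irr]
  constructor
  · rintro ⟨k, hk⟩
    obtain ⟨P⟩ : Nonempty (Sylow p G) := inferInstance
    haveI : Fintype (P : Subgroup G) := Fintype.ofFinite _
    haveI : Fintype (IrrCharacter (P : Subgroup G)) := Fintype.ofFinite _
    set b := (Nat.card G).factorization p with hb
    have hPcard : Nat.card (P : Subgroup G) = p ^ b := P.card_eq_multiplicity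
    have hidx : ¬ p ∣ (P : Subgroup G).index := P.not_dvd_index
    have hidxpos : 0 < (P : Subgroup G).index :=
      Nat.pos_of_ne_zero Subgroup.index_ne_zero_of_finite
    have hG : Nat.card G = p ^ b * (P : Subgroup G).index := by
      rw [← hPcard, Subgroup.card_mul_index]
    have hcop : ∀ j, Nat.Coprime ((P : Subgroup G).index) (p ^ j) := fun j =>
      Nat.Coprime.pow_right _ ((Nat.Prime.coprime_iff_not_dvd hp.out).mpr hidx).symm
    have h1 : (P : Subgroup G).index ∣ irrDeg χ := by
      have : (P : Subgroup G).index ∣ p ^ k * irrDeg χ := by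
        rw [← hk, hG]; exact dvd_mul_left _ _
      exact (hcop k).dvd_of_dvd_mul_left this
    obtain ⟨c, hc⟩ := h1
    have h2 : p ^ k * c = p ^ b := by
      have : (P : Subgroup G).index * (p ^ k * c) = (P : Subgroup G).index * p ^ b := by
        rw [mul_comm _ (p ^ b), ← hG, hk, hc]; ring
      exact Nat.eq_of_mul_eq_mul_left hidxpos this
    obtain ⟨a, -, ha⟩ := (Nat.dvd_prime_pow hp.out).mp (Dvd.intro_left _ h2)
    rw [ha] at hc
    -- the restriction
    have hres : IsCharacter (P : Subgroup G) (fun h : (P : Subgroup G) => (χ : G → ℂ) h) :=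
      Helper8.isCharacter_restrict _ (IsIrrCharacter.isCharacter χ.2)
    obtain ⟨n, hn⟩ := IsCharacter.exists_nat_coeff hres
    have hcoef : ∀ θ : IrrCharacter (P : Subgroup G),
        classInner (fun h : (P : Subgroup G) => (χ : G → ℂ) h) (θ : ↥(P : Subgroup G) → ℂ) = n θ := by
      intro θ
      rw [hn]; exact classInner_sum_irr _ θ
    have hdeg : irrDeg χ = ∑ θ : IrrCharacter (P : Subgroup G), n θ * irrDeg θ := by
      have h3 : (irrDeg χ : ℂ) =
          ((∑ θ : IrrCharacter (P : Subgroup G), n θ * irrDeg θ : ℕ) : ℂ) := by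
        rw [← irrDeg_spec]
        have := congrFun hn 1
        simp only [OneMemClass.coe_one] at this
        rw [this, Finset.sum_apply]
        push_cast
        refine Finset.sum_congr rfl ?_
        intro φ _
        rw [Pi.smul_apply, smul_eq_mul, irrDeg_spec]
      exact_mod_cast h3
    have hex : ∃ θ : IrrCharacter (P : Subgroup G), n θ ≠ 0 ∧ irrDeg θ = p ^ a := by
      by_contra hcon
      push Not at hcon
      have hall : ∀ θ : IrrCharacter (P : Subgroup G), p ^ (a + 1) ∣ n θ * irrDeg θ := by
        intro θ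
        by_cases hθ : n θ = 0
        · rw [hθ, zero_mul]; exact dvd_zero _
        · have hne : classInner (θ : ↥(P : Subgroup G) → ℂ)
              (fun h : (P : Subgroup G) => (χ : G → ℂ) h) ≠ 0 := by
            rw [← classInner_conj_symm, hcoef]
            simpa using hθ
          have hle := irrDeg_le_index_mul_of_constituent (P : Subgroup G) χ θ hne
          rw [hc] at hle
          have hle' : p ^ a ≤ irrDeg θ := Nat.le_of_mul_le_mul_left hle hidxpos
          have hdvd := irrDeg_dvd_card θ
          rw [hPcard] at hdvd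
          obtain ⟨c', -, hc'⟩ := (Nat.dvd_prime_pow hp.out).mp hdvd
          rw [hc'] at hle'
          have hac : a ≤ c' := (Nat.pow_le_pow_iff_right hp.out.one_lt).mp hle'
          have hne' : a ≠ c' := by
            intro h
            apply hcon θ hθ
            rw [hc', h]
          have : a + 1 ≤ c' := by omega
          rw [hc']
          exact Dvd.dvd.mul_left (pow_dvd_pow p this) _
      have h4 : p ^ (a + 1) ∣ irrDeg χ := by
        rw [hdeg]; exact Finset.dvd_sum fun θ _ => hall θ
      rw [hc, pow_succ, mul_comm ((P : Subgroup G).index)] at h4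
      have h5 := Nat.dvd_of_mul_dvd_mul_left (pow_pos hp.out.pos a) h4
      exact hidx h5
    obtain ⟨θ, hθn, hθd⟩ := hex
    refine ⟨P, (θ : ↥(P : Subgroup G) → ℂ), IsIrrCharacter.isCharacter θ.2, ?_⟩
    symm
    apply IsCharacter.eq_irr_of_constituent_of_deg
      (isCharacter_indFun _ (IsIrrCharacter.isCharacter θ.2)) χ
    · rw [Helper8.frobenius_reciprocity _ _ _ (isClassFunction_irr χ), ← classInner_conj_symm,
        hcoef]
      simpa using hθn
    · rw [Helper5.indFun_apply_one, irrDeg_spec, irrDeg_spec, hθd, hc]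
      push_cast; ring
  · rintro ⟨P, θ, hθ, hχ⟩
    haveI : Fintype (P : Subgroup G) := Fintype.ofFinite _
    haveI : Fintype (IrrCharacter (P : Subgroup G)) := Fintype.ofFinite _
    set b := (Nat.card G).factorization p with hb
    have hPcard : Nat.card (P : Subgroup G) = p ^ b := P.card_eq_multiplicity
    have hidxpos : 0 < (P : Subgroup G).index :=
      Nat.pos_of_ne_zero Subgroup.index_ne_zero_of_finite
    have hG : Nat.card G = p ^ b * (P : Subgroup G).index := by
      rw [← hPcard, Subgroup.card_mul_index]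
    obtain ⟨m, hm⟩ := IsCharacter.exists_nat_coeff hθ
    have ht : θ 1 = ((∑ φ : IrrCharacter (P : Subgroup G), m φ * irrDeg φ : ℕ) : ℂ) := by
      rw [hm, Finset.sum_apply]
      push_cast
      refine Finset.sum_congr rfl ?_
      intro φ _
      rw [Pi.smul_apply, smul_eq_mul, irrDeg_spec]
    set t := ∑ φ : IrrCharacter (P : Subgroup G), m φ * irrDeg φ with htdef
    have hdt : irrDeg χ = (P : Subgroup G).index * t := by
      have : (irrDeg χ : ℂ) = (((P : Subgroup G).index * t : ℕ) : ℂ) := by
        rw [← irrDeg_spec, hχ, Helper5.indFun_apply_one, ht]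
        push_cast; rfl
      exact_mod_cast this
    have h1 : classInner θ (fun h : (P : Subgroup G) => (χ : G → ℂ) h) = 1 := by
      rw [← Helper8.frobenius_reciprocity _ _ _ (isClassFunction_irr χ), ← hχ]
      exact classInner_irr_self χ
    have hex : ∃ ψ : IrrCharacter (P : Subgroup G), m ψ ≠ 0 ∧
        classInner (ψ : ↥(P : Subgroup G) → ℂ) (fun h : (P : Subgroup G) => (χ : G → ℂ) h) ≠ 0 := by
      by_contra hcon
      push Not at hcon
      have : classInner θ (fun h : (P : Subgroup G) => (χ : G → ℂ) h) = 0 := by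
        rw [hm, classInner_sum_left]
        apply Finset.sum_eq_zero
        intro ψ _
        rw [classInner_smul_left]
        by_cases hψ : m ψ = 0
        · rw [hψ]; simp
        · rw [hcon ψ hψ, mul_zero]
      rw [this] at h1
      exact zero_ne_one h1
    obtain ⟨ψ, hψm, hψne⟩ := hex
    have hle := irrDeg_le_index_mul_of_constituent (P : Subgroup G) χ ψ hψne
    have hψθ : classInner θ (ψ : ↥(P : Subgroup G) → ℂ) ≠ 0 := by
      rw [hm, classInner_sum_irr]
      simpa using hψm
    have hle2 : irrDeg ψ ≤ t := irrDeg_le_of_constituent hθ ψ hψθ t ht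
    rw [hdt] at hle
    have hle3 : t ≤ irrDeg ψ := Nat.le_of_mul_le_mul_left hle hidxpos
    have heq : irrDeg ψ = t := le_antisymm hle2 hle3
    have hdvd := irrDeg_dvd_card ψ
    rw [hPcard, heq] at hdvd
    obtain ⟨c, hcb, hc⟩ := (Nat.dvd_prime_pow hp.out).mp hdvd
    refine ⟨b - c, ?_⟩
    rw [hG, hdt, hc]
    have : p ^ b = p ^ (b - c) * p ^ c := by
      rw [← pow_add, Nat.sub_add_cancel hcb]
    rw [this]; ring

end SylowInduced

end Cfsg.Agent.Helper24
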