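import Mathlib
import Cfsg.Prelude.Def_Characters
import Cfsg.Agent.Helper24.RelativeM
import Cfsg.Agent.Helper24.SylowInduced
import Cfsg.Agent.Helper24.Restrict
import Cfsg.Agent.Helper8.CoherenceKernel
import Cfsg.Agent.Helper5.IndFun
import Cfsg.Agent.Helper24.CharBasic

/-!
Relative M-groups (Isaacs 6.23).
-/

set_option autoImplicit false

namespace Cfsg.Agent.Helper24.MGroupRel

open Cfsg Cfsg.Agent.Helper24

universe u

/-- every `p`-subgroup of `N` is abelian (equivalent to: Sylow subgroups of `N` are abelian) -/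
def AbP (G : Type u) [Group G] (N : Subgroup G) : Prop :=
  ∀ (p : ℕ) [Fact p.Prime] (P : Subgroup G), P ≤ N → IsPGroup p P →
    ∀ a ∈ P, ∀ b ∈ P, a * b = b * a

/-- `χ` is monomial. -/
def Mono (G : Type u) [Group G] [Fintype G] (χ : G → ℂ) : Prop :=
  ∃ (U : Subgroup G) (lam : U → ℂ), IsCharacter U lam ∧ lam 1 = 1 ∧ indFun U lam = χ

theorem abP_of_sylow {G : Type u} [Group G] [Finite G] (N : Subgroup G)
    (hab : ∀ (p : ℕ) [Fact p.Prime] (P : Sylow p N), ∀ a ∈ P, ∀ b ∈ P, a * b = b * a) :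
    AbP G N := by
  intro p _ P hPN hP a ha b hb
  have hP' : IsPGroup p (P.subgroupOf N) :=
    hP.comap_of_injective N.subtype Subtype.val_injective
  obtain ⟨Q, hQ⟩ := hP'.exists_le_sylow
  have h1 : (⟨a, hPN ha⟩ : N) ∈ Q := hQ (Subgroup.mem_subgroupOf.mpr ha)
  have h2 : (⟨b, hPN hb⟩ : N) ∈ Q := hQ (Subgroup.mem_subgroupOf.mpr hb)
  have := hab p Q _ h1 _ h2
  exact congrArg Subtype.val this

theorem abP_subgroup {G : Type u} [Group G] (N T : Subgroup G) (h : AbP G N) :
    AbP ↥T (N.subgroupOf T) := by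
  intro p _ P hPN hP a ha b hb
  have hP' : IsPGroup p (P.map T.subtype) := hP.map T.subtype
  have hle : P.map T.subtype ≤ N := by
    rintro _ ⟨x, hx, rfl⟩
    exact Subgroup.mem_subgroupOf.mp (hPN hx)
  have := h p (P.map T.subtype) hle hP' (a : G) ⟨a, ha, rfl⟩ (b : G) ⟨b, hb, rfl⟩
  exact Subtype.ext this

theorem mono_lift {G : Type u} [Group G] [Fintype G] (T : Subgroup G) [Fintype T]
    (ψ : T → ℂ) (h : Mono ↥T ψ) : Mono G (indFun T ψ) := by
  obtain ⟨U', lam, hlam, hlam1, hind⟩ := h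
  let iso : U' ≃* U'.map T.subtype := Subgroup.equivMapOfInjective U' T.subtype Subtype.val_injective
  refine ⟨U'.map T.subtype, fun y => lam (iso.symm y), ?_, ?_, ?_⟩
  · exact Cfsg.Agent.Helper8.isCharacter_comp iso.symm.toMonoidHom hlam
  · show lam (iso.symm 1) = 1
    rw [map_one]; exact hlam1
  · rw [← indFun_trans_map T U' (fun y => lam (iso.symm y)), ← hind]
    congr 2
    funext k
    congr 1
    rw [MulEquiv.symm_apply_eq]
    exact Subtype.ext rfl

/-- the two incarnations of `T ∩ N` -/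
def infIso {G : Type u} [Group G] (N T : Subgroup G) : ↥(N.subgroupOf T) ≃* ↥(T.subgroupOf N) where
  toFun x := ⟨⟨((x : T) : G), Subgroup.mem_subgroupOf.mp x.2⟩,
    Subgroup.mem_subgroupOf.mpr (x : T).2⟩
  invFun y := ⟨⟨((y : N) : G), Subgroup.mem_subgroupOf.mp y.2⟩,
    Subgroup.mem_subgroupOf.mpr (y : N).2⟩
  left_inv _ := rfl
  right_inv _ := rfl
  map_mul' _ _ := rfl

/-- two characters with a common irreducible constituent are not orthogonal -/
theorem classInner_ne_zero_of_common {G : Type u} [Group G] [Fintype G] {a b η : G → ℂ}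
    (ha : IsCharacter G a) (hb : IsCharacter G b) (hη : IsIrrCharacter G η)
    (h1 : classInner a η ≠ 0) (h2 : classInner b η ≠ 0) : classInner a b ≠ 0 := by
  classical
  haveI : Fintype (IrrCharacter G) := Fintype.ofFinite _
  obtain ⟨m, hm⟩ := IsCharacter.exists_nat_coeff ha
  obtain ⟨n, hn⟩ := IsCharacter.exists_nat_coeff hb
  have hmη : classInner a η = m ⟨η, hη⟩ := by
    rw [hm]; exact classInner_sum_irr _ ⟨η, hη⟩
  have hnη : classInner b η = n ⟨η, hη⟩ := by
    rw [hn]; exact classInner_sum_irr _ ⟨η, hη⟩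
  have hm0 : m ⟨η, hη⟩ ≠ 0 := by
    intro h0; rw [hmη, h0] at h1; exact h1 (by simp)
  have hn0 : n ⟨η, hη⟩ ≠ 0 := by
    intro h0; rw [hnη, h0] at h2; exact h2 (by simp)
  rw [hm, hn, classInner_sum_sum]
  have : ∑ χ : IrrCharacter G, (m χ : ℂ) * (starRingEnd ℂ) (n χ : ℂ) =
      ((∑ χ : IrrCharacter G, m χ * n χ : ℕ) : ℂ) := by
    push_cast
    apply Finset.sum_congr rfl
    intro χ _
    rw [Complex.conj_natCast]
  rw [this, Nat.cast_ne_zero]
  have hle : m ⟨η, hη⟩ * n ⟨η, hη⟩ ≤ ∑ χ : IrrCharacter G, m χ * n χ :=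
    Finset.single_le_sum (f := fun χ => m χ * n χ) (fun _ _ => Nat.zero_le _)
      (Finset.mem_univ _)
  have hpos : 0 < m ⟨η, hη⟩ * n ⟨η, hη⟩ := Nat.mul_pos (Nat.pos_of_ne_zero hm0)
    (Nat.pos_of_ne_zero hn0)
  omega

/-- If `ψ ∈ Irr(G)` restricts irreducibly to the normal subgroup `N` and `ψ = ξ^G` with
`ξ ∈ Irr(T)`, then `ξ` restricts irreducibly to `T ∩ N`. -/
theorem irr_restrict_of_indFun {G : Type u} [Group G] [Fintype G] (N T : Subgroup G)
    [hN : N.Normal] [Fintype T] [Fintype N] (ψ : G → ℂ) (hψ : IsIrrCharacter G ψ)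
    (hψN : IsIrrCharacter N (fun x : N => ψ x))
    (ξ : T → ℂ) (hξ : IsIrrCharacter T ξ) (hind : indFun T ξ = ψ) :
    IsIrrCharacter (N.subgroupOf T) (fun x : N.subgroupOf T => ξ x) := by
  classical
  haveI : Fintype (N.subgroupOf T) := Fintype.ofFinite _
  haveI : Fintype (T.subgroupOf N) := Fintype.ofFinite _
  haveI : Fintype (IrrCharacter (N.subgroupOf T)) := Fintype.ofFinite _
  haveI : Fintype (IrrCharacter N) := Fintype.ofFinite _
  haveI : Fintype (IrrCharacter G) := Fintype.ofFinite _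
  have hψc : IsCharacter G ψ := IsIrrCharacter.isCharacter hψ
  have hψcf : IsClassFunction G ψ := IsCharacter.isClassFunction hψc
  have hξc : IsCharacter T ξ := IsIrrCharacter.isCharacter hξ
  have hξ'c : IsCharacter (N.subgroupOf T) (fun x : N.subgroupOf T => ξ x) :=
    Cfsg.Agent.Helper8.isCharacter_restrict _ hξc
  obtain ⟨dξ, hdξpos, hdξ⟩ := isIrrCharacter_one hξ
  have hξ'0 : (fun x : N.subgroupOf T => ξ x) ≠ 0 := by
    intro h0
    have := congrFun h0 1
    simp only [Pi.zero_apply] at this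
    have h1 : ξ ((1 : N.subgroupOf T) : T) = ξ 1 := rfl
    rw [h1, hdξ] at this
    exact hdξpos.ne' (Nat.cast_eq_zero.mp this)
  obtain ⟨α, hα⟩ := IsCharacter.exists_irr_constituent hξ'c hξ'0
  -- ξ is a constituent of ψ_T
  have h1 : classInner (fun t : T => ψ t) ξ ≠ 0 := by
    have h := Cfsg.Agent.Helper8.frobenius_reciprocity T ξ ψ hψcf
    rw [hind, (isIrrCharacter_iff_classInner_self.mp hψ).2] at h
    rw [← classInner_conj_symm, ← h]
    simp
  -- ξ is a constituent of α^T
  have h2 : classInner (indFun (N.subgroupOf T) (α : N.subgroupOf T → ℂ)) ξ ≠ 0 := by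
    rw [Cfsg.Agent.Helper8.frobenius_reciprocity _ _ _ (IsCharacter.isClassFunction hξc),
      ← classInner_conj_symm]
    intro h0
    apply hα
    have := congrArg (starRingEnd ℂ) h0
    simpa using this
  have h3 := classInner_ne_zero_of_common
    (Cfsg.Agent.Helper8.isCharacter_restrict T hψc)
    (isCharacter_indFun (N.subgroupOf T) (IsIrrCharacter.isCharacter α.2)) hξ h1 h2
  -- so α is a constituent of ψ restricted to T ∩ N
  have h4 : classInner (fun x : N.subgroupOf T => ψ ((x : T) : G)) (α : N.subgroupOf T → ℂ) ≠ 0 := by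
    rw [← classInner_conj_symm] at h3
    rw [Cfsg.Agent.Helper8.frobenius_reciprocity _ _ _
      (IsCharacter.isClassFunction (Cfsg.Agent.Helper8.isCharacter_restrict T hψc)),
      classInner_conj_symm] at h3
    exact h3
  -- transport to N
  have hα' : IsIrrCharacter (T.subgroupOf N) (fun y => (α : N.subgroupOf T → ℂ) ((infIso N T).symm y)) :=
    Cfsg.Agent.Helper8.isIrrCharacter_comp_surjective (infIso N T).symm.toMonoidHom
      (infIso N T).symm.surjective α.2
  have h5 : classInner (fun y : T.subgroupOf N => ψ ((y : N) : G))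
      (fun y => (α : N.subgroupOf T → ℂ) ((infIso N T).symm y)) ≠ 0 := by
    have := classInner_comp_mulEquiv (infIso N T).symm
      (fun x : N.subgroupOf T => ψ ((x : T) : G)) (α : N.subgroupOf T → ℂ)
    rw [← this] at h4
    exact h4
  have h6 : classInner (indFun (T.subgroupOf N)
      (fun y => (α : N.subgroupOf T → ℂ) ((infIso N T).symm y))) (fun x : N => ψ x) ≠ 0 := by
    rw [Cfsg.Agent.Helper8.frobenius_reciprocity _ _ _
      (IsCharacter.isClassFunction (IsIrrCharacter.isCharacter hψN)), ← classInner_conj_symm]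
    intro h0
    apply h5
    have := congrArg (starRingEnd ℂ) h0
    simpa using this
  -- degrees
  have hd1 : indFun (T.subgroupOf N)
      (fun y => (α : N.subgroupOf T → ℂ) ((infIso N T).symm y)) 1 =
      ((T.relIndex N * irrDeg α : ℕ) : ℂ) := by
    rw [Cfsg.Agent.Helper5.indFun_apply_one, map_one, irrDeg_spec]
    push_cast
    rfl
  have hle1 := irrDeg_le_of_constituent
    (isCharacter_indFun (T.subgroupOf N) (IsIrrCharacter.isCharacter hα')) ⟨_, hψN⟩ h6 _ hd1
  have hd2 : irrDeg (⟨_, hψN⟩ : IrrCharacter N) = T.index * dξ := by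
    have h := irrDeg_spec (⟨_, hψN⟩ : IrrCharacter N)
    have h' : ψ 1 = (T.index : ℂ) * ξ 1 := by
      rw [← hind]; exact Cfsg.Agent.Helper5.indFun_apply_one T ξ
    have : (irrDeg (⟨_, hψN⟩ : IrrCharacter N) : ℂ) = ((T.index * dξ : ℕ) : ℂ) := by
      rw [← h]
      push_cast
      rw [← hdξ, ← h']
    exact_mod_cast this
  have hle2 : irrDeg α ≤ dξ := by
    apply irrDeg_le_of_constituent hξ'c α hα dξ
    show ξ ((1 : N.subgroupOf T) : T) = dξ
    exact hdξ
  have hle3 : T.relIndex N ≤ T.index := by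
    have := Subgroup.relIndex_le_of_le_right (H := T) (le_top : N ≤ ⊤)
      (by rw [Subgroup.relIndex_top_right]; exact Subgroup.index_ne_zero_of_finite)
    rwa [Subgroup.relIndex_top_right] at this
  have hTpos : 0 < T.index := Nat.pos_of_ne_zero Subgroup.index_ne_zero_of_finite
  have hdeg : dξ = irrDeg α := by
    apply le_antisymm _ hle2
    rw [hd2] at hle1
    have : T.index * dξ ≤ T.index * irrDeg α :=
      hle1.trans (Nat.mul_le_mul_right _ hle3)
    exact Nat.le_of_mul_le_mul_left this hTpos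
  have heq := IsCharacter.eq_irr_of_constituent_of_deg hξ'c α hα (by
    show ξ ((1 : N.subgroupOf T) : T) = _
    rw [irrDeg_spec, ← hdeg]
    exact hdξ)
  rw [heq]
  exact α.2

/-- A finite group in which, for every prime `p`, some abelian subgroup has index prime to `p`
has `Z(Q) ∩ Q' = 1`. -/
theorem eq_one_of_mem_center_of_mem_commutator {Q : Type u} [Group Q] [Finite Q]
    (hQ : ∀ (p : ℕ) [Fact p.Prime], ∃ P : Subgroup Q, (∀ a ∈ P, ∀ b ∈ P, a * b = b * a) ∧
      ¬ p ∣ P.index) (z : Q) (hz : z ∈ Subgroup.center Q) (hz' : z ∈ commutator Q) : z = 1 := by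
  by_contra hne
  have hord : orderOf z ≠ 1 := fun h => hne (orderOf_eq_one_iff.mp h)
  obtain ⟨p, hp, hpd⟩ := Nat.exists_prime_and_dvd hord
  haveI : Fact p.Prime := ⟨hp⟩
  obtain ⟨P, hPab, hPidx⟩ := hQ p
  let _ : CommGroup P := { (inferInstance : Group P) with
    mul_comm := fun a b => Subtype.ext (hPab a a.2 b b.2) }
  have key : ∀ (k : ℕ) (g₀ : Q), g₀⁻¹ * z ^ k * g₀ ∈ P → g₀⁻¹ * z ^ k * g₀ = z ^ k := by
    intro k g₀ _
    have hc : z ^ k ∈ Subgroup.center Q := Subgroup.pow_mem _ hz k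
    have := Subgroup.mem_center_iff.mp hc g₀
    rw [mul_assoc, ← this, ← mul_assoc, inv_mul_cancel, one_mul]
  have htr := MonoidHom.transfer_eq_pow (MonoidHom.id P) z key
  have hker : z ∈ (MonoidHom.transfer (MonoidHom.id P)).ker :=
    Abelianization.commutator_subset_ker _ hz'
  rw [MonoidHom.mem_ker, htr] at hker
  have h1 : z ^ P.index = 1 := by
    have := congrArg Subtype.val hker
    simpa using this
  exact hPidx (hpd.trans (orderOf_dvd_of_pow_eq_one h1))

/-- the quasi-primitive case: `ψ` is linear. -/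
theorem linear_of_quasiprimitive {G : Type u} [Group G] [Fintype G] [Group.IsSolvable G]
    (N : Subgroup G) [hN : N.Normal] (hab : AbP G N) (ψ : G → ℂ) (hψ : IsIrrCharacter G ψ)
    (hψN : IsIrrCharacter N (fun x : N => ψ x))
    (hQP : ∀ (A : Subgroup G) [A.Normal] [Fintype A] (β : A → ℂ), A ≤ N →
      IsIrrCharacter A β → classInner (fun a : A => ψ a) β ≠ 0 → inertiaSubgroup A β = ⊤) :
    ψ 1 = 1 := by
  classical
  have hψc : IsCharacter G ψ := IsIrrCharacter.isCharacter hψ
  obtain ⟨m, ρ, hρ, hρχ⟩ := id hψ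
  haveI := hρ
  obtain ⟨K₀, hK₀⟩ : ∃ K₀ : Subgroup G, K₀ = MonoidHom.ker ρ := ⟨_, rfl⟩
  haveI hK₀n : K₀.Normal := by rw [hK₀]; infer_instance
  have hK₀mem : ∀ g, g ∈ K₀ ↔ ψ g = ψ 1 := by
    intro g
    rw [← hρχ, Representation.char_one, char_eq_finrank_iff, hK₀, MonoidHom.mem_ker]
    rfl
  -- Claim 1
  have hclaim : ⁅N, N⁆ ≤ K₀ := by
    by_contra hcon
    obtain ⟨A, ⟨hAn, hAN', hAK⟩, hAmin⟩ := exists_minimal_of_wellFoundedLT
      (fun A : Subgroup G => A.Normal ∧ A ≤ ⁅N, N⁆ ∧ ¬ A ≤ K₀) ⟨⁅N, N⁆, inferInstance, le_rfl, hcon⟩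
    haveI := hAn
    haveI : Fintype A := Fintype.ofFinite _
    haveI : Fintype (IrrCharacter A) := Fintype.ofFinite _
    have hA0 : A ≠ ⊥ := by
      rintro rfl
      exact hAK bot_le
    have hlt := Group.IsSolvable.commutator_lt_of_ne_bot hA0
    have hAAK : ⁅A, A⁆ ≤ K₀ := by
      by_contra h
      have := hAmin ⟨inferInstance, hlt.le.trans hAN', h⟩ hlt.le
      exact absurd this (not_le_of_gt hlt)
    have hAN : A ≤ N := hAN'.trans (Subgroup.commutator_le_self N)
    have hres : IsCharacter A (fun a : A => ψ a) := Cfsg.Agent.Helper8.isCharacter_restrict A hψc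
    have hres0 : (fun a : A => ψ a) ≠ 0 := by
      intro h0
      have := congrFun h0 1
      obtain ⟨n, hn, h1⟩ := isIrrCharacter_one hψ
      simp only [Pi.zero_apply] at this
      have h2 : ψ ((1 : A) : G) = ψ 1 := rfl
      rw [h2, h1] at this
      exact hn.ne' (Nat.cast_eq_zero.mp this)
    obtain ⟨β, hβ⟩ := IsCharacter.exists_irr_constituent hres hres0
    have htop := hQP A (β : A → ℂ) hAN β.2 hβ
    have hcl := clifford_finset A hψ β.2 hβ
    have himg : Finset.univ.image (conjFun A (β : A → ℂ)) = {(β : A → ℂ)} := by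
      ext φ
      simp only [Finset.mem_image, Finset.mem_univ, true_and, Finset.mem_singleton]
      constructor
      · rintro ⟨t, rfl⟩
        have : t ∈ inertiaSubgroup A (β : A → ℂ) := by rw [htop]; exact Subgroup.mem_top t
        exact this
      · rintro rfl
        exact ⟨1, conjFun_one _ _⟩
    rw [himg, Finset.sum_singleton] at hcl
    have hβker : ∀ a ∈ commutator A, (β : A → ℂ) a = (β : A → ℂ) 1 := by
      intro a ha
      have h1 : (a : G) ∈ ⁅A, A⁆ := by
        rw [← Subgroup.map_subtype_commutator]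
        exact ⟨a, ha, rfl⟩
      have h2 := (hK₀mem a).mp (hAAK h1)
      have h3 := congrFun hcl a
      have h4 := congrFun hcl 1
      simp only [Pi.smul_apply, smul_eq_mul] at h3 h4
      have h5 : ψ ((1 : A) : G) = ψ 1 := rfl
      rw [h2, ← h5, h4] at h3
      exact (mul_left_cancel₀ hβ h3).symm
    have hβ1 := Cfsg.Agent.Helper8.irr_degree_one_of_commutator_le_ker β hβker
    have hscal := scalar_of_inertia_eq_top ρ A (β : A → ℂ) β.2 hβ1 (by rw [hρχ]; exact hβ) htop
    -- A ≤ K₀ by the transfer argument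
    apply hAK
    intro a ha
    haveI : Finite (↥N ⧸ K₀.subgroupOf N) := inferInstance
    have hz1 : ((⟨a, hAN ha⟩ : N) : ↥N ⧸ K₀.subgroupOf N) ∈
        Subgroup.center (↥N ⧸ K₀.subgroupOf N) := by
      rw [Subgroup.mem_center_iff]
      intro q
      induction q using QuotientGroup.induction_on with
      | _ n =>
      rw [← QuotientGroup.mk_mul, ← QuotientGroup.mk_mul, QuotientGroup.eq,
        Subgroup.mem_subgroupOf, hK₀, MonoidHom.mem_ker]
      obtain ⟨c, hc⟩ := hscal a ha
      have h1 : ρ ((n : G) * a) = ρ (a * (n : G)) := by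
        rw [map_mul, map_mul, hc]
        ext v
        simp
      have h2 : (((n * ⟨a, hAN ha⟩)⁻¹ * (⟨a, hAN ha⟩ * n) : N) : G) =
          ((n : G) * a)⁻¹ * (a * (n : G)) := by
        simp
      rw [h2, map_mul, ← h1, ← map_mul, inv_mul_cancel, map_one]
    have hz2 : ((⟨a, hAN ha⟩ : N) : ↥N ⧸ K₀.subgroupOf N) ∈
        commutator (↥N ⧸ K₀.subgroupOf N) := by
      have h1 : a ∈ (commutator N).map N.subtype := by
        rw [Subgroup.map_subtype_commutator]
        exact hAN' ha
      obtain ⟨a', ha', haa'⟩ := h1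
      have h2 : a' = ⟨a, hAN ha⟩ := Subtype.ext haa'
      rw [← h2]
      have h3 : (QuotientGroup.mk' (K₀.subgroupOf N)) a' ∈
          (commutator N).map (QuotientGroup.mk' (K₀.subgroupOf N)) := ⟨a', ha', rfl⟩
      rw [commutator_def, Subgroup.map_commutator] at h3
      exact Subgroup.commutator_mono le_top le_top h3
    have hQ : ∀ (p : ℕ) [Fact p.Prime], ∃ P : Subgroup (↥N ⧸ K₀.subgroupOf N),
        (∀ a ∈ P, ∀ b ∈ P, a * b = b * a) ∧ ¬ p ∣ P.index := by
      intro p _
      let P₀ : Sylow p N := default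
      refine ⟨(P₀ : Subgroup N).map (QuotientGroup.mk' (K₀.subgroupOf N)), ?_, ?_⟩
      · rintro _ ⟨x, hx, rfl⟩ _ ⟨y, hy, rfl⟩
        rw [← map_mul, ← map_mul]
        congr 1
        apply Subtype.ext
        exact hab p ((P₀ : Subgroup N).map N.subtype) (Subgroup.map_subtype_le _)
          (P₀.isPGroup'.map N.subtype) x ⟨x, hx, rfl⟩ y ⟨y, hy, rfl⟩
      · intro hdvd
        exact P₀.not_dvd_index (hdvd.trans
          (Subgroup.index_map_dvd _ (QuotientGroup.mk'_surjective _)))
    have hz := eq_one_of_mem_center_of_mem_commutator hQ _ hz1 hz2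
    rw [QuotientGroup.eq_one_iff, Subgroup.mem_subgroupOf] at hz
    exact hz
  -- Claim 2
  have h := Cfsg.Agent.Helper8.irr_degree_one_of_commutator_le_ker (⟨_, hψN⟩ : IrrCharacter N) (by
    intro a ha
    have h1 : (a : G) ∈ ⁅N, N⁆ := by
      rw [← Subgroup.map_subtype_commutator]
      exact ⟨a, ha, rfl⟩
    exact (hK₀mem a).mp (hclaim h1))
  exact h

/-- An irreducible character restricting irreducibly to a normal subgroup `N` with abelian
Sylow subgroups, in a solvable group, is monomial. -/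
theorem mono_aux : ∀ (n : ℕ) (G : Type u) [Group G] [Fintype G] [Group.IsSolvable G]
    (N : Subgroup G) [N.Normal], Nat.card G = n → AbP G N → ∀ ψ : G → ℂ, IsIrrCharacter G ψ →
    IsIrrCharacter N (fun x : N => ψ x) → Mono G ψ := by
  intro n
  induction n using Nat.strong_induction_on with
  | _ n ih =>
  intro G _ _ _ N hNn hcard hab ψ hψ hψN
  classical
  haveI : Fintype N := Fintype.ofFinite _
  have hψc : IsCharacter G ψ := IsIrrCharacter.isCharacter hψ
  have hψcf : IsClassFunction G ψ := IsCharacter.isClassFunction hψc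
  by_cases hQP : ∀ (A : Subgroup G) [A.Normal] [Fintype A] (β : A → ℂ), A ≤ N →
      IsIrrCharacter A β → classInner (fun a : A => ψ a) β ≠ 0 → inertiaSubgroup A β = ⊤
  · have h1 := linear_of_quasiprimitive N hab ψ hψ hψN hQP
    refine ⟨⊤, fun h => ψ h, Cfsg.Agent.Helper8.isCharacter_restrict ⊤ hψc, h1,
      indFun_top_restrict ψ hψcf⟩
  · push Not at hQP
    obtain ⟨A, hAn, fA, β, hAN, hβ, hconst, hT⟩ := hQP
    haveI : Fintype (inertiaSubgroup A β) := Fintype.ofFinite _
    obtain ⟨ξ, hξ, hind⟩ := exists_irr_inertia_indFun_eq A ψ hψ β hβ hconst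
    have hcardT : Nat.card (inertiaSubgroup A β) < n := by
      rw [← hcard]
      refine lt_of_le_of_ne (Subgroup.card_le_card_group _) ?_
      intro h
      exact hT (Subgroup.eq_top_of_card_eq _ h)
    have hξN := irr_restrict_of_indFun N (inertiaSubgroup A β) ψ hψ hψN ξ hξ hind
    have hrel := ih (Nat.card (inertiaSubgroup A β)) hcardT ↥(inertiaSubgroup A β)
      (N.subgroupOf (inertiaSubgroup A β)) rfl (abP_subgroup N _ hab) ξ hξ hξN
    rw [← hind]
    exact mono_lift _ ξ hrel

/-- **Isaacs 6.23**. -/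
theorem mgroup_of_relM {G : Type u} [Group G] [Fintype G] [Group.IsSolvable G] (N : Subgroup G)
    [N.Normal]
    (hab : ∀ (p : ℕ) [Fact p.Prime] (P : Sylow p N), ∀ a ∈ P, ∀ b ∈ P, a * b = b * a)
    (χ : G → ℂ) (hrel : RelativeM.RelM G N χ) : Mono G χ := by
  obtain ⟨H, hNH, ψ, hψ, hind, hψN⟩ := hrel
  haveI : Fintype H := Fintype.ofFinite _
  have habP := abP_subgroup N H (abP_of_sylow N hab)
  have hψN' : IsIrrCharacter (N.subgroupOf H) (fun x : N.subgroupOf H => ψ x) := by
    have := Cfsg.Agent.Helper8.isIrrCharacter_comp_surjective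
      (Subgroup.subgroupOfEquivOfLe hNH).toMonoidHom (Subgroup.subgroupOfEquivOfLe hNH).surjective hψN
    exact this
  have h := mono_aux _ ↥H (N.subgroupOf H) rfl habP ψ hψ hψN'
  rw [← hind]
  exact mono_lift H ψ h

end Cfsg.Agent.Helper24.MGroupRel
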