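import Mathlib
import Cfsg.Agent.Helper24.GlaubRestrict
import Cfsg.Agent.Helper24.Gallagher
import Cfsg.Agent.Helper24.MGroupRel
import Cfsg.Agent.Helper24.Abelian
import Cfsg.Agent.Helper24.CliffordSurj
import Cfsg.Agent.Helper5.LinChar

/-!
Isaacs 13.28: if `S` acts on `G` fixing a normal subgroup `N` with `G/N` solvable and
`(|S|, |G : N|) = 1`, then every `S`-invariant irreducible character of `N` lies under an
`S`-invariant irreducible character of `G`.
-/

set_option autoImplicit false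

namespace Cfsg.Agent.Helper24

open Cfsg

universe u

section Twist

variable {G : Type u} [Group G] [Fintype G]

/-- If `G/N` is abelian, two irreducible characters of `G` whose restrictions to `N` are not
orthogonal differ by a linear character trivial on `N`. -/
theorem exists_linear_twist_eq (N : Subgroup G) [hN : N.Normal] [Fintype N]
    (hab : ∀ a b : G ⧸ N, a * b = b * a) (ψ ψ' : IrrCharacter G)
    (h : classInner (fun n : N => (ψ' : G → ℂ) n) (fun n : N => (ψ : G → ℂ) n) ≠ 0) :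
    ∃ lam : G →* ℂˣ, (∀ n ∈ N, lam n = 1) ∧
      ∀ g, (ψ' : G → ℂ) g = ((lam g : ℂˣ) : ℂ) * (ψ : G → ℂ) g := by
  classical
  haveI : Finite G := Finite.of_fintype G
  haveI : Fintype (IrrCharacter (G ⧸ N)) := Fintype.ofFinite _
  have h1 : classInner (indFun N (fun n : N => (ψ : G → ℂ) n)) (ψ' : G → ℂ) ≠ 0 := by
    rw [Helper8.frobenius_reciprocity N _ _ (isClassFunction_irr ψ'), ← classInner_conj_symm]
    intro h0
    apply h
    have := congrArg (starRingEnd ℂ) h0
    simpa using this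
  rw [indFun_restrict_eq_sum_twist N ψ, classInner_sum_left] at h1
  obtain ⟨β, -, hβ⟩ := Finset.exists_ne_zero_of_sum_ne_zero h1
  rw [classInner_smul_left] at hβ
  have hβ2 : classInner (gallagherTwist N ψ β) (ψ' : G → ℂ) ≠ 0 := right_ne_zero_of_mul hβ
  have hβ1 : (β : G ⧸ N → ℂ) 1 = 1 := (comm_iff_forall_irr_one.mp hab) β
  obtain ⟨lam0, hlam0⟩ : ∃ lam0 : G ⧸ N →* ℂ, ∀ q, lam0 q = (β : G ⧸ N → ℂ) q :=
    ⟨Helper5.linCharHom (IsIrrCharacter.isCharacter β.2) hβ1, fun q => rfl⟩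
  obtain ⟨lam, hlam⟩ : ∃ lam : G →* ℂˣ, ∀ g, ((lam g : ℂˣ) : ℂ) = (β : G ⧸ N → ℂ) (g : G ⧸ N) :=
    ⟨lam0.toHomUnits.comp (QuotientGroup.mk' N), fun g => by
      rw [MonoidHom.comp_apply, MonoidHom.coe_toHomUnits, hlam0]; rfl⟩
  have htw : gallagherTwist N ψ β = fun g => ((lam g : ℂˣ) : ℂ) * (ψ : G → ℂ) g := by
    funext g
    rw [hlam]
    rfl
  refine ⟨lam, ?_, ?_⟩
  · intro n hn
    apply Units.ext
    rw [hlam, (QuotientGroup.eq_one_iff n).mpr hn, hβ1]
    rfl
  · have hirr : IsIrrCharacter G (gallagherTwist N ψ β) := by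
      rw [htw]
      exact Helper8.isIrrCharacter_linear_mul lam ψ.2
    have h2 := classInner_of_isIrrCharacter hirr ψ'.2
    by_cases he : gallagherTwist N ψ β = (ψ' : G → ℂ)
    · intro g
      rw [← he, htw]
    · rw [if_neg he] at h2
      exact absurd h2 hβ2

end Twist

section TwistIrr

variable {M : Type u} [Group M] [Finite M]

/-- Multiplying an irreducible character by a linear character. -/
noncomputable def twistIrr (lam : M →* ℂˣ) (ψ : IrrCharacter M) : IrrCharacter M :=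
  ⟨fun m => ((lam m : ℂˣ) : ℂ) * (ψ : M → ℂ) m, by
    haveI : Fintype M := Fintype.ofFinite M
    exact Helper8.isIrrCharacter_linear_mul lam ψ.2⟩

omit [Finite M] in
theorem twistIrr_apply [Finite M] (lam : M →* ℂˣ) (ψ : IrrCharacter M) (m : M) :
    (twistIrr lam ψ : M → ℂ) m = ((lam m : ℂˣ) : ℂ) * (ψ : M → ℂ) m := rfl

theorem twistIrr_one (ψ : IrrCharacter M) : twistIrr (1 : M →* ℂˣ) ψ = ψ := by
  apply Subtype.ext
  funext m
  rw [twistIrr_apply]
  simp

theorem twistIrr_mul (a b : M →* ℂˣ) (ψ : IrrCharacter M) :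
    twistIrr (a * b) ψ = twistIrr a (twistIrr b ψ) := by
  apply Subtype.ext
  funext m
  rw [twistIrr_apply, twistIrr_apply, twistIrr_apply, MonoidHom.mul_apply, Units.val_mul, mul_assoc]

/-- The action of the linear characters on the irreducible characters, as a homomorphism to the
permutation group. -/
noncomputable def twistPerm : (M →* ℂˣ) →* Equiv.Perm (IrrCharacter M) where
  toFun lam :=
    { toFun := twistIrr lam
      invFun := twistIrr lam⁻¹
      left_inv := fun ψ => by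
        have e : lam⁻¹ * lam = 1 := by
          apply MonoidHom.ext
          intro m
          simp
        rw [← twistIrr_mul, e, twistIrr_one]
      right_inv := fun ψ => by
        have e : lam * lam⁻¹ = 1 := by
          apply MonoidHom.ext
          intro m
          simp
        rw [← twistIrr_mul, e, twistIrr_one] }
  map_one' := by
    apply Equiv.ext
    intro ψ
    exact twistIrr_one ψ
  map_mul' a b := by
    apply Equiv.ext
    intro ψ
    exact twistIrr_mul a b ψ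

theorem twistPerm_apply (lam : M →* ℂˣ) (ψ : IrrCharacter M) :
    twistPerm lam ψ = twistIrr lam ψ := rfl

theorem pullIrr_twistIrr (e : M ≃* M) (lam : M →* ℂˣ) (ψ : IrrCharacter M) :
    pullIrr e (twistIrr lam ψ) = twistIrr (lam.comp e.toMonoidHom) (pullIrr e ψ) := by
  apply Subtype.ext
  funext m
  rfl

end TwistIrr

section AmbTwist

variable {Γ : Type u} [Group Γ] [Finite Γ]

/-- Ambient form of `exists_linear_twist_eq`. -/
theorem exists_linear_twist_eq_amb {N M : Subgroup Γ} (hNM : N ≤ M)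
    (hMN : M ≤ Subgroup.normalizer (N : Set Γ))
    (hab : ∀ x ∈ M, ∀ y ∈ M, x * y * x⁻¹ * y⁻¹ ∈ N) (θ : IrrCharacter N)
    (ψ ψ' : IrrCharacter M) (h : mult (Subgroup.inclusion hNM) ψ θ ≠ 0)
    (h' : mult (Subgroup.inclusion hNM) ψ' θ ≠ 0) :
    ∃ lam : M →* ℂˣ, (∀ m : M, (m : Γ) ∈ N → lam m = 1) ∧ twistIrr lam ψ = ψ' := by
  classical
  haveI : Fintype M := Fintype.ofFinite M
  haveI : Fintype N := Fintype.ofFinite N
  haveI hn : (N.subgroupOf M).Normal := (Subgroup.normal_subgroupOf_iff_le_normalizer hNM).mpr hMN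
  haveI : Fintype (N.subgroupOf M) := Fintype.ofFinite _
  have hab' : ∀ a b : M ⧸ N.subgroupOf M, a * b = b * a := by
    intro a b
    induction a using QuotientGroup.induction_on with
    | H x =>
      induction b using QuotientGroup.induction_on with
      | H y =>
        rw [← QuotientGroup.mk_mul, ← QuotientGroup.mk_mul, QuotientGroup.eq,
          Subgroup.mem_subgroupOf]
        have := hab _ (M.inv_mem y.2) _ (M.inv_mem x.2)
        simpa [mul_assoc] using this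
  have hinner : classInner (fun n : N.subgroupOf M => (ψ' : M → ℂ) n)
      (fun n : N.subgroupOf M => (ψ : M → ℂ) n) ≠ 0 := by
    have e := classInner_comp_mulEquiv (Subgroup.subgroupOfEquivOfLe hNM)
      (fun n : N => (ψ' : M → ℂ) (Subgroup.inclusion hNM n))
      (fun n : N => (ψ : M → ℂ) (Subgroup.inclusion hNM n))
    have e1 : (fun a : N.subgroupOf M => (fun n : N => (ψ' : M → ℂ) (Subgroup.inclusion hNM n))
        (Subgroup.subgroupOfEquivOfLe hNM a)) = fun n : N.subgroupOf M => (ψ' : M → ℂ) n := by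
      funext a
      rfl
    have e2 : (fun a : N.subgroupOf M => (fun n : N => (ψ : M → ℂ) (Subgroup.inclusion hNM n))
        (Subgroup.subgroupOfEquivOfLe hNM a)) = fun n : N.subgroupOf M => (ψ : M → ℂ) n := by
      funext a
      rfl
    rw [e1, e2] at e
    rw [e]
    refine MGroupRel.classInner_ne_zero_of_common
      (Helper8.isCharacter_comp (Subgroup.inclusion hNM) (IsIrrCharacter.isCharacter ψ'.2))
      (Helper8.isCharacter_comp (Subgroup.inclusion hNM) (IsIrrCharacter.isCharacter ψ.2))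
      θ.2 ?_ ?_
    · rw [mult_spec]
      exact_mod_cast h'
    · rw [mult_spec]
      exact_mod_cast h
  obtain ⟨lam, hlam1, hlam2⟩ := exists_linear_twist_eq (N.subgroupOf M) hab' ψ ψ' hinner
  refine ⟨lam, ?_, ?_⟩
  · intro m hm
    exact hlam1 m (Subgroup.mem_subgroupOf.mpr hm)
  · apply Subtype.ext
    funext m
    rw [twistIrr_apply, hlam2]

end AmbTwist

section AbelianStep

variable {Γ : Type u} [Group Γ] [Finite Γ]

/-- Twisting by a linear character trivial on `N` preserves multiplicities over `N`. -/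
theorem mult_twistIrr {N M : Subgroup Γ} (hNM : N ≤ M) (lam : M →* ℂˣ)
    (hlam : ∀ m : M, (m : Γ) ∈ N → lam m = 1) (ψ : IrrCharacter M) (θ : IrrCharacter N) :
    mult (Subgroup.inclusion hNM) (twistIrr lam ψ) θ = mult (Subgroup.inclusion hNM) ψ θ := by
  classical
  haveI : Fintype N := Fintype.ofFinite N
  apply mult_eq_of
  rw [← mult_spec]
  congr 1
  funext c
  rw [twistIrr_apply, hlam _ c.2]
  simp

open scoped Pointwise in
/-- The abelian step of Isaacs 13.28. -/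
theorem exists_invariant_over_abelian (M S N : Subgroup Γ)
    (hSM : S ≤ Subgroup.normalizer (M : Set Γ)) (hSN : S ≤ Subgroup.normalizer (N : Set Γ))
    (hNM : N ≤ M) (hMN : M ≤ Subgroup.normalizer (N : Set Γ))
    (hab : ∀ x ∈ M, ∀ y ∈ M, x * y * x⁻¹ * y⁻¹ ∈ N)
    (hcop : (N.relIndex M).Coprime (Nat.card S))
    (θ : IrrCharacter N) (hθ : ∀ s ∈ S, InvAt N (θ : N → ℂ) s) :
    ∃ ψ : IrrCharacter M, mult (Subgroup.inclusion hNM) ψ θ ≠ 0 ∧
      ∀ s ∈ S, InvAt M (ψ : M → ℂ) s := by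
  classical
  haveI hn : (N.subgroupOf M).Normal := (Subgroup.normal_subgroupOf_iff_le_normalizer hNM).mpr hMN
  letI act : MulAction S (IrrCharacter M) := irrConjAct M S hSM
  obtain ⟨φ, hφ⟩ : ∃ φ : S →* Equiv.Perm (IrrCharacter M),
      φ = MulAction.toPermHom S (IrrCharacter M) := ⟨_, rfl⟩
  have hφapp : ∀ (s : S) (ψ : IrrCharacter M), φ s ψ =
      pullIrr (conjE M (s : Γ)⁻¹ (Subgroup.inv_mem _ (hSM s.2))) ψ := by
    intro s ψ
    rw [hφ]
    rfl
  obtain ⟨Λ, hΛ⟩ : ∃ Λ : Subgroup (M →* ℂˣ),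
      ∀ lam, lam ∈ Λ ↔ ∀ m : M, (m : Γ) ∈ N → lam m = 1 :=
    ⟨{ carrier := {lam | ∀ m : M, (m : Γ) ∈ N → lam m = 1}
       one_mem' := fun m _ => rfl
       mul_mem' := fun {a b} ha hb m hm => by
        rw [MonoidHom.mul_apply, ha m hm, hb m hm, one_mul]
       inv_mem' := fun {a} ha m hm => by
        rw [MonoidHom.inv_apply, ha m hm, inv_one] }, fun lam => Iff.rfl⟩
  obtain ⟨K', hK'⟩ : ∃ K' : Subgroup (Equiv.Perm (IrrCharacter M)),
      K' = Λ.map twistPerm := ⟨_, rfl⟩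
  obtain ⟨A', hA'⟩ : ∃ A' : Subgroup (Equiv.Perm (IrrCharacter M)), A' = φ.range := ⟨_, rfl⟩
  have hmemK' : ∀ σ, σ ∈ K' ↔
      ∃ lam : M →* ℂˣ, (∀ m : M, (m : Γ) ∈ N → lam m = 1) ∧ twistPerm lam = σ := by
    intro σ
    rw [hK', Subgroup.mem_map]
    constructor
    · rintro ⟨lam, hl, rfl⟩
      exact ⟨lam, (hΛ lam).mp hl, rfl⟩
    · rintro ⟨lam, hl, rfl⟩
      exact ⟨lam, (hΛ lam).mpr hl, rfl⟩
  have hmemA' : ∀ σ, σ ∈ A' ↔ ∃ s : S, φ s = σ := by
    intro σ
    rw [hA']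
    exact MonoidHom.mem_range
  -- normalizing
  have hAK : A' ≤ Subgroup.normalizer (K' : Set (Equiv.Perm (IrrCharacter M))) := by
    apply le_normalizer_of_conj_mem
    intro a ha b hb
    obtain ⟨s, rfl⟩ := (hmemA' a).mp ha
    obtain ⟨lam, hlam, rfl⟩ := (hmemK' b).mp hb
    rw [hmemK']
    refine ⟨lam.comp (conjE M (s : Γ)⁻¹ (Subgroup.inv_mem _ (hSM s.2))).toMonoidHom, ?_, ?_⟩
    · intro m hm
      rw [MonoidHom.comp_apply]
      apply hlam
      show ((conjE M (s : Γ)⁻¹ (Subgroup.inv_mem _ (hSM s.2)) m : M) : Γ) ∈ N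
      rw [conjE_apply]
      exact (Subgroup.mem_normalizer_iff.mp (Subgroup.inv_mem _ (hSN s.2)) _).mp hm
    · apply Equiv.ext
      intro ψ
      rw [Equiv.Perm.mul_apply, Equiv.Perm.mul_apply, twistPerm_apply, twistPerm_apply, hφapp,
        pullIrr_twistIrr, ← hφapp, ← Equiv.Perm.mul_apply, mul_inv_cancel, Equiv.Perm.one_apply]
  -- coprimality
  have hcardA : Nat.card A' ∣ Nat.card S := by
    rw [hA']
    exact Subgroup.card_range_dvd φ
  have hpow : ∀ lam : M →* ℂˣ, (∀ m : M, (m : Γ) ∈ N → lam m = 1) →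
      lam ^ (N.relIndex M) = 1 := by
    intro lam hlam
    apply MonoidHom.ext
    intro m
    rw [MonoidHom.pow_apply, ← map_pow, MonoidHom.one_apply]
    apply hlam
    have := Subgroup.pow_index_mem (N.subgroupOf M) m
    exact Subgroup.mem_subgroupOf.mp this
  have hprime : ∀ q : ℕ, q.Prime → q ∣ Nat.card K' → q ∣ N.relIndex M := by
    intro q hq hqK
    haveI : Fact q.Prime := ⟨hq⟩
    obtain ⟨x, hx⟩ := exists_prime_orderOf_dvd_card' q hqK
    obtain ⟨lam, hlam, hx'⟩ := (hmemK' (x : Equiv.Perm (IrrCharacter M))).mp x.2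
    have h1 : (x : Equiv.Perm (IrrCharacter M)) ^ (N.relIndex M) = 1 := by
      rw [← hx', ← map_pow, hpow lam hlam, map_one]
    have h2 : orderOf (x : Equiv.Perm (IrrCharacter M)) ∣ N.relIndex M :=
      orderOf_dvd_of_pow_eq_one h1
    rwa [Subgroup.orderOf_coe, hx] at h2
  have hcop' : (Nat.card A').Coprime (Nat.card K') := by
    by_contra hnc
    obtain ⟨q, hq, hqA, hqK⟩ := Nat.Prime.not_coprime_iff_dvd.mp hnc
    have h1 : q ∣ N.relIndex M := hprime q hq hqK
    have h2 : q ∣ Nat.card S := hqA.trans hcardA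
    exact hq.one_lt.ne' (Nat.eq_one_of_dvd_coprimes hcop h1 h2)
  -- solvability
  have hsolv' : Group.IsSolvable A' ∨ Group.IsSolvable K' := by
    right
    apply Group.isSolvable_of_comm
    rintro ⟨a, ha⟩ ⟨b, hb⟩
    obtain ⟨la, -, rfl⟩ := (hmemK' a).mp ha
    obtain ⟨lb, -, rfl⟩ := (hmemK' b).mp hb
    apply Subtype.ext
    show twistPerm la * twistPerm lb = twistPerm lb * twistPerm la
    have e : la * lb = lb * la := by
      apply MonoidHom.ext
      intro m
      rw [MonoidHom.mul_apply, MonoidHom.mul_apply, mul_comm]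
    rw [← map_mul, ← map_mul, e]
  -- the set of characters over `θ`
  obtain ⟨Ω, hΩ⟩ : ∃ Ω : Set (IrrCharacter M),
      Ω = {ψ | mult (Subgroup.inclusion hNM) ψ θ ≠ 0} := ⟨_, rfl⟩
  have hΩmem : ∀ ψ, ψ ∈ Ω ↔ mult (Subgroup.inclusion hNM) ψ θ ≠ 0 := by
    intro ψ; rw [hΩ]; rfl
  have hKΩ : ∀ σ ∈ K', ∀ ψ, σ • ψ ∈ Ω ↔ ψ ∈ Ω := by
    intro σ hσ ψ
    obtain ⟨lam, hlam, rfl⟩ := (hmemK' σ).mp hσ
    rw [hΩmem, hΩmem, Equiv.Perm.smul_def, twistPerm_apply, mult_twistIrr hNM lam hlam]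
  have hAΩ : ∀ σ ∈ A', ∀ ψ, σ • ψ ∈ Ω ↔ ψ ∈ Ω := by
    intro σ hσ ψ
    obtain ⟨s, rfl⟩ := (hmemA' σ).mp hσ
    rw [hΩmem, hΩmem, Equiv.Perm.smul_def, hφapp]
    have h1 := mult_conj_invariant hNM (s : Γ)⁻¹ (Subgroup.inv_mem _ (hSN s.2))
      (Subgroup.inv_mem _ (hSM s.2)) ψ θ
    have h2 : pullIrr (conjE N (s : Γ)⁻¹ (Subgroup.inv_mem _ (hSN s.2))) θ = θ :=
      (invAt_iff_pullIrr N _ _ θ).mp (hθ _ (S.inv_mem s.2))
    rw [h2] at h1
    rw [h1]
  have hΩinv : ∀ σ ∈ K' ⊔ A', ∀ ψ ∈ Ω, σ • ψ ∈ Ω := by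
    have hle : K' ⊔ A' ≤ MulAction.stabilizer (Equiv.Perm (IrrCharacter M)) Ω := by
      apply sup_le
      · intro σ hσ
        rw [MulAction.mem_stabilizer_set]
        exact hKΩ σ hσ
      · intro σ hσ
        rw [MulAction.mem_stabilizer_set]
        exact hAΩ σ hσ
    intro σ hσ ψ hψ
    exact ((MulAction.mem_stabilizer_set.mp (hle hσ)) ψ).mpr hψ
  have htrans : ∀ ψ ∈ Ω, ∀ ψ' ∈ Ω, ∃ σ ∈ K', σ • ψ = ψ' := by
    intro ψ hψ ψ' hψ'
    obtain ⟨lam, hlam, hlam2⟩ := exists_linear_twist_eq_amb hNM hMN hab θ ψ ψ'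
      ((hΩmem ψ).mp hψ) ((hΩmem ψ').mp hψ')
    exact ⟨twistPerm lam, (hmemK' _).mpr ⟨lam, hlam, rfl⟩, hlam2⟩
  have key := (Cfsg.Agent.Lead.glauberman_rel K' A' hAK hcop' hsolv' Ω hΩinv htrans).1
  obtain ⟨ψ₀, hψ₀⟩ := exists_irr_over_amb hNM θ
  obtain ⟨ψ, hψΩ, hψfix⟩ := key ⟨ψ₀, (hΩmem ψ₀).mpr hψ₀⟩
  refine ⟨ψ, (hΩmem ψ).mp hψΩ, ?_⟩
  intro s hs
  have h1 := hψfix (φ ⟨s⁻¹, S.inv_mem hs⟩) ((hmemA' _).mpr ⟨_, rfl⟩)
  have h2 : φ ⟨s⁻¹, S.inv_mem hs⟩ ψ = ψ := h1
  rw [hφapp] at h2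
  have h3 := (invAt_iff_pullIrr M ((s⁻¹)⁻¹) _ ψ).mpr h2
  rwa [inv_inv] at h3

end AbelianStep

section Dser

open scoped commutatorElement

variable {Γ : Type u} [Group Γ]

/-- The derived series of a subgroup, inside the ambient group. -/
def dser (G : Subgroup Γ) : ℕ → Subgroup Γ
  | 0 => G
  | (k + 1) => ⁅dser G k, dser G k⁆

theorem dser_zero (G : Subgroup Γ) : dser G 0 = G := rfl

theorem dser_succ (G : Subgroup Γ) (k : ℕ) : dser G (k + 1) = ⁅dser G k, dser G k⁆ := rfl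

theorem dser_succ_le (G : Subgroup Γ) (k : ℕ) : dser G (k + 1) ≤ dser G k := by
  rw [dser_succ, Subgroup.commutator_le]
  intro a ha b hb
  rw [commutatorElement_def]
  exact Subgroup.mul_mem _ (Subgroup.mul_mem _ (Subgroup.mul_mem _ ha hb)
    (Subgroup.inv_mem _ ha)) (Subgroup.inv_mem _ hb)

theorem dser_le (G : Subgroup Γ) (k : ℕ) : dser G k ≤ G := by
  induction k with
  | zero => exact le_rfl
  | succ k ih => exact (dser_succ_le G k).trans ih

theorem dser_conj_mem {G : Subgroup Γ} {x : Γ} (hx : ∀ g ∈ G, x * g * x⁻¹ ∈ G) (k : ℕ) :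
    ∀ g ∈ dser G k, x * g * x⁻¹ ∈ dser G k := by
  induction k with
  | zero => exact hx
  | succ k ih =>
    intro g hg
    rw [dser_succ] at hg ⊢
    have hle : ⁅dser G k, dser G k⁆ ≤
        (⁅dser G k, dser G k⁆).comap (MulAut.conj x).toMonoidHom := by
      rw [Subgroup.commutator_le]
      intro a ha b hb
      rw [Subgroup.mem_comap]
      show x * ⁅a, b⁆ * x⁻¹ ∈ _
      have e : x * ⁅a, b⁆ * x⁻¹ = ⁅x * a * x⁻¹, x * b * x⁻¹⁆ := by
        simp only [commutatorElement_def]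
        group
      rw [e]
      exact Subgroup.commutator_mem_commutator (ih a ha) (ih b hb)
    exact hle hg

theorem le_normalizer_dser {A G : Subgroup Γ} (h : A ≤ Subgroup.normalizer (G : Set Γ)) (k : ℕ) :
    A ≤ Subgroup.normalizer (dser G k : Set Γ) :=
  le_normalizer_of_conj_mem (fun _ ha => dser_conj_mem
    (fun g hg => (Subgroup.mem_normalizer_iff.mp (h ha) g).mp hg) k)

theorem le_normalizer_sup {A B C : Subgroup Γ} (hB : A ≤ Subgroup.normalizer (B : Set Γ))
    (hC : A ≤ Subgroup.normalizer (C : Set Γ)) : A ≤ Subgroup.normalizer ((B ⊔ C : Subgroup Γ) : Set Γ) := by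
  apply le_normalizer_of_conj_mem
  intro a ha
  have hle : B ⊔ C ≤ (B ⊔ C).comap (MulAut.conj a).toMonoidHom := by
    apply sup_le
    · intro b hb
      rw [Subgroup.mem_comap]
      show a * b * a⁻¹ ∈ _
      exact (le_sup_left : B ≤ B ⊔ C) ((Subgroup.mem_normalizer_iff.mp (hB ha) b).mp hb)
    · intro c hc
      rw [Subgroup.mem_comap]
      show a * c * a⁻¹ ∈ _
      exact (le_sup_right : C ≤ B ⊔ C) ((Subgroup.mem_normalizer_iff.mp (hC ha) c).mp hc)
  intro m hm
  exact hle hm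

theorem dser_eq_map (G : Subgroup Γ) (k : ℕ) :
    dser G k = (derivedSeries G k).map G.subtype := by
  induction k with
  | zero => rw [dser_zero, derivedSeries_zero, ← MonoidHom.range_eq_map, Subgroup.range_subtype]
  | succ k ih => rw [dser_succ, derivedSeries_succ, Subgroup.map_commutator, ← ih]

theorem exists_dser_le {G N : Subgroup Γ} [hn : (N.subgroupOf G).Normal]
    (h : Group.IsSolvable (G ⧸ N.subgroupOf G)) : ∃ k, dser G k ≤ N := by
  obtain ⟨k, hk⟩ := (Group.isSolvable_def _).mp h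
  refine ⟨k, ?_⟩
  have h1 : (derivedSeries G k).map (QuotientGroup.mk' (N.subgroupOf G)) = ⊥ := by
    rw [map_derivedSeries_eq (QuotientGroup.mk'_surjective _), hk]
  rw [dser_eq_map]
  rintro x ⟨y, hy, rfl⟩
  have h2 : QuotientGroup.mk' (N.subgroupOf G) y ∈
      (derivedSeries G k).map (QuotientGroup.mk' (N.subgroupOf G)) :=
    Subgroup.mem_map_of_mem _ hy
  rw [h1, Subgroup.mem_bot, QuotientGroup.mk'_apply, QuotientGroup.eq_one_iff] at h2
  exact Subgroup.mem_subgroupOf.mp h2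

/-- If `N` is normalized by `G ≥ N, D` and `⁅D, D⁆ ≤ N` then `(N ⊔ D)/N` is abelian. -/
theorem comm_mem_of_sup {G N D : Subgroup Γ} (hNG : N ≤ G) (hDG : D ≤ G)
    (hGN : G ≤ Subgroup.normalizer (N : Set Γ)) (hDD : ⁅D, D⁆ ≤ N) :
    ∀ x ∈ N ⊔ D, ∀ y ∈ N ⊔ D, x * y * x⁻¹ * y⁻¹ ∈ N := by
  haveI hn : (N.subgroupOf G).Normal := (Subgroup.normal_subgroupOf_iff_le_normalizer hNG).mpr hGN
  obtain ⟨f, hf⟩ : ∃ f : G →* G ⧸ N.subgroupOf G, f = QuotientGroup.mk' (N.subgroupOf G) :=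
    ⟨_, rfl⟩
  have hker : ∀ x : G, f x = 1 ↔ (x : Γ) ∈ N := by
    intro x
    rw [hf, QuotientGroup.mk'_apply, QuotientGroup.eq_one_iff, Subgroup.mem_subgroupOf]
  have hcomm : ∀ x y : G, f x * f y = f y * f x ↔ (x : Γ) * y * (x : Γ)⁻¹ * (y : Γ)⁻¹ ∈ N := by
    intro x y
    have e : (x : Γ) * y * (x : Γ)⁻¹ * (y : Γ)⁻¹ = ((x * y * x⁻¹ * y⁻¹ : G) : Γ) := by
      simp
    rw [e, ← hker, map_mul, map_mul, map_mul, map_inv, map_inv]
    constructor
    · intro h
      rw [h]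
      group
    · intro h
      calc f x * f y = (f x * f y * (f x)⁻¹ * (f y)⁻¹) * (f y * f x) := by group
        _ = f y * f x := by rw [h, one_mul]
  have hstep : ∀ y n : G, (n : Γ) ∈ N → f n * f y = f y * f n := by
    intro y n hn
    rw [(hker n).mpr hn, one_mul, mul_one]
  have hsup : (N ⊔ D).subgroupOf G = N.subgroupOf G ⊔ D.subgroupOf G :=
    Subgroup.subgroupOf_sup hNG hDG
  have hC : ∀ y : G, (∀ d : G, (d : Γ) ∈ D → f d * f y = f y * f d) →
      ∀ x : G, (x : Γ) ∈ N ⊔ D → f x * f y = f y * f x := by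
    intro y hy x hx
    have hle : (N ⊔ D).subgroupOf G ≤ (Subgroup.centralizer {f y}).comap f := by
      rw [hsup]
      apply sup_le
      · intro n hn
        rw [Subgroup.mem_comap, Subgroup.mem_centralizer_iff]
        intro z hz
        rw [Set.mem_singleton_iff.mp hz]
        exact (hstep y n (Subgroup.mem_subgroupOf.mp hn)).symm
      · intro d hd
        rw [Subgroup.mem_comap, Subgroup.mem_centralizer_iff]
        intro z hz
        rw [Set.mem_singleton_iff.mp hz]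
        exact (hy d (Subgroup.mem_subgroupOf.mp hd)).symm
    have h1 := hle (Subgroup.mem_subgroupOf.mpr hx)
    rw [Subgroup.mem_comap, Subgroup.mem_centralizer_iff] at h1
    exact (h1 (f y) rfl).symm
  have h1 : ∀ d : G, (d : Γ) ∈ D → ∀ x : G, (x : Γ) ∈ N ⊔ D → f x * f d = f d * f x := by
    intro d hd
    apply hC
    intro d' hd'
    rw [hcomm]
    apply hDD
    have := Subgroup.commutator_mem_commutator hd' hd
    rwa [commutatorElement_def] at this
  intro x hx y hy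
  have hxG : x ∈ G := (sup_le hNG hDG) hx
  have hyG : y ∈ G := (sup_le hNG hDG) hy
  have h2 := hC ⟨y, hyG⟩ (fun d hd => (h1 d hd ⟨y, hyG⟩ hy).symm) ⟨x, hxG⟩ hx
  exact (hcomm ⟨x, hxG⟩ ⟨y, hyG⟩).mp h2

end Dser

section Main

variable {Γ : Type u} [Group Γ] [Finite Γ]

/-- Transitivity of "lying over". -/
theorem mult_ne_zero_trans {N M G : Subgroup Γ} (hNM : N ≤ M) (hMG : M ≤ G)
    (χ : IrrCharacter G) (ψ : IrrCharacter M) (θ : IrrCharacter N)
    (h1 : mult (Subgroup.inclusion hMG) χ ψ ≠ 0) (h2 : mult (Subgroup.inclusion hNM) ψ θ ≠ 0) :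
    mult (Subgroup.inclusion (hNM.trans hMG)) χ θ ≠ 0 := by
  classical
  haveI : Fintype (IrrCharacter M) := Fintype.ofFinite _
  have e : Subgroup.inclusion (hNM.trans hMG) =
      (Subgroup.inclusion hMG).comp (Subgroup.inclusion hNM) := by
    ext x
    rfl
  rw [e, mult_trans]
  intro h0
  have h3 := Finset.sum_eq_zero_iff.mp h0 ψ (Finset.mem_univ _)
  rcases Nat.mul_eq_zero.mp h3 with h | h
  · exact h1 h
  · exact h2 h

/-- Isaacs 13.28, by induction along the derived series of `G` modulo `N`. -/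
theorem exists_invariant_over_dser (G S : Subgroup Γ)
    (hSG : S ≤ Subgroup.normalizer (G : Set Γ)) :
    ∀ (k : ℕ) (N : Subgroup Γ) (hNG : N ≤ G) (_hGN : G ≤ Subgroup.normalizer (N : Set Γ))
      (_hSN : S ≤ Subgroup.normalizer (N : Set Γ))
      (_hcop : (N.relIndex G).Coprime (Nat.card S)) (_hk : dser G k ≤ N)
      (θ : IrrCharacter N) (_hθ : ∀ s ∈ S, InvAt N (θ : N → ℂ) s),
      ∃ χ : IrrCharacter G, mult (Subgroup.inclusion hNG) χ θ ≠ 0 ∧
        ∀ s ∈ S, InvAt G (χ : G → ℂ) s := by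
  intro k
  induction k with
  | zero =>
    intro N hNG hGN hSN hcop hk θ hθ
    have hEq : N = G := le_antisymm hNG hk
    subst hEq
    refine ⟨θ, ?_, hθ⟩
    classical
    haveI : Fintype N := Fintype.ofFinite _
    have h1 : mult (Subgroup.inclusion hNG) θ θ = 1 := by
      apply mult_eq_of
      have e : (fun c : N => (θ : N → ℂ) (Subgroup.inclusion hNG c)) = (θ : N → ℂ) := by
        funext c
        rfl
      rw [e, classInner_irr_self, Nat.cast_one]
    rw [h1]
    exact one_ne_zero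
  | succ k ih =>
    intro N hNG hGN hSN hcop hk θ hθ
    obtain ⟨M, hM⟩ : ∃ M : Subgroup Γ, M = N ⊔ dser G k := ⟨_, rfl⟩
    have hNM : N ≤ M := hM ▸ le_sup_left
    have hDM : dser G k ≤ M := hM ▸ le_sup_right
    have hMG : M ≤ G := hM ▸ sup_le hNG (dser_le G k)
    have hMN : M ≤ Subgroup.normalizer (N : Set Γ) := hMG.trans hGN
    have hab : ∀ x ∈ M, ∀ y ∈ M, x * y * x⁻¹ * y⁻¹ ∈ N := by
      rw [hM]
      exact comm_mem_of_sup hNG (dser_le G k) hGN hk
    have hSM : S ≤ Subgroup.normalizer (M : Set Γ) := by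
      rw [hM]
      exact le_normalizer_sup hSN (le_normalizer_dser hSG k)
    have hGM : G ≤ Subgroup.normalizer (M : Set Γ) := by
      rw [hM]
      exact le_normalizer_sup hGN (le_normalizer_dser Subgroup.le_normalizer k)
    have hmul : N.relIndex M * M.relIndex G = N.relIndex G :=
      Subgroup.relIndex_mul_relIndex N M G hNM hMG
    have hcop1 : (N.relIndex M).Coprime (Nat.card S) :=
      Nat.Coprime.coprime_dvd_left (Dvd.intro _ hmul) hcop
    have hcop2 : (M.relIndex G).Coprime (Nat.card S) :=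
      Nat.Coprime.coprime_dvd_left (Dvd.intro_left _ hmul) hcop
    obtain ⟨ψ, hψ, hψS⟩ := exists_invariant_over_abelian M S N hSM hSN hNM hMN hab hcop1 θ hθ
    obtain ⟨χ, hχ, hχS⟩ := ih M hMG hGM hSM hcop2 hDM ψ hψS
    exact ⟨χ, mult_ne_zero_trans hNM hMG χ ψ θ hχ hψ, hχS⟩

/-- **Isaacs 13.28** (the case `G/N` solvable). -/
theorem exists_invariant_over_solvable_quotient (G S N : Subgroup Γ)
    (hSG : S ≤ Subgroup.normalizer (G : Set Γ)) (hSN : S ≤ Subgroup.normalizer (N : Set Γ))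
    (hNG : N ≤ G) [hn : (N.subgroupOf G).Normal] (hcop : (N.relIndex G).Coprime (Nat.card S))
    (hsolv : Group.IsSolvable (G ⧸ N.subgroupOf G))
    (θ : IrrCharacter N) (hθ : ∀ s ∈ S, InvAt N (θ : N → ℂ) s) :
    ∃ χ : IrrCharacter G, mult (Subgroup.inclusion hNG) χ θ ≠ 0 ∧
      ∀ s ∈ S, InvAt G (χ : G → ℂ) s := by
  obtain ⟨k, hk⟩ := exists_dser_le hsolv
  exact exists_invariant_over_dser G S hSG k N hNG
    ((Subgroup.normal_subgroupOf_iff_le_normalizer hNG).mp hn) hSN hcop hk θ hθ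

end Main

end Cfsg.Agent.Helper24
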