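import Mathlib
import Cfsg.Agent.Helper24.GlaubExtend
import Cfsg.Agent.Helper24.Product
import Cfsg.Agent.Helper24.Linear

/-!
The central case of Isaacs 13.31: `Z ≤ G ⊴ E` with `Z` central in `E`, `(|E : G|, |G : Z|) = 1`
and `E/G` or `G/Z` solvable.  Every linear character of `Z` lies under an `E`-invariant
irreducible character of `G`.
-/

set_option autoImplicit false

namespace Cfsg.Agent.Helper24

open Cfsg

universe u

section Arith

/-- Split `c` into a part all of whose prime divisors divide `n` and a part coprime to `n`. -/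
theorem exists_pi_decomp (n : ℕ) : ∀ c : ℕ, 0 < c →
    ∃ a b : ℕ, c = a * b ∧ b.Coprime n ∧ ∀ p : ℕ, p.Prime → p ∣ a → p ∣ n := by
  intro c
  induction c using Nat.strong_induction_on with
  | _ c ih =>
  intro hc
  by_cases hcop : c.Coprime n
  · exact ⟨1, c, (one_mul c).symm, hcop, fun p hp h1 => absurd (Nat.dvd_one.mp h1) hp.ne_one⟩
  · obtain ⟨p, hp, hpc, hpn⟩ := Nat.Prime.not_coprime_iff_dvd.mp hcop
    obtain ⟨c', rfl⟩ := hpc
    have hc' : 0 < c' := Nat.pos_of_ne_zero (by rintro rfl; simp at hc)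
    have hlt : c' < p * c' := by
      have := hp.two_le
      nlinarith
    obtain ⟨a, b, hab, hb, ha⟩ := ih c' hlt hc'
    refine ⟨p * a, b, by rw [hab, mul_assoc], hb, ?_⟩
    intro q hq hqa
    rcases (Nat.Prime.dvd_mul hq).mp hqa with h | h
    · rwa [(Nat.prime_dvd_prime_iff_eq hq hp).mp h]
    · exact ha q hq h

theorem eq_one_of_pow_eq_one_of_coprime {E : Type*} [Group E] {x : E} {m n : ℕ}
    (h : m.Coprime n) (hm : x ^ m = 1) (hn : x ^ n = 1) : x = 1 := by
  have h1 := orderOf_dvd_of_pow_eq_one hm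
  have h2 := orderOf_dvd_of_pow_eq_one hn
  have h3 : orderOf x ∣ Nat.gcd m n := Nat.dvd_gcd h1 h2
  rw [h, Nat.dvd_one] at h3
  exact orderOf_eq_one_iff.mp h3

end Arith

section PowKer

variable {E : Type u} [Group E]

/-- The elements of a central subgroup killed by `a`. -/
def powKer (Z : Subgroup E) (hZ : Z ≤ Subgroup.center E) (a : ℕ) : Subgroup E where
  carrier := {z | z ∈ Z ∧ z ^ a = 1}
  one_mem' := ⟨Z.one_mem, one_pow a⟩
  mul_mem' := by
    rintro x y ⟨hx, hxa⟩ ⟨hy, hya⟩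
    refine ⟨Z.mul_mem hx hy, ?_⟩
    have hc : Commute x y := (Subgroup.mem_center_iff.mp (hZ hy) x)
    rw [hc.mul_pow, hxa, hya, mul_one]
  inv_mem' := by
    rintro x ⟨hx, hxa⟩
    exact ⟨Z.inv_mem hx, by rw [inv_pow, hxa, inv_one]⟩

theorem mem_powKer {Z : Subgroup E} {hZ : Z ≤ Subgroup.center E} {a : ℕ} {z : E} :
    z ∈ powKer Z hZ a ↔ z ∈ Z ∧ z ^ a = 1 := Iff.rfl

theorem powKer_le (Z : Subgroup E) (hZ : Z ≤ Subgroup.center E) (a : ℕ) : powKer Z hZ a ≤ Z :=
  fun _ h => h.1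

theorem powKer_le_center (Z : Subgroup E) (hZ : Z ≤ Subgroup.center E) (a : ℕ) :
    powKer Z hZ a ≤ Subgroup.center E := (powKer_le Z hZ a).trans hZ

theorem prime_dvd_of_dvd_card_powKer [Finite E] (Z : Subgroup E) (hZ : Z ≤ Subgroup.center E)
    (a : ℕ) {p : ℕ} (hp : p.Prime) (h : p ∣ Nat.card (powKer Z hZ a)) : p ∣ a := by
  haveI : Fact p.Prime := ⟨hp⟩
  obtain ⟨x, hx⟩ := exists_prime_orderOf_dvd_card' p h
  rw [← hx]
  apply orderOf_dvd_of_pow_eq_one
  apply Subtype.ext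
  rw [Subgroup.coe_pow]
  exact x.2.2

theorem powKer_inf_eq_bot (Z : Subgroup E) (hZ : Z ≤ Subgroup.center E) {a b : ℕ}
    (hab : a.Coprime b) : powKer Z hZ a ⊓ powKer Z hZ b = ⊥ := by
  rw [eq_bot_iff]
  rintro z ⟨hza, hzb⟩
  rw [Subgroup.mem_bot]
  exact eq_one_of_pow_eq_one_of_coprime hab hza.2 hzb.2

theorem exists_mul_powKer (Z : Subgroup E) (hZ : Z ≤ Subgroup.center E) {a b : ℕ}
    (hab : a.Coprime b) (hZab : ∀ z ∈ Z, z ^ (a * b) = 1) (z : E) (hz : z ∈ Z) :
    ∃ x ∈ powKer Z hZ a, ∃ y ∈ powKer Z hZ b, z = x * y := by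
  have hbez : (1 : ℤ) = a * Nat.gcdA a b + b * Nat.gcdB a b := by
    rw [← Nat.gcd_eq_gcd_ab, hab]
    rfl
  refine ⟨z ^ ((b : ℤ) * Nat.gcdB a b), ⟨Z.zpow_mem hz _, ?_⟩,
    z ^ ((a : ℤ) * Nat.gcdA a b), ⟨Z.zpow_mem hz _, ?_⟩, ?_⟩
  · rw [← zpow_natCast, ← zpow_mul]
    have : (b : ℤ) * Nat.gcdB a b * (a : ℤ) = ((a * b : ℕ) : ℤ) * Nat.gcdB a b := by
      push_cast; ring
    rw [this, zpow_mul, zpow_natCast, hZab z hz, one_zpow]
  · rw [← zpow_natCast, ← zpow_mul]
    have : (a : ℤ) * Nat.gcdA a b * (b : ℤ) = ((a * b : ℕ) : ℤ) * Nat.gcdA a b := by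
      push_cast; ring
    rw [this, zpow_mul, zpow_natCast, hZab z hz, one_zpow]
  · rw [← zpow_add, add_comm, ← hbez, zpow_one]

end PowKer

section CentralChar

variable {E : Type u} [Group E] [Finite E]

/-- If `ψ ∈ Irr(K)` lies over the linear character `lam` of a subgroup `C ≤ K` centralized by
`K`, then `ψ(c k) = lam(c) ψ(k)`. -/
theorem irr_mul_central_amb {C K : Subgroup E} (hCK : C ≤ K)
    (hC : ∀ c ∈ C, ∀ k ∈ K, c * k = k * c) (ψ : IrrCharacter K) (lam : C →* ℂˣ)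
    (θ₀ : IrrCharacter C) (hθ₀ : ∀ c : C, (θ₀ : C → ℂ) c = ((lam c : ℂˣ) : ℂ))
    (hne : mult (Subgroup.inclusion hCK) ψ θ₀ ≠ 0) (c₀ : C) (k : K) :
    (ψ : K → ℂ) (Subgroup.inclusion hCK c₀ * k) = ((lam c₀ : ℂˣ) : ℂ) * (ψ : K → ℂ) k := by
  classical
  haveI : Fintype C := Fintype.ofFinite C
  have hz : ∀ d : K, d * Subgroup.inclusion hCK c₀ = Subgroup.inclusion hCK c₀ * d := by
    intro d
    apply Subtype.ext
    rw [Subgroup.coe_mul, Subgroup.coe_mul]
    exact (hC c₀ c₀.2 d d.2).symm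
  obtain ⟨ω, -, hω⟩ := exists_central_scalar ψ (Subgroup.inclusion hCK c₀) hz
  have hω1 : ∀ d : K, (ψ : K → ℂ) (d * Subgroup.inclusion hCK c₀) = ω * (ψ : K → ℂ) d := by
    intro d
    have := hω d 1
    rwa [pow_one, pow_one] at this
  have hS : ∑ c : C, (ψ : K → ℂ) (Subgroup.inclusion hCK c) * (starRingEnd ℂ) ((θ₀ : C → ℂ) c) ≠ 0 := by
    intro h0
    apply hne
    have h1 := mult_spec (Subgroup.inclusion hCK) ψ θ₀
    unfold classInner at h1
    rw [h0, mul_zero] at h1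
    exact_mod_cast h1.symm
  have hnorm : ((lam c₀ : ℂˣ) : ℂ) * (starRingEnd ℂ) ((lam c₀ : ℂˣ) : ℂ) = 1 := by
    rw [Complex.mul_conj, Complex.normSq_eq_norm_sq]
    have := norm_monoidHom_eq_one ((Units.coeHom ℂ).comp lam) c₀
    simp only [MonoidHom.coe_comp, Function.comp_apply, Units.coeHom_apply] at this
    rw [this]
    norm_num
  have hre : ∑ c : C, (ψ : K → ℂ) (Subgroup.inclusion hCK c) * (starRingEnd ℂ) ((θ₀ : C → ℂ) c) =
      ω * (starRingEnd ℂ) ((lam c₀ : ℂˣ) : ℂ) *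
        ∑ c : C, (ψ : K → ℂ) (Subgroup.inclusion hCK c) * (starRingEnd ℂ) ((θ₀ : C → ℂ) c) := by
    rw [Finset.mul_sum]
    rw [← Equiv.sum_comp (Equiv.mulRight c₀)]
    apply Finset.sum_congr rfl
    intro c _
    rw [Equiv.coe_mulRight, map_mul, hω1, hθ₀, hθ₀, map_mul, Units.val_mul, map_mul]
    ring
  have h1 : ω * (starRingEnd ℂ) ((lam c₀ : ℂˣ) : ℂ) = 1 := by
    have h2 : (1 - ω * (starRingEnd ℂ) ((lam c₀ : ℂˣ) : ℂ)) *
        ∑ c : C, (ψ : K → ℂ) (Subgroup.inclusion hCK c) * (starRingEnd ℂ) ((θ₀ : C → ℂ) c) = 0 := by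
      rw [sub_mul, one_mul, ← hre, sub_self]
    rcases mul_eq_zero.mp h2 with h | h
    · exact (sub_eq_zero.mp h).symm
    · exact absurd h hS
  have h2 : ω = ((lam c₀ : ℂˣ) : ℂ) := by
    calc ω = ω * (((lam c₀ : ℂˣ) : ℂ) * (starRingEnd ℂ) ((lam c₀ : ℂˣ) : ℂ)) := by
          rw [hnorm, mul_one]
      _ = (ω * (starRingEnd ℂ) ((lam c₀ : ℂˣ) : ℂ)) * ((lam c₀ : ℂˣ) : ℂ) := by ring
      _ = ((lam c₀ : ℂˣ) : ℂ) := by rw [h1, one_mul]
  rw [← hz k, hω1, h2]

end CentralChar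

section Complement

variable {E : Type u} [Group E] [Finite E]

omit [Finite E] in
/-- A central Hall subgroup `B` of a normal subgroup `G` has a complement in `G` that is normal
in the whole group. -/
theorem exists_central_complement (G B : Subgroup E) [hG : G.Normal]
    (hB : B ≤ Subgroup.center E) (hBG : B ≤ G) (hcop : (Nat.card B).Coprime (B.relIndex G)) :
    ∃ K : Subgroup E, K.Normal ∧ K ≤ G ∧ K ⊓ B = ⊥ ∧ (∀ g ∈ G, ∃ k ∈ K, ∃ b ∈ B, g = k * b) ∧
      Nat.card K = B.relIndex G ∧ K.relIndex G = Nat.card B := by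
  haveI hBn : (B.subgroupOf G).Normal := by
    constructor
    intro n hn g
    rw [Subgroup.mem_subgroupOf] at hn ⊢
    rw [Subgroup.coe_mul, Subgroup.coe_mul, Subgroup.coe_inv]
    have := Subgroup.mem_center_iff.mp (hB hn) (g : E)
    rw [this, mul_inv_cancel_right]
    exact hn
  have hcard : Nat.card (B.subgroupOf G) = Nat.card B :=
    Nat.card_congr (Subgroup.subgroupOfEquivOfLe hBG).toEquiv
  have hcop' : (Nat.card (B.subgroupOf G)).Coprime (B.subgroupOf G).index := by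
    rw [hcard]
    exact hcop
  obtain ⟨K₀, hK₀⟩ := Subgroup.exists_left_complement'_of_coprime hcop'
  have hKcard : Nat.card (K₀.map G.subtype) = B.relIndex G := by
    rw [Subgroup.card_map_of_injective G.subtype_injective]
    exact hK₀.index_eq_card.symm
  have hKle : K₀.map G.subtype ≤ G := by
    rintro _ ⟨k, -, rfl⟩
    exact k.2
  have hdec : ∀ g ∈ G, ∃ k ∈ K₀.map G.subtype, ∃ b ∈ B, g = k * b := by
    intro g hg
    obtain ⟨x, hx, -⟩ := (Subgroup.isComplement'_def.mp hK₀).existsUnique ⟨g, hg⟩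
    refine ⟨(x.1 : G), ⟨x.1, x.1.2, rfl⟩, (x.2 : G), x.2.2, ?_⟩
    have := congrArg (Subtype.val : G → E) hx
    rw [Subgroup.coe_mul] at this
    exact this.symm
  have hdisj : K₀.map G.subtype ⊓ B = ⊥ := by
    rw [eq_bot_iff]
    rintro y ⟨⟨k, hk, rfl⟩, hyB⟩
    have h1 : k ∈ K₀ ⊓ B.subgroupOf G := ⟨hk, hyB⟩
    rw [hK₀.disjoint.eq_bot, Subgroup.mem_bot] at h1
    rw [Subgroup.mem_bot, h1]
    rfl
  have hcopK : (Nat.card (K₀.map G.subtype)).Coprime (Nat.card B) := by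
    rw [hKcard]
    exact hcop.symm
  -- characterization of `K` by orders
  have hmemK : ∀ g ∈ G, g ^ Nat.card (K₀.map G.subtype) = 1 → g ∈ K₀.map G.subtype := by
    intro g hg hpow
    obtain ⟨k, hk, b, hb, rfl⟩ := hdec g hg
    have hc : Commute k b := Subgroup.mem_center_iff.mp (hB hb) k
    have hk1 : k ^ Nat.card (K₀.map G.subtype) = 1 := by
      have := pow_card_eq_one' (x := (⟨k, hk⟩ : K₀.map G.subtype))
      exact congrArg Subtype.val this
    rw [hc.mul_pow, hk1, one_mul] at hpow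
    have hb1 : b ^ Nat.card B = 1 := by
      have := pow_card_eq_one' (x := (⟨b, hb⟩ : B))
      exact congrArg Subtype.val this
    have : b = 1 := eq_one_of_pow_eq_one_of_coprime hcopK hpow hb1
    rw [this, mul_one]
    exact hk
  refine ⟨K₀.map G.subtype, ?_, hKle, hdisj, hdec, hKcard, ?_⟩
  · constructor
    intro k hk x
    apply hmemK _ (hG.conj_mem k (hKle hk) x)
    rw [conj_pow]
    have hk1 : k ^ Nat.card (K₀.map G.subtype) = 1 := by
      have := pow_card_eq_one' (x := (⟨k, hk⟩ : K₀.map G.subtype))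
      exact congrArg Subtype.val this
    rw [hk1, mul_one, mul_inv_cancel]
  · have h1 : (K₀.map G.subtype).subgroupOf G = K₀ :=
      Subgroup.comap_map_eq_self_of_injective G.subtype_injective K₀
    unfold Subgroup.relIndex
    rw [h1, hK₀.symm.index_eq_card, hcard]

/-- The irreducible character `ψ × lam` of a central product `G = K B`. -/
theorem exists_irr_of_central_prod (G K B : Subgroup E) (hKG : K ≤ G) (hBG : B ≤ G)
    (hB : B ≤ Subgroup.center E) (hKB : K ⊓ B = ⊥)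
    (hdec : ∀ g ∈ G, ∃ k ∈ K, ∃ b ∈ B, g = k * b) (ψ : IrrCharacter K) (lamB : B →* ℂˣ) :
    ∃ β : IrrCharacter G, ∀ (k : K) (b : B),
      (β : G → ℂ) (Subgroup.inclusion hKG k * Subgroup.inclusion hBG b) =
        (ψ : K → ℂ) k * ((lamB b : ℂˣ) : ℂ) := by
  let f : K × B →* G := MonoidHom.noncommCoprod (Subgroup.inclusion hKG) (Subgroup.inclusion hBG)
    (by
      intro k b
      apply Subtype.ext
      rw [Subgroup.coe_mul, Subgroup.coe_mul]
      exact Subgroup.mem_center_iff.mp (hB b.2) k)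
  have hf : ∀ x : K × B, f x = Subgroup.inclusion hKG x.1 * Subgroup.inclusion hBG x.2 :=
    fun x => rfl
  have hinj : Function.Injective f := by
    rw [injective_iff_map_eq_one]
    intro x hx
    rw [hf] at hx
    have h1 := congrArg (Subtype.val : G → E) hx
    rw [Subgroup.coe_mul, Subgroup.coe_inclusion, Subgroup.coe_inclusion, Subgroup.coe_one] at h1
    have h2 : (x.1 : E) ∈ K ⊓ B := by
      refine ⟨x.1.2, ?_⟩
      rw [eq_inv_of_mul_eq_one_left h1]
      exact B.inv_mem x.2.2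
    rw [hKB, Subgroup.mem_bot] at h2
    rw [h2, one_mul] at h1
    apply Prod.ext
    · exact Subtype.ext h2
    · exact Subtype.ext h1
  have hsurj : Function.Surjective f := by
    intro g
    obtain ⟨k, hk, b, hb, hg⟩ := hdec g g.2
    refine ⟨(⟨k, hk⟩, ⟨b, hb⟩), ?_⟩
    apply Subtype.ext
    rw [hf, Subgroup.coe_mul, Subgroup.coe_inclusion, Subgroup.coe_inclusion, hg]
  let e : K × B ≃* G := MulEquiv.ofBijective f ⟨hinj, hsurj⟩
  have hlamB : IsIrrCharacter B (fun b : B => ((lamB b : ℂˣ) : ℂ)) :=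
    isIrrCharacter_of_monoidHom ((Units.coeHom ℂ).comp lamB)
  have hirr := Cfsg.Agent.Helper8.isIrrCharacter_comp_surjective e.symm.toMonoidHom
    e.symm.surjective (isIrrCharacter_prod ψ.2 hlamB)
  refine ⟨⟨_, hirr⟩, ?_⟩
  intro k b
  have h1 : e.symm (Subgroup.inclusion hKG k * Subgroup.inclusion hBG b) = (k, b) := by
    rw [MulEquiv.symm_apply_eq]
    rfl
  show (ψ : K → ℂ) (e.symm.toMonoidHom _).1 * ((lamB (e.symm.toMonoidHom _).2 : ℂˣ) : ℂ) = _
  rw [MulEquiv.coe_toMonoidHom, h1]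

end Complement

section Main

variable {E : Type u} [Group E]

theorem dser_mono {A B : Subgroup E} (h : A ≤ B) (k : ℕ) : dser A k ≤ dser B k := by
  induction k with
  | zero => exact h
  | succ k ih =>
    rw [dser_succ, dser_succ]
    exact Subgroup.commutator_mono ih ih

theorem dser_top (k : ℕ) : dser (⊤ : Subgroup E) k = derivedSeries E k := by
  induction k with
  | zero => rfl
  | succ k ih =>
    rw [dser_succ, ih]
    rfl

theorem le_normalizer_of_le_center (A : Subgroup E) {C : Subgroup E}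
    (hC : C ≤ Subgroup.center E) : A ≤ Subgroup.normalizer (C : Set E) := by
  apply le_normalizer_of_conj_mem
  intro a _ c hc
  have := Subgroup.mem_center_iff.mp (hC hc) a
  rw [this, mul_inv_cancel_right]
  exact hc

variable [Finite E]

/-- The central case of Isaacs 13.31. -/
theorem exists_invariant_over_central (G Z : Subgroup E) [hG : G.Normal]
    (hZ : Z ≤ Subgroup.center E) (hZG : Z ≤ G) (hcop : (G.index).Coprime (Z.relIndex G))
    (hsolv : (∃ k, derivedSeries E k ≤ G) ∨ (∃ k, dser G k ≤ Z)) (lam : Z →* ℂˣ) :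
    ∃ β : IrrCharacter G,
      (∀ (z : Z) (g : G), (β : G → ℂ) (Subgroup.inclusion hZG z * g) =
        ((lam z : ℂˣ) : ℂ) * (β : G → ℂ) g) ∧
      ∀ x : E, InvAt G (β : G → ℂ) x := by
  classical
  obtain ⟨n, hn⟩ : ∃ n, n = Z.relIndex G := ⟨_, rfl⟩
  obtain ⟨m, hm⟩ : ∃ m, m = G.index := ⟨_, rfl⟩
  rw [← hn, ← hm] at hcop
  obtain ⟨a, b, hab, hbn, ha⟩ := exists_pi_decomp n (Nat.card Z) Nat.card_pos
  have hcopab : a.Coprime b := by
    apply Nat.coprime_of_dvd
    intro p hp hpa hpb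
    have h1 : p ∣ Nat.gcd b n := Nat.dvd_gcd hpb (ha p hp hpa)
    rw [hbn, Nat.dvd_one] at h1
    exact hp.ne_one h1
  have hZab : ∀ z ∈ Z, z ^ (a * b) = 1 := by
    intro z hz
    rw [← hab]
    have := pow_card_eq_one' (x := (⟨z, hz⟩ : Z))
    exact congrArg Subtype.val this
  obtain ⟨A, hAdef⟩ : ∃ A, A = powKer Z hZ a := ⟨_, rfl⟩
  obtain ⟨B, hBdef⟩ : ∃ B, B = powKer Z hZ b := ⟨_, rfl⟩
  have hAZ : A ≤ Z := hAdef ▸ powKer_le Z hZ a
  have hBZ : B ≤ Z := hBdef ▸ powKer_le Z hZ b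
  have hBc : B ≤ Subgroup.center E := hBZ.trans hZ
  have hAp : ∀ p : ℕ, p.Prime → p ∣ Nat.card A → p ∣ n := by
    intro p hp h
    rw [hAdef] at h
    exact ha p hp (prime_dvd_of_dvd_card_powKer Z hZ a hp h)
  have hBp : ∀ p : ℕ, p.Prime → p ∣ Nat.card B → p ∣ b := by
    intro p hp h
    rw [hBdef] at h
    exact prime_dvd_of_dvd_card_powKer Z hZ b hp h
  have hBn : (Nat.card B).Coprime n := by
    apply Nat.coprime_of_dvd
    intro p hp hpB hpn
    have h1 : p ∣ Nat.gcd b n := Nat.dvd_gcd (hBp p hp hpB) hpn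
    rw [hbn, Nat.dvd_one] at h1
    exact hp.ne_one h1
  have hABc : (Nat.card A).Coprime (Nat.card B) := by
    apply Nat.coprime_of_dvd
    intro p hp hpA hpB
    have h1 : p ∣ Nat.gcd (Nat.card B) n := Nat.dvd_gcd hpB (hAp p hp hpA)
    rw [hBn, Nat.dvd_one] at h1
    exact hp.ne_one h1
  have hAm : (Nat.card A).Coprime m := by
    apply Nat.coprime_of_dvd
    intro p hp hpA hpm
    have h1 : p ∣ Nat.gcd m n := Nat.dvd_gcd hpm (hAp p hp hpA)
    rw [hcop, Nat.dvd_one] at h1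
    exact hp.ne_one h1
  have hsup : A ⊔ B = Z := by
    apply le_antisymm (sup_le hAZ hBZ)
    intro z hz
    obtain ⟨x, hx, y, hy, rfl⟩ := exists_mul_powKer Z hZ hcopab hZab z hz
    exact Subgroup.mul_mem _ (Subgroup.mem_sup_left (hAdef ▸ hx))
      (Subgroup.mem_sup_right (hBdef ▸ hy))
  have hinf : B ⊓ A = ⊥ := by
    rw [inf_comm, hAdef, hBdef]
    exact powKer_inf_eq_bot Z hZ hcopab
  haveI hBnorm : B.Normal := by
    constructor
    intro x hx g
    have := Subgroup.mem_center_iff.mp (hBc hx) g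
    rw [this, mul_inv_cancel_right]
    exact hx
  have hrel : B.relIndex Z = Nat.card A := by
    rw [← hsup, Subgroup.relIndex_sup_right, ← Subgroup.inf_relIndex_right, hinf,
      Subgroup.relIndex_bot_left]
  have hrelG : B.relIndex G = Nat.card A * n := by
    rw [← Subgroup.relIndex_mul_relIndex B Z G hBZ hZG, hrel, hn]
  obtain ⟨K, hKn, hKG, hKB, hdec, hKcard, hKrel⟩ := exists_central_complement G B hBc
    (hBZ.trans hZG) (by rw [hrelG]; exact Nat.Coprime.mul_right hABc.symm hBn)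
  haveI := hKn
  have hKidx : K.index = Nat.card B * m := by
    rw [← Subgroup.relIndex_mul_index hKG, hKrel, hm]
  have hcopK : (Nat.card K).Coprime K.index := by
    rw [hKcard, hrelG, hKidx]
    exact Nat.Coprime.mul_left (Nat.Coprime.mul_right hABc hAm)
      (Nat.Coprime.mul_right hBn.symm hcop.symm)
  obtain ⟨S, hS⟩ := Subgroup.exists_left_complement'_of_coprime hcopK
  have hScard : Nat.card S = K.index := hS.index_eq_card.symm
  have hcopKS : (Nat.card K).Coprime (Nat.card S) := by rw [hScard]; exact hcopK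
  have hdecE : ∀ x : E, ∃ s ∈ S, ∃ k ∈ K, x = s * k := by
    intro x
    obtain ⟨y, hy, -⟩ := (Subgroup.isComplement'_def.mp hS).existsUnique x
    exact ⟨y.1, y.1.2, y.2, y.2.2, hy.symm⟩
  -- the character of `K ⊓ Z`
  obtain ⟨C, hCdef⟩ : ∃ C, C = K ⊓ Z := ⟨_, rfl⟩
  have hCK : C ≤ K := hCdef ▸ inf_le_left
  have hCZ : C ≤ Z := hCdef ▸ inf_le_right
  have hCc : C ≤ Subgroup.center E := hCZ.trans hZ
  let lamC : C →* ℂˣ := lam.comp (Subgroup.inclusion hCZ)
  let θ₀ : IrrCharacter C := ⟨fun c => ((lamC c : ℂˣ) : ℂ),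
    isIrrCharacter_of_monoidHom ((Units.coeHom ℂ).comp lamC)⟩
  have hθ₀ : ∀ c : C, (θ₀ : C → ℂ) c = ((lamC c : ℂˣ) : ℂ) := fun c => rfl
  have hθinv : ∀ s ∈ S, InvAt C (θ₀ : C → ℂ) s := by
    intro s _ g g' h
    have : g' = g := by
      apply Subtype.ext
      rw [h, Subgroup.mem_center_iff.mp (hCc g.2) s, mul_inv_cancel_right]
    rw [this]
  have hSK : S ≤ Subgroup.normalizer (K : Set E) := by
    rw [Subgroup.normalizer_eq_top]
    exact le_top
  have hSC : S ≤ Subgroup.normalizer (C : Set E) := le_normalizer_of_le_center S hCc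
  have hKC : K ≤ Subgroup.normalizer (C : Set E) := le_normalizer_of_le_center K hCc
  have hψex : ∃ ψ : IrrCharacter K, mult (Subgroup.inclusion hCK) ψ θ₀ ≠ 0 ∧
      ∀ s ∈ S, InvAt K (ψ : K → ℂ) s := by
    rcases hsolv with ⟨k, hk⟩ | ⟨k, hk⟩
    · -- `S` is solvable
      have hSGB : S ⊓ G ≤ B := by
        rintro g ⟨hgS, hgG⟩
        obtain ⟨k', hk', b', hb', rfl⟩ := hdec g hgG
        have hc : Commute k' b' := Subgroup.mem_center_iff.mp (hBc hb') k'
        have h1 : (k' * b') ^ Nat.card S = 1 := by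
          have := pow_card_eq_one' (x := (⟨k' * b', hgS⟩ : S))
          exact congrArg Subtype.val this
        rw [hc.mul_pow] at h1
        have h2 : k' ^ Nat.card S ∈ K ⊓ B := by
          refine ⟨K.pow_mem hk' _, ?_⟩
          rw [eq_inv_of_mul_eq_one_left h1]
          exact B.inv_mem (B.pow_mem hb' _)
        rw [hKB, Subgroup.mem_bot] at h2
        have h3 : k' ^ Nat.card K = 1 := by
          have := pow_card_eq_one' (x := (⟨k', hk'⟩ : K))
          exact congrArg Subtype.val this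
        have h4 : k' = 1 := eq_one_of_pow_eq_one_of_coprime hcopKS h3 h2
        rw [h4, one_mul]
        exact hb'
      have h1 : dser S k ≤ B := by
        refine le_trans (le_inf (dser_le S k) ?_) hSGB
        refine le_trans (dser_mono le_top k) ?_
        rw [dser_top]
        exact hk
      have h2 : dser S (k + 1) = ⊥ := by
        rw [dser_succ, eq_bot_iff]
        refine le_trans (Subgroup.commutator_mono h1 h1) ?_
        rw [Subgroup.commutator_le]
        intro x hx y hy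
        rw [Subgroup.mem_bot, commutatorElement_def, Subgroup.mem_center_iff.mp (hBc hy) x,
          mul_inv_cancel_right, mul_inv_cancel]
      have hsolvS : Group.IsSolvable S := by
        rw [Group.isSolvable_def]
        refine ⟨k + 1, ?_⟩
        rw [dser_eq_map] at h2
        exact (Subgroup.map_eq_bot_iff_of_injective _ S.subtype_injective).mp h2
      exact exists_invariant_over K C S hcopKS hsolvS hSK hSC hCK hKC θ₀ hθinv
    · have h1 : dser K k ≤ C := by
        rw [hCdef]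
        exact le_inf (dser_le K k) ((dser_mono hKG k).trans hk)
      have h2 : (C.relIndex K).Coprime (Nat.card S) :=
        Nat.Coprime.coprime_dvd_left (Subgroup.relIndex_dvd_card C K) hcopKS
      exact exists_invariant_over_dser K S hSK k C hCK hKC hSC h2 h1 θ₀ hθinv
  obtain ⟨ψ, hψne, hψS⟩ := hψex
  -- `ψ` is invariant in `E`
  have hψE : ∀ x : E, InvAt K (ψ : K → ℂ) x := by
    have hSle : S ≤ invStab K (ψ : K → ℂ) := fun s hs => ⟨hSK hs, hψS s hs⟩
    have hKle : K ≤ invStab K (ψ : K → ℂ) := by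
      intro k hk
      refine ⟨Subgroup.le_normalizer hk, ?_⟩
      intro g g' h
      have : g' = ⟨k, hk⟩ * g * (⟨k, hk⟩ : K)⁻¹ := by
        apply Subtype.ext
        rw [h]
        rfl
      rw [this]
      exact isClassFunction_irr ψ g ⟨k, hk⟩
    intro x
    obtain ⟨s, hs, k, hk, rfl⟩ := hdecE x
    exact (Subgroup.mul_mem _ (hSle hs) (hKle hk)).2
  -- the central character of `ψ`
  have hψC : ∀ (c : C) (k : K), (ψ : K → ℂ) (Subgroup.inclusion hCK c * k) =
      ((lamC c : ℂˣ) : ℂ) * (ψ : K → ℂ) k :=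
    irr_mul_central_amb hCK
      (fun c hc k _ => (Subgroup.mem_center_iff.mp (hCc hc) k).symm) ψ lamC θ₀ hθ₀ hψne
  -- the product character
  have hBG : B ≤ G := hBZ.trans hZG
  let lamB : B →* ℂˣ := lam.comp (Subgroup.inclusion hBZ)
  obtain ⟨β, hβ⟩ := exists_irr_of_central_prod G K B hKG hBG hBc hKB hdec ψ lamB
  have hβ' : ∀ (k : E) (hk : k ∈ K) (b' : E) (hb : b' ∈ B) (g : G), (g : E) = k * b' →
      (β : G → ℂ) g = (ψ : K → ℂ) ⟨k, hk⟩ * ((lam ⟨b', hBZ hb⟩ : ℂˣ) : ℂ) := by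
    intro k hk b' hb g hg
    have : g = Subgroup.inclusion hKG ⟨k, hk⟩ * Subgroup.inclusion hBG ⟨b', hb⟩ :=
      Subtype.ext hg
    rw [this, hβ]
    rfl
  refine ⟨β, ?_, ?_⟩
  · intro z g
    obtain ⟨k, hk, b', hb, hg⟩ := hdec g g.2
    obtain ⟨kz, hkz, bz, hbz, hz⟩ := hdec z (hZG z.2)
    have hkzZ : kz ∈ Z := by
      have : kz = z * bz⁻¹ := by rw [hz, mul_inv_cancel_right]
      rw [this]
      exact Z.mul_mem z.2 (Z.inv_mem (hBZ hbz))
    have hkzC : kz ∈ C := hCdef ▸ ⟨hkz, hkzZ⟩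
    have h1 : ((Subgroup.inclusion hZG z * g : G) : E) = (kz * k) * (bz * b') := by
      rw [Subgroup.coe_mul, Subgroup.coe_inclusion, hz, hg]
      have hc := Subgroup.mem_center_iff.mp (hBc hbz) k
      calc kz * bz * (k * b') = kz * (bz * k) * b' := by group
        _ = kz * (k * bz) * b' := by rw [← hc]
        _ = kz * k * (bz * b') := by group
    rw [hβ' (kz * k) (K.mul_mem hkz hk) (bz * b') (B.mul_mem hbz hb) _ h1,
      hβ' k hk b' hb g hg]
    have h2 := hψC ⟨kz, hkzC⟩ ⟨k, hk⟩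
    have h3 : (⟨kz * k, K.mul_mem hkz hk⟩ : K) =
        Subgroup.inclusion hCK ⟨kz, hkzC⟩ * ⟨k, hk⟩ := rfl
    rw [h3, h2]
    have h4 : (⟨bz * b', hBZ (B.mul_mem hbz hb)⟩ : Z) = ⟨bz, hBZ hbz⟩ * ⟨b', hBZ hb⟩ := rfl
    have h5 : z = ⟨kz, hkzZ⟩ * ⟨bz, hBZ hbz⟩ := Subtype.ext hz
    rw [h4, map_mul, h5, map_mul, Units.val_mul, Units.val_mul]
    have h6 : lamC ⟨kz, hkzC⟩ = lam ⟨kz, hkzZ⟩ := rfl
    rw [h6]
    ring
  · intro x g g' hgg'
    obtain ⟨k, hk, b', hb, hg⟩ := hdec g g.2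
    have hk' : x * k * x⁻¹ ∈ K := hKn.conj_mem k hk x
    have h1 : (g' : E) = (x * k * x⁻¹) * b' := by
      rw [hgg', hg]
      have hc := Subgroup.mem_center_iff.mp (hBc hb) x⁻¹
      calc x * (k * b') * x⁻¹ = x * k * (b' * x⁻¹) := by group
        _ = x * k * (x⁻¹ * b') := by rw [← hc]
        _ = x * k * x⁻¹ * b' := by group
    rw [hβ' _ hk' b' hb g' h1, hβ' k hk b' hb g hg]
    rw [hψE x ⟨k, hk⟩ ⟨x * k * x⁻¹, hk'⟩ rfl]

end Main

end Cfsg.Agent.Helper24
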