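import Mathlib
import Cfsg.Agent.Helper24.CentralInv
import Cfsg.Agent.Helper24.ProjLift
import Cfsg.Agent.Helper24.MinNormalLinear
import Cfsg.Agent.Helper8.CharComp

/-!
Isaacs 13.31 by reduction to the central case through a finite central extension in which the
invariant character extends.
-/

set_option autoImplicit false

namespace Cfsg.Agent.Helper24

open Cfsg

universe u

section Deflate

/-- A function on `G` whose pull-back along a surjection is an irreducible character is an
irreducible character. -/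
theorem isIrrCharacter_of_comp_surjective_irr {G G' : Type*} [Group G] [Group G'] [Finite G']
    (f : G' →* G) (hf : Function.Surjective f) (χ : G → ℂ)
    (h : IsIrrCharacter G' (fun g => χ (f g))) : IsIrrCharacter G χ := by
  obtain ⟨m, ρ, hρ, hχ⟩ := h
  have hker : f.ker ≤ MonoidHom.ker ρ := by
    intro z hz
    rw [MonoidHom.mem_ker] at hz ⊢
    have h1 : ρ.character z = ρ.character 1 := by
      rw [hχ]
      simp only
      rw [hz, map_one]
    rw [Representation.char_one] at h1
    have := (char_eq_finrank_iff ρ z).mp h1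
    rw [this]
    rfl
  let e := QuotientGroup.quotientKerEquivOfSurjective f hf
  let ρ' : Representation ℂ G (Fin m → ℂ) :=
    (QuotientGroup.lift f.ker ρ hker).comp e.symm.toMonoidHom
  have hcomp : (MonoidHom.comp ρ' f : Representation ℂ G' (Fin m → ℂ)) = ρ := by
    apply MonoidHom.ext
    intro g
    have h1 : e.symm (f g) = (g : G' ⧸ f.ker) := by
      rw [MulEquiv.symm_apply_eq]
      rfl
    show (QuotientGroup.lift f.ker ρ hker) (e.symm (f g)) = ρ g
    rw [h1]
    rfl
  have hρ' : ρ'.IsIrreducible := by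
    have h1 : Representation.IsIrreducible (MonoidHom.comp ρ' f :
        Representation ℂ G' (Fin m → ℂ)) := by
      rw [hcomp]; exact hρ
    exact (OrderIso.isSimpleOrder_iff (Helper8.subrepCompOrderIso ρ' f hf)).mpr h1
  refine ⟨m, ρ', hρ', ?_⟩
  funext g
  obtain ⟨g', rfl⟩ := hf g
  have h2 := congrFun hχ g'
  rw [← h2, ← hcomp]
  rfl

end Deflate

section MapDser

open scoped commutatorElement

theorem map_dser {E F : Type*} [Group E] [Group F] (f : E →* F) (H : Subgroup E) (k : ℕ) :
    (dser H k).map f = dser (H.map f) k := by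
  induction k with
  | zero => rfl
  | succ k ih => rw [dser_succ, dser_succ, Subgroup.map_commutator, ih]

end MapDser

section Reduce

variable {Γ E : Type u} [Group Γ] [Group E] [Finite Γ] [Finite E]

omit [Finite E] in
/-- The structural part of the reduction: the images of `p⁻¹(G)` and `ker p` in `E / ι(N)`
satisfy the hypotheses of the central case. -/
theorem reduce_structure (p : E →* Γ) (hp : Function.Surjective p)
    (hker : p.ker ≤ Subgroup.center E)
    (G N : Subgroup Γ) (hNG : N ≤ G)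
    (hcop : (G.index).Coprime (N.relIndex G))
    (hsolv : (∃ k, derivedSeries Γ k ≤ G) ∨ (∃ k, dser G k ≤ N))
    (ι : N →* E) (hι : ∀ n : N, p (ι n) = (n : Γ)) [hιn : ι.range.Normal] :
    (p.ker.map (QuotientGroup.mk' ι.range) ≤ Subgroup.center (E ⧸ ι.range)) ∧
    (p.ker.map (QuotientGroup.mk' ι.range) ≤ (G.comap p).map (QuotientGroup.mk' ι.range)) ∧
    (((G.comap p).map (QuotientGroup.mk' ι.range)).index.Coprime
      ((p.ker.map (QuotientGroup.mk' ι.range)).relIndex
        ((G.comap p).map (QuotientGroup.mk' ι.range)))) ∧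
    ((∃ k, derivedSeries (E ⧸ ι.range) k ≤ (G.comap p).map (QuotientGroup.mk' ι.range)) ∨
      (∃ k, dser ((G.comap p).map (QuotientGroup.mk' ι.range)) k ≤
        p.ker.map (QuotientGroup.mk' ι.range))) := by
  have hπs : Function.Surjective (QuotientGroup.mk' ι.range) := QuotientGroup.mk'_surjective _
  have hNt : ι.range ≤ G.comap p := by
    rintro _ ⟨n, rfl⟩
    rw [Subgroup.mem_comap, hι]
    exact hNG n.2
  have hZG : p.ker ≤ G.comap p := by
    intro z hz
    rw [Subgroup.mem_comap, MonoidHom.mem_ker.mp hz]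
    exact G.one_mem
  have hsup : p.ker ⊔ ι.range = N.comap p := by
    apply le_antisymm
    · apply sup_le
      · intro z hz
        rw [Subgroup.mem_comap, MonoidHom.mem_ker.mp hz]
        exact N.one_mem
      · rintro _ ⟨n, rfl⟩
        rw [Subgroup.mem_comap, hι]
        exact n.2
    · intro x hx
      rw [Subgroup.mem_comap] at hx
      have h1 : x = (x * (ι ⟨p x, hx⟩)⁻¹) * ι ⟨p x, hx⟩ := by group
      rw [h1]
      refine Subgroup.mul_mem _ (Subgroup.mem_sup_left ?_) (Subgroup.mem_sup_right ⟨_, rfl⟩)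
      rw [MonoidHom.mem_ker, map_mul, map_inv, hι, mul_inv_cancel]
  refine ⟨?_, Subgroup.map_mono hZG, ?_, ?_⟩
  · rintro _ ⟨z, hz, rfl⟩
    rw [Subgroup.mem_center_iff]
    intro q
    obtain ⟨x, rfl⟩ := hπs q
    rw [← map_mul, ← map_mul, Subgroup.mem_center_iff.mp (hker hz) x]
  · have h1 : ((G.comap p).map (QuotientGroup.mk' ι.range)).index = G.index := by
      rw [Subgroup.index_map_eq _ hπs (by rw [QuotientGroup.ker_mk']; exact hNt),
        Subgroup.index_comap_of_surjective G hp]
    have h2 : (p.ker.map (QuotientGroup.mk' ι.range)).index = N.index := by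
      rw [Subgroup.index_map, QuotientGroup.ker_mk', MonoidHom.range_eq_top.mpr hπs,
        Subgroup.index_top, mul_one, hsup, Subgroup.index_comap_of_surjective N hp]
    have h3 := Subgroup.relIndex_mul_index (Subgroup.map_mono (f := QuotientGroup.mk' ι.range) hZG)
    have h4 := Subgroup.relIndex_mul_index hNG
    rw [h1, h2, ← h4] at h3
    have h5 : (p.ker.map (QuotientGroup.mk' ι.range)).relIndex
        ((G.comap p).map (QuotientGroup.mk' ι.range)) = N.relIndex G :=
      Nat.eq_of_mul_eq_mul_right (Nat.pos_of_ne_zero Subgroup.index_ne_zero_of_finite) h3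
    rw [h1, h5]
    exact hcop
  · rcases hsolv with ⟨k, hk⟩ | ⟨k, hk⟩
    · left
      refine ⟨k, ?_⟩
      rw [← map_derivedSeries_eq hπs k]
      apply Subgroup.map_mono
      rw [← Subgroup.map_le_iff_le_comap, map_derivedSeries_eq hp k]
      exact hk
    · right
      refine ⟨k, ?_⟩
      rw [← map_dser]
      have h1 : dser (G.comap p) k ≤ N.comap p := by
        rw [← Subgroup.map_le_iff_le_comap, map_dser, Subgroup.map_comap_eq_self_of_surjective hp]
        exact hk
      refine le_trans (Subgroup.map_mono h1) ?_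
      rw [← hsup, Subgroup.map_sup]
      apply sup_le le_rfl
      rintro _ ⟨x, hx, rfl⟩
      have : QuotientGroup.mk' ι.range x = 1 := by
        rw [QuotientGroup.mk'_apply, QuotientGroup.eq_one_iff]
        exact hx
      rw [this]
      exact Subgroup.one_mem _

omit [Finite Γ] in
/-- The central character of an irreducible character on a central subgroup. -/
theorem exists_central_hom (τ : IrrCharacter E) (Zt : Subgroup E)
    (hZt : Zt ≤ Subgroup.center E) :
    ∃ ω : Zt →* ℂˣ, ∀ (z : Zt) (x : E),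
      (τ : E → ℂ) (x * z) = ((ω z : ℂˣ) : ℂ) * (τ : E → ℂ) x := by
  have hτ1 : (τ : E → ℂ) 1 ≠ 0 := irr_one_ne_zero τ
  have hkey : ∀ (z : Zt) (x : E),
      (τ : E → ℂ) (x * z) = ((τ : E → ℂ) z / (τ : E → ℂ) 1) * (τ : E → ℂ) x := by
    intro z x
    obtain ⟨w, -, hw⟩ := exists_central_scalar τ (z : E)
      (fun d => Subgroup.mem_center_iff.mp (hZt z.2) d)
    have h1 := hw 1 1
    rw [pow_one, pow_one, one_mul] at h1
    have h2 := hw x 1
    rw [pow_one, pow_one] at h2
    rw [h2, h1, mul_div_assoc, div_self hτ1, mul_one]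
  let ω₀ : Zt →* ℂ :=
    { toFun := fun z => (τ : E → ℂ) z / (τ : E → ℂ) 1
      map_one' := by
        show (τ : E → ℂ) ((1 : Zt) : E) / (τ : E → ℂ) 1 = 1
        rw [Subgroup.coe_one, div_self hτ1]
      map_mul' := by
        intro z z'
        show (τ : E → ℂ) ((z * z' : Zt) : E) / (τ : E → ℂ) 1 = _
        rw [Subgroup.coe_mul, hkey z' z]
        field_simp }
  refine ⟨ω₀.toHomUnits, ?_⟩
  intro z x
  rw [hkey z x]
  rfl

/-- The reduction of Isaacs 13.31 to the central case: `E → Γ` is a central extension in which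
`N` lifts to a normal subgroup on which some character `τ` of `E` restricts to `θ`. -/
theorem exists_invariant_over_of_lift (p : E →* Γ) (hp : Function.Surjective p)
    (hker : p.ker ≤ Subgroup.center E)
    (G N : Subgroup Γ) [hG : G.Normal] (hNG : N ≤ G)
    (hcop : (G.index).Coprime (N.relIndex G))
    (hsolv : (∃ k, derivedSeries Γ k ≤ G) ∨ (∃ k, dser G k ≤ N))
    (ι : N →* E) (hι : ∀ n : N, p (ι n) = (n : Γ)) [hιn : ι.range.Normal]
    (τ : E → ℂ) (hτ : IsCharacter E τ) (θ : IrrCharacter N)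
    (hτθ : ∀ n : N, τ (ι n) = (θ : N → ℂ) n) :
    ∃ χ : IrrCharacter G,
      (∃ c : ℂ, c ≠ 0 ∧ ∀ n : N, (χ : G → ℂ) ⟨n, hNG n.2⟩ = c * (θ : N → ℂ) n) ∧
      ∀ x : Γ, InvAt G (χ : G → ℂ) x := by
  classical
  haveI : Fintype E := Fintype.ofFinite E
  haveI : Fintype N := Fintype.ofFinite N
  have hτirr : IsIrrCharacter E τ := isIrrCharacter_of_comp_irr ι hτ (by
    convert θ.2 using 1
    funext n
    exact hτθ n)
  obtain ⟨hZc, hZG, hcop', hsolv'⟩ := reduce_structure p hp hker G N hNG hcop hsolv ι hι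
  have hπs : Function.Surjective (QuotientGroup.mk' ι.range) := QuotientGroup.mk'_surjective _
  haveI hGtn : (G.comap p).Normal := hG.comap p
  haveI hGqn : ((G.comap p).map (QuotientGroup.mk' ι.range)).Normal := hGtn.map _ hπs
  -- the isomorphism of `ker p` with its image
  have hZinj : Function.Injective ((QuotientGroup.mk' ι.range).subgroupMap p.ker) := by
    rw [injective_iff_map_eq_one]
    intro z hz
    have h1 : QuotientGroup.mk' ι.range (z : E) = 1 := congrArg Subtype.val hz
    rw [QuotientGroup.mk'_apply, QuotientGroup.eq_one_iff] at h1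
    obtain ⟨n, hn⟩ := h1
    have h2 : (n : Γ) = 1 := by
      rw [← hι n, hn]
      exact MonoidHom.mem_ker.mp z.2
    have h3 : n = 1 := Subtype.ext h2
    apply Subtype.ext
    rw [← hn, h3, map_one]
    rfl
  let eZ : p.ker ≃* p.ker.map (QuotientGroup.mk' ι.range) :=
    MulEquiv.ofBijective _ ⟨hZinj, MonoidHom.subgroupMap_surjective _ _⟩
  obtain ⟨ω, hω⟩ := exists_central_hom ⟨τ, hτirr⟩ p.ker hker
  let lam : p.ker.map (QuotientGroup.mk' ι.range) →* ℂˣ :=
    (invMonoidHom.comp ω).comp eZ.symm.toMonoidHom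
  have hlam : ∀ z : p.ker, lam (eZ z) = (ω z)⁻¹ := by
    intro z
    show (ω (eZ.symm (eZ z)))⁻¹ = _
    rw [MulEquiv.symm_apply_apply]
  obtain ⟨β, hβZ, hβinv⟩ := exists_invariant_over_central _ _ hZc hZG hcop' hsolv' lam
  -- Gallagher in the preimage of `G`
  haveI : Fintype (G.comap p) := Fintype.ofFinite _
  have hιG : ∀ n : N, ι n ∈ G.comap p := fun n => by
    rw [Subgroup.mem_comap, hι]
    exact hNG n.2
  let ιG : N →* (G.comap p) := ι.codRestrict (G.comap p) hιG
  have hτG : IsIrrCharacter (G.comap p) (fun g => τ g) :=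
    isIrrCharacter_of_comp_irr ιG (Helper8.isCharacter_comp (G.comap p).subtype hτ) (by
      convert θ.2 using 1
      funext n
      exact hτθ n)
  let N' : Subgroup (G.comap p) := ι.range.subgroupOf (G.comap p)
  haveI hN'n : N'.Normal := Subgroup.normal_subgroupOf
  haveI : Fintype N' := Fintype.ofFinite _
  let ιN' : N →* N' := ιG.codRestrict N' (fun n => by
    show ιG n ∈ ι.range.subgroupOf (G.comap p)
    rw [Subgroup.mem_subgroupOf]
    exact ⟨n, rfl⟩)
  have hχN : IsIrrCharacter N' (fun n : N' => τ ((n : G.comap p) : E)) :=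
    isIrrCharacter_of_comp_irr ιN'
      (Helper8.isCharacter_comp N'.subtype (IsIrrCharacter.isCharacter hτG)) (by
        convert θ.2 using 1
        funext n
        exact hτθ n)
  let sm : (G.comap p) →* (G.comap p).map (QuotientGroup.mk' ι.range) :=
    (QuotientGroup.mk' ι.range).subgroupMap (G.comap p)
  have hsm : ∀ g : G.comap p, ((sm g : (G.comap p).map (QuotientGroup.mk' ι.range)) :
      E ⧸ ι.range) = QuotientGroup.mk' ι.range (g : E) := fun g => rfl
  have hN'ker : N' ≤ sm.ker := by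
    intro x hx
    rw [MonoidHom.mem_ker]
    apply Subtype.ext
    rw [hsm, Subgroup.coe_one, QuotientGroup.mk'_apply, QuotientGroup.eq_one_iff]
    exact hx
  let φ : (G.comap p) ⧸ N' →* (G.comap p).map (QuotientGroup.mk' ι.range) :=
    QuotientGroup.lift N' sm hN'ker
  have hφs : Function.Surjective φ := by
    intro y
    obtain ⟨x, rfl⟩ := MonoidHom.subgroupMap_surjective _ _ y
    exact ⟨(x : _ ⧸ N'), rfl⟩
  let β' : IrrCharacter ((G.comap p) ⧸ N') :=
    ⟨fun q => β.1 (φ q), Helper8.isIrrCharacter_comp_surjective φ hφs β.2⟩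
  have hχt := isIrrCharacter_gallagherTwist N' ⟨fun g => τ g, hτG⟩ hχN β'
  have hχtval : ∀ g : G.comap p, gallagherTwist N' ⟨fun g => τ g, hτG⟩ β' g =
      β.1 (sm g) * τ g := fun g => rfl
  -- deflation to `G`
  let pG : (G.comap p) →* G := p.subgroupComap G
  have hpG : Function.Surjective pG := MonoidHom.subgroupComap_surjective_of_surjective p G hp
  have hpGval : ∀ g : G.comap p, ((pG g : G) : Γ) = p (g : E) := fun g => rfl
  have hconst : ∀ g₁ g₂ : G.comap p, pG g₁ = pG g₂ →
      β.1 (sm g₁) * τ g₁ = β.1 (sm g₂) * τ g₂ := by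
    intro g₁ g₂ h12
    have hz : (g₂ : E) * (g₁ : E)⁻¹ ∈ p.ker := by
      rw [MonoidHom.mem_ker, map_mul, map_inv, ← hpGval, ← hpGval, h12, mul_inv_cancel]
    have h1 : sm g₂ = Subgroup.inclusion hZG (eZ ⟨_, hz⟩) * sm g₁ := by
      apply Subtype.ext
      rw [Subgroup.coe_mul, hsm, hsm, Subgroup.coe_inclusion]
      show _ = QuotientGroup.mk' ι.range ((g₂ : E) * (g₁ : E)⁻¹) * _
      rw [← map_mul, inv_mul_cancel_right]
    have h2 : τ g₂ = ((ω ⟨_, hz⟩ : ℂˣ) : ℂ) * τ g₁ := by
      have h3 := hω ⟨_, hz⟩ (g₁ : E)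
      have h4 : (g₁ : E) * ((g₂ : E) * (g₁ : E)⁻¹) = g₂ := by
        rw [Subgroup.mem_center_iff.mp (hker hz) (g₁ : E), inv_mul_cancel_right]
      simp only at h3
      rw [h4] at h3
      exact h3
    rw [h1, hβZ, hlam, h2]
    have h5 : (((ω ⟨_, hz⟩)⁻¹ : ℂˣ) : ℂ) * ((ω ⟨_, hz⟩ : ℂˣ) : ℂ) = 1 := by
      rw [← Units.val_mul, inv_mul_cancel, Units.val_one]
    calc β.1 (sm g₁) * τ g₁
        = ((((ω ⟨_, hz⟩)⁻¹ : ℂˣ) : ℂ) * ((ω ⟨_, hz⟩ : ℂˣ) : ℂ)) *
          (β.1 (sm g₁) * τ g₁) := by rw [h5, one_mul]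
      _ = _ := by ring
  obtain ⟨χ, hχ⟩ : ∃ χ : G → ℂ, ∀ g : G.comap p, χ (pG g) = β.1 (sm g) * τ g := by
    refine ⟨fun g => β.1 (sm (Function.surjInv hpG g)) *
      τ ((Function.surjInv hpG g : G.comap p) : E), ?_⟩
    intro g
    exact hconst _ _ (Function.surjInv_eq hpG (pG g))
  have hχirr : IsIrrCharacter G χ := by
    apply isIrrCharacter_of_comp_surjective_irr pG hpG χ
    convert hχt using 1
    funext g
    rw [hχ, hχtval]
  refine ⟨⟨χ, hχirr⟩, ⟨β.1 1, irr_one_ne_zero β, ?_⟩, ?_⟩
  · intro n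
    have h1 : (⟨(n : Γ), hNG n.2⟩ : G) = pG (ιG n) := Subtype.ext (hι n).symm
    show χ _ = _
    rw [h1, hχ]
    have h2 : sm (ιG n) = 1 := by
      apply Subtype.ext
      rw [hsm, Subgroup.coe_one, QuotientGroup.mk'_apply, QuotientGroup.eq_one_iff]
      exact ⟨n, rfl⟩
    rw [h2]
    show _ * τ (ι n) = _
    rw [hτθ]
  · intro x g g' hgg'
    show χ g' = χ g
    obtain ⟨xt, rfl⟩ := hp x
    obtain ⟨gt, rfl⟩ := hpG g
    have hmem : xt * (gt : E) * xt⁻¹ ∈ G.comap p := hGtn.conj_mem _ gt.2 xt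
    have h1 : g' = pG ⟨_, hmem⟩ := by
      apply Subtype.ext
      rw [hgg', hpGval, hpGval, map_mul, map_mul, map_inv]
    rw [h1, hχ, hχ]
    have h2 := hβinv (QuotientGroup.mk' ι.range xt) (sm gt) (sm ⟨_, hmem⟩) (by
      rw [hsm, hsm, map_mul, map_mul, map_inv])
    rw [h2]
    have h3 : τ (xt * (gt : E) * xt⁻¹) = τ gt :=
      IsCharacter.isClassFunction hτ _ _
    show _ * τ (xt * (gt : E) * xt⁻¹) = _
    rw [h3]

end Reduce

end Cfsg.Agent.Helper24
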