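import Mathlib
import Cfsg.Prelude.Def_Characters
import Cfsg.Agent.Helper24.QP889Defs
import Cfsg.Agent.Helper24.TripleReduce
import Cfsg.Agent.Helper8.CharComp

/-!
S0889, piece SUPP: an irreducible character invariant under the normal subgroup `A` restricts
irreducibly to every supplement of `A`.
-/

set_option autoImplicit false

namespace Cfsg.Agent.QP889

open Cfsg Cfsg.Agent.Helper24
open scoped ComplexConjugate

universe u

/-- an `A`-invariant class function is also invariant under right translation by `A`. -/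
theorem supp_invOn_right {Γ : Type u} [Group Γ] (A : Subgroup Γ) [hA : A.Normal] (β : Γ → ℂ)
    (hβA : InvOn A β) (g n : Γ) (hn : n ∈ A) : β (g * n) = β g := by
  have h1 : g * n = (g * n * g⁻¹) * g := by group
  rw [h1]
  exact hβA _ (hA.conj_mem n hn g) g

/-- an `A`-invariant function factors through the quotient. -/
theorem supp_exists_quot {Γ : Type u} [Group Γ] (A : Subgroup Γ) [hA : A.Normal] (β : Γ → ℂ)
    (hβA : InvOn A β) : ∃ β' : Γ ⧸ A → ℂ, ∀ g : Γ, β' (g : Γ ⧸ A) = β g := by
  refine ⟨fun q => Quotient.liftOn' q β ?_, fun g => rfl⟩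
  intro a b hab
  rw [QuotientGroup.leftRel_apply] at hab
  have h1 : b = a * (a⁻¹ * b) := by group
  rw [h1]
  exact (supp_invOn_right A β hβA a _ hab).symm

theorem isIrrCharacter_restrict_of_sup {Γ : Type u} [Group Γ] [Fintype Γ] (A Hh : Subgroup Γ)
    [A.Normal] (hsup : A ⊔ Hh = ⊤) (β : Γ → ℂ) (hβ : IsIrrCharacter Γ β) (hβA : InvOn A β) :
    IsIrrCharacter Hh (fun h : Hh => β h) := by
  obtain ⟨β', hβ'⟩ := supp_exists_quot A β hβA
  haveI : Finite (Γ ⧸ A) := inferInstance
  have hβ'irr : IsIrrCharacter (Γ ⧸ A) β' := by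
    apply isIrrCharacter_of_comp_surjective_irr (QuotientGroup.mk' A)
      (QuotientGroup.mk'_surjective A)
    have : (fun g => β' ((QuotientGroup.mk' A) g)) = β := funext hβ'
    rw [this]
    exact hβ
  set f : Hh →* Γ ⧸ A := (QuotientGroup.mk' A).comp Hh.subtype with hf
  have hfs : Function.Surjective f := by
    intro q
    obtain ⟨g, rfl⟩ := QuotientGroup.mk'_surjective A q
    have hg : g ∈ A ⊔ Hh := by rw [hsup]; exact Subgroup.mem_top g
    obtain ⟨a, ha, h, hh, rfl⟩ := Subgroup.mem_sup_of_normal_left.mp hg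
    refine ⟨⟨h, hh⟩, ?_⟩
    show (QuotientGroup.mk' A) h = (QuotientGroup.mk' A) (a * h)
    rw [map_mul]
    have : (QuotientGroup.mk' A) a = 1 := by
      rw [QuotientGroup.mk'_apply, QuotientGroup.eq_one_iff]; exact ha
    rw [this, one_mul]
  have h1 := Helper8.isIrrCharacter_comp_surjective f hfs hβ'irr
  convert h1 using 1
  funext h
  exact (hβ' (h : Γ)).symm

end Cfsg.Agent.QP889
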