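import Mathlib
import Cfsg.Agent.Helper2.S2099.DefsM

set_option autoImplicit false
set_option linter.unusedSectionVars false
set_option linter.unusedVariables false
set_option linter.unusedSimpArgs false

/-! S2099 chapter M (driver helper2), piece XMATQ: the relations between the model matrices
`blkQ`, `xmQ`, `ymQ` (port of S2094 XMATB). -/

namespace Cfsg.Agent.S2099P

open Matrix Cfsg.Agent.S3352P Cfsg.Agent.S3351P Cfsg.Agent.S2096P

variable {n : ℕ} {F : Type*} [Field F] {κ : Type} [Fintype κ] [DecidableEq κ]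

namespace XMATQ

/-- matrix units of the `J n × J n` block -/
def EE (a b : J n) : Matrix (IQ n κ) (IQ n κ) F :=
  Matrix.fromBlocks (Matrix.single a b (1 : F)) 0 0 0

/-- the row `a` of the upper right block -/
def RR (a : J n) (u : κ → F) : Matrix (IQ n κ) (IQ n κ) F :=
  Matrix.fromBlocks 0 (Matrix.vecMulVec (Pi.single a (1 : F)) u) 0 0

/-- the column `a` of the lower left block -/
def CC (u : κ → F) (a : J n) : Matrix (IQ n κ) (IQ n κ) F :=
  Matrix.fromBlocks 0 0 (Matrix.vecMulVec u (Pi.single a (1 : F))) 0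

/-- the lower right block -/
def KK (u v : κ → F) : Matrix (IQ n κ) (IQ n κ) F :=
  Matrix.fromBlocks 0 0 0 (Matrix.vecMulVec u v)

theorem single_mul_single' (a b c d : J n) :
    (Matrix.single a b (1 : F)) * Matrix.single c d 1 =
      if b = c then Matrix.single a d 1 else 0 := by
  split_ifs with h
  · subst h
    rw [Matrix.single_mul_single_same, mul_one]
  · exact Matrix.single_mul_single_of_ne (c := (1 : F)) a b c h 1

theorem single_col (a b c : J n) :
    (Matrix.single a b (1 : F)).col c = if b = c then Pi.single a (1 : F) else 0 := by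
  funext i
  split_ifs with h
  · subst h
    by_cases hi : a = i
    · subst hi
      simp [Matrix.col]
    · simp [Matrix.col, Matrix.single_apply, hi, Pi.single_apply, Ne.symm hi]
  · simp [Matrix.col, Matrix.single_apply, h]

theorem single_row (a b c : J n) :
    (Matrix.single a b (1 : F)).row c = if a = c then Pi.single b (1 : F) else 0 := by
  funext j
  split_ifs with h
  · subst h
    by_cases hj : b = j
    · subst hj
      simp [Matrix.row]
    · simp [Matrix.row, Matrix.single_apply, hj, Pi.single_apply, Ne.symm hj]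
  · simp [Matrix.row, Matrix.single_apply, h]

theorem single_mul_vecMulVec (a b c : J n) (u : κ → F) :
    (Matrix.single a b (1 : F)) * Matrix.vecMulVec (Pi.single c (1 : F)) u =
      if b = c then Matrix.vecMulVec (Pi.single a (1 : F)) u else 0 := by
  rw [Matrix.mul_vecMulVec, Matrix.mulVec_single_one, single_col]
  split_ifs with h
  · rfl
  · rw [Matrix.zero_vecMulVec]

theorem vecMulVec_mul_single (u : κ → F) (c a b : J n) :
    Matrix.vecMulVec u (Pi.single c (1 : F)) * Matrix.single a b (1 : F) =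
      if c = a then Matrix.vecMulVec u (Pi.single b (1 : F)) else 0 := by
  rw [Matrix.vecMulVec_mul, Matrix.single_one_vecMul, single_row]
  by_cases h : c = a
  · subst h
    simp
  · have h' : ¬ a = c := fun e => h e.symm
    simp only [h, h', if_false]
    ext i j
    simp [Matrix.vecMulVec_apply]

theorem vecMulVec_mul_vecMulVec_single (a b : J n) (u v : κ → F) :
    Matrix.vecMulVec (Pi.single a (1 : F)) u * Matrix.vecMulVec v (Pi.single b (1 : F)) =
      (u ⬝ᵥ v) • Matrix.single a b (1 : F) := by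
  rw [Matrix.vecMulVec_mul_vecMulVec]
  ext i j
  simp only [Matrix.vecMulVec_apply, Matrix.smul_apply, Matrix.single_apply, Pi.single_apply,
    Pi.smul_apply, smul_eq_mul]
  by_cases hi : a = i
  · by_cases hj : b = j
    · subst hi; subst hj; simp
    · subst hi
      have hj' : ¬ j = b := fun e => hj e.symm
      simp [hj, hj']
  · have hi' : ¬ i = a := fun e => hi e.symm
    simp [hi, hi']

theorem vecMulVec_single_mul_single_vecMulVec (v u : κ → F) (b a : J n) :
    Matrix.vecMulVec v (Pi.single b (1 : F)) * Matrix.vecMulVec (Pi.single a (1 : F)) u =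
      if b = a then Matrix.vecMulVec v u else 0 := by
  rw [Matrix.vecMulVec_mul_vecMulVec]
  split_ifs with h
  · subst h
    simp
  · have : (Pi.single b (1 : F) : J n → F) ⬝ᵥ Pi.single a 1 = 0 := by
      simp [h]
    rw [this, zero_smul, Matrix.vecMulVec_zero]

/-! the multiplication table -/

theorem EE_mul_EE (a b c d : J n) :
    (EE a b : Matrix (IQ n κ) (IQ n κ) F) * EE c d = if b = c then EE a d else 0 := by
  unfold EE
  rw [Matrix.fromBlocks_multiply, single_mul_single']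
  split_ifs with h <;> simp

theorem EE_mul_RR (a b c : J n) (u : κ → F) :
    (EE a b : Matrix (IQ n κ) (IQ n κ) F) * RR c u = if b = c then RR a u else 0 := by
  unfold EE RR
  rw [Matrix.fromBlocks_multiply, single_mul_vecMulVec]
  split_ifs with h <;> simp

theorem EE_mul_CC (a b c : J n) (u : κ → F) :
    (EE a b : Matrix (IQ n κ) (IQ n κ) F) * CC u c = 0 := by
  unfold EE CC
  rw [Matrix.fromBlocks_multiply]
  simp

theorem RR_mul_EE (a c d : J n) (u : κ → F) :
    (RR a u : Matrix (IQ n κ) (IQ n κ) F) * EE c d = 0 := by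
  unfold EE RR
  rw [Matrix.fromBlocks_multiply]
  simp

theorem RR_mul_RR (a b : J n) (u v : κ → F) :
    (RR a u : Matrix (IQ n κ) (IQ n κ) F) * RR b v = 0 := by
  unfold RR
  rw [Matrix.fromBlocks_multiply]
  simp

theorem RR_mul_CC (a b : J n) (u v : κ → F) :
    (RR a u : Matrix (IQ n κ) (IQ n κ) F) * CC v b = (u ⬝ᵥ v) • EE a b := by
  unfold RR CC EE
  rw [Matrix.fromBlocks_multiply, vecMulVec_mul_vecMulVec_single, Matrix.fromBlocks_smul]
  simp

theorem CC_mul_EE (u : κ → F) (a c d : J n) :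
    (CC u a : Matrix (IQ n κ) (IQ n κ) F) * EE c d = if a = c then CC u d else 0 := by
  unfold EE CC
  rw [Matrix.fromBlocks_multiply, vecMulVec_mul_single]
  split_ifs with h <;> simp

theorem CC_mul_RR (u v : κ → F) (a b : J n) :
    (CC u a : Matrix (IQ n κ) (IQ n κ) F) * RR b v = if a = b then KK u v else 0 := by
  unfold CC RR KK
  rw [Matrix.fromBlocks_multiply, vecMulVec_single_mul_single_vecMulVec]
  split_ifs with h <;> simp

theorem CC_mul_CC (u v : κ → F) (a b : J n) :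
    (CC u a : Matrix (IQ n κ) (IQ n κ) F) * CC v b = 0 := by
  unfold CC
  rw [Matrix.fromBlocks_multiply]
  simp

/-! linearity -/

theorem RR_add (a : J n) (u v : κ → F) :
    (RR a (u + v) : Matrix (IQ n κ) (IQ n κ) F) = RR a u + RR a v := by
  unfold RR
  rw [Matrix.fromBlocks_add, Matrix.vecMulVec_add]
  simp

theorem RR_smul (a : J n) (s : F) (u : κ → F) :
    (RR a (s • u) : Matrix (IQ n κ) (IQ n κ) F) = s • RR a u := by
  unfold RR
  rw [Matrix.fromBlocks_smul]
  congr 1
  · simp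
  · ext i k
    simp [Matrix.vecMulVec_apply]
    ring
  · simp
  · simp

theorem RR_neg (a : J n) (u : κ → F) :
    (RR a (-u) : Matrix (IQ n κ) (IQ n κ) F) = - RR a u := by
  have := RR_smul (κ := κ) a (-1 : F) u
  simpa using this

theorem CC_add (a : J n) (u v : κ → F) :
    (CC (u + v) a : Matrix (IQ n κ) (IQ n κ) F) = CC u a + CC v a := by
  unfold CC
  rw [Matrix.fromBlocks_add, Matrix.add_vecMulVec]
  simp

theorem CC_smul (a : J n) (s : F) (u : κ → F) :
    (CC (s • u) a : Matrix (IQ n κ) (IQ n κ) F) = s • CC u a := by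
  unfold CC
  rw [Matrix.fromBlocks_smul]
  congr 1
  · simp
  · simp
  · ext k i
    simp [Matrix.vecMulVec_apply]
    ring
  · simp

theorem CC_neg (a : J n) (u : κ → F) :
    (CC (-u) a : Matrix (IQ n κ) (IQ n κ) F) = - CC u a := by
  have := CC_smul (κ := κ) a (-1 : F) u
  simpa using this

/-! the covector `bq` -/

theorem bq_add (Q0 : QuadraticForm F (κ → F)) (w v : κ → F) :
    bq Q0 (w + v) = bq Q0 w + bq Q0 v := by
  funext k
  simp only [bq, Pi.add_apply]
  exact QuadraticMap.polar_add_right Q0 (Pi.single k 1) w v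

theorem bq_smul (Q0 : QuadraticForm F (κ → F)) (s : F) (w : κ → F) :
    bq Q0 (s • w) = s • bq Q0 w := by
  funext k
  simp only [bq, Pi.smul_apply]
  exact QuadraticMap.polar_smul_right Q0 s (Pi.single k 1) w

theorem bq_neg (Q0 : QuadraticForm F (κ → F)) (w : κ → F) : bq Q0 (-w) = - bq Q0 w := by
  have := bq_smul Q0 (-1 : F) w
  simpa using this

theorem bq_zero (Q0 : QuadraticForm F (κ → F)) : bq Q0 (0 : κ → F) = 0 := by
  have := bq_smul Q0 (0 : F) (0 : κ → F)
  simpa using this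

theorem bq_dot (Q0 : QuadraticForm F (κ → F)) (w v : κ → F) :
    bq Q0 w ⬝ᵥ v = QuadraticMap.polar Q0 v w := by
  have hv : v = ∑ k, v k • (Pi.single k (1 : F) : κ → F) := by
    funext j
    simp [Finset.sum_apply, Pi.single_apply]
  conv_rhs => rw [hv]
  have hlin : ∀ (s : Finset κ) (g : κ → (κ → F)),
      QuadraticMap.polar Q0 (∑ k ∈ s, g k) w = ∑ k ∈ s, QuadraticMap.polar Q0 (g k) w := by
    intro s g
    induction s using Finset.induction_on with
    | empty =>
      simp only [Finset.sum_empty]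
      have := QuadraticMap.polar_smul_left Q0 (0 : F) (0 : κ → F) w
      simpa using this
    | insert a s ha ih =>
      rw [Finset.sum_insert ha, Finset.sum_insert ha, QuadraticMap.polar_add_left, ih]
  rw [hlin]
  simp only [dotProduct, bq]
  apply Finset.sum_congr rfl
  intro k _
  rw [QuadraticMap.polar_smul_left, smul_eq_mul, mul_comm]

/-! the normal forms of the model matrices -/

theorem ymQ_eq (Q0 : QuadraticForm F (κ → F)) (a : J n) (w : κ → F) :
    ymQ Q0 a w = 1 + (-(Q0 w) • EE a (ng a) + RR a (bq Q0 w) - CC w (ng a)) := by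
  have h1 : (1 : Matrix (IQ n κ) (IQ n κ) F) = Matrix.fromBlocks 1 0 0 1 :=
    Matrix.fromBlocks_one.symm
  unfold ymQ EE RR CC
  rw [h1, sub_eq_add_neg (_ + _), Matrix.fromBlocks_smul,
    Matrix.fromBlocks_neg, Matrix.fromBlocks_add, Matrix.fromBlocks_add, Matrix.fromBlocks_add]
  congr 1
  · simp [sub_eq_add_neg]
  · simp
  · simp
  · simp

theorem xmQ_eq (a b : J n) (t : F) :
    (xmQ a b t : Matrix (IQ n κ) (IQ n κ) F) = 1 + t • (EE a b - EE (ng b) (ng a)) := by
  have h1 : (1 : Matrix (IQ n κ) (IQ n κ) F) = Matrix.fromBlocks 1 0 0 1 :=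
    Matrix.fromBlocks_one.symm
  unfold xmQ blkQ xm EE
  rw [h1, sub_eq_add_neg (Matrix.fromBlocks _ _ _ _), Matrix.fromBlocks_neg,
    Matrix.fromBlocks_add, Matrix.fromBlocks_smul, Matrix.fromBlocks_add]
  congr 1
  · simp [sub_eq_add_neg]
  · simp
  · simp
  · simp

end XMATQ

open XMATQ

/-! ### XMATQ: the relations between the model matrices -/

theorem blkQ_one : blkQ (κ := κ) (1 : Matrix (J n) (J n) F) = 1 := by
  unfold blkQ
  exact Matrix.fromBlocks_one

theorem blkQ_mul (A B : Matrix (J n) (J n) F) : blkQ (κ := κ) (A * B) = blkQ A * blkQ B := by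
  unfold blkQ
  rw [Matrix.fromBlocks_multiply]
  simp

theorem blkQ_injective : Function.Injective (blkQ (n := n) (F := F) (κ := κ)) := by
  intro A B h
  unfold blkQ at h
  exact (Matrix.fromBlocks_inj.mp h).1

theorem ymQ_zero (Q0 : QuadraticForm F (κ → F)) (a : J n) : ymQ Q0 a (0 : κ → F) = 1 := by
  have h0 : Matrix.vecMulVec (Pi.single a (1 : F)) (0 : κ → F) = 0 := by
    ext i j
    simp [Matrix.vecMulVec_apply]
  unfold ymQ
  rw [map_zero, bq_zero, h0]
  simp [Matrix.fromBlocks_one]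

theorem ymQ_add (Q0 : QuadraticForm F (κ → F)) (a : J n) (w v : κ → F) :
    ymQ Q0 a (w + v) = ymQ Q0 a w * ymQ Q0 a v := by
  have h1 : ng a ≠ a := ng_ne a
  rw [ymQ_eq, ymQ_eq, ymQ_eq, QuadraticMap.map_add Q0 w v, bq_add, RR_add, CC_add]
  simp only [mul_add, add_mul, mul_sub, sub_mul, one_mul, mul_one, smul_mul_assoc, mul_smul_comm,
    neg_mul, mul_neg, EE_mul_EE, EE_mul_RR, EE_mul_CC, RR_mul_EE, RR_mul_RR, RR_mul_CC, CC_mul_EE,
    CC_mul_RR, CC_mul_CC, h1, if_false, smul_zero, bq_dot]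
  rw [QuadraticMap.polar_comm Q0 v w]
  module

namespace XMATQ

theorem ymQ_mul_neg (Q0 : QuadraticForm F (κ → F)) (a : J n) (w : κ → F) :
    ymQ Q0 a w * ymQ Q0 a (-w) = 1 := by
  rw [← ymQ_add, add_neg_cancel, ymQ_zero]

theorem xmQ_mul_neg {a b : J n} (hab : IsRoot a b) (s : F) :
    (xmQ a b s : Matrix (IQ n κ) (IQ n κ) F) * xmQ a b (-s) = 1 := by
  have e1 : ng a ≠ b := fun h => hab.2 (by rw [← h, ng_ng])
  have e2 : ng b ≠ a := fun h => hab.2 h.symm
  have e3 : b ≠ a := hab.1.symm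
  have e4 : ng a ≠ a := ng_ne a
  have e5 : ng b ≠ b := ng_ne b
  have e6 : a ≠ ng a := (ng_ne a).symm
  have e7 : b ≠ ng b := (ng_ne b).symm
  have e8 : ng a ≠ ng b := fun h => hab.1 (ng_injective h)
  have e9 : ng b ≠ ng a := fun h => hab.1 (ng_injective h).symm
  have e10 : b ≠ ng a := fun h => e1 h.symm
  rw [xmQ_eq, xmQ_eq]
  simp only [mul_add, add_mul, mul_sub, sub_mul, one_mul, mul_one, smul_mul_assoc, mul_smul_comm,
    neg_mul, mul_neg, EE_mul_EE, EE_mul_RR, EE_mul_CC, RR_mul_EE, RR_mul_RR, RR_mul_CC, CC_mul_EE,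
    CC_mul_RR, CC_mul_CC, if_false, if_true, smul_zero, ng_ng, hab.1, hab.2, e1, e2, e3, e4, e5,
    e6, e7, e8, e9, e10, smul_sub, smul_add, smul_smul, sub_zero, sub_self, add_zero, zero_add]
  module

theorem ymQ_yy_aux (Q0 : QuadraticForm F (κ → F)) {a b : J n} (hab : IsRoot a b)
    (w v : κ → F) :
    ymQ Q0 a w * ymQ Q0 b v =
      xmQ a (ng b) (-(QuadraticMap.polar Q0 w v)) * ymQ Q0 b v * ymQ Q0 a w := by
  have e1 : ng a ≠ b := fun h => hab.2 (by rw [← h, ng_ng])
  have e2 : ng b ≠ a := fun h => hab.2 h.symm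
  have e3 : b ≠ a := hab.1.symm
  have e4 : ng a ≠ a := ng_ne a
  have e5 : ng b ≠ b := ng_ne b
  have e6 : a ≠ ng a := (ng_ne a).symm
  have e7 : b ≠ ng b := (ng_ne b).symm
  have e8 : ng a ≠ ng b := fun h => hab.1 (ng_injective h)
  have e9 : ng b ≠ ng a := fun h => hab.1 (ng_injective h).symm
  have e10 : b ≠ ng a := fun h => e1 h.symm
  rw [ymQ_eq, ymQ_eq, xmQ_eq]
  simp only [mul_add, add_mul, mul_sub, sub_mul, one_mul, mul_one, smul_mul_assoc, mul_smul_comm,
    neg_mul, mul_neg, EE_mul_EE, EE_mul_RR, EE_mul_CC, RR_mul_EE, RR_mul_RR, RR_mul_CC, CC_mul_EE,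
    CC_mul_RR, CC_mul_CC, if_false, if_true, smul_zero, ng_ng, hab.1, hab.2, e1, e2, e3, e4, e5,
    e6, e7, e8, e9, e10, smul_sub, smul_add, smul_smul, sub_zero, sub_self, add_zero, zero_add,
    bq_dot, neg_zero, zero_sub]
  rw [QuadraticMap.polar_comm Q0 v w]
  module

theorem xmQ_ymQ_xy_aux (Q0 : QuadraticForm F (κ → F)) {a b : J n} (hab : IsRoot a b) (s : F)
    (w : κ → F) :
    xmQ a b s * ymQ Q0 b w =
      ymQ Q0 a (s • w) * xmQ a (ng b) (s * Q0 w) * ymQ Q0 b w * xmQ a b s := by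
  have e1 : ng a ≠ b := fun h => hab.2 (by rw [← h, ng_ng])
  have e2 : ng b ≠ a := fun h => hab.2 h.symm
  have e3 : b ≠ a := hab.1.symm
  have e4 : ng a ≠ a := ng_ne a
  have e5 : ng b ≠ b := ng_ne b
  have e6 : a ≠ ng a := (ng_ne a).symm
  have e7 : b ≠ ng b := (ng_ne b).symm
  have e8 : ng a ≠ ng b := fun h => hab.1 (ng_injective h)
  have e9 : ng b ≠ ng a := fun h => hab.1 (ng_injective h).symm
  have e10 : b ≠ ng a := fun h => e1 h.symm
  rw [ymQ_eq, ymQ_eq, xmQ_eq, xmQ_eq, QuadraticMap.map_smul, bq_smul, RR_smul, CC_smul]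
  simp only [mul_add, add_mul, mul_sub, sub_mul, one_mul, mul_one, smul_mul_assoc, mul_smul_comm,
    neg_mul, mul_neg, EE_mul_EE, EE_mul_RR, EE_mul_CC, RR_mul_EE, RR_mul_RR, RR_mul_CC, CC_mul_EE,
    CC_mul_RR, CC_mul_CC, if_false, if_true, smul_zero, ng_ng, hab.1, hab.2, e1, e2, e3, e4, e5,
    e6, e7, e8, e9, e10, smul_sub, smul_add, smul_smul, sub_zero, sub_self, add_zero, zero_add,
    bq_dot, neg_zero, zero_sub, QuadraticMap.polar_self, smul_eq_mul]
  module

end XMATQ

theorem ymQ_yy (Q0 : QuadraticForm F (κ → F)) {a b : J n} (hab : IsRoot a b) (w v : κ → F) :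
    ymQ Q0 a w * ymQ Q0 b v * ymQ Q0 a (-w) * ymQ Q0 b (-v) =
      xmQ a (ng b) (-(QuadraticMap.polar Q0 w v)) := by
  rw [ymQ_yy_aux Q0 hab]
  calc xmQ a (ng b) (-(QuadraticMap.polar Q0 w v)) * ymQ Q0 b v * ymQ Q0 a w * ymQ Q0 a (-w) *
        ymQ Q0 b (-v)
      = xmQ a (ng b) (-(QuadraticMap.polar Q0 w v)) *
          (ymQ Q0 b v * (ymQ Q0 a w * ymQ Q0 a (-w)) * ymQ Q0 b (-v)) := by
        simp only [mul_assoc]
    _ = xmQ a (ng b) (-(QuadraticMap.polar Q0 w v)) := by
        rw [ymQ_mul_neg, mul_one, ymQ_mul_neg, mul_one]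

theorem xmQ_ymQ_xy (Q0 : QuadraticForm F (κ → F)) {a b : J n} (hab : IsRoot a b) (s : F)
    (w : κ → F) :
    xmQ a b s * ymQ Q0 b w * xmQ a b (-s) * ymQ Q0 b (-w) =
      ymQ Q0 a (s • w) * xmQ a (ng b) (s * Q0 w) := by
  rw [xmQ_ymQ_xy_aux Q0 hab]
  calc ymQ Q0 a (s • w) * xmQ a (ng b) (s * Q0 w) * ymQ Q0 b w * xmQ a b s * xmQ a b (-s) *
        ymQ Q0 b (-w)
      = ymQ Q0 a (s • w) * xmQ a (ng b) (s * Q0 w) *
          (ymQ Q0 b w * (xmQ a b s * xmQ a b (-s)) * ymQ Q0 b (-w)) := by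
        simp only [mul_assoc]
    _ = ymQ Q0 a (s • w) * xmQ a (ng b) (s * Q0 w) := by
        rw [xmQ_mul_neg hab, mul_one, ymQ_mul_neg, mul_one]

theorem ymQ_comm_xmQ (Q0 : QuadraticForm F (κ → F)) {a c d : J n} (hcd : IsRoot c d)
    (h1 : d ≠ a) (h2 : c ≠ ng a) (w : κ → F) (t : F) :
    ymQ Q0 a w * xmQ c d t = xmQ c d t * ymQ Q0 a w := by
  have e1 : ng a ≠ c := fun h => h2 h.symm
  have e2 : ng a ≠ ng d := fun h => h1 (ng_injective h).symm
  have e3 : ng c ≠ a := fun h => h2 (by rw [← h, ng_ng])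
  rw [ymQ_eq, xmQ_eq]
  simp only [mul_add, add_mul, mul_sub, sub_mul, one_mul, mul_one, smul_mul_assoc, mul_smul_comm,
    neg_mul, mul_neg, EE_mul_EE, EE_mul_RR, EE_mul_CC, RR_mul_EE, RR_mul_RR, RR_mul_CC, CC_mul_EE,
    CC_mul_RR, CC_mul_CC, if_false, if_true, smul_zero, ng_ng, h1, h2, e1, e2, e3,
    smul_sub, smul_add, smul_smul, sub_zero, sub_self, add_zero, zero_add, neg_zero, zero_sub]
  module

end Cfsg.Agent.S2099P
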