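import Mathlib
import Cfsg.Prelude.Def_Characters
import Cfsg.Agent.Helper1.W2pDefs
import Cfsg.Agent.Helper20.PermCharH

set_option autoImplicit false

/-!
# S4707 piece BAS: consequences of `BrauerData` with `eN P = 2` and a character of degree `p - 1` in `X`
-/

namespace Cfsg.Agent.Helper24.S4707

open Cfsg Cfsg.Agent.Helper24 Cfsg.Agent.Helper1.W2p MulAction

universe u v

theorem basic_two {H : Type u} [Group H] [Finite H] (p : ℕ) [Fact p.Prime] (hp5 : 5 ≤ p)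
    (P : Sylow p H) (hP : Nat.card P = p) (he : eN (P : Subgroup H) = 2)
    (D : BrauerData p (P : Subgroup H))
    (χ₁ : IrrCharacter H) (hχX : χ₁ ∈ D.X) (hχdeg : irrDeg χ₁ = p - 1) :
    D.δ χ₁ = -1 ∧ (∀ χ ∈ D.X, χ = trivIrr H ∨ χ = χ₁) ∧ D.ε = -1 ∧
    (∀ ψ ∈ D.Y, irrDeg ψ = p - 2) ∧ Nat.card D.Y * 2 = p - 1 ∧
    (∀ ψ ∈ D.Y, ∀ g : H, ¬ p ∣ orderOf g → (ψ : H → ℂ) g = (χ₁ : H → ℂ) g - 1) ∧
    (∀ y ∈ (P : Subgroup H), y ≠ 1 → (χ₁ : H → ℂ) y = -1) := by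
  classical
  have hp := (Fact.out : p.Prime)
  -- the sign of `χ₁`
  have hδ : D.δ χ₁ = -1 := by
    rcases D.δ_pm χ₁ hχX with h | h
    · exfalso
      have h1 := D.deg_X χ₁ hχX
      rw [h, hχdeg] at h1
      have h2 : (p : ℤ) ∣ ((p - 1 : ℕ) : ℤ) - 1 := (Int.modEq_iff_dvd.mp h1.symm)
      rw [Nat.cast_sub (by omega)] at h2
      have h3 : (p : ℤ) ∣ 2 := by
        have h4 : (p : ℤ) ∣ (p : ℤ) := dvd_refl _
        have : (2 : ℤ) = (p : ℤ) - (((p : ℤ) - ((1 : ℕ) : ℤ)) - 1) := by push_cast; ring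
        rw [this]
        exact dvd_sub h4 h2
      have h5 : (p : ℤ) ≤ 2 := Int.le_of_dvd (by norm_num) h3
      omega
    · exact h
  have hne : trivIrr H ≠ χ₁ := by
    intro h
    have h1 := D.δ_triv
    rw [h, hδ] at h1
    norm_num at h1
  have hXeq : D.X = {trivIrr H, χ₁} := by
    symm
    apply Set.eq_of_subset_of_ncard_le
    · intro χ hχ
      rcases hχ with rfl | rfl
      · exact D.triv_mem
      · exact hχX
    · rw [Set.ncard_pair hne, ← Nat.card_coe_set_eq, D.card_X, he]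
    · exact Set.toFinite _
  have hcardY : Nat.card D.Y * 2 = p - 1 := by rw [← he]; exact D.card_Y
  have hrel : ∀ ψ ∈ D.Y, ∀ g : H, ¬ p ∣ orderOf g →
      1 - (χ₁ : H → ℂ) g = (D.ε : ℂ) * (ψ : H → ℂ) g := by
    intro ψ hψ g hg
    have h1 := D.rel ψ hψ g hg
    rw [hXeq, finsum_mem_pair hne, D.δ_triv, hδ, trivIrr_apply] at h1
    rw [← h1]
    push_cast
    ring
  have hreg1 : ¬ p ∣ orderOf (1 : H) := by
    rw [orderOf_one]
    intro h
    have := Nat.le_of_dvd Nat.one_pos h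
    omega
  -- `Y` is non-empty
  have hYne : D.Y.Nonempty := by
    by_contra hemp
    rw [Set.not_nonempty_iff_eq_empty] at hemp
    rw [hemp] at hcardY
    simp at hcardY
    omega
  obtain ⟨ψ₀, hψ₀⟩ := hYne
  have hdeg1 : ∀ ψ ∈ D.Y, (2 : ℤ) - (p : ℤ) = D.ε * (irrDeg ψ : ℤ) := by
    intro ψ hψ
    have h1 := hrel ψ hψ 1 hreg1
    rw [irrDeg_spec, irrDeg_spec, hχdeg, Nat.cast_sub (by omega)] at h1
    have h2 : (((2 : ℤ) - (p : ℤ) : ℤ) : ℂ) = ((D.ε * (irrDeg ψ : ℤ) : ℤ) : ℂ) := by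
      push_cast
      rw [← h1]
      push_cast
      ring
    exact_mod_cast h2
  have hε : D.ε = -1 := by
    rcases D.ε_pm with h | h
    · exfalso
      have h1 := hdeg1 ψ₀ hψ₀
      rw [h] at h1
      have := irrDeg_pos ψ₀
      omega
    · exact h
  refine ⟨hδ, ?_, hε, ?_, hcardY, ?_, ?_⟩
  · intro χ hχ
    rw [hXeq] at hχ
    rcases hχ with h | h
    · left; exact h
    · right; exact h
  · intro ψ hψ
    have h1 := hdeg1 ψ hψ
    rw [hε] at h1
    omega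
  · intro ψ hψ g hg
    have h1 := hrel ψ hψ g hg
    rw [hε] at h1
    push_cast at h1
    linear_combination h1
  · intro y hy hy1
    rw [D.val_X χ₁ hχX y hy hy1, hδ]
    simp

end Cfsg.Agent.Helper24.S4707
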