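import Mathlib
import Cfsg.Prelude.Def_Characters
import Cfsg.Agent.Helper1.W2pDefs
import Cfsg.Agent.Helper20.PermCharH
import Cfsg.Agent.Helper24.ColumnOrth
import Cfsg.Agent.Helper24.S4707BAS

set_option autoImplicit false

/-!
# S4707 piece COL: the exceptional characters sum to `1` on `P ∖ 1`
-/

namespace Cfsg.Agent.Helper24.S4707

open Cfsg Cfsg.Agent.Helper24 Cfsg.Agent.Helper1.W2p MulAction

universe u v

theorem sum_exc_apply {H : Type u} [Group H] [Finite H] (p : ℕ) [Fact p.Prime] (hp5 : 5 ≤ p)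
    (P : Sylow p H) (hP : Nat.card P = p) (he : eN (P : Subgroup H) = 2)
    (D : BrauerData p (P : Subgroup H))
    (χ₁ : IrrCharacter H) (hχX : χ₁ ∈ D.X) (hχdeg : irrDeg χ₁ = p - 1) :
    ∀ y ∈ (P : Subgroup H), y ≠ 1 → ∑ᶠ ψ ∈ D.Y, (ψ : H → ℂ) y = 1 := by
  classical
  haveI : Fintype H := Fintype.ofFinite H
  haveI : Fintype (IrrCharacter H) := Fintype.ofFinite _
  obtain ⟨hδ, hXall, hε, hdegY, hcardY, hrel, hval⟩ :=
    basic_two p hp5 P hP he D χ₁ hχX hχdeg
  intro y hy hy1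
  have hne : trivIrr H ≠ χ₁ := by
    intro h
    have h1 := D.δ_triv
    rw [h, hδ] at h1
    norm_num at h1
  have hXeq : D.X = {trivIrr H, χ₁} := by
    ext χ
    constructor
    · intro hχ
      rcases hXall χ hχ with h | h
      · left; exact h
      · right; exact h
    · intro hχ
      rcases hχ with rfl | rfl
      · exact D.triv_mem
      · exact hχX
  have hXf : D.X.Finite := Set.toFinite _
  have hYf : D.Y.Finite := Set.toFinite _
  have hdisj : Disjoint hXf.toFinset hYf.toFinset := by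
    rw [Set.Finite.disjoint_toFinset]
    exact D.disj
  -- column orthogonality
  have hnc : ¬ IsConj y 1 := by
    intro h
    exact hy1 (isConj_one_left.mp h)
  have hcol := sum_irr_mul_conj (G := H) y 1
  rw [if_neg hnc] at hcol
  have hf : ∀ χ : IrrCharacter H, (χ : H → ℂ) y * (starRingEnd ℂ) ((χ : H → ℂ) 1) =
      (χ : H → ℂ) y * (irrDeg χ : ℂ) := by
    intro χ
    rw [irrDeg_spec, Complex.conj_natCast]
  simp_rw [hf] at hcol
  rw [← Finset.sum_add_sum_compl (hXf.toFinset ∪ hYf.toFinset), Finset.sum_union hdisj] at hcol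
  have hrest : ∑ χ ∈ (hXf.toFinset ∪ hYf.toFinset)ᶜ, (χ : H → ℂ) y * (irrDeg χ : ℂ) = 0 := by
    refine Finset.sum_eq_zero ?_
    intro χ hχ
    rw [Finset.mem_compl, Finset.mem_union, not_or, Set.Finite.mem_toFinset,
      Set.Finite.mem_toFinset] at hχ
    rw [D.val_other χ hχ.1 hχ.2 y hy hy1, zero_mul]
  rw [hrest, add_zero] at hcol
  have hXsum : ∑ χ ∈ hXf.toFinset, (χ : H → ℂ) y * (irrDeg χ : ℂ) = 2 - (p : ℂ) := by
    rw [← finsum_mem_eq_finite_toFinset_sum _ hXf, hXeq, finsum_mem_pair hne, trivIrr_apply,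
      Cfsg.Agent.Helper20.PermChar.irrDeg_trivIrr, hval y hy hy1, hχdeg, Nat.cast_sub (by omega)]
    push_cast
    ring
  have hYsum : ∑ ψ ∈ hYf.toFinset, (ψ : H → ℂ) y * (irrDeg ψ : ℂ) =
      (∑ᶠ ψ ∈ D.Y, (ψ : H → ℂ) y) * ((p : ℂ) - 2) := by
    rw [finsum_mem_eq_finite_toFinset_sum _ hYf, Finset.sum_mul]
    refine Finset.sum_congr rfl ?_
    intro ψ hψ
    rw [Set.Finite.mem_toFinset] at hψ
    rw [hdegY ψ hψ, Nat.cast_sub (by omega)]
    push_cast
    ring
  rw [hXsum, hYsum] at hcol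
  have hp2 : (p : ℂ) - 2 ≠ 0 := by
    intro h
    have h2 : (p : ℂ) = ((2 : ℕ) : ℂ) := by push_cast; linear_combination h
    have h3 : p = 2 := by exact_mod_cast h2
    omega
  have h4 : ((∑ᶠ ψ ∈ D.Y, (ψ : H → ℂ) y) - 1) * ((p : ℂ) - 2) = 0 := by
    linear_combination hcol
  rcases mul_eq_zero.mp h4 with h | h
  · linear_combination h
  · exact absurd h hp2

end Cfsg.Agent.Helper24.S4707
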