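import Mathlib
import Cfsg.Agent.Helper24.GlaubP
import Cfsg.Agent.Helper24.GlaubClasses
import Cfsg.Agent.Helper24.BrauerPerm
import Cfsg.Agent.Helper24.RealChar

/-!
Real characters and real classes under a coprime `p`-group action (statement S4911): the
Glauberman correspondence commutes with complex conjugation, and the Glauberman class bijection
preserves reality.
-/

set_option autoImplicit false

namespace Cfsg.Agent.Helper24

open Cfsg

universe u

section ConjIrr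

variable {C G : Type u} [Group C] [Group G] [Finite C] [Finite G]

/-- The complex conjugate of an irreducible character. -/
noncomputable def conjIrr (χ : IrrCharacter G) : IrrCharacter G :=
  ⟨fun g => (starRingEnd ℂ) ((χ : G → ℂ) g), isIrrCharacter_star χ.2⟩

omit [Finite C] in
theorem conjIrr_apply (χ : IrrCharacter G) (g : G) :
    (conjIrr χ : G → ℂ) g = (starRingEnd ℂ) ((χ : G → ℂ) g) := rfl

omit [Finite C] in
theorem conjIrr_conjIrr (χ : IrrCharacter G) : conjIrr (conjIrr χ) = χ := by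
  apply Subtype.ext
  funext g
  rw [conjIrr_apply, conjIrr_apply, Complex.conj_conj]

omit [Finite C] in
theorem conjIrr_eq_iff_real (χ : IrrCharacter G) :
    conjIrr χ = χ ↔ ∀ g : G, ((χ : G → ℂ) g).im = 0 := by
  constructor
  · intro h g
    have := congrArg (fun ψ : IrrCharacter G => (ψ : G → ℂ) g) h
    simp only [conjIrr_apply] at this
    exact Complex.conj_eq_iff_im.mp this
  · intro h
    apply Subtype.ext
    funext g
    rw [conjIrr_apply]
    exact Complex.conj_eq_iff_im.mpr (h g)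

theorem mult_conjIrr (ι : C →* G) (χ : IrrCharacter G) (β : IrrCharacter C) :
    mult ι (conjIrr χ) (conjIrr β) = mult ι χ β := by
  classical
  haveI : Fintype C := Fintype.ofFinite C
  apply mult_eq_of
  have h1 := classInner_star_star (fun c : C => (χ : G → ℂ) (ι c)) (β : C → ℂ)
  have h2 : (fun c : C => (conjIrr χ : G → ℂ) (ι c)) =
      fun c : C => (starRingEnd ℂ) ((fun c : C => (χ : G → ℂ) (ι c)) c) := rfl
  have h3 : (conjIrr β : C → ℂ) = fun c : C => (starRingEnd ℂ) ((β : C → ℂ) c) := rfl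
  rw [h2, h3, h1, mult_spec]
  simp

end ConjIrr

section RealCorr

variable {Γ : Type u} [Group Γ] [Finite Γ]

omit [Finite Γ] in
theorem invAt_conjIrr [Finite Γ] {K : Subgroup Γ} (θ : IrrCharacter K) (x : Γ)
    (h : InvAt K (θ : K → ℂ) x) : InvAt K (conjIrr θ : K → ℂ) x := by
  intro g g' hgg'
  rw [conjIrr_apply, conjIrr_apply, h g g' hgg']

/-- The number of real `P`-invariant irreducible characters of `K` equals the number of real
irreducible characters of `C_K(P)`. -/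
theorem card_real_invariant_irr (p : ℕ) (hp : p.Prime) (P K : Subgroup Γ) (hP : IsPGroup p P)
    (hK : ¬ p ∣ Nat.card K) (hPK : P ≤ Subgroup.normalizer (K : Set Γ)) :
    Nat.card {θ : IrrCharacter K // (∀ k : K, ((θ : K → ℂ) k).im = 0) ∧
        ∀ x ∈ P, InvAt K (θ : K → ℂ) x} =
      Nat.card {β : IrrCharacter ↥(K ⊓ Subgroup.centralizer (P : Set Γ)) //
        ∀ c, ((β : ↥(K ⊓ Subgroup.centralizer (P : Set Γ)) → ℂ) c).im = 0} := by
  classical
  haveI : Fact p.Prime := ⟨hp⟩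
  have hcop : (Nat.card K).Coprime (Nat.card P) := by
    obtain ⟨a, ha⟩ := IsPGroup.iff_card.mp hP
    rw [ha]
    exact Nat.Coprime.pow_right a ((Nat.Prime.coprime_iff_not_dvd hp).mpr hK).symm
  have hCK : K ⊓ Subgroup.centralizer (P : Set Γ) ≤ K := inf_le_left
  have PC := pcorr_pgroup p hp _ K P (K ⊓ Subgroup.centralizer (P : Set Γ)) rfl hPK hP hcop rfl hCK
  have hex : ∀ θ : {θ : IrrCharacter K // (∀ k : K, ((θ : K → ℂ) k).im = 0) ∧
      ∀ x ∈ P, InvAt K (θ : K → ℂ) x}, ∃ β : IrrCharacter ↥(K ⊓ Subgroup.centralizer (P : Set Γ)),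
      ¬ p ∣ mult (Subgroup.inclusion hCK) θ.1 β ∧
        ∀ β', ¬ p ∣ mult (Subgroup.inclusion hCK) θ.1 β' → β' = β :=
    fun θ => PC.exU θ.1 θ.2.2
  choose F hF hFuniq using hex
  have hFreal : ∀ θ, ∀ c, ((F θ : ↥(K ⊓ Subgroup.centralizer (P : Set Γ)) → ℂ) c).im = 0 := by
    intro θ
    rw [← conjIrr_eq_iff_real]
    apply hFuniq θ
    have h1 := mult_conjIrr (Subgroup.inclusion hCK) θ.1 (F θ)
    rw [(conjIrr_eq_iff_real θ.1).mpr θ.2.1] at h1
    rw [h1]
    exact hF θ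
  refine Nat.card_congr (Equiv.ofBijective (fun θ => ⟨F θ, hFreal θ⟩) ⟨?_, ?_⟩)
  · intro θ θ' h
    have h1 : F θ = F θ' := congrArg Subtype.val h
    apply Subtype.ext
    exact PC.inj θ.1 θ.2.2 θ'.1 θ'.2.2 (F θ) (hF θ) (h1 ▸ hF θ')
  · rintro ⟨β, hβ⟩
    obtain ⟨χ, hχinv, hχβ⟩ := PC.surj β
    have hχreal : ∀ k : K, ((χ : K → ℂ) k).im = 0 := by
      rw [← conjIrr_eq_iff_real]
      have h1 := mult_conjIrr (Subgroup.inclusion hCK) χ β
      rw [(conjIrr_eq_iff_real β).mpr hβ] at h1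
      exact PC.inj (conjIrr χ) (fun x hx => invAt_conjIrr χ x (hχinv x hx)) χ hχinv β
        (by rw [h1]; exact hχβ) hχβ
    refine ⟨⟨χ, hχreal, hχinv⟩, ?_⟩
    apply Subtype.ext
    exact (hFuniq ⟨χ, hχreal, hχinv⟩ β hχβ).symm

/-- The number of real classes of `C_K(P)` equals the number of real `P`-invariant classes of
`K`. -/
theorem card_real_invariant_classes (P K : Subgroup Γ)
    (hPK : P ≤ Subgroup.normalizer (K : Set Γ)) (hcop : (Nat.card K).Coprime (Nat.card P))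
    (hsolv : Group.IsSolvable P) :
    Nat.card {c : ConjClasses ↥(K ⊓ Subgroup.centralizer (P : Set Γ)) //
        ∀ d, ConjClasses.mk d = c → IsConj d d⁻¹} =
      Nat.card {c : ConjClasses K // (∀ k : K, ConjClasses.mk k = c → IsConj k k⁻¹) ∧
        ∀ k : K, ConjClasses.mk k = c → ∀ x ∈ P, ∀ k' : K, (k' : Γ) = x * (k : Γ) * x⁻¹ →
          ConjClasses.mk k' = c} := by
  classical
  have hconjK : ∀ s ∈ P, ∀ x ∈ K, s * x * s⁻¹ ∈ K := fun s hs x hx =>
    (Subgroup.mem_normalizer_iff.mp (hPK hs) x).mp hx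
  have key : ∀ c : ConjClasses K, (∀ k : K, ConjClasses.mk k = c → ∀ x ∈ P, ∀ k' : K,
      (k' : Γ) = x * (k : Γ) * x⁻¹ → ConjClasses.mk k' = c) →
      ((classSet K c).Nonempty → ∃ x ∈ classSet K c, ∀ a ∈ P, a * x * a⁻¹ = x) ∧
      (∀ x ∈ classSet K c, ∀ y ∈ classSet K c, (∀ a ∈ P, a * x * a⁻¹ = x) →
        (∀ a ∈ P, a * y * a⁻¹ = y) →
        ∃ d ∈ K ⊓ Subgroup.centralizer (P : Set Γ), d * x * d⁻¹ = y) :=
    fun c hc => glauberman_classSet K P hPK hcop (Or.inl hsolv) c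
      (fun s hs g g' hgg' hg => hc g hg s hs g' hgg')
  have hfixD : ∀ d : ↥(K ⊓ Subgroup.centralizer (P : Set Γ)), ∀ a ∈ P,
      a * (d : Γ) * a⁻¹ = (d : Γ) := by
    intro d a ha
    have hd : (d : Γ) ∈ Subgroup.centralizer (P : Set Γ) := d.2.2
    rw [Subgroup.mem_centralizer_iff] at hd
    rw [hd a ha, mul_inv_cancel_right]
  have hfix_mem : ∀ x ∈ K, (∀ a ∈ P, a * x * a⁻¹ = x) →
      x ∈ K ⊓ Subgroup.centralizer (P : Set Γ) := by
    intro x hx hfix
    refine ⟨hx, ?_⟩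
    show x ∈ Subgroup.centralizer (P : Set Γ)
    rw [Subgroup.mem_centralizer_iff]
    intro a ha
    have := hfix a ha
    calc a * x = a * x * a⁻¹ * a := by group
      _ = x * a := by rw [this]
  let ι : ↥(K ⊓ Subgroup.centralizer (P : Set Γ)) →* K := Subgroup.inclusion inf_le_left
  have hmap : ∀ d, ConjClasses.map ι (ConjClasses.mk d) = ConjClasses.mk (ι d) := fun d => rfl
  -- invariance of the image classes
  have hwell : ∀ c : ConjClasses ↥(K ⊓ Subgroup.centralizer (P : Set Γ)),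
      ∀ k : K, ConjClasses.mk k = ConjClasses.map ι c → ∀ x ∈ P, ∀ k' : K,
        (k' : Γ) = x * (k : Γ) * x⁻¹ → ConjClasses.mk k' = ConjClasses.map ι c := by
    intro c g hg s hs g' hgg'
    obtain ⟨d, rfl⟩ := ConjClasses.exists_rep c
    rw [hmap] at hg ⊢
    rw [ConjClasses.mk_eq_mk_iff_isConj, isConj_iff] at hg ⊢
    obtain ⟨e, he⟩ := hg
    refine ⟨⟨s * e * s⁻¹, hconjK s hs e e.2⟩, ?_⟩
    apply Subtype.ext
    have he' : (e : Γ) * (g : Γ) * (e : Γ)⁻¹ = (d : Γ) := congrArg Subtype.val he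
    have hd := hfixD d s hs
    show s * e * s⁻¹ * (g' : Γ) * (s * e * s⁻¹)⁻¹ = (d : Γ)
    rw [hgg']
    calc s * e * s⁻¹ * (s * g * s⁻¹) * (s * e * s⁻¹)⁻¹ = s * ((e : Γ) * g * (e : Γ)⁻¹) * s⁻¹ := by
          group
      _ = (d : Γ) := by rw [he', hd]
  have hreal : ∀ c : ConjClasses ↥(K ⊓ Subgroup.centralizer (P : Set Γ)),
      (∀ d, ConjClasses.mk d = c → IsConj d d⁻¹) →
      ∀ k : K, ConjClasses.mk k = ConjClasses.map ι c → IsConj k k⁻¹ := by
    intro c hc k hk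
    obtain ⟨d, rfl⟩ := ConjClasses.exists_rep c
    rw [hmap, ConjClasses.mk_eq_mk_iff_isConj] at hk
    have h1 : IsConj (ι d) (ι d)⁻¹ := by
      have := hc d rfl
      rw [isConj_iff] at this ⊢
      obtain ⟨e, he⟩ := this
      refine ⟨ι e, ?_⟩
      have := congrArg ι he
      simpa only [map_mul, map_inv] using this
    have h2 : IsConj k⁻¹ (ι d)⁻¹ := by
      rw [isConj_iff] at hk ⊢
      obtain ⟨e, he⟩ := hk
      exact ⟨e, by rw [← he]; group⟩
    exact hk.trans (h1.trans h2.symm)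
  let f : {c : ConjClasses ↥(K ⊓ Subgroup.centralizer (P : Set Γ)) //
        ∀ d, ConjClasses.mk d = c → IsConj d d⁻¹} →
      {c : ConjClasses K // (∀ k : K, ConjClasses.mk k = c → IsConj k k⁻¹) ∧
        ∀ k : K, ConjClasses.mk k = c → ∀ x ∈ P, ∀ k' : K, (k' : Γ) = x * (k : Γ) * x⁻¹ →
          ConjClasses.mk k' = c} :=
    fun c => ⟨ConjClasses.map ι c.1, hreal c.1 c.2, hwell c.1⟩
  have hinj : Function.Injective f := by
    rintro ⟨c, hc⟩ ⟨c', hc'⟩ hcc'
    apply Subtype.ext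
    show c = c'
    obtain ⟨d, rfl⟩ := ConjClasses.exists_rep c
    obtain ⟨d', rfl⟩ := ConjClasses.exists_rep c'
    have h1 : ConjClasses.mk (ι d) = ConjClasses.mk (ι d') := congrArg Subtype.val hcc'
    have hK := hwell (ConjClasses.mk d)
    rw [hmap] at hK
    obtain ⟨e, he, hed⟩ := (key _ hK).2 (d : Γ) ⟨d.2.1, rfl⟩ (d' : Γ) ⟨d'.2.1, h1.symm⟩
      (hfixD d) (hfixD d')
    rw [ConjClasses.mk_eq_mk_iff_isConj, isConj_iff]
    exact ⟨⟨e, he⟩, Subtype.ext hed⟩
  have hsurj : Function.Surjective f := by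
    rintro ⟨c, hcreal, hcinv⟩
    obtain ⟨k₀, rfl⟩ := ConjClasses.exists_rep c
    obtain ⟨x, ⟨hxK, hxc⟩, hfix⟩ := (key _ hcinv).1 ⟨(k₀ : Γ), k₀.2, rfl⟩
    -- `x` and `x⁻¹` are fixed and conjugate in `K`, hence in `C`
    have hxinvfix : ∀ a ∈ P, a * x⁻¹ * a⁻¹ = x⁻¹ := by
      intro a ha
      have := hfix a ha
      calc a * x⁻¹ * a⁻¹ = (a * x * a⁻¹)⁻¹ := by group
        _ = x⁻¹ := by rw [this]
    have hxinvc : x⁻¹ ∈ classSet K (ConjClasses.mk k₀) := by
      refine ⟨K.inv_mem hxK, ?_⟩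
      have h1 := hcreal ⟨x, hxK⟩ hxc
      rw [← hxc, ConjClasses.mk_eq_mk_iff_isConj]
      exact h1.symm
    obtain ⟨e, he, hex⟩ := (key _ hcinv).2 x ⟨hxK, hxc⟩ x⁻¹ hxinvc hfix hxinvfix
    refine ⟨⟨ConjClasses.mk ⟨x, hfix_mem x hxK hfix⟩, ?_⟩, ?_⟩
    · intro d hd
      rw [ConjClasses.mk_eq_mk_iff_isConj] at hd
      have h1 : IsConj (⟨x, hfix_mem x hxK hfix⟩ : ↥(K ⊓ Subgroup.centralizer (P : Set Γ)))
          (⟨x, hfix_mem x hxK hfix⟩ : ↥(K ⊓ Subgroup.centralizer (P : Set Γ)))⁻¹ := by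
        rw [isConj_iff]
        exact ⟨⟨e, he⟩, Subtype.ext hex⟩
      have h2 : IsConj d⁻¹ (⟨x, hfix_mem x hxK hfix⟩ : ↥(K ⊓ Subgroup.centralizer (P : Set Γ)))⁻¹ := by
        rw [isConj_iff] at hd ⊢
        obtain ⟨u, hu⟩ := hd
        exact ⟨u, by rw [← hu]; group⟩
      exact hd.trans (h1.trans h2.symm)
    · apply Subtype.ext
      exact hxc
  exact Nat.card_congr (Equiv.ofBijective f ⟨hinj, hsurj⟩)

end RealCorr

end Cfsg.Agent.Helper24
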