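import Mathlib
import Cfsg.Prelude.Def_Solvable
import Cfsg.Agent.Lead.S2553Defs
import Cfsg.Agent.Helper11.PermSylow
import Cfsg.Agent.Helper11.SimpleTools

set_option autoImplicit false

/-! S2553 piece N7: the normalizer in `A₈` of a subgroup of order 7 has order 21. -/

namespace Cfsg.Agent.S2553P

namespace N7

/-- a subgroup of odd order of `Perm α` lies in the alternating group -/
theorem le_alternating_of_odd {α : Type*} [Fintype α] [DecidableEq α] (P : Subgroup (Equiv.Perm α))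
    (hP : Odd (Nat.card ↥P)) : P ≤ alternatingGroup α := by
  intro σ hσ
  rw [Equiv.Perm.mem_alternatingGroup]
  have h1 : σ ^ Nat.card ↥P = 1 := by
    have h0 : (⟨σ, hσ⟩ : ↥P) ^ Nat.card ↥P = 1 := pow_card_eq_one'
    have h2 := congrArg (Subgroup.subtype P) h0
    rw [map_pow, map_one] at h2
    exact h2
  have h3 : (Equiv.Perm.sign σ) ^ Nat.card ↥P = 1 := by
    rw [← map_pow, h1, map_one]
  rcases Int.units_eq_one_or (Equiv.Perm.sign σ) with h4 | h4
  · exact h4
  · rw [h4, hP.neg_one_pow] at h3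
    exact absurd h3 (by decide)

end N7

/-- N7 -/
theorem card_alt_inf_normalizer_seven (P : Subgroup Γ8) (hP : Nat.card ↥P = 7) :
    Nat.card ↥(A8 ⊓ Subgroup.normalizer (P : Set Γ8)) = 21 := by
  haveI : Fact (Nat.Prime 7) := ⟨by norm_num⟩
  have hcard8 : Fintype.card (Fin 8) = 7 ∨ Fintype.card (Fin 8) = 7 + 1 := Or.inr (by simp)
  obtain ⟨m, hm, hmd⟩ := Cfsg.Agent.Helper11.card_perm_eq_mul_prime (α := Fin 8) 7 hcard8
  let P' : Sylow 7 Γ8 := Cfsg.Agent.Helper11.sylowOfCardPrime m hm hmd P hP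
  have hcoe : (P' : Subgroup Γ8) = P := rfl
  have h42 := (Cfsg.Agent.Helper11.card_normalizer_sylow_perm 7 hcard8 P').2
  have hPA : (P' : Subgroup Γ8) ≤ alternatingGroup (Fin 8) := by
    rw [hcoe]
    apply N7.le_alternating_of_odd
    rw [hP]
    decide
  have h2 := Cfsg.Agent.Helper11.two_mul_card_alternating_inf_normalizer (α := Fin 8) (by simp) 7 P' hPA
  rw [hcoe] at h2 h42
  show Nat.card ↥(alternatingGroup (Fin 8) ⊓ Subgroup.normalizer (P : Set Γ8)) = 21
  omega

end Cfsg.Agent.S2553P
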