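import Mathlib
import Cfsg.Agent.Helper15.O4032c
import Cfsg.Agent.Helper15.BrP3
import Cfsg.Agent.Helper11.O504B

set_option autoImplicit false
set_option linter.unusedSectionVars false

/-!
No simple group of order 1008: Sylow 7-data (`n₇ = 36`, `|C(P)| = 14`, `e = 2`), then Brauer's
principal 7-block (degrees `1, 8; 9, 9, 9`) and the value at an involution of `C(P)`.
-/

namespace Cfsg.Agent.Helper24.NoSimple1008

open Cfsg Cfsg.Agent.Helper24 Cfsg.Agent.Helper5 Cfsg.Agent.Helper5.CC Subgroup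
  Cfsg.Agent.Helper15.BrP Cfsg.Agent.Helper11

variable {G : Type*} [Group G] [Finite G] [IsSimpleGroup G]

theorem noncomm (h : Nat.card G = 1008) : ¬ IsMulCommutative G :=
  simple_noncomm_of_card (by rw [h]; norm_num)

theorem perfect (h : Nat.card G = 1008) : commutator G = ⊤ :=
  Cfsg.Agent.Helper11.O504.commutator_eq_top (noncomm h)

theorem card_sylow7 (h : Nat.card G = 1008) (P : Sylow 7 G) :
    Nat.card ↥(P : Subgroup G) = 7 := by
  have : Fact (Nat.Prime 7) := ⟨by norm_num⟩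
  exact (sylow_card_of_card_eq 144 (by rw [h]) (by norm_num) P).1

theorem n7 (h : Nat.card G = 1008) : Nat.card (Sylow 7 G) = 36 := by
  have : Fact (Nat.Prime 7) := ⟨by norm_num⟩
  have hG' : Nat.card G = 144 * 7 ^ 1 := by rw [h]; norm_num
  have hmem := card_sylow_mem_filter 144 1 hG' (by norm_num)
  have hfilt : (Nat.divisors 144).filter (fun d => d % 7 = 1) = {1, 8, 36} := by decide
  rw [hfilt] at hmem
  simp only [Finset.mem_insert, Finset.mem_singleton] at hmem
  rcases hmem with h1 | h1 | h1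
  · exact absurd h1 (simple_card_sylow_ne_one (noncomm h) 7 (by rw [h]; norm_num))
  · exfalso
    obtain ⟨P⟩ : Nonempty (Sylow 7 G) := inferInstance
    have hidx : (Subgroup.normalizer ((P : Subgroup G) : Set G)).index = 7 + 1 := by
      have := P.card_eq_index_normalizer
      rw [h1] at this
      exact this.symm
    have h2 := simple_normalizer_dvd_of_index (noncomm h) 7 (by norm_num) _ (Or.inr hidx) P
      (card_sylow7 h P)
    have h3 := card_sylow_mul_card_normalizer P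
    rw [h1, h] at h3
    have h4 : Nat.card ↥(Subgroup.normalizer ((P : Subgroup G) : Set G)) = 126 := by omega
    rw [h4] at h2
    norm_num at h2
  · exact h1

theorem card_normalizer7 (h : Nat.card G = 1008) (P : Sylow 7 G) :
    Nat.card ↥(Subgroup.normalizer ((P : Subgroup G) : Set G)) = 28 := by
  have : Fact (Nat.Prime 7) := ⟨by norm_num⟩
  have h2 := card_sylow_mul_card_normalizer P
  rw [n7 h, h] at h2
  omega

theorem automizer7 (h : Nat.card G = 1008) (P : Sylow 7 G) :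
    (Subgroup.centralizer ((P : Subgroup G) : Set G)).relIndex
        (Subgroup.normalizer ((P : Subgroup G) : Set G)) = 2 ∧
    Nat.card ↥(Subgroup.centralizer ((P : Subgroup G) : Set G)) = 14 := by
  have : Fact (Nat.Prime 7) := ⟨by norm_num⟩
  obtain ⟨h1, h2, h3, h4⟩ := simple_automizer_data (noncomm h) 7 P (card_sylow7 h P)
  rw [card_normalizer7 h P] at h3
  set k := (Subgroup.centralizer ((P : Subgroup G) : Set G)).relIndex
        (Subgroup.normalizer ((P : Subgroup G) : Set G)) with hk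
  set c := Nat.card ↥(Subgroup.centralizer ((P : Subgroup G) : Set G)) with hc
  have hk6 : k ∣ 6 := h2
  have hkmem : k ∈ Nat.divisors 6 := Nat.mem_divisors.2 ⟨hk6, by norm_num⟩
  have hcmem : c ∈ Nat.divisors 28 := Nat.mem_divisors.2 ⟨Dvd.intro_left k h3, by norm_num⟩
  have hdec : ∀ k ∈ Nat.divisors 6, ∀ c ∈ Nat.divisors 28, k ≠ 1 → k * c = 28 → 7 ∣ c →
      k = 2 ∧ c = 14 := by
    decide
  exact hdec k hkmem c hcmem h1 h3 h4

theorem irrDeg_dvd (hcard : Nat.card G = 1008) (χ : IrrCharacter G) : irrDeg χ ∣ 4032 := by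
  have h1 : irrDeg χ ∣ 1008 := by rw [← hcard]; exact irrDeg_dvd_card χ
  exact h1.trans (by norm_num)

theorem irrDeg_ne_one (hcard : Nat.card G = 1008) (χ : IrrCharacter G) (hχ : χ ≠ trivIrr G) :
    irrDeg χ ≠ 1 :=
  Cfsg.Agent.Helper24.SelfCent.irrDeg_ne_one_of_perfect (perfect hcard) χ hχ

/-- The shape of the principal block for `e = 2`. -/
theorem e2_data (hcard : Nat.card G = 1008) (P : Sylow 7 G) (D : BData 7 P 2) :
    ∃ χ : IrrCharacter G, χ ≠ trivIrr G ∧ χ ∈ D.X ∧ (∀ ψ ∈ D.X, ψ = trivIrr G ∨ ψ = χ) ∧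
      (∀ f : IrrCharacter G → ℂ, ∑ ψ ∈ D.X, f ψ = f (trivIrr G) + f χ) ∧
      irrDeg χ = 8 ∧ D.sg χ = 1 ∧
      D.eps = 1 ∧ (∀ θ ∈ D.Y, irrDeg θ = 9) ∧ D.Y.card = 3 := by
  classical
  have hX' : (D.X.erase (trivIrr G)).card = 1 := by
    rw [Finset.card_erase_of_mem D.htriv, D.hX]
  obtain ⟨χ, hX1⟩ := Finset.card_eq_one.mp hX'
  have hχ : χ ∈ D.X.erase (trivIrr G) := by rw [hX1]; simp
  rw [Finset.mem_erase] at hχ
  have hY3 : D.Y.card = 3 := by rw [D.hY]
  have hd1 : irrDeg (trivIrr G) = 1 := by rw [irrDeg_eq_one_iff]; rfl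
  have hall : ∀ θ ∈ D.Y, irrDeg χ = 8 ∧ irrDeg θ = 9 ∧ D.sg χ = 1 ∧ D.eps = 1 := by
    intro θ hθ
    have heq := D.deg_eq θ hθ
    rw [← Finset.add_sum_erase _ _ D.htriv, hX1, Finset.sum_singleton, D.hsgtriv, hd1] at heq
    exact Cfsg.Agent.Helper15.O4032.arith_e2 (irrDeg χ) (irrDeg θ) (D.sg χ) D.eps
      (D.hsg χ hχ.2) D.heps
      (irrDeg_dvd hcard χ) (irrDeg_dvd hcard θ) (irrDeg_ne_one hcard χ hχ.1) (D.hdegX χ hχ.2)
      (D.hdegY θ hθ) (by rw [heq]; push_cast; ring)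
  have hYne : D.Y.Nonempty := Finset.card_pos.mp (by rw [hY3]; norm_num)
  obtain ⟨θ₀, hθ₀⟩ := hYne
  obtain ⟨h8, -, hs, hε⟩ := hall θ₀ hθ₀
  refine ⟨χ, hχ.1, hχ.2, ?_, ?_, h8, hs, hε, fun θ hθ => (hall θ hθ).2.1, hY3⟩
  · intro ψ hψ
    by_cases h : ψ = trivIrr G
    · exact Or.inl h
    · right
      have : ψ ∈ D.X.erase (trivIrr G) := Finset.mem_erase.mpr ⟨h, hψ⟩
      rw [hX1] at this
      exact Finset.mem_singleton.mp this
  intro f
  rw [← Finset.add_sum_erase _ _ D.htriv, hX1, Finset.sum_singleton]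

/-- There is no simple group of order `1008`. -/
theorem no_simple_1008 {G : Type*} [Group G] [Finite G] [IsSimpleGroup G]
    (hcard : Nat.card G = 1008) : False := by
  classical
  have : Fact (Nat.Prime 7) := ⟨by norm_num⟩
  have : Fintype G := Fintype.ofFinite G
  have : Fintype (IrrCharacter G) := Fintype.ofFinite _
  obtain ⟨P⟩ : Nonempty (Sylow 7 G) := inferInstance
  have hP := card_sylow7 hcard P
  obtain ⟨he, hC⟩ := automizer7 hcard P
  obtain ⟨D⟩ := exists_bdata (perfect hcard) 7 (by norm_num) P hP 2 he (by norm_num)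
  obtain ⟨χ, hχne, hχX, -, hsumX, h8, hs, hε, hY9, hY3⟩ := e2_data hcard P D
  have : Fact (Nat.Prime 2) := ⟨by norm_num⟩
  obtain ⟨y, hyC, hy⟩ := exists_centralizer_orderOf P 2 (by rw [hC]; norm_num)
  obtain ⟨x, hxP, hx⟩ := exists_gen P hP
  have hc : Commute x y := (Subgroup.mem_centralizer_iff.mp hyC) x hxP
  have hy1 : y ≠ 1 := by intro h; rw [h, orderOf_one] at hy; omega
  -- the value of χ at y
  obtain ⟨m, hm⟩ := involution_val (by norm_num) P hP D χ hχX y hyC hy
  rw [hs, h8] at hm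
  have hχy : (χ : G → ℂ) y = ((14 * (m : ℤ) - 20 : ℤ) : ℂ) := by
    rw [hm]
    congr 1
    push_cast
    ring
  have hnorm := norm_le_irrDeg χ y
  rw [hχy, h8] at hnorm
  have hm12 : m = 1 ∨ m = 2 := by
    rw [Complex.norm_intCast] at hnorm
    push_cast at hnorm
    have h1 := abs_le.mp hnorm
    have h3 : (0 : ℝ) < m := by
      by_contra h
      push Not at h
      linarith [h1.1]
    have h4 : (m : ℝ) < 3 := by linarith [h1.2]
    have h5 : 0 < m := by exact_mod_cast h3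
    have h6 : m < 3 := by exact_mod_cast h4
    omega
  have hxval : (χ : G → ℂ) x ≠ (irrDeg χ : ℂ) := by
    have h3 := D.hval χ hχX x hxP (by intro h; rw [h, orderOf_one] at hx; omega) 1
      (Subgroup.one_mem _) (by rw [orderOf_one]; norm_num)
    rw [mul_one] at h3
    rw [h3, hs, h8]
    norm_num
  have hχy6 : (χ : G → ℂ) y = ((-6 : ℤ) : ℂ) := by
    rcases hm12 with h | h
    · rw [hχy, h]; norm_num
    · exfalso
      apply hy1
      apply eq_one_of_apply_eq_irrDeg χ x hxval y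
      rw [hχy, h, h8]; norm_num
  -- the values of θ at y
  have h7y : ¬ 7 ∣ orderOf y := by rw [hy]; norm_num
  have hθy : ∀ θ ∈ D.Y, (θ : G → ℂ) y = ((-5 : ℤ) : ℂ) := by
    intro θ hθ
    have h1 := D.hreg θ hθ y h7y
    rw [hsumX, hε, D.hsgtriv, hs, trivIrr_apply, hχy6] at h1
    push_cast at h1 ⊢
    linear_combination h1
  -- integrality
  set idx := (centralizer ({y} : Set G)).index with hidx
  obtain ⟨m₁, hm₁⟩ := Cfsg.Agent.Helper15.O4032.centralChar_int χ y (-6) 8 (by norm_num) hχy6 h8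
  obtain ⟨θ₀, hθ₀⟩ : D.Y.Nonempty := Finset.card_pos.mp (by rw [hY3]; norm_num)
  obtain ⟨m₂, hm₂⟩ := Cfsg.Agent.Helper15.O4032.centralChar_int θ₀ y (-5) 9 (by norm_num)
    (hθy θ₀ hθ₀) (hY9 θ₀ hθ₀)
  have hidxcard : idx * Nat.card (centralizer ({y} : Set G)) = 1008 := by
    rw [← hcard]; exact Subgroup.index_mul_card _
  have h36 : 36 ∣ idx := by
    have h4 : (4 : ℤ) ∣ idx := by omega
    have h9 : (9 : ℤ) ∣ idx := by omega
    have : (36 : ℤ) ∣ idx := by omega
    exact_mod_cast this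
  have hCdvd : Nat.card (centralizer ({y} : Set G)) ∣ 28 := by
    obtain ⟨k, hk⟩ := h36
    rw [hk] at hidxcard
    exact ⟨k, by nlinarith⟩
  -- second orthogonality at y
  have h2nd : ∑ ψ : IrrCharacter G, Complex.normSq ((ψ : G → ℂ) y) =
      (Nat.card (centralizer ({y} : Set G)) : ℝ) := by
    have := sum_irr_mul_conj y y
    rw [if_pos (IsConj.refl y)] at this
    simp only [Complex.mul_conj] at this
    exact_mod_cast this
  rw [← Finset.sum_add_sum_compl (D.X ∪ D.Y), Finset.sum_union D.hdisj] at h2nd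
  have hXpart : ∑ ψ ∈ D.X, Complex.normSq ((ψ : G → ℂ) y) = 37 := by
    have := hsumX (fun ψ => ((Complex.normSq ((ψ : G → ℂ) y) : ℝ) : ℂ))
    have h' : ((∑ ψ ∈ D.X, Complex.normSq ((ψ : G → ℂ) y) : ℝ) : ℂ) = ((37 : ℝ) : ℂ) := by
      push_cast
      rw [this, trivIrr_apply, hχy6]
      norm_num
    exact_mod_cast h'
  have hYpart : ∑ ψ ∈ D.Y, Complex.normSq ((ψ : G → ℂ) y) = 75 := by
    rw [Finset.sum_congr rfl (fun θ hθ => by rw [hθy θ hθ])]
    rw [Finset.sum_const, hY3]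
    norm_num
  rw [hXpart, hYpart] at h2nd
  have hrest_nonneg : 0 ≤ ∑ ψ ∈ (D.X ∪ D.Y)ᶜ, Complex.normSq ((ψ : G → ℂ) y) :=
    Finset.sum_nonneg (fun ψ _ => Complex.normSq_nonneg _)
  have hCge : 112 ≤ Nat.card (centralizer ({y} : Set G)) := by
    have : (112 : ℝ) ≤ (Nat.card (centralizer ({y} : Set G)) : ℝ) := by linarith
    exact_mod_cast this
  have := Nat.le_of_dvd (by norm_num) hCdvd
  omega

end Cfsg.Agent.Helper24.NoSimple1008
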