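import Mathlib
import Cfsg.Prelude.Def_Classical
import Cfsg.Agent.Helper13.S2558LDefs

/-! S2558 chapter (L), piece CLASSINV (driver helper13): `charpoly (x + x⁻¹)` is a class function on a
subgroup of `GL`. -/

set_option autoImplicit false

universe u

namespace Cfsg.Agent.S2558P.LOW

open Polynomial

variable {F : Type u} [Field F] [Fintype F]

/-- CLASSINV -/
theorem charpoly_add_inv_of_isConj {ι : Type} [Fintype ι] [DecidableEq ι]
    (G : Subgroup (Matrix.GeneralLinearGroup ι F)) (x y : G) (hc : IsConj x y) :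
    (((x : Matrix.GeneralLinearGroup ι F) : Matrix ι ι F) +
        (((x⁻¹ : G) : Matrix.GeneralLinearGroup ι F) : Matrix ι ι F)).charpoly =
      (((y : Matrix.GeneralLinearGroup ι F) : Matrix ι ι F) +
        (((y⁻¹ : G) : Matrix.GeneralLinearGroup ι F) : Matrix ι ι F)).charpoly := by
  obtain ⟨c, hc⟩ := isConj_iff.mp hc
  have hy : y = c * x * c⁻¹ := hc.symm
  have hyi : y⁻¹ = c * x⁻¹ * c⁻¹ := by
    rw [hy]
    group
  have h1 : (((c⁻¹ : G) : Matrix.GeneralLinearGroup ι F) : Matrix ι ι F) *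
      ((c : Matrix.GeneralLinearGroup ι F) : Matrix ι ι F) = 1 := by
    rw [← Units.val_mul, ← Subgroup.coe_mul, inv_mul_cancel]
    rfl
  have h2 : ((y : Matrix.GeneralLinearGroup ι F) : Matrix ι ι F) +
      (((y⁻¹ : G) : Matrix.GeneralLinearGroup ι F) : Matrix ι ι F) =
      ((c : Matrix.GeneralLinearGroup ι F) : Matrix ι ι F) *
        ((((x : Matrix.GeneralLinearGroup ι F) : Matrix ι ι F) +
        (((x⁻¹ : G) : Matrix.GeneralLinearGroup ι F) : Matrix ι ι F)) *
        (((c⁻¹ : G) : Matrix.GeneralLinearGroup ι F) : Matrix ι ι F)) := by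
    rw [hyi, hy]
    simp only [Subgroup.coe_mul, Units.val_mul]
    rw [Matrix.add_mul, Matrix.mul_add, Matrix.mul_assoc, Matrix.mul_assoc]
  rw [h2, Matrix.charpoly_mul_comm, Matrix.mul_assoc, h1, Matrix.mul_one]

end Cfsg.Agent.S2558P.LOW
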