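import Mathlib
import Cfsg.Prelude.Def_Classical
import Cfsg.Agent.Helper13.S2558LDefs

/-! S2558 chapter (L), piece CONGRSQ (driver helper13): change `D` by a square. -/

set_option autoImplicit false

universe u

namespace Cfsg.Agent.S2558P.LOW

open Polynomial

variable {F : Type u} [Field F]

/-- CONGRSQ -/
theorem Realizes.congr_sq {n : ℕ} {P : F[X]} {D D' : F} (h : Realizes F n P D) (hD' : D' ≠ 0)
    (hsq : IsSquare (D * D')) : Realizes F n P D' := by
  obtain ⟨V, i1, i2, I, i3, i4, B, g, ginv, b, s, hcard, hsym, hiso, hinv, hs, hD, hdet, hch⟩ := h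
  obtain ⟨t, ht⟩ := hsq
  have ht0 : t ≠ 0 := by
    intro h0
    rw [h0, mul_zero] at ht
    exact mul_ne_zero hD hD' ht
  refine ⟨V, i1, i2, I, i3, i4, B, g, ginv, b, s * t / D', hcard, hsym, hiso, hinv,
    div_ne_zero (mul_ne_zero hs ht0) hD', hD', ?_, hch⟩
  rw [hdet]
  field_simp
  rw [sq]
  exact ht

end Cfsg.Agent.S2558P.LOW
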