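import Mathlib
import Cfsg.Prelude.Def_Classical
import Cfsg.Agent.Helper13.S2558LDefs

/-! S2558 chapter (L), piece OMG (driver helper13): the norm form of `R[√δ]` and multiplication by
`ω = (Y + √δ)/2`. -/

set_option autoImplicit false

universe u

namespace Cfsg.Agent.S2558P.LOW

open Polynomial

variable {F R : Type*} [Field F] [CommRing R] [Algebra F R]

/-- OMG -/
theorem normForm_symm (μ : R →ₗ[F] F) (δ : R) (u v : R × R) :
    normForm μ δ u v = normForm μ δ v u := by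
  rw [normForm_apply, normForm_apply, mul_comm u.1 v.1, mul_comm u.2 v.2]

namespace OMG

/-- `algebraMap F R` of the inverse of two -/
theorem half_smul (h2 : (2 : F) ≠ 0) (x : R) : (2 : F)⁻¹ • x = algebraMap F R (2 : F)⁻¹ * x :=
  Algebra.smul_def _ _

theorem two_mul_half (h2 : (2 : F) ≠ 0) : (2 : R) * algebraMap F R (2 : F)⁻¹ = 1 := by
  have h : (2 : R) = algebraMap F R 2 := (map_ofNat (algebraMap F R) 2).symm
  rw [h, ← map_mul, mul_inv_cancel₀ h2, map_one]

end OMG

open OMG in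
/-- OMG -/
theorem normForm_omg (h2 : (2 : F) ≠ 0) (μ : R →ₗ[F] F) (Y δ : R) (hδ : Y * Y - δ = 4) (u v : R × R) :
    normForm μ δ (omg (F := F) Y δ u) (omg (F := F) Y δ v) = normForm μ δ u v := by
  rw [normForm_apply, normForm_apply, omg_apply, omg_apply]
  congr 1
  simp only [Prod.smul_mk, half_smul (R := R) h2]
  set c : R := algebraMap F R (2 : F)⁻¹ with hc
  have hc2 : (2 : R) * c = 1 := two_mul_half h2
  have hδ' : δ = Y * Y - 4 := by rw [← hδ]; ring
  have h4 : (4 : R) * (c * c) = 1 := by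
    have : (4 : R) * (c * c) = (2 * c) * (2 * c) := by ring
    rw [this, hc2, mul_one]
  rw [hδ']
  have e : c * (Y * u.1 + (Y * Y - 4) * u.2) * (c * (Y * v.1 + (Y * Y - 4) * v.2)) -
      (Y * Y - 4) * (c * (u.1 + Y * u.2) * (c * (v.1 + Y * v.2))) =
      (4 * (c * c)) * (u.1 * v.1 - (Y * Y - 4) * (u.2 * v.2)) := by ring
  rw [e, h4, one_mul]

open OMG in
/-- OMG -/
theorem omg_comp_omgInv (h2 : (2 : F) ≠ 0) (Y δ : R) (hδ : Y * Y - δ = 4) :
    omg (F := F) Y δ ∘ₗ omgInv (F := F) Y δ = LinearMap.id := by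
  apply LinearMap.ext
  intro u
  rw [LinearMap.comp_apply, LinearMap.id_apply, omg_apply, omgInv_apply]
  simp only [Prod.smul_mk, half_smul (R := R) h2]
  set c : R := algebraMap F R (2 : F)⁻¹ with hc
  have hc2 : (2 : R) * c = 1 := two_mul_half h2
  have hδ' : δ = Y * Y - 4 := by rw [← hδ]; ring
  have h4 : (4 : R) * (c * c) = 1 := by
    have : (4 : R) * (c * c) = (2 * c) * (2 * c) := by ring
    rw [this, hc2, mul_one]
  rw [hδ']
  ext
  · show c * (Y * (c * (Y * u.1 - (Y * Y - 4) * u.2)) + (Y * Y - 4) * (c * (-u.1 + Y * u.2))) = u.1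
    have e : c * (Y * (c * (Y * u.1 - (Y * Y - 4) * u.2)) + (Y * Y - 4) * (c * (-u.1 + Y * u.2))) =
        (4 * (c * c)) * u.1 := by ring
    rw [e, h4, one_mul]
  · show c * (c * (Y * u.1 - (Y * Y - 4) * u.2) + Y * (c * (-u.1 + Y * u.2))) = u.2
    have e : c * (c * (Y * u.1 - (Y * Y - 4) * u.2) + Y * (c * (-u.1 + Y * u.2))) =
        (4 * (c * c)) * u.2 := by ring
    rw [e, h4, one_mul]

open OMG in
/-- OMG -/
theorem omg_add_omgInv (h2 : (2 : F) ≠ 0) (Y δ : R) :
    omg (F := F) Y δ + omgInv (F := F) Y δ =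
      (LinearMap.mulLeft F Y).prodMap (LinearMap.mulLeft F Y) := by
  apply LinearMap.ext
  intro u
  rw [LinearMap.add_apply, omg_apply, omgInv_apply, LinearMap.prodMap_apply]
  simp only [Prod.smul_mk, half_smul (R := R) h2, LinearMap.mulLeft_apply]
  set c : R := algebraMap F R (2 : F)⁻¹ with hc
  have hc2 : (2 : R) * c = 1 := two_mul_half h2
  ext
  · show c * (Y * u.1 + δ * u.2) + c * (Y * u.1 - δ * u.2) = Y * u.1
    have e : c * (Y * u.1 + δ * u.2) + c * (Y * u.1 - δ * u.2) = (2 * c) * (Y * u.1) := by ring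
    rw [e, hc2, one_mul]
  · show c * (u.1 + Y * u.2) + c * (-u.1 + Y * u.2) = Y * u.2
    have e : c * (u.1 + Y * u.2) + c * (-u.1 + Y * u.2) = (2 * c) * (Y * u.2) := by ring
    rw [e, hc2, one_mul]

end Cfsg.Agent.S2558P.LOW
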