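import Mathlib
import Cfsg.Prelude.Def_Transfer
import Cfsg.Agent.Helper1.FpfCompl
import Cfsg.Agent.Helper9.PResidual
import Cfsg.Agent.Helper25.DihedralAut
import Cfsg.Agent.Helper18.AutQ8

/-!
# Generic lemmas for solvable transitive linear groups

* a `r`-subgroup acting fixed-point-freely (abstract action) is cyclic or generalized quaternion;
* automorphism groups of such groups;
* killing `p`-elements under homomorphisms to groups with few `p`-elements.
-/

set_option autoImplicit false

namespace Cfsg.Agent.Helper24.SolvTrans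

section fpf

variable {H V : Type*} [Group H] [Group V]

/-- An `r`-subgroup acting fixed-point-freely on a nontrivial finite group is cyclic or
generalized quaternion (abstract action version of `Helper1.fpf_pgroup_cyclic_or_quaternion`). -/
theorem fpf_cyclic_or_quaternion [Finite H] [Finite V] [Nontrivial V] (ρ : H →* MulAut V)
    (r : ℕ) [Fact r.Prime] (R : Subgroup H) (hR : IsPGroup r R)
    (hfpf : ∀ a ∈ R, a ≠ 1 → ∀ v : V, ρ a v = v → v = 1) :
    IsCyclic R ∨ (r = 2 ∧ ∃ n : ℕ, Nonempty (R ≃* QuaternionGroup (2 ^ n))) := by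
  let L := V ⋊[ρ] H
  haveI : Finite L := Finite.of_equiv _ SemidirectProduct.equivProd.symm
  let K : Subgroup L := (SemidirectProduct.inl : V →* L).range
  haveI hKn : K.Normal := by
    show ((SemidirectProduct.inl : V →* L).range).Normal
    rw [SemidirectProduct.range_inl_eq_ker_rightHom]
    infer_instance
  have hK1 : K ≠ ⊥ := by
    obtain ⟨v, hv⟩ := exists_ne (1 : V)
    intro h
    have h1 : (SemidirectProduct.inl v : L) ∈ K := ⟨v, rfl⟩
    rw [h, Subgroup.mem_bot] at h1
    exact hv (SemidirectProduct.inl_injective (by rw [h1, map_one]))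
  let Q : Subgroup L := R.map (SemidirectProduct.inr : H →* L)
  have hQ : IsPGroup r Q := hR.map _
  have hfpf' : ∀ a ∈ Q, a ≠ 1 → K ⊓ Subgroup.centralizer {a} = ⊥ := by
    rintro _ ⟨s, hs, rfl⟩ hs1
    have hs1' : s ≠ 1 := by
      intro h
      apply hs1
      rw [h, map_one]
    rw [eq_bot_iff]
    rintro x ⟨⟨v, rfl⟩, hx2⟩
    rw [Subgroup.mem_bot]
    have hcomm : (SemidirectProduct.inr s : L) * SemidirectProduct.inl v =
        SemidirectProduct.inl v * SemidirectProduct.inr s :=
      Subgroup.mem_centralizer_iff.mp hx2 _ rfl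
    have h1 := congrArg SemidirectProduct.left hcomm
    simp only [SemidirectProduct.mul_left, SemidirectProduct.left_inr, SemidirectProduct.left_inl,
      SemidirectProduct.right_inr, SemidirectProduct.right_inl, one_mul, map_one,
      MulAut.one_apply, mul_one] at h1
    have hv : v = 1 := hfpf s hs hs1' v h1
    rw [hv, map_one]
  have e : R ≃* Q := R.equivMapOfInjective _ SemidirectProduct.inr_injective
  rcases Cfsg.Agent.Helper1.fpf_pgroup_cyclic_or_quaternion hK1 Q hQ hfpf' with h | ⟨h2, n, ⟨e'⟩⟩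
  · left
    exact isCyclic_of_surjective e.symm e.symm.surjective
  · right
    exact ⟨h2, n, ⟨e.trans e'⟩⟩

end fpf

section kill

variable {H A : Type*} [Group H] [Group A] [Finite A] (p : ℕ) [hp : Fact p.Prime]

/-- A `p`-element maps trivially into a group of order prime to `p`. -/
theorem map_eq_one_of_not_dvd (φ : H →* A) (hA : ¬ p ∣ Nat.card A) (y : H) (k : ℕ)
    (hy : y ^ (p ^ k) = 1) : φ y = 1 := by
  have h1 : orderOf (φ y) ∣ p ^ k :=
    orderOf_dvd_of_pow_eq_one (by rw [← map_pow, hy, map_one])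
  have h2 : orderOf (φ y) ∣ Nat.card A := orderOf_dvd_natCard _
  obtain ⟨i, -, hi⟩ := (Nat.dvd_prime_pow hp.out).mp h1
  rcases i with _ | i
  · rw [pow_zero] at hi
    exact orderOf_eq_one_iff.mp hi
  · exfalso
    apply hA
    rw [hi] at h2
    exact (dvd_pow_self p (Nat.succ_ne_zero i)).trans h2

/-- A `p`-element of `O^p(H)` maps trivially into a commutative group. -/
theorem map_eq_one_of_comm (φ : H →* A) (hA : ∀ α β : A, α * β = β * α) (y : H)
    (hy : y ∈ Cfsg.pResidual p H) (k : ℕ) (hyk : y ^ (p ^ k) = 1) : φ y = 1 := by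
  set m := ordCompl[p] (Nat.card A) with hm
  have hcard0 : Nat.card A ≠ 0 := Nat.card_pos.ne'
  let S : Subgroup A :=
    { carrier := {α | α ^ m = 1}
      mul_mem' := by
        intro α β hα hβ
        have hα' : α ^ m = 1 := hα
        have hβ' : β ^ m = 1 := hβ
        show (α * β) ^ m = 1
        have hc : Commute α β := hA α β
        rw [hc.mul_pow, hα', hβ', one_mul]
      one_mem' := one_pow m
      inv_mem' := by
        intro α hα
        have hα' : α ^ m = 1 := hα
        show α⁻¹ ^ m = 1
        rw [inv_pow, hα', inv_one] }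
  have hle : Cfsg.pResidual p H ≤ S.comap φ := by
    unfold Cfsg.pResidual
    rw [Subgroup.closure_le]
    intro g hg
    have hg' : Nat.Coprime (orderOf g) p := hg
    show (φ g) ^ m = 1
    have h1 : orderOf (φ g) ∣ orderOf g := orderOf_map_dvd φ g
    have h2 : Nat.Coprime (orderOf (φ g)) p := Nat.Coprime.coprime_dvd_left h1 hg'
    have h3 : orderOf (φ g) ∣ Nat.card A := orderOf_dvd_natCard _
    rw [← Nat.ordProj_mul_ordCompl_eq_self (Nat.card A) p] at h3
    have h4 : orderOf (φ g) ∣ m :=
      (Nat.Coprime.pow_right _ h2).dvd_of_dvd_mul_left h3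
    exact orderOf_dvd_iff_pow_eq_one.mp h4
  have h1 : (φ y) ^ m = 1 := hle hy
  have h2 : (φ y) ^ (p ^ k) = 1 := by rw [← map_pow, hyk, map_one]
  have h3 : orderOf (φ y) ∣ Nat.gcd m (p ^ k) :=
    Nat.dvd_gcd (orderOf_dvd_of_pow_eq_one h1) (orderOf_dvd_of_pow_eq_one h2)
  have h4 : Nat.gcd m (p ^ k) = 1 := by
    have : Nat.Coprime p m := Nat.coprime_ordCompl hp.out hcard0
    exact (Nat.Coprime.pow_left k this).symm
  rw [h4, Nat.dvd_one] at h3
  exact orderOf_eq_one_iff.mp h3

/-- Images of two elements of a `p`-subgroup commute in a group whose order is not divisible by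
`p²`. -/
theorem commute_map_of_sq_not_dvd (φ : H →* A) (hA : ¬ p ^ 2 ∣ Nat.card A) (Q : Subgroup H)
    (hQ : IsPGroup p Q) (a b : H) (ha : a ∈ Q) (hb : b ∈ Q) : φ a * φ b = φ b * φ a := by
  set Q' : Subgroup A := Q.map φ with hQ'
  have hQ'p : IsPGroup p Q' := hQ.map φ
  obtain ⟨j, hj⟩ := IsPGroup.iff_card.mp hQ'p
  have hdvd : p ^ j ∣ Nat.card A := by
    rw [← hj]
    exact Subgroup.card_subgroup_dvd_card Q'
  have haQ : φ a ∈ Q' := ⟨a, ha, rfl⟩
  have hbQ : φ b ∈ Q' := ⟨b, hb, rfl⟩
  have hj1 : j ≤ 1 := by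
    by_contra hcon
    apply hA
    exact (pow_dvd_pow p (by omega : 2 ≤ j)).trans hdvd
  interval_cases j
  · rw [pow_zero] at hj
    have hbot : Q' = ⊥ := Subgroup.card_eq_one.mp hj
    rw [hbot, Subgroup.mem_bot] at haQ
    rw [haQ, one_mul, mul_one]
  · rw [pow_one] at hj
    haveI : IsCyclic Q' := isCyclic_of_prime_card hj
    have hc : IsMulCommutative Q' := IsCyclic.isMulCommutative
    have := hc.is_comm.comm (⟨φ a, haQ⟩ : Q') ⟨φ b, hbQ⟩
    exact congrArg Subtype.val this

end kill

section aut

variable {R : Type*} [Group R] [Finite R]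

/-- Automorphism groups of cyclic and generalized quaternion groups. -/
theorem mulAut_cases
    (h : IsCyclic R ∨ ∃ n : ℕ, Nonempty (R ≃* QuaternionGroup (2 ^ n))) :
    (∀ α β : MulAut R, α * β = β * α) ∨ IsPGroup 2 (MulAut R) ∨
      (Nonempty (R ≃* QuaternionGroup 2) ∧ Nat.card (MulAut R) = 24) := by
  have hcyc : IsCyclic R → ∀ α β : MulAut R, α * β = β * α := by
    intro hc α β
    have e := IsCyclic.mulAutMulEquiv R
    apply e.injective
    rw [map_mul, map_mul, mul_comm]
  rcases h with h | ⟨n, ⟨e⟩⟩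
  · exact Or.inl (hcyc h)
  · rcases n with _ | n
    · left
      apply hcyc
      rw [pow_zero] at e
      haveI : IsCyclic (QuaternionGroup 1) := QuaternionGroup.quaternionGroup_one_isCyclic
      exact isCyclic_of_surjective e.symm e.symm.surjective
    · rcases n with _ | n
      · right; right
        rw [zero_add, pow_one] at e
        refine ⟨⟨e⟩, ?_⟩
        obtain ⟨e2⟩ := Cfsg.Agent.Helper18.AutQ8.main
        rw [Nat.card_congr ((MulAut.congr e).trans e2).toEquiv, Nat.card_eq_fintype_card,
          Fintype.card_perm, Fintype.card_fin]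
        rfl
      · right; left
        have h2 := Cfsg.Agent.Helper25.isPGroup_mulAut_quaternion (n + 1 + 1) (by omega)
        exact h2.of_equiv (MulAut.congr e).symm

end aut


end Cfsg.Agent.Helper24.SolvTrans
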