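import Mathlib
import Cfsg.Prelude.Def_GeometricClasses
import Cfsg.Prelude.Def_ClassicalGeometry
import Cfsg.Agent.Helper29.S5976Defs

set_option autoImplicit false
open scoped MatrixGroups

/-! S5976, piece SELFREC: an irreducible polynomial having roots `α`, `α⁻¹` with `α ^ r = 1`, `r` odd,
`α ≠ 1`, has even degree. -/

namespace Cfsg.Agent.S5976P

open Polynomial

namespace SELFREC

/-- an irreducible polynomial with a root `a` divides every polynomial vanishing at `a` -/
theorem dvd_of_root {F E : Type*} [Field F] [Field E] [Algebra F E] (g h : F[X])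
    (hg : Irreducible g) (a : E) (hga : aeval a g = 0) (hha : aeval a h = 0) : g ∣ h := by
  have h1 : g * C g.leadingCoeff⁻¹ = minpoly F a := minpoly.eq_of_irreducible hg hga
  have h2 : minpoly F a ∣ h := minpoly.dvd F a hha
  have hlc : g.leadingCoeff ≠ 0 := leadingCoeff_ne_zero.mpr hg.ne_zero
  rw [← h1] at h2
  exact dvd_trans (Dvd.intro _ rfl) h2

theorem root_of_dvd {F E : Type*} [Field F] [Field E] [Algebra F E] (g h : F[X])
    (hgh : g ∣ h) (b : E) (hgb : aeval b g = 0) : aeval b h = 0 := by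
  obtain ⟨k, rfl⟩ := hgh
  rw [map_mul, hgb, zero_mul]

end SELFREC

/-- SELFREC -/
theorem even_natDegree_of_self_reciprocal {F L : Type*} [Field F] [Field L] [Algebra F L]
    (r : ℕ) (hr : Odd r) (g : F[X]) (hg : Irreducible g) (hgsep : g.Separable)
    (α : L) (hα : α ^ r = 1) (hα1 : α ≠ 1)
    (h1 : aeval α g = 0) (h2 : aeval α⁻¹ g = 0) : Even g.natDegree := by
  classical
  have hr0 : r ≠ 0 := by
    rintro rfl
    obtain ⟨k, hk⟩ := hr
    omega
  have hα0 : α ≠ 0 := by
    intro h
    rw [h, zero_pow hr0] at hα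
    exact zero_ne_one hα
  -- `g` divides `X ^ r - 1`
  have hdvd1 : g ∣ (X ^ r - 1 : F[X]) := by
    apply SELFREC.dvd_of_root g _ hg α h1
    rw [map_sub, map_pow, aeval_X, map_one, hα, sub_self]
  -- `g` divides its reverse
  have hdvd2 : g ∣ g.reverse := by
    apply SELFREC.dvd_of_root g _ hg α h1
    haveI : Invertible α⁻¹ := invertibleOfNonzero (inv_ne_zero hα0)
    have h3 := (eval₂_reverse_eq_zero_iff (algebraMap F L) α⁻¹ g).mpr h2
    rw [invOf_eq_inv, inv_inv] at h3
    exact h3
  -- `g` does not vanish at `1`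
  have hg1 : eval 1 g ≠ 0 := by
    intro h
    have h3 : (X - C (1 : F)) ∣ g := dvd_iff_isRoot.mpr h
    obtain ⟨u, hu⟩ := h3
    have hunit : IsUnit u := (hg.isUnit_or_isUnit hu).resolve_left (not_isUnit_X_sub_C 1)
    obtain ⟨c, hc, rfl⟩ := isUnit_iff.mp hunit
    rw [hu, map_mul, map_sub, aeval_X, aeval_C, map_one, aeval_C] at h1
    rcases mul_eq_zero.mp h1 with h4 | h4
    · exact hα1 (sub_eq_zero.mp h4)
    · exact hc.ne_zero ((map_eq_zero _).mp h4)
  -- the root set in an algebraic closure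
  have hsplit : (g.map (algebraMap F (AlgebraicClosure L))).Splits := IsAlgClosed.splits _
  have hcard := card_rootSet_eq_natDegree hgsep hsplit
  have hroot : ∀ β : AlgebraicClosure L, aeval β g = 0 →
      β ^ r = 1 ∧ β ≠ 0 ∧ β⁻¹ ≠ β ∧ aeval β⁻¹ g = 0 := by
    intro β hβ
    have hβr : β ^ r = 1 := by
      have := SELFREC.root_of_dvd g _ hdvd1 β hβ
      rw [map_sub, map_pow, aeval_X, map_one, sub_eq_zero] at this
      exact this
    have hβ0 : β ≠ 0 := by
      intro h
      rw [h, zero_pow hr0] at hβr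
      exact zero_ne_one hβr
    refine ⟨hβr, hβ0, ?_, ?_⟩
    · intro h
      have h3 : β * β = 1 := by
        have := mul_inv_cancel₀ hβ0
        rwa [h] at this
      obtain ⟨k, hk⟩ := hr
      have h4 : β = 1 := by
        have : β ^ r = β := by
          rw [hk, pow_succ, pow_mul, pow_two, h3, one_pow, one_mul]
        rw [← this, hβr]
      apply hg1
      have h5 : aeval (1 : AlgebraicClosure L) g = 0 := h4 ▸ hβ
      have h6 : aeval (1 : AlgebraicClosure L) g =
          algebraMap F (AlgebraicClosure L) (eval 1 g) := by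
        rw [← map_one (algebraMap F (AlgebraicClosure L)), aeval_algebraMap_apply]
        rfl
      rw [h6] at h5
      exact (map_eq_zero _).mp h5
    · have h3 := SELFREC.root_of_dvd g _ hdvd2 β hβ
      haveI : Invertible β⁻¹ := invertibleOfNonzero (inv_ne_zero hβ0)
      have h4 := (eval₂_reverse_eq_zero_iff (algebraMap F (AlgebraicClosure L)) β⁻¹ g).mp (by
        rw [invOf_eq_inv, inv_inv]
        exact h3)
      exact h4
  have hmem : ∀ β : AlgebraicClosure L, β ∈ g.rootSet (AlgebraicClosure L) ↔ aeval β g = 0 := by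
    intro β
    rw [mem_rootSet]
    exact ⟨fun h => h.2, fun h => ⟨hg.ne_zero, h⟩⟩
  obtain ⟨f, hf⟩ : ∃ f : g.rootSet (AlgebraicClosure L) → g.rootSet (AlgebraicClosure L),
      ∀ β, (f β : AlgebraicClosure L) = (β : AlgebraicClosure L)⁻¹ :=
    ⟨fun β => ⟨(β : AlgebraicClosure L)⁻¹, (hmem _).mpr (hroot β ((hmem _).mp β.2)).2.2.2⟩,
      fun β => rfl⟩
  have hinv : Function.Involutive f := by
    intro β
    apply Subtype.ext
    rw [hf, hf, inv_inv]
  obtain ⟨σ, hσ⟩ : ∃ σ : Equiv.Perm (g.rootSet (AlgebraicClosure L)), ∀ β, σ β = f β :=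
    ⟨hinv.toPerm f, fun β => rfl⟩
  have hσ2 : σ ^ 2 = 1 := by
    ext β
    rw [pow_two, Equiv.Perm.mul_apply, hσ, hσ, hinv β]
    rfl
  have hsupp : σ.support = Finset.univ := by
    apply Finset.eq_univ_of_forall
    intro β
    rw [Equiv.Perm.mem_support, hσ]
    intro h
    have := congrArg Subtype.val h
    rw [hf] at this
    exact (hroot β ((hmem _).mp β.2)).2.2.1 this
  have h2dvd := Equiv.Perm.two_dvd_card_support hσ2
  rw [hsupp, Finset.card_univ, hcard] at h2dvd
  exact even_iff_two_dvd.mpr h2dvd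

example {F L : Type*} [Field F] [Field L] [Algebra F L]
    (r : ℕ) (hr : Odd r) (g : F[X]) (hg : Irreducible g) (hgsep : g.Separable)
    (α : L) (hα : α ^ r = 1) (hα1 : α ≠ 1)
    (h1 : aeval α g = 0) (h2 : aeval α⁻¹ g = 0) : Even g.natDegree :=
  even_natDegree_of_self_reciprocal r hr g hg hgsep α hα hα1 h1 h2

end Cfsg.Agent.S5976P

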