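import Cfsg.Agent.Helper15.Iso44Defs
import Cfsg.Agent.Helper15.Iso44Bas

/-! # S3044 board, piece NC (helper24): `[D, Q_L] ≰ O`. -/

set_option autoImplicit false

namespace Cfsg.Agent.Helper15.Iso44

open Cfsg Subgroup
open scoped commutatorElement

variable {G : Type*} [Group G] [Finite G] {p : ℕ} [Fact p.Prime] {S : Sylow p G} {P : Subgroup G}

namespace NC

/-- a subgroup all of whose elements conjugate `T` into `T` normalizes `T` -/
theorem le_normalizer_of_conj_mem {G : Type*} [Group G] (A T : Subgroup G)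
    (h : ∀ a ∈ A, ∀ t ∈ T, a * t * a⁻¹ ∈ T) : A ≤ normalizer (T : Set G) := by
  intro a ha
  rw [mem_normalizer_iff]
  intro t
  constructor
  · exact h a ha t
  · intro ht
    have := h a⁻¹ (A.inv_mem ha) _ ht
    have e : a⁻¹ * (a * t * a⁻¹) * a⁻¹⁻¹ = t := by group
    rwa [e] at this

/-- conjugation by `a` maps `X ⊔ Y` into `T` as soon as it maps `X` and `Y` into `T` -/
theorem conj_sup_mem {G : Type*} [Group G] (X Y T : Subgroup G) (a : G)
    (hX : ∀ x ∈ X, a * x * a⁻¹ ∈ T) (hY : ∀ y ∈ Y, a * y * a⁻¹ ∈ T) :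
    ∀ t ∈ X ⊔ Y, a * t * a⁻¹ ∈ T := by
  intro t ht
  have hle : X ⊔ Y ≤ T.comap (MulAut.conj a).toMonoidHom := by
    apply sup_le
    · intro x hx
      rw [mem_comap]
      simpa using hX x hx
    · intro y hy
      rw [mem_comap]
      simpa using hY y hy
  have := hle ht
  rw [mem_comap] at this
  simpa using this

end NC

theorem not_comm_D_QL (h : Ctx p S P) : ¬ ⁅Dsub p P, QLsub p S P⁆ ≤ Osub p P := by
  intro hc
  apply h.hiso
  show QLsub p S P ≤ pCoreOf p P
  set T : Subgroup G := QLsub p S P ⊔ Osub p P with hT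
  have hTS : T ≤ (S : Subgroup G) := sup_le QL_le_S O_le_S
  have hTp : IsPGroup p ↥T := S.2.to_le hTS
  have hTP : T ≤ P := hTS.trans h.hSP
  -- `S` normalizes `T`
  have hS : (S : Subgroup G) ≤ normalizer (T : Set G) := by
    apply NC.le_normalizer_of_conj_mem
    intro s hs
    apply NC.conj_sup_mem
    · intro x hx
      have hsN : s ∈ normalizer (QLsub p S P : Set G) := L_le_normalizer_QL (S_le_L hs)
      exact (le_sup_left : QLsub p S P ≤ T) ((mem_normalizer_iff.mp hsN x).mp hx)
    · intro y hy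
      exact (le_sup_right : Osub p P ≤ T) (O_normal.conj_mem y hy s)
  -- `D` normalizes `T`
  have hD : Dsub p P ≤ normalizer (T : Set G) := by
    apply NC.le_normalizer_of_conj_mem
    intro d hd
    apply NC.conj_sup_mem
    · intro x hx
      have h1 : ⁅d, x⁆ ∈ Osub p P := hc (commutator_mem_commutator hd hx)
      have e : d * x * d⁻¹ = ⁅d, x⁆ * x := by
        rw [commutatorElement_def]; group
      rw [e]
      exact T.mul_mem ((le_sup_right : Osub p P ≤ T) h1) ((le_sup_left : QLsub p S P ≤ T) hx)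
    · intro y hy
      exact (le_sup_right : Osub p P ≤ T) (O_normal.conj_mem y hy d)
  have hPT : P ≤ normalizer (T : Set G) := by
    rw [← D_sup_S h]
    exact sup_le hD hS
  exact le_sup_left.trans (le_QP hTp hTP hPT)

end Cfsg.Agent.Helper15.Iso44
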