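import Cfsg.Agent.Helper15.Iso44Defs
import Cfsg.Agent.Helper15.Iso44Bas
import Cfsg.Agent.Helper10.Iso44CQ
import Cfsg.Agent.Helper20.Iso44YL1
import Cfsg.Agent.Helper25.Iso44INV
import Cfsg.Agent.Helper24.Iso44NC

/-! # S3044 board, piece COP (helper24): the coprime computation `[Y, Q_L] ≤ Y_L ⇒ [Y, Q_L] ≤ O`
and `Y = [Y, Q_L] O`. -/

set_option autoImplicit false

namespace Cfsg.Agent.Helper15.Iso44

open Cfsg Subgroup
open scoped commutatorElement

variable {G : Type*} [Group G] [Finite G] {p : ℕ} [Fact p.Prime] {S : Sylow p G} {P : Subgroup G}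

namespace COP

/-- in any group: if `x` commutes with `z = ⁅y, x⁆` then `x^k y x^{-k} = z^{-k} y` -/
theorem pow_conj {H : Type*} [Group H] (x y : H) (hc : x * ⁅y, x⁆ = ⁅y, x⁆ * x) (k : ℕ) :
    x ^ k * y * (x ^ k)⁻¹ = (⁅y, x⁆⁻¹) ^ k * y := by
  induction k with
  | zero => simp
  | succ k ih =>
    have hc' : Commute x (⁅y, x⁆⁻¹) := (show Commute x ⁅y, x⁆ from hc).inv_right
    have hck : x * (⁅y, x⁆⁻¹) ^ k = (⁅y, x⁆⁻¹) ^ k * x := (hc'.pow_right k).eq
    have e : x ^ (k + 1) * y * (x ^ (k + 1))⁻¹ = x * (x ^ k * y * (x ^ k)⁻¹) * x⁻¹ := by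
      rw [pow_succ']; group
    rw [e, ih]
    have e2 : x * ((⁅y, x⁆⁻¹) ^ k * y) * x⁻¹ = (x * (⁅y, x⁆⁻¹) ^ k) * y * x⁻¹ := by group
    rw [e2, hck]
    have e3 : x * y * x⁻¹ = ⁅y, x⁆⁻¹ * y := by
      rw [commutatorElement_def]; group
    rw [mul_assoc, mul_assoc, ← mul_assoc x y, e3, ← mul_assoc, ← pow_succ]

/-- consequently `x^k = 1` gives `z^k = 1` -/
theorem pow_eq_one {H : Type*} [Group H] (x y : H) (hc : x * ⁅y, x⁆ = ⁅y, x⁆ * x) (k : ℕ)
    (hx : x ^ k = 1) : ⁅y, x⁆ ^ k = 1 := by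
  have h := pow_conj x y hc k
  rw [hx, one_mul, inv_one, mul_one] at h
  have h2 : (⁅y, x⁆⁻¹) ^ k = 1 := by
    have := congrArg (fun w => w * y⁻¹) h
    simpa using this.symm
  rw [inv_pow, inv_eq_one] at h2
  exact h2

/-- an element of `Y` whose image in `G ⧸ O` has `p`-power order lies in `O`, if `Y/O` is a `p'`-group -/
theorem mem_O_of_pow (hp' : PPrimeQuot p P) {z : G} (hz : z ∈ Ysub p P) (k : ℕ)
    (hk : z ^ p ^ k ∈ Osub p P) : z ∈ Osub p P := by
  set π := QuotientGroup.mk' (Osub p P) with hπ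
  set T : Subgroup G := (zpowers (π z)).comap π with hT
  have hzT : z ∈ T := by
    rw [hT, mem_comap]
    exact mem_zpowers _
  have hord : (π z) ^ p ^ k = 1 := by
    rw [← map_pow]
    exact (QuotientGroup.eq_one_iff _).mpr hk
  have hpz : IsPGroup p ↥(zpowers (π z)) := by
    obtain ⟨j, -, hj⟩ := (Nat.dvd_prime_pow (Fact.out : p.Prime)).mp (orderOf_dvd_of_pow_eq_one hord)
    exact IsPGroup.of_card (n := j) (by rw [Nat.card_zpowers, hj])
  have hker : IsPGroup p ↥π.ker := by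
    rw [hπ, QuotientGroup.ker_mk']
    exact O_isPGroup
  have hTp : IsPGroup p ↥T := hpz.comap_of_ker_isPGroup π hker
  have hTY : T ≤ Ysub p P := by
    intro t ht
    rw [hT, mem_comap] at ht
    obtain ⟨i, hi⟩ := mem_zpowers_iff.mp ht
    have h1 : π (z ^ i) = π t := by rw [map_zpow]; exact hi
    have h2 : (z ^ i)⁻¹ * t ∈ Osub p P := by
      have := QuotientGroup.eq.mp h1
      exact this
    have h3 : t = z ^ i * ((z ^ i)⁻¹ * t) := by group
    rw [h3]
    exact (Ysub p P).mul_mem ((Ysub p P).zpow_mem hz i) (O_le_Y h2)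
  exact hp' T hTp hTY hzT

end COP

/-- COP with the dependency CQ (`[Y_L, Q_L] ≤ O`) as a hypothesis -/
theorem comm_Y_QL_of_le_YL_core (hp' : PPrimeQuot p P)
    (hCQ : ⁅YLsub p S P, QLsub p S P⁆ ≤ Osub p P)
    (hle : ⁅Ysub p P, QLsub p S P⁆ ≤ YLsub p S P) :
    ⁅Ysub p P, QLsub p S P⁆ ≤ Osub p P := by
  rw [commutator_le]
  intro y hy x hx
  have hzYL : ⁅y, x⁆ ∈ YLsub p S P := hle (commutator_mem_commutator hy hx)
  have hzY : ⁅y, x⁆ ∈ Ysub p P := YL_le_Y hzYL
  -- `x` commutes with `z` modulo `O`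
  have hzx : ⁅⁅y, x⁆, x⁆ ∈ Osub p P := hCQ (commutator_mem_commutator hzYL hx)
  -- `x` has `p`-power order
  obtain ⟨k, hk⟩ := (QL_isPGroup (S := S) (P := P)) ⟨x, hx⟩
  have hxk : x ^ p ^ k = 1 := by
    have := congrArg Subtype.val hk
    simpa using this
  -- compute in `G ⧸ O`
  set π := QuotientGroup.mk' (Osub p P) with hπ
  have hcomm : π x * ⁅π y, π x⁆ = ⁅π y, π x⁆ * π x := by
    have h1 : ⁅⁅π y, π x⁆, π x⁆ = 1 := by
      rw [← map_commutatorElement, ← map_commutatorElement]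
      exact (QuotientGroup.eq_one_iff _).mpr hzx
    rw [commutatorElement_eq_one_iff_mul_comm] at h1
    exact h1.symm
  have hπx : π x ^ p ^ k = 1 := by rw [← map_pow, hxk, map_one]
  have hz1 := COP.pow_eq_one (π x) (π y) hcomm (p ^ k) hπx
  rw [← map_commutatorElement, ← map_pow] at hz1
  have hz2 : ⁅y, x⁆ ^ p ^ k ∈ Osub p P := (QuotientGroup.eq_one_iff _).mp hz1
  exact COP.mem_O_of_pow hp' hzY k hz2

theorem comm_Y_QL_of_le_YL (h : Ctx p S P) (hp' : PPrimeQuot p P)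
    (hle : ⁅Ysub p P, QLsub p S P⁆ ≤ YLsub p S P) :
    ⁅Ysub p P, QLsub p S P⁆ ≤ Osub p P := by
  have hn : normalizer ((YLsub p S P : Subgroup G) : Set G) = ⊤ :=
    normalizer_eq_top_iff.mpr YL_normal
  have hCQ : ⁅YLsub p S P, QLsub p S P⁆ ≤ Osub p P :=
    comm_QL_le_O (YLsub p S P) YL_le_Y YL_le_L (by rw [hn]; exact le_top) (by rw [hn]; exact le_top)
  exact comm_Y_QL_of_le_YL_core hp' hCQ hle

namespace COP

/-- `A` normalizes `⁅A, B⁆` -/
theorem left_le_normalizer_commutator {G : Type*} [Group G] (A B : Subgroup G) :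
    A ≤ normalizer ((⁅A, B⁆ : Subgroup G) : Set G) := by
  apply NC.le_normalizer_of_conj_mem
  intro a ha t ht
  have hle : ⁅A, B⁆ ≤ (⁅A, B⁆ : Subgroup G).comap (MulAut.conj a).toMonoidHom := by
    rw [commutator_le]
    intro g₁ h₁ g₂ h₂
    rw [mem_comap]
    have e : (MulAut.conj a).toMonoidHom ⁅g₁, g₂⁆ = ⁅a * g₁, g₂⁆ * ⁅a, g₂⁆⁻¹ := by
      simp only [MulEquiv.coe_toMonoidHom, MulAut.conj_apply, commutatorElement_def]
      group
    rw [e]
    exact (⁅A, B⁆ : Subgroup G).mul_mem (commutator_mem_commutator (A.mul_mem ha h₁) h₂)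
      ((⁅A, B⁆ : Subgroup G).inv_mem (commutator_mem_commutator ha h₂))
  have := hle ht
  rw [mem_comap] at this
  simpa using this

/-- a subgroup normalizing `A` and `B` normalizes `⁅A, B⁆` -/
theorem le_normalizer_commutator {G : Type*} [Group G] (A B L : Subgroup G)
    (hA : L ≤ normalizer (A : Set G)) (hB : L ≤ normalizer (B : Set G)) :
    L ≤ normalizer ((⁅A, B⁆ : Subgroup G) : Set G) := by
  apply NC.le_normalizer_of_conj_mem
  intro l hl t ht
  have hle : ⁅A, B⁆ ≤ (⁅A, B⁆ : Subgroup G).comap (MulAut.conj l).toMonoidHom := by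
    rw [commutator_le]
    intro g₁ h₁ g₂ h₂
    rw [mem_comap, map_commutatorElement]
    apply commutator_mem_commutator
    · simpa using (mem_normalizer_iff.mp (hA hl) g₁).mp h₁
    · simpa using (mem_normalizer_iff.mp (hB hl) g₂).mp h₂
  have := hle ht
  rw [mem_comap] at this
  simpa using this

end COP

theorem Y_eq_comm (h : Ctx p S P) (hp' : PPrimeQuot p P) :
    Ysub p P = ⁅Ysub p P, QLsub p S P⁆ ⊔ Osub p P := by
  set N : Subgroup G := ⁅Ysub p P, QLsub p S P⁆ ⊔ Osub p P with hN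
  have hOn : ∀ g : G, ∀ t ∈ Osub p P, g * t * g⁻¹ ∈ N := fun g t ht =>
    (le_sup_right : Osub p P ≤ N) (O_normal.conj_mem t ht g)
  have hYtop : normalizer ((Ysub p P : Subgroup G) : Set G) = ⊤ := normalizer_eq_top_iff.mpr Y_normal
  -- `Y` normalizes `N`
  have hYN : Ysub p P ≤ normalizer (N : Set G) := by
    apply NC.le_normalizer_of_conj_mem
    intro y hy
    apply NC.conj_sup_mem
    · intro t ht
      have := COP.left_le_normalizer_commutator (Ysub p P) (QLsub p S P) hy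
      exact (le_sup_left : ⁅Ysub p P, QLsub p S P⁆ ≤ N) ((mem_normalizer_iff.mp this t).mp ht)
    · exact hOn y
  -- `L` normalizes `N`
  have hLN : Lsub p S P ≤ normalizer (N : Set G) := by
    apply NC.le_normalizer_of_conj_mem
    intro l hl
    apply NC.conj_sup_mem
    · intro t ht
      have := COP.le_normalizer_commutator (Ysub p P) (QLsub p S P) (Lsub p S P)
        (by rw [hYtop]; exact le_top) L_le_normalizer_QL hl
      exact (le_sup_left : ⁅Ysub p P, QLsub p S P⁆ ≤ N) ((mem_normalizer_iff.mp this t).mp ht)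
    · exact hOn l
  have hNn : N.Normal := by
    rw [← normalizer_eq_top_iff, eq_top_iff, ← Y_sup_L h]
    exact sup_le hYN hLN
  have hNY : N ≤ Ysub p P := sup_le (commutator_le_left _ _) O_le_Y
  rcases normal_le_Y h N hNn hNY with h1 | h1
  · exact h1.symm
  · exfalso
    have h2 : ⁅Ysub p P, QLsub p S P⁆ ≤ YLsub p S P := le_sup_left.trans h1
    have h3 := comm_Y_QL_of_le_YL h hp' h2
    exact not_comm_D_QL h ((commutator_mono D_le_Y le_rfl).trans h3)

end Cfsg.Agent.Helper15.Iso44
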