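import Cfsg.Agent.Helper15.Iso44Defs
import Cfsg.Agent.Helper15.Iso44Bas
import Cfsg.Agent.Helper7.Layer
import Cfsg.Agent.Helper7.Components

/-! # S3044 board, piece ORB (helper24): `orbit_split`.

If `A ≤ G` is not transitive on the (preimages of the) components of `Y / O_p(Y)` and
`E(Y / O_p(Y)) = ⊤`, then `Y` splits as a central product mod `O` of two `A`-invariant normal
subgroups, neither of which is central mod `O`. -/

set_option autoImplicit false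
set_option linter.unusedSectionVars false

namespace Cfsg.Agent.Helper15.Iso44

open Cfsg Subgroup
open scoped commutatorElement

variable {G : Type*} [Group G] [Finite G] {p : ℕ} [Fact p.Prime] {S : Sylow p G} {P : Subgroup G}

namespace ORB

/-- a subgroup all of whose elements conjugate `T` into `T` normalizes `T` -/
theorem le_normalizer_of_conj_mem {G : Type*} [Group G] (A T : Subgroup G)
    (h : ∀ a ∈ A, ∀ t ∈ T, a * t * a⁻¹ ∈ T) : A ≤ normalizer (T : Set G) := by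
  intro a ha
  rw [mem_normalizer_iff]
  intro t
  constructor
  · exact h a ha t
  · intro ht
    have := h a⁻¹ (A.inv_mem ha) _ ht
    have e : a⁻¹ * (a * t * a⁻¹) * a⁻¹⁻¹ = t := by group
    rwa [e] at this

section caseB
variable [hn : (Cfsg.pCore p ↥(Ysub p P)).Normal]

/-- the automorphism of `Y / O_p(Y)` induced by conjugation with `s : G` -/
noncomputable def phi (p : ℕ) (P : Subgroup G) [hn : (Cfsg.pCore p ↥(Ysub p P)).Normal] (s : G) :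
    (↥(Ysub p P) ⧸ Cfsg.pCore p ↥(Ysub p P)) ≃* (↥(Ysub p P) ⧸ Cfsg.pCore p ↥(Ysub p P)) :=
  QuotientGroup.congr (Cfsg.pCore p ↥(Ysub p P)) (Cfsg.pCore p ↥(Ysub p P))
    (MulAut.conjNormal s) (Cfsg.Agent.Helper14.pCore_map_equiv p (MulAut.conjNormal s))

theorem phi_mk (s : G) (y : ↥(Ysub p P)) :
    phi p P s (QuotientGroup.mk' (Cfsg.pCore p ↥(Ysub p P)) y) =
      QuotientGroup.mk' (Cfsg.pCore p ↥(Ysub p P)) (MulAut.conjNormal s y) := by
  unfold phi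
  exact QuotientGroup.congr_mk _ _ _ _ _

theorem phi_mul (a s : G) (q : ↥(Ysub p P) ⧸ Cfsg.pCore p ↥(Ysub p P)) :
    phi p P (a * s) q = phi p P a (phi p P s q) := by
  obtain ⟨y, rfl⟩ := QuotientGroup.mk'_surjective (Cfsg.pCore p ↥(Ysub p P)) q
  rw [phi_mk, phi_mk, phi_mk, map_mul]
  rfl

theorem phi_one (q : ↥(Ysub p P) ⧸ Cfsg.pCore p ↥(Ysub p P)) : phi p P 1 q = q := by
  obtain ⟨y, rfl⟩ := QuotientGroup.mk'_surjective (Cfsg.pCore p ↥(Ysub p P)) q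
  rw [phi_mk, map_one]
  rfl

theorem map_phi_mul (a s : G) (K : Subgroup (↥(Ysub p P) ⧸ Cfsg.pCore p ↥(Ysub p P))) :
    K.map (phi p P (a * s)).toMonoidHom =
      (K.map (phi p P s).toMonoidHom).map (phi p P a).toMonoidHom := by
  rw [Subgroup.map_map]
  congr 1
  exact MonoidHom.ext fun q => phi_mul a s q

theorem map_phi_one (K : Subgroup (↥(Ysub p P) ⧸ Cfsg.pCore p ↥(Ysub p P))) :
    K.map (phi p P 1).toMonoidHom = K := by
  ext q
  constructor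
  · rintro ⟨k, hk, rfl⟩
    have : (phi p P 1).toMonoidHom k = k := phi_one k
    rw [this]; exact hk
  · intro hq
    exact ⟨q, hq, phi_one q⟩

/-- conjugating a preimage = preimage of the image under the induced automorphism -/
theorem map_conj_pb (s : G) (K : Subgroup (↥(Ysub p P) ⧸ Cfsg.pCore p ↥(Ysub p P))) :
    (pb p P K).map (MulAut.conj s).toMonoidHom = pb p P (K.map (phi p P s).toMonoidHom) := by
  ext g
  constructor
  · rintro ⟨y, hy, rfl⟩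
    obtain ⟨hyY, hyK⟩ := (mem_pb K y).1 hy
    have hgY : (MulAut.conj s).toMonoidHom y ∈ Ysub p P := by
      show s * y * s⁻¹ ∈ Ysub p P
      exact (Y_normal (p := p) (P := P)).conj_mem y hyY s
    refine (mem_pb _ _).2 ⟨hgY, ?_⟩
    refine ⟨_, hyK, ?_⟩
    show phi p P s (QuotientGroup.mk' _ ⟨y, hyY⟩) = _
    rw [phi_mk]
    congr 1
  · intro hg
    obtain ⟨hgY, k, hk, hkg⟩ := (mem_pb _ g).1 hg
    have hyY : s⁻¹ * g * s⁻¹⁻¹ ∈ Ysub p P :=
      (Y_normal (p := p) (P := P)).conj_mem g hgY s⁻¹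
    refine ⟨s⁻¹ * g * s⁻¹⁻¹, ?_, ?_⟩
    · refine (mem_pb _ _).2 ⟨hyY, ?_⟩
      have e1 : phi p P s (QuotientGroup.mk' (Cfsg.pCore p ↥(Ysub p P)) ⟨s⁻¹ * g * s⁻¹⁻¹, hyY⟩) =
          phi p P s k := by
        rw [phi_mk]
        have hkg' : phi p P s k = QuotientGroup.mk' (Cfsg.pCore p ↥(Ysub p P)) ⟨g, hgY⟩ := hkg
        rw [hkg']
        congr 1
        apply Subtype.ext
        rw [MulAut.conjNormal_apply]
        show s * (s⁻¹ * g * s⁻¹⁻¹) * s⁻¹ = g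
        group
      have e2 := (phi p P s).injective e1
      rw [e2]; exact hk
    · show s * (s⁻¹ * g * s⁻¹⁻¹) * s⁻¹ = g
      group

/-- preimages of normal subgroups are normalized by `Y` -/
theorem Y_le_normalizer_pb (K : Subgroup (↥(Ysub p P) ⧸ Cfsg.pCore p ↥(Ysub p P)))
    (hK : K.Normal) : Ysub p P ≤ normalizer (pb p P K : Set G) := by
  apply le_normalizer_of_conj_mem
  intro y hy g hg
  obtain ⟨hgY, hgK⟩ := (mem_pb K g).1 hg
  have hcY : y * g * y⁻¹ ∈ Ysub p P :=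
    (Ysub p P).mul_mem ((Ysub p P).mul_mem hy hgY) ((Ysub p P).inv_mem hy)
  refine (mem_pb K _).2 ⟨hcY, ?_⟩
  have e : (⟨y * g * y⁻¹, hcY⟩ : ↥(Ysub p P)) = ⟨y, hy⟩ * ⟨g, hgY⟩ * ⟨y, hy⟩⁻¹ := rfl
  rw [e, map_mul, map_mul, map_inv]
  exact hK.conj_mem _ hgK _

/-- commutators of preimages -/
theorem comm_pb_le (K K' : Subgroup (↥(Ysub p P) ⧸ Cfsg.pCore p ↥(Ysub p P))) :
    ⁅pb p P K, pb p P K'⁆ ≤ pb p P ⁅K, K'⁆ := by
  rw [Subgroup.commutator_le]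
  intro g hg g' hg'
  obtain ⟨hgY, hgK⟩ := (mem_pb K g).1 hg
  obtain ⟨hgY', hgK'⟩ := (mem_pb K' g').1 hg'
  have hcY : ⁅g, g'⁆ ∈ Ysub p P := by
    rw [commutatorElement_def]
    exact (Ysub p P).mul_mem ((Ysub p P).mul_mem ((Ysub p P).mul_mem hgY hgY')
      ((Ysub p P).inv_mem hgY)) ((Ysub p P).inv_mem hgY')
  refine (mem_pb _ _).2 ⟨hcY, ?_⟩
  have e : (⟨⁅g, g'⁆, hcY⟩ : ↥(Ysub p P)) = ⁅(⟨g, hgY⟩ : ↥(Ysub p P)), ⟨g', hgY'⟩⁆ := rfl
  rw [e, map_commutatorElement]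
  exact Subgroup.commutator_mem_commutator hgK hgK'

theorem comm_le_of_comm_pb_le (K K' M : Subgroup (↥(Ysub p P) ⧸ Cfsg.pCore p ↥(Ysub p P)))
    (h : ⁅pb p P K, pb p P K'⁆ ≤ pb p P M) : ⁅K, K'⁆ ≤ M := by
  rw [Subgroup.commutator_le]
  intro k hk k' hk'
  obtain ⟨y, rfl⟩ := QuotientGroup.mk'_surjective (Cfsg.pCore p ↥(Ysub p P)) k
  obtain ⟨y', rfl⟩ := QuotientGroup.mk'_surjective (Cfsg.pCore p ↥(Ysub p P)) k'
  have h1 : (y : G) ∈ pb p P K := (mem_pb K _).2 ⟨y.2, hk⟩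
  have h2 : (y' : G) ∈ pb p P K' := (mem_pb K' _).2 ⟨y'.2, hk'⟩
  obtain ⟨hcY, hc⟩ := (mem_pb M _).1 (h (Subgroup.commutator_mem_commutator h1 h2))
  have e : (⟨⁅(y : G), (y' : G)⁆, hcY⟩ : ↥(Ysub p P)) = ⁅y, y'⁆ := rfl
  rw [e, map_commutatorElement] at hc
  exact hc

theorem pb_sup (K K' : Subgroup (↥(Ysub p P) ⧸ Cfsg.pCore p ↥(Ysub p P))) :
    pb p P (K ⊔ K') = pb p P K ⊔ pb p P K' := by
  unfold pb
  rw [← Subgroup.comap_sup_eq _ _ _ (QuotientGroup.mk'_surjective _), Subgroup.map_sup]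

end caseB

end ORB

section caseB
variable [hn : (Cfsg.pCore p ↥(Ysub p P)).Normal]

theorem orbit_split (A : Subgroup G)
    (hlay : Cfsg.layer (↥(Ysub p P) ⧸ Cfsg.pCore p ↥(Ysub p P)) = ⊤)
    (K₁ K₂ : Subgroup (↥(Ysub p P) ⧸ Cfsg.pCore p ↥(Ysub p P)))
    (h1 : Cfsg.IsComponent K₁) (h2 : Cfsg.IsComponent K₂)
    (hno : ¬ ∃ s ∈ A, pb p P K₂ = (pb p P K₁).map (MulAut.conj s).toMonoidHom) :
    ∃ X₁ X₂ : Subgroup G, X₁ ≤ Ysub p P ∧ X₂ ≤ Ysub p P ∧ Osub p P ≤ X₁ ∧ Osub p P ≤ X₂ ∧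
      A ≤ normalizer (X₁ : Set G) ∧ A ≤ normalizer (X₂ : Set G) ∧
      Ysub p P ≤ normalizer (X₁ : Set G) ∧ Ysub p P ≤ normalizer (X₂ : Set G) ∧
      ⁅X₁, X₂⁆ ≤ Osub p P ∧ Ysub p P ≤ X₁ ⊔ X₂ ∧
      ¬ ⁅X₁, Ysub p P⁆ ≤ Osub p P ∧ ¬ ⁅X₂, Ysub p P⁆ ≤ Osub p P := by
  classical
  -- the orbit of `K₁` and the other components
  set O₁ : Set (Subgroup (↥(Ysub p P) ⧸ Cfsg.pCore p ↥(Ysub p P))) :=
    {K | ∃ s ∈ A, K = K₁.map (ORB.phi p P s).toMonoidHom} with hO₁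
  set O₂ : Set (Subgroup (↥(Ysub p P) ⧸ Cfsg.pCore p ↥(Ysub p P))) :=
    {K | Cfsg.IsComponent K ∧ K ∉ O₁} with hO₂
  have hcomp1 : ∀ K ∈ O₁, Cfsg.IsComponent K := by
    rintro K ⟨s, -, rfl⟩
    exact Cfsg.Agent.Helper7.isComponent_map_equiv (ORB.phi p P s) h1
  have hcomp2 : ∀ K ∈ O₂, Cfsg.IsComponent K := fun K hK => hK.1
  -- every component is normal
  have hnormal : ∀ K : Subgroup (↥(Ysub p P) ⧸ Cfsg.pCore p ↥(Ysub p P)),
      Cfsg.IsComponent K → K.Normal := by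
    intro K hK
    have := Cfsg.Agent.Helper7.layer_le_normalizer_component hK
    rw [hlay, top_le_iff] at this
    exact Subgroup.normalizer_eq_top_iff.1 this
  have hK1 : K₁ ∈ O₁ := ⟨1, A.one_mem, (ORB.map_phi_one K₁).symm⟩
  have hK2 : K₂ ∈ O₂ := by
    refine ⟨h2, ?_⟩
    rintro ⟨s, hs, rfl⟩
    exact hno ⟨s, hs, (ORB.map_conj_pb s K₁).symm⟩
  -- invariance of the two sets under `A`
  have hinv1 : ∀ a ∈ A, ∀ K ∈ O₁, K.map (ORB.phi p P a).toMonoidHom ∈ O₁ := by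
    rintro a ha K ⟨s, hs, rfl⟩
    exact ⟨a * s, A.mul_mem ha hs, (ORB.map_phi_mul a s K₁).symm⟩
  have hinv2 : ∀ a ∈ A, ∀ K ∈ O₂, K.map (ORB.phi p P a).toMonoidHom ∈ O₂ := by
    rintro a ha K ⟨hKc, hKn⟩
    refine ⟨Cfsg.Agent.Helper7.isComponent_map_equiv (ORB.phi p P a) hKc, ?_⟩
    intro hmem
    apply hKn
    have := hinv1 a⁻¹ (A.inv_mem ha) _ hmem
    rw [← ORB.map_phi_mul, inv_mul_cancel, ORB.map_phi_one] at this
    exact this
  have hAinv : ∀ (T : Set (Subgroup (↥(Ysub p P) ⧸ Cfsg.pCore p ↥(Ysub p P)))),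
      (∀ a ∈ A, ∀ K ∈ T, K.map (ORB.phi p P a).toMonoidHom ∈ T) →
      A ≤ normalizer (pb p P (sSup T) : Set G) := by
    intro T hT
    apply ORB.le_normalizer_of_conj_mem
    intro a ha t ht
    have h3 : (pb p P (sSup T)).map (MulAut.conj a).toMonoidHom ≤ pb p P (sSup T) := by
      rw [ORB.map_conj_pb, pb_le_pb_iff, Subgroup.map_le_iff_le_comap]
      apply sSup_le
      intro K hK
      rw [← Subgroup.map_le_iff_le_comap]
      exact le_sSup (hT a ha K hK)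
    exact h3 ⟨t, ht, rfl⟩
  have hYinv : ∀ (T : Set (Subgroup (↥(Ysub p P) ⧸ Cfsg.pCore p ↥(Ysub p P)))),
      (∀ K ∈ T, Cfsg.IsComponent K) →
      Ysub p P ≤ normalizer (pb p P (sSup T) : Set G) := by
    intro T hT
    apply ORB.Y_le_normalizer_pb
    exact Subgroup.sSup_normal T (fun K hK => hnormal K (hT K hK))
  -- the two joins commute
  have hcomm : ⁅sSup O₁, sSup O₂⁆ = ⊥ := by
    rw [Subgroup.commutator_eq_bot_iff_le_centralizer]
    apply sSup_le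
    intro K hK
    rw [Subgroup.le_centralizer_iff]
    apply sSup_le
    intro K' hK'
    rw [← Subgroup.commutator_eq_bot_iff_le_centralizer]
    apply Cfsg.Agent.Helper7.components_commute (hcomp2 K' hK') (hcomp1 K hK)
    rintro rfl
    exact hK'.2 hK
  have hsup : sSup O₁ ⊔ sSup O₂ = ⊤ := by
    rw [← top_le_iff, ← hlay, Cfsg.Agent.Helper7.layer_le_iff]
    intro K hK
    by_cases hKO : K ∈ O₁
    · exact (le_sSup hKO).trans le_sup_left
    · exact (le_sSup (show K ∈ O₂ from ⟨hK, hKO⟩)).trans le_sup_right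
  have hnc : ∀ (K X : Subgroup (↥(Ysub p P) ⧸ Cfsg.pCore p ↥(Ysub p P))),
      Cfsg.IsComponent K → K ≤ X → ¬ ⁅pb p P X, Ysub p P⁆ ≤ Osub p P := by
    intro K X hK hKX hle
    have h3 : ⁅pb p P K, pb p P K⁆ ≤ pb p P ⊥ := by
      rw [pb_bot]
      exact (Subgroup.commutator_mono ((pb_le_pb_iff K X).2 hKX) (pb_le_Y K)).trans hle
    have h4 := ORB.comm_le_of_comm_pb_le K K ⊥ h3
    rw [Cfsg.Agent.Helper7.IsComponent.commutator_eq hK, le_bot_iff] at h4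
    exact Cfsg.Agent.Helper7.IsComponent.ne_bot hK h4
  refine ⟨pb p P (sSup O₁), pb p P (sSup O₂), pb_le_Y _, pb_le_Y _, O_le_pb _, O_le_pb _,
    hAinv O₁ hinv1, hAinv O₂ hinv2, hYinv O₁ hcomp1, hYinv O₂ hcomp2, ?_, ?_,
    hnc K₁ _ h1 (le_sSup hK1), hnc K₂ _ h2 (le_sSup hK2)⟩
  · refine (ORB.comm_pb_le _ _).trans ?_
    rw [hcomm, pb_bot]
  · rw [← ORB.pb_sup, hsup, pb_top]

end caseB

end Cfsg.Agent.Helper15.Iso44
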