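import Mathlib
import Cfsg.Agent.Helper15.S3412.Defs2
import Cfsg.Agent.Helper7.AutPSL5

/-! S3412 piece SCARD (driver helper15): `|TP v| = |TH φ| = 9` in `SL₃(3)`. -/

set_option autoImplicit false

namespace Cfsg.Agent.S3412P

open Matrix Cfsg.Agent.Helper2.RootSLn Cfsg.Agent.Helper7.AutPSL

namespace SCARD

set_option maxRecDepth 100000 in
theorem card_perp : ∀ v : Fin 3 → ZMod 3, v ≠ 0 →
    Fintype.card {ψ : Fin 3 → ZMod 3 // ψ ⬝ᵥ v = 0} = 9 := by
  decide

/-- the parametrisation of `TP v` -/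
noncomputable def equivTP {v : Fin 3 → ZMod 3} (hv : v ≠ 0) :
    {ψ : Fin 3 → ZMod 3 // ψ ⬝ᵥ v = 0} ≃ (TP v : Subgroup L33) :=
  Equiv.ofBijective (fun ψ => ⟨ts v ψ.1 ψ.2 1, ts_mem_TP ψ.2 1⟩) (by
    constructor
    · intro ψ ψ' h
      have h1 : (ts v ψ.1 ψ.2 1 : L33) = ts v ψ'.1 ψ'.2 1 := congrArg Subtype.val h
      have h2 : tm v ψ.1 1 = tm v ψ'.1 1 := congrArg Subtype.val h1
      have h3 : vecMulVec v ψ.1 = vecMulVec v ψ'.1 := by
        simpa [tm] using h2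
      obtain ⟨i, hi⟩ : ∃ i, v i ≠ 0 := by
        by_contra hcon
        push Not at hcon
        exact hv (funext hcon)
      apply Subtype.ext
      funext j
      have h4 := congrFun (congrFun h3 i) j
      rw [Matrix.vecMulVec_apply, Matrix.vecMulVec_apply] at h4
      exact mul_left_cancel₀ hi h4
    · rintro ⟨g, ψ, hψ, hg⟩
      exact ⟨⟨ψ, hψ⟩, Subtype.ext (Subtype.ext hg.symm)⟩)

theorem card_TP {v : Fin 3 → ZMod 3} (hv : v ≠ 0) : Nat.card (TP v : Subgroup L33) = 9 := by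
  rw [← Nat.card_congr (equivTP hv), Nat.card_eq_fintype_card]
  exact card_perp v hv

theorem card_TH {φ : Fin 3 → ZMod 3} (hφ : φ ≠ 0) : Nat.card (TH φ : Subgroup L33) = 9 := by
  rw [← card_TP hφ, ← map_invT_TH φ]
  exact (Nat.card_congr ((TH φ).equivMapOfInjective _ (MulEquiv.injective _)).toEquiv)

end SCARD

end Cfsg.Agent.S3412P
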