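import Mathlib
import Cfsg.Prelude.Def_Classical
import Cfsg.Agent.Helper26.S5320.Defs
import Cfsg.Agent.Helper2.SpCenter

/-! S5320 piece CENTER (driver helper26): the centre of `Sp₄(F)` is `{1, zG}`; `t1` is not central. -/

set_option autoImplicit false

namespace Cfsg.Agent.S5320P

open Matrix

variable {F : Type*} [Field F]

/-- CENTER (S-M). -/
theorem mem_center_iff (x : Gt F) : x ∈ Subgroup.center (Gt F) ↔ x = 1 ∨ x = zG := by
  rw [Cfsg.Agent.Helper2.Sp.mem_center_iff]
  constructor
  · rintro ⟨c, hc, hx⟩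
    rcases mul_self_eq_one_iff.mp hc with h1 | h1
    · left
      apply Subtype.ext
      rw [hx, h1, one_smul]
      rfl
    · right
      apply Subtype.ext
      rw [hx, h1, zG_val, neg_smul, one_smul]
  · rintro (rfl | rfl)
    · exact ⟨1, by ring, by rw [one_smul]; rfl⟩
    · exact ⟨-1, by ring, by rw [zG_val, neg_smul, one_smul]⟩

theorem t1_not_mem_center (h2 : (2 : F) ≠ 0) : (t1 : Gt F) ∉ Subgroup.center (Gt F) := by
  rw [mem_center_iff]
  have hval : ((t1 : Gt F) : M4 F) = embM (-1 : M2 F) (1 : M2 F) := by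
    unfold t1
    rw [emb_val]
    simp
  have h00 : ((t1 : Gt F) : M4 F) (Sum.inl 0) (Sum.inl 0) = -1 := by
    rw [hval]
    simp [embM]
  have h11 : ((t1 : Gt F) : M4 F) (Sum.inl 1) (Sum.inl 1) = 1 := by
    rw [hval]
    simp [embM]
  have hne : (1 : F) ≠ -1 := by
    intro h
    apply h2
    linear_combination h
  rintro (h | h)
  · rw [h] at h00
    have h00' : ((1 : Gt F) : M4 F) (Sum.inl 0) (Sum.inl 0) = 1 := by
      show (1 : M4 F) (Sum.inl 0) (Sum.inl 0) = 1
      simp
    rw [h00'] at h00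
    exact hne h00
  · rw [h, zG_val] at h11
    simp only [Matrix.neg_apply, Matrix.one_apply_eq] at h11
    exact hne h11.symm

end Cfsg.Agent.S5320P
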