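import Mathlib
import Cfsg.Agent.Helper26.S5704GENDDefs
import Cfsg.Agent.Helper26.S5704ROOTS
import Cfsg.Agent.Helper4.S5704GENDGECONJU
import Cfsg.Agent.Helper26.S5704GENDGEMUL
import Cfsg.Agent.Helper5.S5704GENDGESCAL

set_option autoImplicit false
set_option linter.unusedSectionVars false
set_option linter.unusedVariables false

/-! # S5704, SEED/GEND piece UMOVE (helper24): change the partner `u'` to `(u',v) • v`, `v ⊥ u` -/

namespace Cfsg.Agent.S5704P

open Matrix Cfsg.Agent.S5637P Cfsg.Agent.S5704S Cfsg.Agent.Helper28.Sg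

variable {F : Type*} [Field F] {n a b : ℕ} (e : Fin n ≃ Fin a × Fin b)

theorem GEND.UMOVE.fam {GU : Matrix (Fin a) (Fin a) F} {GW : Matrix (Fin b) (Fin b) F}
    (hU : IsSymp GU) (hW : IsSymp GW) {M : Subgroup (GL (Fin n) F)}
    (hroot : ∀ (v : Fin a → F) (s : F), XU e GU v s ∈ M) {lam lam' : F} {u u' : Fin a → F}
    {z : Fin b → F} (hF : GFam e GU GW M lam lam' u u' z) {v : Fin a → F} (hv : bf GU u v = 0) :
    GFam e GU GW M lam lam' u (bf GU u' v • v) z := by
  intro c p hp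
  obtain ⟨k₁, hk₁, h₁⟩ := hF c p hp
  obtain ⟨k₂, hk₂, h₂⟩ := hF (-c) p hp
  have hzp : bf GW z p = 0 := hW.eq_zero_symm hp
  -- the conjugate of `k₁`
  have hc := GEND.GECONJU.conj e hU h₁ v 1
  have e1 : tv GU v 1 u = u := by
    rw [tv_apply, hv, mul_zero, zero_smul, add_zero]
  have e2 : tv GU v 1 u' = u' + bf GU u' v • v := by
    rw [tv_apply, one_mul]
  rw [e1, e2] at hc
  -- `k₂` with the partner `-u'`
  have h₂' : GE e GU GW u u' z p ((-1) * (c * lam)) ((-1) * (c * lam')) k₂ := by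
    have ea : (-1 : F) * (c * lam) = -c * lam := by ring
    have eb : (-1 : F) * (c * lam') = -c * lam' := by ring
    rw [ea, eb]
    exact h₂
  have hs := GEND.GESCAL.smul e h₂'
  have hm := GEND.GEMUL.mul e hW hzp hc hs
  have e3 : u' + bf GU u' v • v + (-1 : F) • u' = bf GU u' v • v := by
    rw [neg_one_smul]
    abel
  rw [e3] at hm
  exact ⟨_, M.mul_mem (M.mul_mem (M.mul_mem (hroot v 1) hk₁) (M.inv_mem (hroot v 1))) hk₂, hm⟩

end Cfsg.Agent.S5704P
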