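import Mathlib
import Cfsg.Prelude.Def_ClassicalGeometry
import Cfsg.Agent.Helper16.S5955Defs
import Cfsg.Agent.Helper21.S5949Basic

set_option autoImplicit false
open scoped MatrixGroups

universe u

/-! S5955, piece CLASSES (generic part): pigeonhole on the annihilators of irreducible blocks,
with the statements of UNIQ / IRRDIV for the blocks as hypotheses. -/

namespace Cfsg.Agent.S5955P

open Polynomial

namespace CLASSES

theorem main {F V : Type*} [Field F] [AddCommGroup V] [Module F V]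
    [FiniteDimensional F V] (r : ℕ) (hr0 : 0 < r) (y : Module.End F V) (hy : y ^ r = 1) {b : ℕ}
    (i : ℕ) (E : Fin b → Submodule F V)
    (hEinv : ∀ j, (E j).map y ≤ E j)
    (hEdim : ∀ j, Module.finrank F (E j) = i)
    (hEfix : ∀ j, E j ⊓ LinearMap.ker (y - 1) = ⊥)
    (huniq3 : ∀ j, E j ≠ ⊥ → ∃ g : F[X], g.Monic ∧ g.natDegree = Module.finrank F (E j) ∧
      ∀ u ∈ E j, aeval y g u = 0)
    (huniq4 : ∀ j, ∀ h : F[X], h ≠ 0 → h.natDegree < Module.finrank F (E j) → ∀ v ∈ E j, v ≠ 0 →
      aeval y h v ≠ 0)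
    (hb : r - 1 < b * i) :
    ∃ j j' : Fin b, j ≠ j' ∧ ∃ g : F[X], g.Monic ∧ g.natDegree = i ∧
      ∀ v ∈ E j ⊔ E j', aeval y g v = 0 := by
  classical
  have hi : 1 ≤ i := by
    rcases Nat.eq_zero_or_pos i with h | h
    · rw [h, mul_zero] at hb
      omega
    · exact h
  have hE0 : ∀ j, E j ≠ ⊥ := by
    intro j h
    have := hEdim j
    rw [h, finrank_bot] at this
    omega
  have hEinv' : ∀ j, ∀ P : F[X], ∀ v ∈ E j, aeval y P v ∈ E j := fun j P v hv =>
    Cfsg.Agent.S5949P.Basic.aeval_mem_of_invariant y (E j) (hEinv j) P v hv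
  have hvex : ∀ j, ∃ v ∈ E j, v ≠ 0 := fun j => (Submodule.ne_bot_iff _).mp (hE0 j)
  choose G hGm hGd hGk using fun j => huniq3 j (hE0 j)
  have hGd' : ∀ j, (G j).natDegree = i := fun j => (hGd j).trans (hEdim j)
  -- `Φ = 1 + X + ... + X ^ (r - 1)` kills every block
  obtain ⟨Φ, hΦ⟩ : ∃ Φ : F[X], Φ = ∑ k ∈ Finset.range r, X ^ k := ⟨_, rfl⟩
  have hΦmul : Φ * (X - 1) = X ^ r - 1 := by rw [hΦ]; exact geom_sum_mul X r
  have hXr : (X ^ r - 1 : F[X]) ≠ 0 := by
    have h1 : (X ^ r - 1 : F[X]) = X ^ r - C 1 := by rw [map_one]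
    rw [h1]
    exact X_pow_sub_C_ne_zero hr0 1
  have hΦ0 : Φ ≠ 0 := by
    intro h
    rw [h, zero_mul] at hΦmul
    exact hXr hΦmul.symm
  have hΦdeg : Φ.natDegree + 1 = r := by
    have h1 : (X - 1 : F[X]) = X - C 1 := by rw [map_one]
    have h2 : (X - 1 : F[X]) ≠ 0 := by rw [h1]; exact X_sub_C_ne_zero 1
    have h3 := natDegree_mul hΦ0 h2
    rw [hΦmul, h1, natDegree_X_sub_C] at h3
    have h4 : (X ^ r - 1 : F[X]) = X ^ r - C 1 := by rw [map_one]
    rw [h4, natDegree_X_pow_sub_C] at h3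
    exact h3.symm
  have hΦk : ∀ j, ∀ v ∈ E j, aeval y Φ v = 0 := by
    intro j v hv
    have h1 : aeval y Φ v ∈ E j := hEinv' j Φ v hv
    have h2 : aeval y Φ v ∈ LinearMap.ker (y - 1) := by
      rw [LinearMap.mem_ker]
      have h3 : aeval y ((X - 1) * Φ) v = (y - 1) (aeval y Φ v) := by
        rw [map_mul, map_sub, aeval_X, map_one, Module.End.mul_apply]
      rw [← h3, mul_comm, hΦmul, map_sub, map_pow, aeval_X, map_one, hy, sub_self,
        LinearMap.zero_apply]
    have h4 : aeval y Φ v ∈ E j ⊓ LinearMap.ker (y - 1) := ⟨h1, h2⟩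
    rw [hEfix j] at h4
    exact (Submodule.mem_bot F).mp h4
  -- each `G j` divides `Φ`
  have hGdvd : ∀ j, G j ∣ Φ := by
    intro j
    rw [← modByMonic_eq_zero_iff_dvd (hGm j)]
    by_contra hne
    obtain ⟨v, hv, hv0⟩ := hvex j
    have hG1 : G j ≠ 1 := by
      intro h
      have := hGd' j
      rw [h, natDegree_one] at this
      omega
    have hlt : (Φ %ₘ G j).natDegree < Module.finrank F (E j) := by
      rw [hEdim j, ← hGd' j]
      exact natDegree_modByMonic_lt Φ (hGm j) hG1
    apply huniq4 j _ hne hlt v hv hv0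
    have h1 : Φ %ₘ G j = Φ - G j * (Φ /ₘ G j) := by
      rw [eq_sub_iff_add_eq]
      exact modByMonic_add_div Φ (G j)
    rw [h1, map_sub, LinearMap.sub_apply, hΦk j v hv, map_mul, Module.End.mul_apply,
      hGk j _ (hEinv' j _ v hv), sub_zero]
  -- each `G j` is irreducible
  have hGirr : ∀ j, Irreducible (G j) := by
    intro j
    rw [irreducible_iff]
    constructor
    · intro hu
      have := natDegree_eq_zero_of_isUnit hu
      rw [hGd' j] at this
      omega
    · intro p₁ p₂ hpp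
      by_contra hcon
      push Not at hcon
      obtain ⟨hu1, hu2⟩ := hcon
      have hG0 : G j ≠ 0 := (hGm j).ne_zero
      have hp10 : p₁ ≠ 0 := by
        intro h
        rw [h, zero_mul] at hpp
        exact hG0 hpp
      have hp20 : p₂ ≠ 0 := by
        intro h
        rw [h, mul_zero] at hpp
        exact hG0 hpp
      have hdeg : p₁.natDegree + p₂.natDegree = i := by
        rw [← natDegree_mul hp10 hp20, ← hpp, hGd' j]
      have hpos : ∀ P : F[X], P ≠ 0 → ¬ IsUnit P → 1 ≤ P.natDegree := by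
        intro P hP0 hPu
        by_contra hlt
        apply hPu
        have h0 : P.natDegree = 0 := by omega
        rw [eq_C_of_natDegree_eq_zero h0]
        apply isUnit_C.mpr
        apply IsUnit.mk0
        intro hc
        apply hP0
        rw [eq_C_of_natDegree_eq_zero h0, hc, map_zero]
      have h1 := hpos p₁ hp10 hu1
      have h2 := hpos p₂ hp20 hu2
      obtain ⟨v, hv, hv0⟩ := hvex j
      have hw0 : aeval y p₂ v ≠ 0 :=
        huniq4 j p₂ hp20 (by rw [hEdim j]; omega) v hv hv0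
      have hw : aeval y p₂ v ∈ E j := hEinv' j p₂ v hv
      apply huniq4 j p₁ hp10 (by rw [hEdim j]; omega) _ hw hw0
      rw [← Module.End.mul_apply, ← map_mul, ← hpp]
      exact hGk j v hv
  by_cases hinj : Function.Injective G
  · exfalso
    have hcop : Pairwise (Function.onFun IsCoprime G) := by
      intro j j' hjj'
      show IsCoprime (G j) (G j')
      rw [(hGirr j).coprime_iff_not_dvd]
      intro hdvd
      apply hjj'
      apply hinj
      exact (eq_of_monic_of_dvd_of_natDegree_le (hGm j) (hGm j') hdvd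
        (by rw [hGd' j, hGd' j'])).symm
    have hprod : (∏ j, G j) ∣ Φ := Fintype.prod_dvd_of_coprime hcop hGdvd
    have h1 := natDegree_le_of_dvd hprod hΦ0
    rw [natDegree_prod_of_monic _ _ (fun j _ => hGm j)] at h1
    simp only [hGd', Finset.sum_const, Finset.card_univ, Fintype.card_fin, smul_eq_mul] at h1
    omega
  · rw [Function.Injective] at hinj
    push Not at hinj
    obtain ⟨j, j', hGG, hjj'⟩ := hinj
    refine ⟨j, j', hjj', G j, hGm j, hGd' j, ?_⟩
    intro v hv
    obtain ⟨a, ha, c, hc, rfl⟩ := Submodule.mem_sup.mp hv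
    rw [map_add, hGk j a ha, zero_add, hGG, hGk j' c hc]

end CLASSES

end Cfsg.Agent.S5955P

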