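import Mathlib
import Cfsg.Prelude.Def_ClassicalGeometry
import Cfsg.Agent.Helper16.S5955Defs
import Cfsg.Agent.Helper26.S5955UNIQ
import Cfsg.Agent.Helper26.S5955IRRDIV
import Cfsg.Agent.Helper24.S5955CLASSESAux

set_option autoImplicit false
open scoped MatrixGroups

universe u

/-! S5955, piece CLASSES. -/

namespace Cfsg.Agent.S5955P

open Polynomial Cfsg.Agent.Helper2.SympInvol Cfsg.Agent.Helper2.SympUnits Cfsg.Agent.S5961P

/-- CLASSES: pigeonhole on the annihilators of irreducible blocks -/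
theorem exists_common_poly {F V : Type*} [Field F] [Fintype F] [AddCommGroup V] [Module F V]
    [FiniteDimensional F V] {p : ℕ} [Fact p.Prime] [CharP F p] (r : ℕ) [Fact r.Prime]
    (hrp : r ≠ p) (y : Module.End F V) (hy : y ^ r = 1) {b : ℕ} (E : Fin b → Submodule F V)
    (hEinv : ∀ j, (E j).map y ≤ E j)
    (hEdim : ∀ j, Module.finrank F (E j) = orderOf ((Fintype.card F : ℕ) : ZMod r))
    (hEfix : ∀ j, E j ⊓ LinearMap.ker (y - 1) = ⊥)
    (hb : r - 1 < b * orderOf ((Fintype.card F : ℕ) : ZMod r)) :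
    ∃ j j' : Fin b, j ≠ j' ∧ ∃ g : F[X], g.Monic ∧
      g.natDegree = orderOf ((Fintype.card F : ℕ) : ZMod r) ∧
      ∀ v ∈ E j ⊔ E j', aeval y g v = 0 := by
  have hr : r.Prime := Fact.out
  have hirr : ∀ j, ∀ U₁ : Submodule F V, U₁ ≤ E j → U₁.map y ≤ U₁ → U₁ = ⊥ ∨ U₁ = E j :=
    fun j => irr_of_finrank r hrp y hy (E j) (hEinv j) (hEfix j) (hEdim j)
  exact CLASSES.main r hr.pos y hy _ E hEinv hEdim hEfix
    (fun j => (monic_unique_of_irr y (E j) (hEinv j) (hirr j)).2.2.1)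
    (fun j => (monic_unique_of_irr y (E j) (hEinv j) (hirr j)).2.2.2) hb

end Cfsg.Agent.S5955P

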