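import Mathlib
import Cfsg.Prelude.Def_GeometricClasses
import Cfsg.Prelude.Def_ClassicalGeometry
import Cfsg.Agent.Helper29.S5977Defs
import Cfsg.Agent.Helper28.Spin6
import Cfsg.Agent.Helper28.OrthSum
import Cfsg.Agent.Helper7.OrthUni3
import Cfsg.Agent.Helper21.S5981TRANSPORT
import Cfsg.Agent.Helper2.QuadPlus

set_option autoImplicit false
open scoped MatrixGroups

/-! S5977 / S5978 piece ELTMINTOP: an isometry of order `r` with `ord_r(q) = 2j` on a
`2j`-dimensional quadratic space forces the minus type (non-square discriminant). -/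

namespace Cfsg.Agent.S5977P

open Polynomial
open Cfsg.Agent.Helper7.OrthUni (gram qf)
open Cfsg.Agent.Helper28.OrthSum (Qs)
open Cfsg.Agent.Helper28.Spin (QfPlus)

namespace ELTMINTOP

open Matrix

/-- the Gram matrix of the hyperbolic form -/
theorem gram_QfPlus {F : Type*} [Field F] (m : ℕ) :
    gram (QfPlus m F) = Matrix.fromBlocks 0 1 1 0 := by
  ext i k
  rw [Cfsg.Agent.Helper7.OrthUni.gram_apply, Cfsg.Agent.Helper28.Spin.polar_QfPlus,
    Cfsg.Agent.Helper28.QPlus.pB_apply]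
  rcases i with a | a <;> rcases k with b | b
  · simp
  · by_cases hab : a = b
    · subst hab; simp [Pi.single_apply]
    · simp [Pi.single_apply, hab, Ne.symm hab]
  · by_cases hab : a = b
    · subst hab; simp [Pi.single_apply]
    · simp [Pi.single_apply, hab, Ne.symm hab]
  · simp

theorem det_antidiag {F : Type*} [Field F] (m : ℕ) :
    (Matrix.fromBlocks (0 : Matrix (Fin m) (Fin m) F) (1 : Matrix (Fin m) (Fin m) F)
      (1 : Matrix (Fin m) (Fin m) F) (0 : Matrix (Fin m) (Fin m) F)).det = (-1) ^ m := by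
  have h1 : Matrix.fromBlocks (0 : Matrix (Fin m) (Fin m) F) (1 : Matrix (Fin m) (Fin m) F)
        (1 : Matrix (Fin m) (Fin m) F) (1 : Matrix (Fin m) (Fin m) F) =
      Matrix.fromBlocks (0 : Matrix (Fin m) (Fin m) F) (1 : Matrix (Fin m) (Fin m) F)
        (1 : Matrix (Fin m) (Fin m) F) (0 : Matrix (Fin m) (Fin m) F) *
        Matrix.fromBlocks (1 : Matrix (Fin m) (Fin m) F) (1 : Matrix (Fin m) (Fin m) F)
          (0 : Matrix (Fin m) (Fin m) F) (1 : Matrix (Fin m) (Fin m) F) := by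
    rw [Matrix.fromBlocks_multiply]
    simp
  have h2 : (Matrix.fromBlocks (1 : Matrix (Fin m) (Fin m) F) (1 : Matrix (Fin m) (Fin m) F)
      (0 : Matrix (Fin m) (Fin m) F) (1 : Matrix (Fin m) (Fin m) F)).det = 1 := by
    rw [Matrix.det_fromBlocks_zero₂₁]
    simp
  have h3 : (Matrix.fromBlocks (0 : Matrix (Fin m) (Fin m) F) (1 : Matrix (Fin m) (Fin m) F)
      (1 : Matrix (Fin m) (Fin m) F) (1 : Matrix (Fin m) (Fin m) F)).det = (-1) ^ m := by
    rw [Matrix.det_fromBlocks_one₂₂]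
    simp [Matrix.det_neg]
  rw [← h3, h1, Matrix.det_mul, h2, mul_one]

theorem zmod_two_cases : ∀ x : ZMod 2, x = 0 ∨ x = 1 := by decide

theorem det_gram_QfPlus {F : Type*} [Field F] (m : ℕ) :
    (gram (QfPlus m F)).det = (-1) ^ m := by
  rw [gram_QfPlus, det_antidiag]

end ELTMINTOP

open ELTMINTOP in
/-- ELTMINTOP -/
theorem not_isSquare_disc_of_elt {F : Type*} [Field F] [Fintype F] (h2 : (2 : F) ≠ 0)
    {κ : Type} [Fintype κ] [DecidableEq κ] (Q₁ : QuadraticForm F (κ → F))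
    (hQ₁ : (QuadraticMap.polarBilin Q₁).Nondegenerate) (j : ℕ) (hj : 1 ≤ j)
    (hκ : Fintype.card κ = 2 * j) {p : ℕ} [Fact p.Prime] [CharP F p]
    (r : ℕ) [Fact r.Prime] (hrp : r ≠ p)
    (hord : orderOf ((Fintype.card F : ℕ) : ZMod r) = 2 * j)
    (x₁ : GL κ F) (hx₁ : x₁ ∈ Cfsg.isometryGroup F ⇑Q₁) (hr : x₁ ^ r = 1) (hne : x₁ ≠ 1) :
    ¬ IsSquare ((-1 : F) ^ j * (gram Q₁).det) := by
  classical
  intro hsq
  have hrP : r.Prime := Fact.out
  obtain ⟨q, hq⟩ : ∃ q, Fintype.card F = q := ⟨_, rfl⟩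
  rw [hq] at hord
  have hq1 : 1 ≤ q := by rw [← hq]; exact Fintype.card_pos
  have hpow2j : ((q : ℕ) : ZMod r) ^ (2 * j) = 1 := by
    rw [← hord]
    exact pow_orderOf_eq_one _
  -- `r ∤ q`
  have hrq : ¬ r ∣ q := by
    intro h
    have h0 : ((q : ℕ) : ZMod r) = 0 := (ZMod.natCast_eq_zero_iff _ _).mpr h
    rw [h0, zero_pow (by omega)] at hpow2j
    exact zero_ne_one hpow2j
  -- `r ∣ q ^ k - 1` iff `2j ∣ k`
  have hkey : ∀ k : ℕ, r ∣ q ^ k - 1 → 2 * j ∣ k := by
    intro k hk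
    have h1 : ((q ^ k - 1 : ℕ) : ZMod r) = 0 := (ZMod.natCast_eq_zero_iff _ _).mpr hk
    have h3 : 1 ≤ q ^ k := Nat.one_le_pow _ _ hq1
    rw [Nat.cast_sub h3, Nat.cast_pow, Nat.cast_one, sub_eq_zero] at h1
    rw [← hord]
    exact orderOf_dvd_of_pow_eq_one h1
  -- the isometry with the hyperbolic form
  have hsq' : IsSquare ((gram Q₁).det * (gram (QfPlus j F)).det) := by
    rw [det_gram_QfPlus, mul_comm]
    exact hsq
  have hcard : Fintype.card κ = Fintype.card (Fin j ⊕ Fin j) := by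
    rw [hκ, Fintype.card_sum, Fintype.card_fin]
    ring
  obtain ⟨g, hg⟩ := Cfsg.Agent.Helper7.OrthUni.exists_isometry_of_disc h2 Q₁ (QfPlus j F) hQ₁
    (Cfsg.Agent.Helper28.Spin.QfPlus_nondeg j) hcard hsq'
  -- the orders of the isometry groups
  let e : κ ≃ Fin (2 * j) := (Fintype.equivFin κ).trans (finCongr hκ)
  let φ : (Fin (2 * j) → F) ≃ₗ[F] (κ → F) := LinearEquiv.funCongrLeft F F e
  have hc1 := (Cfsg.Agent.S5981P.card_eq_of_equiv (fun v => Q₁ (φ v)) (⇑Q₁) 1 one_ne_zero φ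
    (fun v => by rw [one_mul])).1
  have hc2 := (Cfsg.Agent.S5981P.card_eq_of_equiv (fun v => Q₁ (φ v)) (⇑(QfPlus j F)) 1 one_ne_zero
    (φ.trans g) (fun v => by rw [one_mul, LinearEquiv.trans_apply, hg])).1
  have hc3 : Nat.card (Cfsg.isometryGroup F ⇑Q₁) =
      2 * q ^ (j * (j - 1)) * (q ^ j - 1) *
        ∏ i ∈ Finset.range (j - 1), (q ^ (2 * (i + 1)) - 1) := by
    rw [hc1, ← hc2, Cfsg.Agent.Helper28.Spin.QfPlus_coe]
    exact Cfsg.Agent.Helper2.Quad.card_GO_plus hq j hj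
  -- `r` divides the order
  have hord_x : orderOf (⟨x₁, hx₁⟩ : Cfsg.isometryGroup F ⇑Q₁) = r := by
    apply orderOf_eq_prime
    · apply Subtype.ext
      simpa using hr
    · intro h
      apply hne
      have := congrArg Subtype.val h
      simpa using this
  have hdvd : r ∣ Nat.card (Cfsg.isometryGroup F ⇑Q₁) := by
    rw [← hord_x]
    exact orderOf_dvd_natCard _
  rw [hc3] at hdvd
  rcases (Nat.Prime.dvd_mul hrP).mp hdvd with h | h
  · rcases (Nat.Prime.dvd_mul hrP).mp h with h | h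
    · rcases (Nat.Prime.dvd_mul hrP).mp h with h | h
      · -- `r = 2`
        have hr2 : r = 2 := (Nat.prime_dvd_prime_iff_eq hrP Nat.prime_two).mp h
        subst hr2
        rcases zmod_two_cases ((q : ℕ) : ZMod 2) with h0 | h0
        · rw [h0, zero_pow (by omega)] at hpow2j
          exact zero_ne_one hpow2j
        · rw [h0, orderOf_one] at hord
          omega
      · exact hrq (hrP.dvd_of_dvd_pow h)
    · have := hkey j h
      have := Nat.le_of_dvd (by omega) this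
      omega
  · obtain ⟨i, hi, hdi⟩ := (Prime.dvd_finsetProd_iff hrP.prime _).mp h
    rw [Finset.mem_range] at hi
    have := hkey _ hdi
    have := Nat.le_of_dvd (by omega) this
    omega

end Cfsg.Agent.S5977P
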