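import Mathlib
import Cfsg.Prelude.Def_Classical
import Cfsg.Agent.Helper6.S3439.Defs

/-! S3439 piece CUBE (driver helper6): the cube map of `N7 K` and the exponent 9. -/

set_option autoImplicit false

namespace Cfsg.Agent.S3439P

open N7

variable {K : Type*} [Field K] [CharP K 3]

namespace CUBE

theorem three_eq_zero : (3 : K) = 0 := by
  have := CharP.cast_eq_zero K 3
  exact_mod_cast this

end CUBE

/-- CUBE (S-M) -/
theorem cube_eq (g : N7 K) :
    g ^ 3 = ⟨0, 0, 0, 0, 0, 0, fr K 3 g.a * g.a * fr K 1 g.b - fr K 1 g.a * g.a * fr K 3 g.b⟩ := by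
  have h3 : (3 : K) = 0 := CUBE.three_eq_zero
  rw [pow_succ, pow_succ, pow_one]
  ext
  · simp only [mul_a]
    linear_combination g.a * h3
  · simp only [mul_b]
    linear_combination g.b * h3
  · simp only [mul_a, mul_p1, map_add]
    linear_combination (g.p1 + fr K 3 g.a * g.a) * h3
  · simp only [mul_a, mul_p2, map_add]
    linear_combination (g.p2 + fr K 1 g.a * g.a) * h3
  · simp only [mul_a, mul_b, mul_c1, map_add]
    linear_combination (g.c1 + g.a * fr K 1 g.b) * h3
  · simp only [mul_a, mul_b, mul_c2, map_add]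
    linear_combination (g.c2 - g.a * fr K 3 g.b) * h3
  · simp only [mul_a, mul_b, mul_p1, mul_p2, mul_c1, mul_c2, mul_z, map_add]
    linear_combination (g.z + fr K 3 g.a * g.c1 + fr K 1 g.a * g.c2 + g.p1 * fr K 1 g.b -
      g.p2 * fr K 3 g.b) * h3

/-- CUBE, second statement -/
theorem pow_nine (g : N7 K) : g ^ 9 = 1 := by
  rw [show 9 = 3 * 3 by norm_num, pow_mul, cube_eq (g ^ 3), cube_eq g]
  ext <;> simp

end Cfsg.Agent.S3439P
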