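import Mathlib
import Cfsg.Prelude.Def_Classical
import Cfsg.Agent.Helper26.S5320.Defs

/-! S5320 piece INVOL (driver helper26): the only involution of `SL₂(F)`, `2 ≠ 0`. -/

set_option autoImplicit false

namespace Cfsg.Agent.S5320P

open Matrix

variable {F : Type*} [Field F]

/-- INVOL (S-M): the only involution of `SL₂(F)` (`2 ≠ 0`). -/
theorem INVOL.eq (h2 : (2 : F) ≠ 0) (y : L F) (h : y * y = 1) : y = 1 ∨ y = -1 := by
  have hdet := y.2
  rw [Matrix.det_fin_two] at hdet
  have hm : (y : M2 F) * (y : M2 F) = 1 := by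
    have := congrArg Subtype.val h
    simpa using this
  have h00 := congrFun (congrFun hm 0) 0
  have h01 := congrFun (congrFun hm 0) 1
  have h10 := congrFun (congrFun hm 1) 0
  have h11 := congrFun (congrFun hm 1) 1
  simp only [Matrix.mul_apply, Fin.sum_univ_two, Matrix.one_apply_eq, ne_eq, zero_ne_one,
    not_false_eq_true, Matrix.one_apply_ne, one_ne_zero] at h00 h01 h10 h11
  obtain ⟨a, ha⟩ : ∃ a : F, a = (y : M2 F) 0 0 := ⟨_, rfl⟩
  obtain ⟨b, hb⟩ : ∃ b : F, b = (y : M2 F) 0 1 := ⟨_, rfl⟩
  obtain ⟨c, hc⟩ : ∃ c : F, c = (y : M2 F) 1 0 := ⟨_, rfl⟩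
  obtain ⟨d, hd⟩ : ∃ d : F, d = (y : M2 F) 1 1 := ⟨_, rfl⟩
  replace hdet : a * d - b * c = 1 := by rw [ha, hb, hc, hd]; exact hdet
  replace h00 : a * a + b * c = 1 := by rw [ha, hb, hc]; exact h00
  replace h01 : a * b + b * d = 0 := by rw [ha, hb, hd]; exact h01
  replace h10 : c * a + d * c = 0 := by rw [ha, hc, hd]; exact h10
  replace h11 : c * b + d * d = 1 := by rw [hb, hc, hd]; exact h11
  have hs : a + d ≠ 0 := by
    intro hs
    apply h2
    linear_combination -h00 - hdet + a * hs
  have hb0 : b = 0 := by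
    have : b * (a + d) = 0 := by linear_combination h01
    rcases mul_eq_zero.mp this with h | h
    · exact h
    · exact absurd h hs
  have hc0 : c = 0 := by
    have : c * (a + d) = 0 := by linear_combination h10
    rcases mul_eq_zero.mp this with h | h
    · exact h
    · exact absurd h hs
  rw [hb0, hc0] at hdet h00
  have ha0 : a ≠ 0 := by
    rintro rfl
    simp at h00
  have had : a = d := by
    have : a * (a - d) = 0 := by linear_combination h00 - hdet
    rcases mul_eq_zero.mp this with h | h
    · exact absurd h ha0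
    · exact sub_eq_zero.mp h
  have ha1 : a = 1 ∨ a = -1 := by
    have : (a - 1) * (a + 1) = 0 := by linear_combination h00
    rcases mul_eq_zero.mp this with h | h
    · exact Or.inl (sub_eq_zero.mp h)
    · exact Or.inr (eq_neg_of_add_eq_zero_left h)
  rcases ha1 with h1 | h1
  · left
    apply Subtype.ext
    ext i j
    fin_cases i <;> fin_cases j
    · show (y : M2 F) 0 0 = _
      rw [← ha, h1]; simp
    · show (y : M2 F) 0 1 = _
      rw [← hb, hb0]; simp
    · show (y : M2 F) 1 0 = _
      rw [← hc, hc0]; simp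
    · show (y : M2 F) 1 1 = _
      rw [← hd, ← had, h1]; simp
  · right
    apply Subtype.ext
    ext i j
    fin_cases i <;> fin_cases j
    · show (y : M2 F) 0 0 = _
      rw [← ha, h1]; simp
    · show (y : M2 F) 0 1 = _
      rw [← hb, hb0]; simp
    · show (y : M2 F) 1 0 = _
      rw [← hc, hc0]; simp
    · show (y : M2 F) 1 1 = _
      rw [← hd, ← had, h1]; simp

end Cfsg.Agent.S5320P
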