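import Mathlib
import Cfsg.Prelude.Def_GeometricClasses
import Cfsg.Prelude.Def_Classical
import Cfsg.Agent.Helper6.S5992Defs
import Cfsg.Agent.Helper27.Inv2Defs

/-! Inv2 piece PAIRBLOCK: the invariant hyperbolic 4-space `⟨u, v, N u, N v⟩` of a pair `u, v`
with `Q (N u) = Q (N v) = 0`, `B u (N v) ≠ 0`. -/

set_option autoImplicit false

namespace Cfsg.Agent.Inv2P

open Cfsg.Agent.Helper2.SympInvol Cfsg.Agent.Helper2.SympUnits Cfsg.Agent.S5961P Cfsg.Agent.S5992P

namespace PAIRBLOCK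

variable {F V : Type*} [Field F] [AddCommGroup V] [Module F V]

theorem mem_span4 {x a b c d : V} :
    x ∈ Submodule.span F {a, b, c, d} ↔
      ∃ c₁ c₂ c₃ c₄ : F, x = c₁ • a + c₂ • b + c₃ • c + c₄ • d := by
  constructor
  · intro hx
    obtain ⟨c₁, y, hy, rfl⟩ := Submodule.mem_span_insert.1 hx
    obtain ⟨c₂, z, hz, rfl⟩ := Submodule.mem_span_insert.1 hy
    obtain ⟨c₃, w, hw, rfl⟩ := Submodule.mem_span_insert.1 hz
    obtain ⟨c₄, rfl⟩ := Submodule.mem_span_singleton.1 hw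
    exact ⟨c₁, c₂, c₃, c₄, by abel⟩
  · rintro ⟨c₁, c₂, c₃, c₄, rfl⟩
    refine Submodule.add_mem _ (Submodule.add_mem _ (Submodule.add_mem _ ?_ ?_) ?_) ?_
    · exact Submodule.smul_mem _ _ (Submodule.subset_span (by simp))
    · exact Submodule.smul_mem _ _ (Submodule.subset_span (by simp))
    · exact Submodule.smul_mem _ _ (Submodule.subset_span (by simp))
    · exact Submodule.smul_mem _ _ (Submodule.subset_span (by simp))

section main

variable (h2 : (2 : F) = 0) (Q : QuadraticForm F V) (t : Module.End F V)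
  (ht : IsInv2 Q t) (u v : V) (hu : Q ((t - 1) u) = 0) (hv : Q ((t - 1) v) = 0)
  (huv : PB Q u ((t - 1) v) ≠ 0)

include h2 ht hu in
theorem B_u_Nu : PB Q u ((t - 1) u) = 0 := by rw [← Q_N h2 ht]; exact hu

include ht in
theorem B_v_Nu : PB Q v ((t - 1) u) = PB Q u ((t - 1) v) := by
  rw [← PB_N_left ht, PB_comm]

include h2 ht hu hv in
/-- the pairings of a general element with the four generators -/
theorem pairings (c₁ c₂ c₃ c₄ : F) :
    PB Q (c₁ • u + c₂ • v + c₃ • (t - 1) u + c₄ • (t - 1) v) ((t - 1) u) =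
        c₂ * PB Q u ((t - 1) v) ∧
    PB Q (c₁ • u + c₂ • v + c₃ • (t - 1) u + c₄ • (t - 1) v) ((t - 1) v) =
        c₁ * PB Q u ((t - 1) v) ∧
    PB Q (c₁ • u + c₂ • v + c₃ • (t - 1) u + c₄ • (t - 1) v) u =
        c₂ * PB Q u v + c₄ * PB Q u ((t - 1) v) ∧
    PB Q (c₁ • u + c₂ • v + c₃ • (t - 1) u + c₄ • (t - 1) v) v =
        c₁ * PB Q u v + c₃ * PB Q u ((t - 1) v) := by
  have e1 : PB Q u ((t - 1) u) = 0 := B_u_Nu h2 Q t ht u hu
  have e2 : PB Q v ((t - 1) v) = 0 := B_u_Nu h2 Q t ht v hv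
  have e3 : PB Q v ((t - 1) u) = PB Q u ((t - 1) v) := B_v_Nu Q t ht u v
  have e4 : ∀ x y, PB Q ((t - 1) x) ((t - 1) y) = 0 := PB_N_N h2 ht
  have e5 : ∀ x y, PB Q ((t - 1) x) y = PB Q x ((t - 1) y) := PB_N_left ht
  have e6 : ∀ x, PB Q x x = 0 := PB_self_zero h2 Q
  have e7 : PB Q v u = PB Q u v := PB_comm Q v u
  refine ⟨?_, ?_, ?_, ?_⟩
  · simp only [map_add, map_smul, LinearMap.add_apply, LinearMap.smul_apply, smul_eq_mul, e1, e3,
      e4]
    ring
  · simp only [map_add, map_smul, LinearMap.add_apply, LinearMap.smul_apply, smul_eq_mul, e2,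
      e4]
    ring
  · simp only [map_add, map_smul, LinearMap.add_apply, LinearMap.smul_apply, smul_eq_mul, e5, e1,
      e6, e7, e3]
    ring
  · simp only [map_add, map_smul, LinearMap.add_apply, LinearMap.smul_apply, smul_eq_mul, e5, e2,
      e6]
    ring

include h2 ht hu hv huv in
/-- an element pairing trivially with the four generators has zero coefficients -/
theorem coeff_zero (c₁ c₂ c₃ c₄ : F)
    (h1 : PB Q (c₁ • u + c₂ • v + c₃ • (t - 1) u + c₄ • (t - 1) v) ((t - 1) u) = 0)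
    (h2' : PB Q (c₁ • u + c₂ • v + c₃ • (t - 1) u + c₄ • (t - 1) v) ((t - 1) v) = 0)
    (h3 : PB Q (c₁ • u + c₂ • v + c₃ • (t - 1) u + c₄ • (t - 1) v) u = 0)
    (h4 : PB Q (c₁ • u + c₂ • v + c₃ • (t - 1) u + c₄ • (t - 1) v) v = 0) :
    c₁ = 0 ∧ c₂ = 0 ∧ c₃ = 0 ∧ c₄ = 0 := by
  obtain ⟨p1, p2, p3, p4⟩ := pairings h2 Q t ht u v hu hv c₁ c₂ c₃ c₄
  rw [p1] at h1
  rw [p2] at h2'
  rw [p3] at h3
  rw [p4] at h4
  have hc2 : c₂ = 0 := (mul_eq_zero.1 h1).resolve_right huv
  have hc1 : c₁ = 0 := (mul_eq_zero.1 h2').resolve_right huv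
  rw [hc2, zero_mul, zero_add] at h3
  rw [hc1, zero_mul, zero_add] at h4
  exact ⟨hc1, hc2, (mul_eq_zero.1 h4).resolve_right huv, (mul_eq_zero.1 h3).resolve_right huv⟩

include h2 ht hu hv huv in
theorem linInd4 : LinearIndependent F ![u, v, (t - 1) u, (t - 1) v] := by
  rw [Fintype.linearIndependent_iff]
  intro g hg
  rw [Fin.sum_univ_four] at hg
  simp only [Matrix.cons_val_zero, Matrix.cons_val_one, Matrix.cons_val_two,
    Matrix.cons_val_three, Matrix.head_cons, Matrix.tail_cons] at hg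
  have hz : ∀ w, PB Q (g 0 • u + g 1 • v + g 2 • (t - 1) u + g 3 • (t - 1) v) w = 0 := by
    intro w
    rw [hg, map_zero, LinearMap.zero_apply]
  obtain ⟨h0, h1, h2'', h3⟩ := coeff_zero h2 Q t ht u v hu hv huv (g 0) (g 1) (g 2) (g 3)
    (hz _) (hz _) (hz _) (hz _)
  intro i
  fin_cases i
  · exact h0
  · exact h1
  · exact h2''
  · exact h3

include h2 ht hu hv huv in
theorem linInd2 : LinearIndependent F ![(t - 1) u, (t - 1) v] := by
  rw [Fintype.linearIndependent_iff]
  intro g hg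
  rw [Fin.sum_univ_two] at hg
  simp only [Matrix.cons_val_zero, Matrix.cons_val_one] at hg
  have hz : ∀ w, PB Q ((0 : F) • u + (0 : F) • v + g 0 • (t - 1) u + g 1 • (t - 1) v) w = 0 := by
    intro w
    rw [zero_smul, zero_smul, zero_add, zero_add, hg, map_zero, LinearMap.zero_apply]
  obtain ⟨-, -, h2'', h3⟩ := coeff_zero h2 Q t ht u v hu hv huv 0 0 (g 0) (g 1)
    (hz _) (hz _) (hz _) (hz _)
  intro i
  fin_cases i
  · exact h2''
  · exact h3

include h2 ht in
theorem map_N_span :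
    (Submodule.span F {u, v, (t - 1) u, (t - 1) v}).map (t - 1) =
      Submodule.span F {(t - 1) u, (t - 1) v} := by
  apply le_antisymm
  · rw [Submodule.map_span_le]
    intro x hx
    rcases hx with rfl | rfl | rfl | rfl
    · exact Submodule.subset_span (by simp)
    · exact Submodule.subset_span (by simp)
    · rw [N_N_apply h2 ht]; exact Submodule.zero_mem _
    · rw [N_N_apply h2 ht]; exact Submodule.zero_mem _
  · rw [Submodule.span_le]
    intro x hx
    rcases hx with rfl | rfl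
    · exact ⟨u, Submodule.subset_span (by simp), rfl⟩
    · exact ⟨v, Submodule.subset_span (by simp), rfl⟩

theorem span2_le_span4 :
    Submodule.span F {(t - 1) u, (t - 1) v} ≤ Submodule.span F {u, v, (t - 1) u, (t - 1) v} := by
  apply Submodule.span_mono
  intro x hx
  rcases hx with rfl | rfl
  · simp
  · simp

include h2 ht hu hv in
theorem ts_span2 : TS Q (Submodule.span F {(t - 1) u, (t - 1) v}) := by
  intro x hx
  obtain ⟨c, e, rfl⟩ := Submodule.mem_span_pair.1 hx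
  have : c • (t - 1) u + e • (t - 1) v = (t - 1) (c • u + e • v) := by
    rw [map_add, map_smul, map_smul]
  rw [this, Q_N_add h2 ht, Q_N_smul, Q_N_smul, hu, hv, mul_zero, mul_zero, add_zero]

include h2 ht hu hv huv in
theorem finrank_span4 :
    Module.finrank F ↥(Submodule.span F {u, v, (t - 1) u, (t - 1) v}) = 4 := by
  have h := finrank_span_eq_card (linInd4 h2 Q t ht u v hu hv huv)
  have hr : Set.range ![u, v, (t - 1) u, (t - 1) v] = {u, v, (t - 1) u, (t - 1) v} := by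
    rw [Matrix.range_cons, Matrix.range_cons, Matrix.range_cons, Matrix.range_cons,
      Matrix.range_empty, Set.union_empty]
    simp only [Set.singleton_union]
  rw [hr] at h
  rw [h]
  rfl

include h2 ht hu hv huv in
theorem finrank_span2 :
    Module.finrank F ↥(Submodule.span F {(t - 1) u, (t - 1) v}) = 2 := by
  have h := finrank_span_eq_card (linInd2 h2 Q t ht u v hu hv huv)
  have hr : Set.range ![(t - 1) u, (t - 1) v] = {(t - 1) u, (t - 1) v} := by
    rw [Matrix.range_cons, Matrix.range_cons, Matrix.range_empty, Set.union_empty]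
    simp only [Set.singleton_union]
  rw [hr] at h
  rw [h]
  rfl

include h2 ht hu hv huv in
theorem nondeg_span4 : Nondeg (PB Q) (Submodule.span F {u, v, (t - 1) u, (t - 1) v}) := by
  intro m hm hm0
  obtain ⟨c₁, c₂, c₃, c₄, rfl⟩ := mem_span4.1 hm
  by_contra hcon
  push Not at hcon
  have hmem : ∀ w ∈ ({u, v, (t - 1) u, (t - 1) v} : Set V),
      PB Q (c₁ • u + c₂ • v + c₃ • (t - 1) u + c₄ • (t - 1) v) w = 0 :=
    fun w hw => hcon w (Submodule.subset_span hw)
  obtain ⟨h0, h1, h2'', h3⟩ := coeff_zero h2 Q t ht u v hu hv huv c₁ c₂ c₃ c₄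
    (hmem _ (by simp)) (hmem _ (by simp)) (hmem _ (by simp)) (hmem _ (by simp))
  apply hm0
  rw [h0, h1, h2'', h3]
  simp

end main

end PAIRBLOCK

open PAIRBLOCK in
/-- PAIRBLOCK: the 4-dimensional block of a pair `u, v` with `Q (N u) = Q (N v) = 0`,
`B u (N v) ≠ 0` -/
theorem pair_block {F V : Type*} [Field F] [AddCommGroup V] [Module F V]
    [FiniteDimensional F V] (h2 : (2 : F) = 0) (Q : QuadraticForm F V) (t : Module.End F V)
    (ht : IsInv2 Q t) (u v : V) (hu : Q ((t - 1) u) = 0) (hv : Q ((t - 1) v) = 0)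
    (huv : PB Q u ((t - 1) v) ≠ 0) :
    IsTy Q true 4 (Submodule.span F {u, v, (t - 1) u, (t - 1) v}) ∧
    InvOn t (Submodule.span F {u, v, (t - 1) u, (t - 1) v}) ∧
    rk t (Submodule.span F {u, v, (t - 1) u, (t - 1) v}) = 2 := by
  have hf4 := finrank_span4 h2 Q t ht u v hu hv huv
  have hf2 := finrank_span2 h2 Q t ht u v hu hv huv
  refine ⟨⟨hf4, nondeg_span4 h2 Q t ht u v hu hv huv, ?_⟩, ?_, ?_⟩
  · refine ⟨fun _ => rfl, fun _ => ?_⟩
    exact ⟨Submodule.span F {(t - 1) u, (t - 1) v}, span2_le_span4 t u v,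
      ts_span2 h2 Q t ht u v hu hv, by rw [hf2, hf4]⟩
  · rw [invOn_iff_N]
    intro x hx
    apply span2_le_span4 t u v
    rw [← map_N_span h2 Q t ht u v]
    exact Submodule.mem_map_of_mem hx
  · unfold rk
    rw [map_N_span h2 Q t ht u v, hf2]

end Cfsg.Agent.Inv2P
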