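import Mathlib
import Cfsg.Prelude.Def_ClassicalGeometry
import Cfsg.Agent.Helper7.S2676Defs

/-! S2676 piece CAYUNIQ: the Cayley transform is unique and compatible with isomorphisms. -/

set_option autoImplicit false
universe u

namespace Cfsg.Agent.S2676P

open Cfsg.Agent.Helper2.SympInvol Cfsg.Agent.Helper2.SympUnits Cfsg.Agent.S5961P Cfsg.Agent.S5956P

namespace CAYUNIQ

variable {F V : Type*} [Field F] [AddCommGroup V] [Module F V]

/-- `(y + 1)(1 - X) = 2` -/
theorem key (y X : Module.End F V) (h : y * (1 - X) = 1 + X) :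
    (y + 1) * (1 - X) = 1 + 1 := by
  rw [add_mul, h, one_mul]
  abel

/-- `1 - X` is injective -/
theorem injective_one_sub (h2 : (2 : F) ≠ 0) (y X : Module.End F V)
    (h : y * (1 - X) = 1 + X) : Function.Injective (1 - X : Module.End F V) := by
  rw [← LinearMap.ker_eq_bot, LinearMap.ker_eq_bot']
  intro a ha
  have hk := LinearMap.congr_fun (key y X h) a
  rw [Module.End.mul_apply, ha, map_zero] at hk
  have : (2 : F) • a = 0 := by
    rw [two_smul]
    simpa using hk.symm
  rcases smul_eq_zero.1 this with h' | h'
  · exact absurd h' h2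
  · exact h'

theorem surjective_one_sub [FiniteDimensional F V] (h2 : (2 : F) ≠ 0) (y X : Module.End F V)
    (h : y * (1 - X) = 1 + X) : Function.Surjective (1 - X : Module.End F V) :=
  LinearMap.injective_iff_surjective.1 (injective_one_sub h2 y X h)

end CAYUNIQ

open CAYUNIQ in
theorem cayley_conj {F V V' : Type*} [Field F] [AddCommGroup V] [Module F V]
    [FiniteDimensional F V] [AddCommGroup V'] [Module F V'] (h2 : (2 : F) ≠ 0)
    (φ : V ≃ₗ[F] V') (y X : Module.End F V) (y' X' : Module.End F V')
    (h : y * (1 - X) = 1 + X) (h' : y' * (1 - X') = 1 + X')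
    (hφ : ∀ v, φ (X v) = X' (φ v)) : ∀ v, φ (y v) = y' (φ v) := by
  intro v
  obtain ⟨a, rfl⟩ := surjective_one_sub h2 y X h v
  have e1 : y ((1 - X : Module.End F V) a) = a + X a := by
    have := LinearMap.congr_fun h a
    simpa using this
  have e2 : y' ((1 - X' : Module.End F V') (φ a)) = φ a + X' (φ a) := by
    have := LinearMap.congr_fun h' (φ a)
    simpa using this
  have e3 : φ ((1 - X : Module.End F V) a) = (1 - X' : Module.End F V') (φ a) := by
    simp only [LinearMap.sub_apply, Module.End.one_apply, map_sub, hφ]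
  rw [e1, e3, e2, map_add, hφ]

open CAYUNIQ in
theorem cayley_unique {F V : Type*} [Field F] [AddCommGroup V] [Module F V]
    [FiniteDimensional F V] (h2 : (2 : F) ≠ 0) (y X X' : Module.End F V)
    (h : y * (1 - X) = 1 + X) (h' : y * (1 - X') = 1 + X') : X = X' := by
  -- direct argument: `(y + 1) X = y - 1 = (y + 1) X'`, and `y + 1` is injective
  have k1 := key y X h
  have k2 := key y X' h'
  have e1 : (y + 1) * X = y - 1 := by
    have : (y + 1) * X = (y + 1) - (y + 1) * (1 - X) := by noncomm_ring
    rw [this, k1]; abel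
  have e2 : (y + 1) * X' = y - 1 := by
    have : (y + 1) * X' = (y + 1) - (y + 1) * (1 - X') := by noncomm_ring
    rw [this, k2]; abel
  -- `(1 - X) * (y + 1) = 2` as well, since `1 - X` is bijective
  have hsurj := surjective_one_sub h2 y X h
  have k3 : (1 - X) * (y + 1) = 1 + 1 := by
    apply LinearMap.ext
    intro v
    obtain ⟨a, rfl⟩ := hsurj v
    have := LinearMap.congr_fun k1 a
    rw [Module.End.mul_apply] at this
    rw [Module.End.mul_apply, this]
    simp only [LinearMap.add_apply, Module.End.one_apply, map_add]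
  have e3 : (1 + 1 : Module.End F V) * X = (1 + 1) * X' := by
    rw [← k3, mul_assoc, mul_assoc, e1, e2]
  apply LinearMap.ext
  intro v
  have := LinearMap.congr_fun e3 v
  simp only [Module.End.mul_apply, LinearMap.add_apply, Module.End.one_apply] at this
  have h4 : (2 : F) • X v = (2 : F) • X' v := by
    rw [two_smul, two_smul]; exact this
  exact smul_right_injective V h2 h4

end Cfsg.Agent.S2676P
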