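import Mathlib
import Cfsg.Prelude.Def_ClassicalGeometry
import Cfsg.Agent.Helper7.S2676Defs
import Cfsg.Agent.Helper18.S5961ISOM

/-! S2676 piece ALTCONG: two invertible alternating matrices of the same size are congruent. -/

set_option autoImplicit false
universe u

namespace Cfsg.Agent.S2676P

open Cfsg.Agent.Helper2.SympInvol Cfsg.Agent.Helper2.SympUnits Cfsg.Agent.S5961P Cfsg.Agent.S5956P

namespace ALTCONG

variable {F : Type*} [Field F] {I : Type} [Fintype I] [DecidableEq I]

/-- the bilinear form of an alternating matrix is alternating -/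
theorem toBilin'_alt (K : Matrix I I F) (hK : K.transpose = -K) (hd : ∀ i, K i i = 0)
    (v : I → F) : Matrix.toBilin' K v v = 0 := by
  rw [Matrix.toBilin'_apply, ← Finset.sum_product']
  have hK' : ∀ i j, K j i = -K i j := by
    intro i j
    have := congrFun (congrFun hK i) j
    simpa using this
  refine Finset.sum_involution (fun p _ => (p.2, p.1)) ?_ ?_ ?_ ?_
  · intro p _
    simp only
    rw [hK' p.1 p.2]
    ring
  · intro p _ hne hp
    apply hne
    have h1 : p.2 = p.1 := congrArg Prod.fst hp
    rw [h1, hd, mul_zero, zero_mul]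
  · intro p _
    exact Finset.mem_univ _
  · intro p _
    rfl

/-- the bilinear form of an invertible matrix is nondegenerate -/
theorem toBilin'_nondeg (K : Matrix I I F) (hu : IsUnit K.det) :
    Nondeg (Matrix.toBilin' K) ⊤ := by
  intro m _ hm0
  by_contra hcon
  push Not at hcon
  apply hm0
  have h1 : Matrix.vecMul m K = 0 := by
    funext j
    have := hcon (Pi.single j 1) trivial
    rw [Matrix.toBilin'_apply'] at this
    rw [Matrix.mulVec_single_one] at this
    simpa [Matrix.vecMul, dotProduct] using this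
  have hK : IsUnit K := (Matrix.isUnit_iff_isUnit_det K).2 hu
  have h2 : Matrix.vecMul (Matrix.vecMul m K) K⁻¹ = m := by
    rw [Matrix.vecMul_vecMul, Matrix.mul_nonsing_inv K hu, Matrix.vecMul_one]
  rw [← h2, h1, Matrix.zero_vecMul]

end ALTCONG

open ALTCONG in
theorem alt_cong {F : Type*} [Field F] {I : Type} [Fintype I] [DecidableEq I]
    (K K' : Matrix I I F) (hK : K.transpose = -K) (hK' : K'.transpose = -K')
    (hd : ∀ i, K i i = 0) (hd' : ∀ i, K' i i = 0) (hu : IsUnit K.det) (hu' : IsUnit K'.det) :
    ∃ Q Q' : Matrix I I F, Q' * Q = 1 ∧ K = Q * K' * Q.transpose := by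
  obtain ⟨e, he⟩ := exists_isometry (Matrix.toBilin' K) (Matrix.toBilin' K')
    (toBilin'_alt K hK hd) (toBilin'_alt K' hK' hd') (toBilin'_nondeg K hu)
    (toBilin'_nondeg K' hu') rfl
  set M : Matrix I I F := LinearMap.toMatrix' (e : (I → F) →ₗ[F] (I → F)) with hM
  set N : Matrix I I F := LinearMap.toMatrix' (e.symm : (I → F) →ₗ[F] (I → F)) with hN
  have hMN : M * N = 1 := by
    rw [hM, hN, ← LinearMap.toMatrix'_comp]
    have : (e : (I → F) →ₗ[F] (I → F)).comp (e.symm : (I → F) →ₗ[F] (I → F)) = LinearMap.id := by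
      ext v
      simp
    rw [this, LinearMap.toMatrix'_id]
  have hlin : Matrix.toLin' M = (e : (I → F) →ₗ[F] (I → F)) := by
    rw [hM, Matrix.toLin'_toMatrix']
  have hcomp : (Matrix.toBilin' K').comp (Matrix.toLin' M) (Matrix.toLin' M) =
      Matrix.toBilin' K := by
    rw [hlin]
    apply LinearMap.ext
    intro u
    apply LinearMap.ext
    intro v
    exact he u v
  rw [Matrix.toBilin'_comp] at hcomp
  have hKeq : M.transpose * K' * M = K := Matrix.toBilin'.injective hcomp
  refine ⟨M.transpose, N.transpose, ?_, ?_⟩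
  · rw [← Matrix.transpose_mul, hMN, Matrix.transpose_one]
  · rw [Matrix.transpose_transpose, hKeq]

end Cfsg.Agent.S2676P
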