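import Mathlib
import Cfsg.Prelude.Def_ClassicalGeometry
import Cfsg.Agent.Helper7.S2676Defs

/-! S2676 piece BLOCKASM: assembling blockwise congruences into a congruence of block-diagonal
matrices. -/

set_option autoImplicit false
universe u

namespace Cfsg.Agent.S2676P

open Cfsg.Agent.Helper2.SympInvol Cfsg.Agent.Helper2.SympUnits Cfsg.Agent.S5961P Cfsg.Agent.S5956P

namespace BLOCKASM

variable {F : Type*} [Field F] {ι : Type} [Fintype ι] [DecidableEq ι]

/-- the index type of the non-empty blocks -/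
abbrev Idx (a : ι → ℕ) : Type := {s : ℕ // s ∈ Finset.univ.image a}

/-- the blocks as a sigma type -/
abbrev Sig (a : ι → ℕ) : Type := Σ s : Idx a, {j : ι // a j = s.1}

/-- `ι` is the disjoint union of the blocks -/
def sigEquiv (a : ι → ℕ) : Sig a ≃ ι where
  toFun x := x.2.1
  invFun j := ⟨⟨a j, Finset.mem_image_of_mem a (Finset.mem_univ j)⟩, ⟨j, rfl⟩⟩
  left_inv := by
    rintro ⟨⟨s, hs⟩, ⟨j, hj⟩⟩
    simp only at hj
    subst hj
    rfl
  right_inv := fun j => rfl

theorem sigEquiv_apply (a : ι → ℕ) (x : Sig a) : sigEquiv a x = x.2.1 := rfl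

/-- a matrix with vanishing off-diagonal blocks is block diagonal -/
theorem submatrix_eq_blockDiagonal' (a : ι → ℕ) (K : Matrix ι ι F)
    (hK : ∀ j j', a j ≠ a j' → K j j' = 0) :
    K.submatrix (sigEquiv a) (sigEquiv a) =
      Matrix.blockDiagonal' (fun s : Idx a => K.toSquareBlock a s.1) := by
  ext ⟨s, j⟩ ⟨s', j'⟩
  rw [Matrix.submatrix_apply, sigEquiv_apply, sigEquiv_apply]
  by_cases h : s = s'
  · subst h
    rw [Matrix.blockDiagonal'_apply_eq, Matrix.toSquareBlock_def]
    rfl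
  · rw [Matrix.blockDiagonal'_apply_ne _ _ _ h]
    apply hK
    rw [j.2, j'.2]
    exact fun h' => h (Subtype.ext h')

end BLOCKASM

open BLOCKASM in
theorem block_assemble {F : Type*} [Field F] {ι : Type} [Fintype ι] [DecidableEq ι]
    (a : ι → ℕ) (K K' : Matrix ι ι F) (hK : ∀ j j', a j ≠ a j' → K j j' = 0)
    (hK' : ∀ j j', a j ≠ a j' → K' j j' = 0)
    (h : ∀ s : ℕ, ∃ Q Q' : Matrix {j // a j = s} {j // a j = s} F, Q' * Q = 1 ∧
      K.toSquareBlock a s = Q * K'.toSquareBlock a s * Q.transpose) :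
    ∃ Q Q' : Matrix ι ι F, (∀ j j', a j ≠ a j' → Q j j' = 0) ∧ Q' * Q = 1 ∧
      K = Q * K' * Q.transpose := by
  classical
  choose Qs Qs' hQ1 hQ2 using h
  set e := sigEquiv a with he
  set Qσ : Matrix (Sig a) (Sig a) F := Matrix.blockDiagonal' (fun s : Idx a => Qs s.1) with hQσ
  set Qσ' : Matrix (Sig a) (Sig a) F := Matrix.blockDiagonal' (fun s : Idx a => Qs' s.1)
    with hQσ'
  have hKσ := submatrix_eq_blockDiagonal' a K hK
  have hKσ' := submatrix_eq_blockDiagonal' a K' hK'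
  have h1 : Qσ' * Qσ = 1 := by
    rw [hQσ, hQσ', ← Matrix.blockDiagonal'_mul]
    have : (fun s : Idx a => Qs' s.1 * Qs s.1) = 1 := by
      funext s
      exact hQ1 s.1
    rw [this, Matrix.blockDiagonal'_one]
  have h2 : K.submatrix e e = Qσ * K'.submatrix e e * Qσ.transpose := by
    rw [hKσ, hKσ', hQσ, Matrix.blockDiagonal'_transpose, ← Matrix.blockDiagonal'_mul,
      ← Matrix.blockDiagonal'_mul]
    congr 1
    funext s
    exact hQ2 s.1
  refine ⟨Qσ.submatrix e.symm e.symm, Qσ'.submatrix e.symm e.symm, ?_, ?_, ?_⟩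
  · intro j j' hne
    rw [Matrix.submatrix_apply]
    change Matrix.blockDiagonal' (fun s : Idx a => Qs s.1)
      ⟨⟨a j, _⟩, ⟨j, rfl⟩⟩ ⟨⟨a j', _⟩, ⟨j', rfl⟩⟩ = 0
    apply Matrix.blockDiagonal'_apply_ne
    intro h'
    exact hne (congrArg Subtype.val h')
  · rw [Matrix.submatrix_mul_equiv, h1, Matrix.submatrix_one_equiv]
  · have hK'e : K' = (K'.submatrix e e).submatrix e.symm e.symm := by
      rw [Matrix.submatrix_submatrix]
      simp
    have hKe : K = (K.submatrix e e).submatrix e.symm e.symm := by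
      rw [Matrix.submatrix_submatrix]
      simp
    rw [hKe, h2]
    conv_rhs => rw [hK'e]
    rw [Matrix.transpose_submatrix, Matrix.submatrix_mul_equiv, Matrix.submatrix_mul_equiv]

end Cfsg.Agent.S2676P
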