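import Mathlib
import Cfsg.Prelude.Def_ClassicalGeometry
import Cfsg.Agent.Helper7.S2676Defs

/-! S2676 piece REGEN: changing the generators of a frame by an invertible block matrix `Q` gives a
frame with `K = Q K' Qᵀ`. -/

set_option autoImplicit false
universe u

namespace Cfsg.Agent.S2676P

open Cfsg.Agent.Helper2.SympInvol Cfsg.Agent.Helper2.SympUnits Cfsg.Agent.S5961P Cfsg.Agent.S5956P

namespace REGEN

variable {F V : Type*} [Field F] [AddCommGroup V] [Module F V] {ι : Type} [Fintype ι]
  [DecidableEq ι]

theorem pow_apply_sum (X : Module.End F V) (i : ℕ) (c : ι → F) (v : ι → V) :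
    (X ^ i) (∑ m, c m • v m) = ∑ m, c m • (X ^ i) (v m) := by
  rw [map_sum]
  exact Finset.sum_congr rfl (fun m _ => map_smul _ _ _)

/-- high powers of `X` kill a generator -/
theorem pow_kill (X : Module.End F V) (n i : ℕ) (v : V) (h : (X ^ n) v = 0) (hi : n ≤ i) :
    (X ^ i) v = 0 := by
  obtain ⟨k, rfl⟩ := Nat.exists_eq_add_of_le hi
  rw [add_comm, pow_add, Module.End.mul_apply, h, map_zero]

theorem bilin_sum (B : LinearMap.BilinForm F V) (c d : ι → F) (u w : ι → V) :
    B (∑ m, c m • u m) (∑ n, d n • w n) = ∑ m, ∑ n, c m * d n * B (u m) (w n) := by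
  have h1 : B (∑ m, c m • u m) = ∑ m, c m • B (u m) := by
    rw [map_sum]
    exact Finset.sum_congr rfl (fun m _ => map_smul _ _ _)
  rw [h1, LinearMap.sum_apply]
  apply Finset.sum_congr rfl
  intro m _
  rw [LinearMap.smul_apply, map_sum, Finset.smul_sum]
  apply Finset.sum_congr rfl
  intro n _
  rw [map_smul, smul_eq_mul, smul_eq_mul, mul_assoc]

end REGEN

open REGEN in
theorem frame_regen {F V : Type*} [Field F] [AddCommGroup V] [Module F V] {ι : Type}
    [Fintype ι] [DecidableEq ι] (B : LinearMap.BilinForm F V) (X : Module.End F V)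
    (W : Submodule F V) (a : ι → ℕ) (K' : Matrix ι ι F) (g' : ι → V)
    (hf' : IsFrame B X W a K' g') (Q Q' : Matrix ι ι F)
    (hQ : ∀ j j', a j ≠ a j' → Q j j' = 0) (hQ' : Q' * Q = 1) (K : Matrix ι ι F)
    (hK : K = Q * K' * Q.transpose) (hKu : ∀ s : ℕ, IsUnit (K.toSquareBlock a s).det) :
    IsFrame B X W a K (fun j => ∑ m, Q j m • g' m) := by
  have hKapp : ∀ j j', K j j' = ∑ m, ∑ n, Q j m * K' m n * Q j' n := by
    intro j j'
    rw [hK, Matrix.mul_apply]
    simp only [Matrix.mul_apply, Matrix.transpose_apply, Finset.sum_mul]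
    rw [Finset.sum_comm]
  -- `kill`
  have hkill : ∀ j, (X ^ a j) (∑ m, Q j m • g' m) = 0 := by
    intro j
    rw [pow_apply_sum]
    apply Finset.sum_eq_zero
    intro m _
    by_cases h : a j = a m
    · rw [h, hf'.kill, smul_zero]
    · rw [hQ j m h, zero_smul]
  -- the new family lies in the span of the old one and conversely
  have hspan : Submodule.span F (Set.range (fvec X a (fun j => ∑ m, Q j m • g' m))) = W := by
    rw [← hf'.span]
    apply le_antisymm
    · rw [Submodule.span_le]
      rintro _ ⟨⟨j, i⟩, rfl⟩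
      rw [fvec_mk, pow_apply_sum]
      apply Submodule.sum_mem
      intro m _
      by_cases h : a j = a m
      · apply Submodule.smul_mem
        apply Submodule.subset_span
        exact ⟨⟨m, ⟨(i : ℕ), h ▸ i.2⟩⟩, rfl⟩
      · rw [hQ j m h, zero_smul]
        exact Submodule.zero_mem _
    · rw [Submodule.span_le]
      rintro _ ⟨⟨m, i⟩, rfl⟩
      rw [fvec_mk]
      -- `g' m = ∑ j, Q' m j • h j`
      have hg : g' m = ∑ j, Q' m j • ∑ n, Q j n • g' n := by
        simp only [Finset.smul_sum, smul_smul]
        rw [Finset.sum_comm]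
        have : ∀ n, ∑ j, (Q' m j * Q j n) • g' n = ((Q' * Q) m n) • g' n := by
          intro n
          rw [Matrix.mul_apply, Finset.sum_smul]
        simp only [this, hQ', Matrix.one_apply]
        simp
      rw [hg, pow_apply_sum]
      apply Submodule.sum_mem
      intro j _
      apply Submodule.smul_mem
      by_cases h : (i : ℕ) < a j
      · apply Submodule.subset_span
        exact ⟨⟨j, ⟨(i : ℕ), h⟩⟩, rfl⟩
      · rw [pow_kill X (a j) i _ (hkill j) (not_lt.1 h)]
        exact Submodule.zero_mem _
  refine ⟨hf'.pos, hkill, ?_, hspan, ?_, hKu⟩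
  · -- `gram`
    intro j j' i l
    rw [pow_apply_sum, pow_apply_sum, bilin_sum]
    simp only [hf'.gram]
    by_cases hc : i + l + 1 = a j
    · rw [if_pos hc, hKapp, Finset.mul_sum]
      apply Finset.sum_congr rfl
      intro m _
      rw [Finset.mul_sum]
      apply Finset.sum_congr rfl
      intro n _
      by_cases h : a j = a m
      · rw [if_pos (hc.trans h)]
        ring
      · rw [hQ j m h]
        ring
    · rw [if_neg hc]
      apply Finset.sum_eq_zero
      intro m _
      apply Finset.sum_eq_zero
      intro n _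
      by_cases h : a j = a m
      · rw [if_neg (fun h' => hc (h'.trans h.symm))]
        ring
      · rw [hQ j m h]
        ring
  · -- `offdiag`
    intro j j' hne
    rw [hKapp]
    apply Finset.sum_eq_zero
    intro m _
    apply Finset.sum_eq_zero
    intro n _
    by_cases h : a j = a m
    · by_cases h' : a j' = a n
      · rw [hf'.offdiag m n (fun hmn => hne (h.trans (hmn.trans h'.symm)))]
        ring
      · rw [hQ j' n h']
        ring
    · rw [hQ j m h]
      ring

end Cfsg.Agent.S2676P
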