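import Mathlib
import Cfsg.Prelude.Def_ClassicalGeometry
import Cfsg.Agent.Helper7.S2676Defs
import Cfsg.Agent.Helper7.OrthUni3

/-! S2676 piece SYMCONG: two invertible symmetric matrices over a finite field of odd
characteristic whose determinants lie in the same square class are congruent. -/

set_option autoImplicit false
universe u

namespace Cfsg.Agent.S2676P

open Cfsg.Agent.Helper2.SympInvol Cfsg.Agent.Helper2.SympUnits Cfsg.Agent.S5961P Cfsg.Agent.S5956P

namespace SYMCONG

/-- the product of two nonzero elements of the same square class is a square -/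
theorem isSquare_mul_of_iff {F : Type*} [Field F] [Fintype F] {a b : F} (ha : a ≠ 0)
    (hb : b ≠ 0) (h : IsSquare a ↔ IsSquare b) : IsSquare (a * b) := by
  classical
  by_cases hsa : IsSquare a
  · exact hsa.mul (h.1 hsa)
  · have hsb : ¬ IsSquare b := fun hb' => hsa (h.2 hb')
    have h1 : quadraticChar F a = -1 := quadraticChar_neg_one_iff_not_isSquare.2 hsa
    have h2 : quadraticChar F b = -1 := quadraticChar_neg_one_iff_not_isSquare.2 hsb
    have h3 : quadraticChar F (a * b) = 1 := by
      rw [map_mul, h1, h2]; norm_num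
    exact (quadraticChar_one_iff_isSquare (mul_ne_zero ha hb)).1 h3

end SYMCONG

open SYMCONG Cfsg.Agent.Helper7.OrthUni in
theorem sym_cong {F : Type*} [Field F] [Fintype F] (h2 : (2 : F) ≠ 0) {I : Type} [Fintype I]
    [DecidableEq I] (K K' : Matrix I I F) (hK : K.transpose = K) (hK' : K'.transpose = K')
    (hu : IsUnit K.det) (hu' : IsUnit K'.det) (hsq : IsSquare K.det ↔ IsSquare K'.det) :
    ∃ Q Q' : Matrix I I F, Q' * Q = 1 ∧ K = Q * K' * Q.transpose := by
  have hKu : IsUnit K := (Matrix.isUnit_iff_isUnit_det K).2 hu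
  have hKu' : IsUnit K' := (Matrix.isUnit_iff_isUnit_det K').2 hu'
  have hsq' : IsSquare ((gram (qf K)).det * (gram (qf K')).det) := by
    rw [gram_qf h2 hK, gram_qf h2 hK']
    exact isSquare_mul_of_iff hu.ne_zero hu'.ne_zero hsq
  obtain ⟨e, he⟩ := exists_isometry_of_disc h2 (qf K) (qf K') (qf_nondeg h2 hK hKu)
    (qf_nondeg h2 hK' hKu') rfl hsq'
  -- `e` preserves the polar forms
  have hpol : ∀ u v, (e u) ⬝ᵥ K'.mulVec (e v) = u ⬝ᵥ K.mulVec v := by
    intro u v
    rw [← polar_qf h2 hK', ← polar_qf h2 hK]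
    unfold QuadraticMap.polar
    rw [← map_add, he, he, he]
  set M : Matrix I I F := LinearMap.toMatrix' (e : (I → F) →ₗ[F] (I → F)) with hM
  set N : Matrix I I F := LinearMap.toMatrix' (e.symm : (I → F) →ₗ[F] (I → F)) with hN
  have hMN : M * N = 1 := by
    rw [hM, hN, ← LinearMap.toMatrix'_comp]
    have : (e : (I → F) →ₗ[F] (I → F)).comp (e.symm : (I → F) →ₗ[F] (I → F)) = LinearMap.id := by
      ext v
      simp
    rw [this, LinearMap.toMatrix'_id]
  have hlin : Matrix.toLin' M = (e : (I → F) →ₗ[F] (I → F)) := by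
    rw [hM, Matrix.toLin'_toMatrix']
  have hcomp : (Matrix.toBilin' K').comp (Matrix.toLin' M) (Matrix.toLin' M) =
      Matrix.toBilin' K := by
    rw [hlin]
    apply LinearMap.ext
    intro u
    apply LinearMap.ext
    intro v
    change Matrix.toBilin' K' (e u) (e v) = Matrix.toBilin' K u v
    rw [Matrix.toBilin'_apply', Matrix.toBilin'_apply']
    exact hpol u v
  rw [Matrix.toBilin'_comp] at hcomp
  have hKeq : M.transpose * K' * M = K := Matrix.toBilin'.injective hcomp
  refine ⟨M.transpose, N.transpose, ?_, ?_⟩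
  · rw [← Matrix.transpose_mul, hMN, Matrix.transpose_one]
  · rw [Matrix.transpose_transpose, hKeq]

end Cfsg.Agent.S2676P
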