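import Mathlib
import Cfsg.Agent.Helper17.S2482GDefs
import Cfsg.Agent.Helper16.S2481KDSUM

/-! S2482 chapter (G), piece MULTKD (driver helper17): the multiplicity of the root `c` in the `m`-th
component `t m` of the type of `M` is a second difference of the kernel dimensions of `(M - c)^k`. -/

set_option autoImplicit false

namespace Cfsg.Agent.S2482P

open Polynomial Cfsg.Agent.Helper2.SympInvol Cfsg.Agent.S5955P Cfsg.Agent.S5961P Cfsg.Agent.S2676P
  Cfsg.Agent.S2478P Cfsg.Agent.S2481P

universe u

variable {F : Type u} [Field F]

namespace MULTKD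

open Classical in
/-- root multiplicity of a monic irreducible polynomial -/
theorem rootMultiplicity_irred {p : F[X]} (hp : p.Monic) (hpi : Irreducible p) (c : F) :
    p.rootMultiplicity c = if p = X - C c then 1 else 0 := by
  by_cases h : p = X - C c
  · rw [if_pos h, h, rootMultiplicity_X_sub_C_self]
  · rw [if_neg h]
    apply rootMultiplicity_eq_zero
    intro hroot
    apply h
    have hd : X - C c ∣ p := dvd_iff_isRoot.mpr hroot
    have hass : Associated (X - C c) p :=
      ((irreducible_X_sub_C c).dvd_irreducible_iff_associated hpi).1 hd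
    exact (eq_of_monic_of_associated (monic_X_sub_C c) hp hass).symm

open Classical in
theorem rootMultiplicity_prod' {ι : Type*} (s : Finset ι) (p : ι → F[X])
    (hp : ∀ i ∈ s, (p i).Monic) (c : F) :
    (∏ i ∈ s, p i).rootMultiplicity c = ∑ i ∈ s, (p i).rootMultiplicity c := by
  induction s using Finset.induction_on with
  | empty => simp
  | insert a s ha ih =>
    have hm1 : (p a).Monic := hp a (Finset.mem_insert_self a s)
    have hm2 : (∏ i ∈ s, p i).Monic :=
      monic_prod_of_monic s p (fun i hi => hp i (Finset.mem_insert_of_mem hi))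
    rw [Finset.prod_insert ha, Finset.sum_insert ha,
      rootMultiplicity_mul (hm1.mul hm2).ne_zero,
      ih (fun i hi => hp i (Finset.mem_insert_of_mem hi))]

theorem rootMultiplicity_relation {N : ℕ} (M : Matrix (Fin N) (Fin N) F) {t : ℕ → F[X]}
    (ht : HasType M t) (c : F) (m : ℕ) (hm : 1 ≤ m) :
    (t m).rootMultiplicity c + kd M (X - C c) (m - 1) + kd M (X - C c) (m + 1) =
      2 * kd M (X - C c) m := by
  classical
  obtain ⟨ι, hι, p, e, hpe, -, Φ, rfl⟩ := ht
  have hp : ∀ i, (p i).Monic ∧ Irreducible (p i) := fun i => ⟨(hpe i).1, (hpe i).2.1⟩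
  have hk : ∀ k, kd M (X - C c) k = ∑ i, if p i = X - C c then min (e i) k else 0 := by
    intro k
    rw [kd_eq_sum M p e hp Φ (monic_X_sub_C c) (irreducible_X_sub_C c) k]
    apply Finset.sum_congr rfl
    intro i _
    rw [natDegree_X_sub_C, one_mul]
  have hr : (∏ i with e i = m, p i).rootMultiplicity c =
      ∑ i, if e i = m then (if p i = X - C c then 1 else 0) else 0 := by
    rw [rootMultiplicity_prod' _ p (fun i _ => (hp i).1) c, Finset.sum_filter]
    apply Finset.sum_congr rfl
    intro i _
    by_cases h : e i = m
    · rw [if_pos h, if_pos h, rootMultiplicity_irred (hp i).1 (hp i).2 c]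
    · rw [if_neg h, if_neg h]
  show (∏ i with e i = m, p i).rootMultiplicity c + _ + _ = _
  rw [hr, hk, hk, hk, ← Finset.sum_add_distrib, ← Finset.sum_add_distrib, Finset.mul_sum]
  apply Finset.sum_congr rfl
  intro i _
  by_cases h : p i = X - C c
  · simp only [if_pos h]
    by_cases h2 : e i = m
    · rw [if_pos h2, h2]
      have h3 : min m (m - 1) = m - 1 := min_eq_right (by omega)
      have h4 : min m (m + 1) = m := min_eq_left (by omega)
      rw [h3, h4, min_self]
      omega
    · rw [if_neg h2]
      rcases Nat.lt_or_gt_of_ne h2 with h5 | h5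
      · have h3 : min (e i) (m - 1) = e i := min_eq_left (by omega)
        have h4 : min (e i) (m + 1) = e i := min_eq_left (by omega)
        have h6 : min (e i) m = e i := min_eq_left (by omega)
        rw [h3, h4, h6]
        omega
      · have h3 : min (e i) (m - 1) = m - 1 := min_eq_right (by omega)
        have h4 : min (e i) (m + 1) = m + 1 := min_eq_right (by omega)
        have h6 : min (e i) m = m := min_eq_right (by omega)
        rw [h3, h4, h6]
        omega
  · simp only [if_neg h, ite_self, add_zero, mul_zero]

end MULTKD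

end Cfsg.Agent.S2482P
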