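import Mathlib
import Cfsg.Agent.Helper8.MatBNDefs
import Cfsg.Agent.Helper23.S2546MONALG

set_option autoImplicit false
open scoped Matrix

/-! S2549 piece MONCLOS (generic): permutations in the closure are realised by monomial elements
of the closure. -/

namespace Cfsg.Agent.S2549P

open Cfsg.Agent.MatBN

variable {K : Type*} [Field K]

/-- generic: permutations in the closure are realised by monomial elements of the closure -/
theorem exists_mon_of_mem_closure {G : Type*} [Group G] {n r : ℕ} (ρ : G →* Matrix (Fin n) (Fin n) K)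
    (s : Fin r → G) (τ : Fin r → Equiv.Perm (Fin n)) (hs : ∀ j, Mon (ρ (s j)) (τ j))
    (π : Equiv.Perm (Fin n)) (hπ : π ∈ Subgroup.closure (Set.range τ)) :
    ∃ g ∈ Subgroup.closure (Set.range s), Mon (ρ g) π := by
  induction hπ using Subgroup.closure_induction with
  | mem x hx =>
    obtain ⟨j, rfl⟩ := hx
    exact ⟨s j, Subgroup.subset_closure ⟨j, rfl⟩, hs j⟩
  | one =>
    refine ⟨1, Subgroup.one_mem _, ?_⟩
    rw [map_one]
    exact Mon.one
  | mul x y _ _ hx hy =>
    obtain ⟨g, hg, hgm⟩ := hx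
    obtain ⟨g', hg', hgm'⟩ := hy
    refine ⟨g * g', Subgroup.mul_mem _ hg hg', ?_⟩
    rw [map_mul]
    exact Mon.mul hgm hgm'
  | inv x _ hx =>
    obtain ⟨g, hg, hgm⟩ := hx
    refine ⟨g⁻¹, Subgroup.inv_mem _ hg, ?_⟩
    refine Mon.of_mul_eq_one hgm ?_
    rw [← map_mul, mul_inv_cancel, map_one]

end Cfsg.Agent.S2549P
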