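import Mathlib
import Cfsg.Prelude.Def_Classical
import Cfsg.Agent.Helper8.MatBNDefs
import Cfsg.Agent.Helper8.S2546Defs
import Cfsg.Agent.Helper21.S2549Defs
import Cfsg.Agent.Helper23.S2546TAU
import Cfsg.Agent.Lead.S2546PERMREV

set_option autoImplicit false
open scoped Matrix

/-! S2549 piece TAU: the permutations of the simple reflections of type `B_m` (twisted `D_{m+1}`). -/

namespace Cfsg.Agent.S2549P

open Cfsg.Agent.MatBN

namespace TAU

/-- the values of `tauLast m`, as natural numbers -/
def lastNat (m i : ℕ) : ℕ :=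
  if 1 ≤ m then
    (if i = m - 1 then m + 2 else if i = m + 2 then m - 1 else if i = m then m + 1
      else if i = m + 1 then m else i)
  else i

theorem tauLast_val (m : ℕ) (i : Fin (2 * m + 2)) :
    ((tauLast m i : Fin (2 * m + 2)) : ℕ) = lastNat m i := by
  unfold tauLast lastNat
  by_cases h : 1 ≤ m
  · rw [dif_pos h, if_pos h, Equiv.Perm.mul_apply, Cfsg.Agent.S2546P.PERMREV.swap_val,
      Cfsg.Agent.S2546P.PERMREV.swap_val]
    simp only
    split_ifs <;> omega
  · rw [dif_neg h, if_neg h]
    rfl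

theorem lastNat_lastNat (m i : ℕ) : lastNat m (lastNat m i) = i := by
  unfold lastNat
  split_ifs <;> omega

theorem tauLast_sq (m : ℕ) : tauLast m * tauLast m = 1 := by
  apply Equiv.ext
  intro i
  rw [Equiv.Perm.mul_apply, Equiv.Perm.one_apply]
  apply Fin.ext
  rw [tauLast_val, tauLast_val, lastNat_lastNat]

end TAU

open TAU

theorem tauM_sq (m j : ℕ) : tauM m j * tauM m j = 1 := by
  unfold tauM
  by_cases h : j + 1 < m
  · rw [if_pos h]
    exact Cfsg.Agent.S2546P.tau_sq _ _
  · rw [if_neg h]
    exact tauLast_sq m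

theorem tauM_inj (m : ℕ) {j j' : ℕ} (hj : j < m) (hj' : j' < m) (h : tauM m j = tauM m j') : j = j' := by
  unfold tauM at h
  by_cases h1 : j + 1 < m
  · by_cases h2 : j' + 1 < m
    · rw [if_pos h1, if_pos h2] at h
      exact Cfsg.Agent.S2546P.tau_inj (2 * m + 2) (by omega) (by omega) h
    · rw [if_pos h1, if_neg h2] at h
      exfalso
      have e1 := Cfsg.Agent.S2546P.TAU.tau_val (2 * m + 2) j ⟨j, by omega⟩
      have e := tauLast_val m ⟨j, by omega⟩
      rw [← h, e1] at e
      dsimp only at e
      unfold Cfsg.Agent.S2546P.TAU.tauNat lastNat at e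
      split_ifs at e <;> omega
  · by_cases h2 : j' + 1 < m
    · rw [if_neg h1, if_pos h2] at h
      exfalso
      have e1 := Cfsg.Agent.S2546P.TAU.tau_val (2 * m + 2) j' ⟨j', by omega⟩
      have e := tauLast_val m ⟨j', by omega⟩
      rw [h, e1] at e
      dsimp only at e
      unfold Cfsg.Agent.S2546P.TAU.tauNat lastNat at e
      split_ifs at e <;> omega
    · omega

end Cfsg.Agent.S2549P
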