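import Mathlib
import Cfsg.Prelude.Def_Classical
import Cfsg.Agent.Helper8.MatBNDefs
import Cfsg.Agent.Helper8.S2546Defs
import Cfsg.Agent.Helper21.S2549Defs
import Cfsg.Agent.Lead.S2546PERMREV

set_option autoImplicit false
open scoped Matrix

/-! S2549 piece W0: the permutation of the longest element. -/

namespace Cfsg.Agent.S2549P

open Cfsg.Agent.MatBN

namespace W0

/-- the values of `w0 m`, as natural numbers -/
def w0Nat (m i : ℕ) : ℕ :=
  if m % 2 = 1 then 2 * m + 1 - i
  else if i = m then m else if i = m + 1 then m + 1 else 2 * m + 1 - i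

theorem swapM_val (m : ℕ) (i : Fin (2 * m + 2)) :
    ((swapM m i : Fin (2 * m + 2)) : ℕ) =
      if i.val = m then m + 1 else if i.val = m + 1 then m else i.val := by
  unfold swapM
  rw [Cfsg.Agent.S2546P.PERMREV.swap_val]

theorem w0_val (m : ℕ) (i : Fin (2 * m + 2)) :
    ((w0 m i : Fin (2 * m + 2)) : ℕ) = w0Nat m i := by
  have hi := i.isLt
  unfold w0 w0Nat
  by_cases h : m % 2 = 1
  · rw [if_pos h, if_pos h, Fin.revPerm_apply, Fin.val_rev]
    omega
  · rw [if_neg h, if_neg h, Equiv.Perm.mul_apply, Fin.revPerm_apply, Fin.val_rev, swapM_val]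
    split_ifs <;> omega

theorem w0Nat_w0Nat (m i : ℕ) (hi : i < 2 * m + 2) : w0Nat m (w0Nat m i) = i := by
  unfold w0Nat
  split_ifs <;> omega

end W0

open W0

theorem w0_sq (m : ℕ) : w0 m * w0 m = 1 := by
  apply Equiv.ext
  intro i
  rw [Equiv.Perm.mul_apply, Equiv.Perm.one_apply]
  apply Fin.ext
  rw [w0_val, w0_val, w0Nat_w0Nat m i i.isLt]

theorem w0_rev (m : ℕ) (r c : Fin (2 * m + 2)) (hrc : r < c) :
    w0 m c < w0 m r ∨ (r.val = m ∧ c.val = m + 1) := by
  have hr := r.isLt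
  have hc := c.isLt
  have hrc' : r.val < c.val := hrc
  rw [Fin.lt_def, w0_val, w0_val]
  unfold w0Nat
  split_ifs <;> omega

end Cfsg.Agent.S2549P
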