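import Mathlib
import Cfsg.Prelude.Def_Classical
import Cfsg.Agent.Helper8.MatBNDefs
import Cfsg.Agent.Helper8.S2546Defs
import Cfsg.Agent.Helper21.S2549Defs
import Cfsg.Agent.Helper23.S2546TAU
import Cfsg.Agent.Lead.S2546PERMREV
import Cfsg.Agent.Helper24.S2549TAU
import Cfsg.Agent.Helper24.S2549W0

set_option autoImplicit false
open scoped Matrix

/-! S2549 piece PERMW: the permutation of the longest element lies in the group generated by the
permutations of the simple reflections. -/

namespace Cfsg.Agent.S2549P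

open Cfsg.Agent.MatBN

namespace PERMW

/-- the sign change at `k`, which also swaps the two middle positions: `(k, 2m+1-k)(m, m+1)` -/
def cw (m k : ℕ) : Equiv.Perm (Fin (2 * m + 2)) :=
  if h : k < m then
    Equiv.swap ⟨k, by omega⟩ ⟨2 * m + 1 - k, by omega⟩ * swapM m
  else 1

/-- the values of `cw m k` -/
def cwNat (m k i : ℕ) : ℕ :=
  if i = m then m + 1 else if i = m + 1 then m else if i = k then 2 * m + 1 - k
    else if i = 2 * m + 1 - k then k else i

theorem cw_val (m k : ℕ) (hk : k < m) (x : Fin (2 * m + 2)) :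
    ((cw m k x : Fin (2 * m + 2)) : ℕ) = cwNat m k x := by
  have hx := x.isLt
  unfold cw cwNat
  rw [dif_pos hk, Equiv.Perm.mul_apply, Cfsg.Agent.S2546P.PERMREV.swap_val, W0.swapM_val]
  simp only
  split_ifs <;> omega

theorem cw_last (m : ℕ) (hm : 1 ≤ m) : cw m (m - 1) = tauLast m := by
  apply Equiv.ext
  intro x
  apply Fin.ext
  have hx := x.isLt
  rw [cw_val m (m - 1) (by omega), TAU.tauLast_val]
  unfold cwNat TAU.lastNat
  split_ifs <;> omega

/-- the values of the linear `tau`, in the present numbering -/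
def tNat (m k i : ℕ) : ℕ :=
  if i = k then k + 1 else if i = k + 1 then k else if i = 2 * m - k then 2 * m + 1 - k
    else if i = 2 * m + 1 - k then 2 * m - k else i

theorem tau_val' (m k : ℕ) (hk : k + 1 < m) (x : Fin (2 * m + 2)) :
    ((Cfsg.Agent.S2546P.tau (2 * m + 2) k x : Fin (2 * m + 2)) : ℕ) = tNat m k x := by
  have hx := x.isLt
  rw [Cfsg.Agent.S2546P.PERMREV.tau_val (2 * m + 2) k (by omega)]
  unfold tNat
  split_ifs <;> omega

theorem tNat_lt (m k i : ℕ) (hk : k + 1 < m) (hi : i < 2 * m + 2) : tNat m k i < 2 * m + 2 := by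
  unfold tNat
  split_ifs <;> omega

theorem cwNat_lt (m k i : ℕ) (hk : k < m) (hi : i < 2 * m + 2) : cwNat m k i < 2 * m + 2 := by
  unfold cwNat
  split_ifs <;> omega

theorem conj_nat (m k i : ℕ) (hk : k + 1 < m) (hi : i < 2 * m + 2) :
    tNat m k (cwNat m (k + 1) (tNat m k i)) = cwNat m k i := by
  have h1 : ∀ a, tNat m k i = a → ∀ b, cwNat m (k + 1) a = b → ∀ c, tNat m k b = c →
      c = cwNat m k i := by
    intro a ha b hb c hc
    unfold tNat at ha
    split_ifs at ha <;>
    · unfold cwNat at hb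
      split_ifs at hb <;> first | (exfalso; omega) |
        (unfold tNat at hc
         split_ifs at hc <;> first | (exfalso; omega) | (unfold cwNat; split_ifs <;> omega))
  exact h1 _ rfl _ rfl _ rfl

theorem cw_conj (m k : ℕ) (hk : k + 1 < m) :
    cw m k = Cfsg.Agent.S2546P.tau (2 * m + 2) k * cw m (k + 1) *
      (Cfsg.Agent.S2546P.tau (2 * m + 2) k)⁻¹ := by
  have hinv : (Cfsg.Agent.S2546P.tau (2 * m + 2) k)⁻¹ = Cfsg.Agent.S2546P.tau (2 * m + 2) k :=
    inv_eq_of_mul_eq_one_right (Cfsg.Agent.S2546P.tau_sq _ _)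
  rw [hinv]
  apply Equiv.ext
  intro x
  apply Fin.ext
  rw [Equiv.Perm.mul_apply, Equiv.Perm.mul_apply, tau_val' m k hk, cw_val m (k + 1) hk,
    tau_val' m k hk, cw_val m k (by omega), conj_nat m k x hk x.isLt]

theorem cw_mem (m : ℕ) (d k : ℕ) (hk : k + 1 + d = m) :
    cw m k ∈ Subgroup.closure {π : Equiv.Perm (Fin (2 * m + 2)) | ∃ j, j < m ∧ π = tauM m j} := by
  induction d generalizing k with
  | zero =>
    have hk' : k = m - 1 := by omega
    rw [hk', cw_last m (by omega)]
    refine Subgroup.subset_closure ⟨m - 1, by omega, ?_⟩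
    unfold tauM
    rw [if_neg (by omega)]
  | succ d ih =>
    rw [cw_conj m k (by omega)]
    have h1 : Cfsg.Agent.S2546P.tau (2 * m + 2) k ∈
        Subgroup.closure {π : Equiv.Perm (Fin (2 * m + 2)) | ∃ j, j < m ∧ π = tauM m j} := by
      refine Subgroup.subset_closure ⟨k, by omega, ?_⟩
      unfold tauM
      rw [if_pos (by omega)]
    exact Subgroup.mul_mem _ (Subgroup.mul_mem _ h1 (ih (k + 1) (by omega))) (Subgroup.inv_mem _ h1)

/-- the product of the first `k` sign changes -/
def f (m : ℕ) : ℕ → Equiv.Perm (Fin (2 * m + 2))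
  | 0 => 1
  | k + 1 => f m k * cw m k

/-- the values of `f m k` -/
def fNat (m k i : ℕ) : ℕ :=
  if i < k ∨ 2 * m + 1 - i < k then 2 * m + 1 - i
  else if i = m then (if k % 2 = 1 then m + 1 else m)
  else if i = m + 1 then (if k % 2 = 1 then m else m + 1) else i

theorem f_step (m k i : ℕ) (hk : k < m) (hi : i < 2 * m + 2) :
    fNat m k (cwNat m k i) = fNat m (k + 1) i := by
  have h1 : ∀ a, cwNat m k i = a → fNat m k a = fNat m (k + 1) i := by
    intro a ha
    unfold cwNat at ha
    unfold fNat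
    split_ifs at ha ⊢ <;> omega
  exact h1 _ rfl

theorem f_val (m k : ℕ) (hk : k ≤ m) (x : Fin (2 * m + 2)) :
    ((f m k x : Fin (2 * m + 2)) : ℕ) = fNat m k x := by
  induction k generalizing x with
  | zero =>
    have hx := x.isLt
    unfold fNat
    simp only [f, Equiv.Perm.one_apply]
    split_ifs <;> first | omega | contradiction
  | succ k ih =>
    rw [f, Equiv.Perm.mul_apply, ih (by omega), cw_val m k (by omega), f_step m k x (by omega) x.isLt]

theorem f_mem (m k : ℕ) (hk : k ≤ m) :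
    f m k ∈ Subgroup.closure {π : Equiv.Perm (Fin (2 * m + 2)) | ∃ j, j < m ∧ π = tauM m j} := by
  induction k with
  | zero => exact Subgroup.one_mem _
  | succ k ih =>
    rw [f]
    exact Subgroup.mul_mem _ (ih (by omega)) (cw_mem m (m - (k + 1)) k (by omega))

theorem f_eq_w0 (m : ℕ) : f m m = w0 m := by
  apply Equiv.ext
  intro x
  apply Fin.ext
  have hx := x.isLt
  rw [f_val m m le_rfl, W0.w0_val]
  unfold fNat W0.w0Nat
  split_ifs <;> omega

end PERMW

theorem w0_mem_closure (m : ℕ) :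
    w0 m ∈ Subgroup.closure {π : Equiv.Perm (Fin (2 * m + 2)) | ∃ j, j < m ∧ π = tauM m j} := by
  rw [← PERMW.f_eq_w0 m]
  exact PERMW.f_mem m m le_rfl

end Cfsg.Agent.S2549P
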