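import Mathlib
import Cfsg.Agent.Helper29.S2558CDefs
import Cfsg.Agent.Helper25.S2482SRCARD
import Cfsg.Agent.Helper19.S2482DIVSHIFT

/-! S2558 chapter (C) COUNT (driver helper29), piece N1CARD: the number of self-reciprocal monic
polynomials of degree `b` prime to `X^2 - 1` (inclusion-exclusion). -/

set_option autoImplicit false

namespace Cfsg.Agent.S2558P

open Polynomial Cfsg.Agent.S2478P Cfsg.Agent.S2481P Cfsg.Agent.S2482P

universe u

namespace N1CARD

theorem SR_zero (q : ℕ) : SR q 0 = 1 := by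
  unfold SR
  rw [if_pos rfl]

theorem SR_even (q k : ℕ) (hk : 1 ≤ k) : SR q (2 * k) = q ^ k + q ^ (k - 1) := by
  unfold SR
  have h1 : 2 * k ≠ 0 := by omega
  have h2 : Even (2 * k) := even_two_mul k
  have h3 : 2 * k / 2 = k := by omega
  rw [if_neg h1, if_pos h2, h3]

theorem SR_odd (q k : ℕ) : SR q (2 * k + 1) = 2 * q ^ k := by
  unfold SR
  have h1 : 2 * k + 1 ≠ 0 := by omega
  have h2 : ¬ Even (2 * k + 1) := by
    rw [Nat.not_even_iff_odd]
    exact odd_two_mul_add_one k
  have h3 : (2 * k + 1) / 2 = k := by omega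
  rw [if_neg h1, if_neg h2, h3]

theorem Wfree_zero (q : ℕ) : Wfree q 0 = 1 := by
  unfold Wfree
  rw [if_pos (by decide), if_pos rfl]

theorem Wfree_two (q : ℕ) : Wfree q 2 = q - 2 := by
  unfold Wfree
  rw [if_pos (by decide), if_neg (by decide), if_pos rfl]

theorem Wfree_even (q k : ℕ) (hk : 2 ≤ k) :
    Wfree q (2 * k) = q ^ k + q ^ (k - 2) - 2 * q ^ (k - 1) := by
  unfold Wfree
  have h1 : 2 * k ≠ 0 := by omega
  have h2 : 2 * k ≠ 2 := by omega
  have h3 : 2 * k / 2 = k := by omega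
  rw [if_pos (even_two_mul k), if_neg h1, if_neg h2, h3]

theorem Wfree_odd (q k : ℕ) : Wfree q (2 * k + 1) = 0 := by
  unfold Wfree
  have h2 : ¬ Even (2 * k + 1) := by
    rw [Nat.not_even_iff_odd]
    exact odd_two_mul_add_one k
  rw [if_neg h2]

/-- the final arithmetic -/
theorem arith (q b P : ℕ) (hq : 3 ≤ q)
    (h0 : b = 0 → P = SR q 0)
    (h1 : b = 1 → P + 2 * SR q 0 = SR q 1)
    (h2 : 2 ≤ b → P + 2 * SR q (b - 1) = SR q b + SR q (b - 2)) : P = Wfree q b := by
  rcases Nat.even_or_odd' b with ⟨k, hk | hk⟩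
  · -- b = 2k
    rcases Nat.lt_or_ge k 1 with hk0 | hk1
    · have hb : b = 0 := by omega
      rw [h0 hb, hb, SR_zero, Wfree_zero]
    · rcases Nat.lt_or_ge k 2 with hk2 | hk2
      · have hb : b = 2 := by omega
        have h := h2 (by omega)
        rw [hb] at h ⊢
        have e1 : SR q (2 - 1) = 2 := by
          have := SR_odd q 0
          simpa using this
        have e2 : SR q 2 = q + 1 := by
          have := SR_even q 1 le_rfl
          simpa using this
        rw [e1, e2, SR_zero] at h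
        rw [Wfree_two]
        omega
      · have h := h2 (by omega)
        have e1 : b - 1 = 2 * (k - 1) + 1 := by omega
        have e2 : b - 2 = 2 * (k - 1) := by omega
        rw [e1, e2, hk, SR_odd, SR_even q k (by omega), SR_even q (k - 1) (by omega)] at h
        rw [hk, Wfree_even q k hk2]
        have e3 : k - 1 - 1 = k - 2 := by omega
        rw [e3] at h
        omega
  · -- b = 2k+1
    rw [hk, Wfree_odd]
    rcases Nat.lt_or_ge k 1 with hk0 | hk1
    · have hb : b = 1 := by omega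
      have h := h1 hb
      have e1 : SR q 1 = 2 := by
        have := SR_odd q 0
        simpa using this
      rw [e1, SR_zero] at h
      omega
    · have h := h2 (by omega)
      have e1 : b - 1 = 2 * k := by omega
      have e2 : b - 2 = 2 * (k - 1) + 1 := by omega
      rw [e1, e2, hk, SR_odd, SR_odd, SR_even q k hk1] at h
      omega

section count

variable {F : Type u} [Field F] [Fintype F]

theorem X_sub_one_eq : (X - 1 : F[X]) = X - C 1 := by rw [C_1]

theorem X_add_one_eq : (X + 1 : F[X]) = X - C (-1) := by rw [C_neg, C_1, sub_neg_eq_add]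

theorem one_le_of_dvd {d h : F[X]} (hd : d.natDegree = 1) (hm : h.Monic) (hdvd : d ∣ h) :
    1 ≤ h.natDegree := by
  rw [← hd]
  exact natDegree_le_of_dvd hdvd hm.ne_zero

theorem two_le_of_dvd (hodd : Odd (Fintype.card F)) {h : F[X]} (hm : h.Monic)
    (h1 : (X - 1 : F[X]) ∣ h) (h2 : (X + 1 : F[X]) ∣ h) : 2 ≤ h.natDegree := by
  have hne : (1 : F) ≠ -1 := by
    intro h
    apply DIVSHIFT.two_ne_zero_of_odd hodd
    have : (2 : F) = 1 + 1 := by norm_num
    rw [this]
    nth_rewrite 2 [h]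
    ring
  have hcop : IsCoprime (X - C (1 : F)) (X - C (-1 : F)) :=
    Polynomial.isCoprime_X_sub_C_of_isUnit_sub (IsUnit.mk0 _ (sub_ne_zero.mpr hne))
  rw [X_sub_one_eq] at h1
  rw [X_add_one_eq] at h2
  have hd := hcop.mul_dvd h1 h2
  have := natDegree_le_of_dvd hd hm.ne_zero
  rwa [(monic_X_sub_C (1 : F)).natDegree_mul (monic_X_sub_C (-1)), natDegree_X_sub_C,
    natDegree_X_sub_C] at this

/-- the base set -/
def SS (F : Type u) [Field F] (b : ℕ) : Set F[X] :=
  {h | h.Monic ∧ h.natDegree = b ∧ h.coeff 0 ≠ 0 ∧ tilde0 h = h}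

theorem ncard_SS (hodd : Odd (Fintype.card F)) (b : ℕ) :
    (SS F b).ncard = SR (Fintype.card F) b := by
  rw [← SRCARD.card_SR hodd b]
  exact (Nat.card_coe_set_eq (SS F b)).symm

theorem SR_pos (q b : ℕ) (hq : 1 ≤ q) : 0 < SR q b := by
  unfold SR
  split_ifs
  · exact Nat.one_pos
  · have := Nat.pow_pos (n := b / 2) hq
    omega
  · have := Nat.pow_pos (n := b / 2) hq
    omega

theorem finite_SS (hodd : Odd (Fintype.card F)) (b : ℕ) : (SS F b).Finite := by
  apply Set.finite_of_ncard_pos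
  rw [ncard_SS hodd b]
  exact SR_pos _ _ Fintype.card_pos

end count

end N1CARD

open N1CARD in
theorem N1CARD.card_free {F : Type u} [Field F] [Fintype F] (hodd : Odd (Fintype.card F)) (b : ℕ) :
    Nat.card {h : F[X] // h.Monic ∧ h.natDegree = b ∧ h.coeff 0 ≠ 0 ∧ tilde0 h = h ∧
      ¬ (X - 1 : F[X]) ∣ h ∧ ¬ (X + 1 : F[X]) ∣ h} = Wfree (Fintype.card F) b := by
  classical
  set q := Fintype.card F with hq
  have hq3 : 3 ≤ q := by
    have h1 : 1 < Fintype.card F := Fintype.one_lt_card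
    rcases hodd with ⟨k, hk⟩
    omega
  -- the sets
  set S : Set F[X] := SS F b with hS
  set A : Set F[X] := {h | h ∈ S ∧ (X - 1 : F[X]) ∣ h} with hA
  set B : Set F[X] := {h | h ∈ S ∧ (X + 1 : F[X]) ∣ h} with hB
  set P : Set F[X] := {h | h.Monic ∧ h.natDegree = b ∧ h.coeff 0 ≠ 0 ∧ tilde0 h = h ∧
      ¬ (X - 1 : F[X]) ∣ h ∧ ¬ (X + 1 : F[X]) ∣ h} with hP
  have hSfin : S.Finite := finite_SS hodd b
  have hcardP : Nat.card {h : F[X] // h.Monic ∧ h.natDegree = b ∧ h.coeff 0 ≠ 0 ∧ tilde0 h = h ∧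
      ¬ (X - 1 : F[X]) ∣ h ∧ ¬ (X + 1 : F[X]) ∣ h} = P.ncard := Nat.card_coe_set_eq P
  rw [hcardP]
  have hAS : A ⊆ S := fun h hh => hh.1
  have hBS : B ⊆ S := fun h hh => hh.1
  have hPdiff : P = S \ (A ∪ B) := by
    ext h
    simp only [hP, hS, hA, hB, SS, Set.mem_ofPred_eq, Set.mem_sdiff, Set.mem_union]
    tauto
  have e1 : P.ncard + (A ∪ B).ncard = S.ncard := by
    rw [hPdiff]
    exact Set.ncard_sdiff_add_ncard_of_subset (Set.union_subset hAS hBS) hSfin
  have e2 : (A ∪ B).ncard + (A ∩ B).ncard = A.ncard + B.ncard :=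
    Set.ncard_union_add_ncard_inter A B (hSfin.subset hAS) (hSfin.subset hBS)
  have eS : S.ncard = SR q b := ncard_SS hodd b
  -- cardinalities of A, B, A ∩ B
  have hA0 : b = 0 → A.ncard = 0 := by
    intro hb
    have : A = ∅ := by
      ext h
      simp only [hA, hS, SS, Set.mem_ofPred_eq, Set.mem_empty_iff_false, iff_false]
      rintro ⟨⟨hm, hd, -, -⟩, hdvd⟩
      have := one_le_of_dvd (by rw [X_sub_one_eq, natDegree_X_sub_C]) hm hdvd
      omega
    rw [this, Set.ncard_empty]
  have hB0 : b = 0 → B.ncard = 0 := by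
    intro hb
    have : B = ∅ := by
      ext h
      simp only [hB, hS, SS, Set.mem_ofPred_eq, Set.mem_empty_iff_false, iff_false]
      rintro ⟨⟨hm, hd, -, -⟩, hdvd⟩
      have := one_le_of_dvd (by rw [X_add_one_eq, natDegree_X_sub_C]) hm hdvd
      omega
    rw [this, Set.ncard_empty]
  have hAB0 : b ≤ 1 → (A ∩ B).ncard = 0 := by
    intro hb
    have : A ∩ B = ∅ := by
      ext h
      simp only [hA, hB, hS, SS, Set.mem_inter_iff, Set.mem_ofPred_eq, Set.mem_empty_iff_false,
        iff_false]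
      rintro ⟨⟨⟨hm, hd, -, -⟩, hdvd1⟩, -, hdvd2⟩
      have := two_le_of_dvd hodd hm hdvd1 hdvd2
      omega
    rw [this, Set.ncard_empty]
  have hA1 : ∀ b', b = b' + 1 → A.ncard = SR q b' := by
    intro b' hb
    rw [← SRCARD.card_SR hodd b', ← DIVSHIFT.card_dvd_shift (1 : F) (one_mul 1) b',
      ← Nat.card_coe_set_eq]
    refine Nat.card_congr (Equiv.subtypeEquivRight fun h => ?_)
    simp only [hA, hS, SS, Set.mem_ofPred_eq, hb, X_sub_one_eq]
    tauto
  have hB1 : ∀ b', b = b' + 1 → B.ncard = SR q b' := by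
    intro b' hb
    rw [← SRCARD.card_SR hodd b', ← DIVSHIFT.card_dvd_shift (-1 : F) (by ring) b',
      ← Nat.card_coe_set_eq]
    refine Nat.card_congr (Equiv.subtypeEquivRight fun h => ?_)
    simp only [hB, hS, SS, Set.mem_ofPred_eq, hb, X_add_one_eq]
    tauto
  have hAB2 : ∀ b', b = b' + 2 → (A ∩ B).ncard = SR q b' := by
    intro b' hb
    rw [← SRCARD.card_SR hodd b', ← DIVSHIFT.card_dvd_shift2 hodd b', ← Nat.card_coe_set_eq]
    refine Nat.card_congr (Equiv.subtypeEquivRight fun h => ?_)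
    simp only [hA, hB, hS, SS, Set.mem_inter_iff, Set.mem_ofPred_eq, hb]
    tauto
  apply arith q b P.ncard hq3
  · intro hb
    rw [hA0 hb, hB0 hb] at e2
    rw [← hb, ← eS]
    omega
  · intro hb
    have ha := hA1 0 (by omega)
    have hb' := hB1 0 (by omega)
    have hab := hAB0 (by omega)
    rw [← hb, ← eS]
    omega
  · intro hb
    have ha := hA1 (b - 1) (by omega)
    have hb' := hB1 (b - 1) (by omega)
    have hab := hAB2 (b - 2) (by omega)
    rw [← eS]
    omega

end Cfsg.Agent.S2558P
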