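import Mathlib
import Cfsg.Prelude.Def_GeometricClasses
import Cfsg.Agent.Helper19.Mono.Defs

/-! S5634 piece DUAL (driver helper19): the transpose-inverse subgroup `MT M`. -/

set_option autoImplicit false

namespace Cfsg.Agent.MonoP

open Matrix

variable {ι : Type} [Fintype ι] [DecidableEq ι] {K : Type*} [Field K] [Fintype K]

namespace DUAL

theorem tinv_tinv (g : GL ι K) : tinv (tinv g) = g := by
  apply Units.ext
  rw [tinv_val, tinv_inv_val, Matrix.transpose_transpose]

theorem isMono_transpose_of {g : Matrix ι ι K} (h : IsMono g) : IsMono gᵀ := by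
  obtain ⟨σ, hσ⟩ := h
  refine ⟨σ⁻¹, fun i j hij => ?_⟩
  rw [Matrix.transpose_apply]
  apply hσ
  rintro rfl
  apply hij
  simp

theorem isMono_inv_of {g : GL ι K} (h : IsMono (g : Matrix ι ι K)) :
    IsMono ((g⁻¹ : GL ι K) : Matrix ι ι K) := by
  obtain ⟨σ, hσ⟩ := h
  have hmul : ((g⁻¹ : GL ι K) : Matrix ι ι K) * (g : Matrix ι ι K) = 1 := by
    rw [← Units.val_mul, inv_mul_cancel, Units.val_one]
  have key : ∀ i j : ι, ((g⁻¹ : GL ι K) : Matrix ι ι K) i (σ j) * (g : Matrix ι ι K) (σ j) j =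
      (1 : Matrix ι ι K) i j := by
    intro i j
    rw [← hmul, Matrix.mul_apply]
    symm
    apply Finset.sum_eq_single (σ j)
    · intro k _ hk
      rw [hσ k j hk, mul_zero]
    · intro hn
      exact absurd (Finset.mem_univ _) hn
  refine ⟨σ.symm, fun i k hik => ?_⟩
  have hij : i ≠ σ.symm k := hik
  have h1 := key i (σ.symm k)
  have h2 := key (σ.symm k) (σ.symm k)
  rw [Equiv.apply_symm_apply] at h1 h2
  rw [Matrix.one_apply_ne hij] at h1
  rw [Matrix.one_apply_eq] at h2
  have hc : (g : Matrix ι ι K) k (σ.symm k) ≠ 0 := by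
    intro h0
    rw [h0, mul_zero] at h2
    exact zero_ne_one h2
  exact (mul_eq_zero.mp h1).resolve_right hc

theorem det_tinv (g : GL ι K) :
    ((tinv g : GL ι K) : Matrix ι ι K).det = ((g : Matrix ι ι K).det)⁻¹ := by
  rw [tinv_val, Matrix.det_transpose, Matrix.coe_units_inv, Matrix.det_nonsing_inv,
    Ring.inverse_eq_inv']

theorem mem_SL_iff (g : GL ι K) :
    g ∈ Cfsg.Geo.specialLinear ι K ↔ (g : Matrix ι ι K).det = 1 := by
  unfold Cfsg.Geo.specialLinear
  rw [MonoidHom.mem_ker]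
  constructor
  · intro h
    have := congrArg Units.val h
    simpa using this
  · intro h
    apply Units.ext
    simpa using h

end DUAL

/-- DUAL (S-M): the transpose-inverse subgroup `MT M`. -/
theorem DUAL.mem (M : Subgroup (GL ι K)) (g : GL ι K) : tinv g ∈ MT M ↔ g ∈ M := by
  unfold MT
  exact Subgroup.mem_map_iff_mem (tinv (ι := ι) (K := K)).injective

theorem DUAL.le_SL (M : Subgroup (GL ι K)) (hSL : M ≤ Cfsg.Geo.specialLinear ι K) :
    MT M ≤ Cfsg.Geo.specialLinear ι K := by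
  rintro x ⟨g, hg, rfl⟩
  have h1 := (DUAL.mem_SL_iff g).1 (hSL hg)
  rw [DUAL.mem_SL_iff]
  show ((tinv g : GL ι K) : Matrix ι ι K).det = 1
  rw [DUAL.det_tinv, h1, inv_one]

theorem DUAL.monoSLE (M : Subgroup (GL ι K)) (hmon : MonoSLE M) : MonoSLE (MT M) := by
  intro g hg hdet
  have h1 : tinv g ∈ M := by
    apply hmon
    · rw [tinv_val]
      exact DUAL.isMono_transpose_of (DUAL.isMono_inv_of hg)
    · rw [DUAL.det_tinv, hdet, inv_one]
  have h2 := (DUAL.mem M (tinv g)).2 h1
  rwa [DUAL.tinv_tinv] at h2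

/-- `E_{ab}(ξ)` transpose-inverse is `E_{ba}(-ξ)`. -/
theorem DUAL.not_hasE (M : Subgroup (GL ι K)) (hE : ¬ HasE M) : ¬ HasE (MT M) := by
  rintro ⟨a, b, hab, ξ, hξ, g, hg, hgm⟩
  apply hE
  have h1 : tinv g ∈ M := by
    have := (DUAL.mem M (tinv g)).1
    rw [DUAL.tinv_tinv] at this
    exact this hg
  refine ⟨b, a, hab.symm, -ξ, neg_ne_zero.mpr hξ, tinv g, h1, ?_⟩
  rw [tinv_val]
  have hinv : ((g⁻¹ : GL ι K) : Matrix ι ι K) = Matrix.transvection a b (-ξ) := by
    rw [Matrix.coe_units_inv]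
    apply Matrix.inv_eq_right_inv
    rw [hgm, Matrix.transvection_mul_transvection_same a b hab, add_neg_cancel,
      Matrix.transvection_zero]
  rw [hinv]
  unfold Matrix.transvection
  rw [Matrix.transpose_add, Matrix.transpose_one, Matrix.transpose_single]

theorem DUAL.isMono_transpose (g : Matrix ι ι K) : IsMono gᵀ ↔ IsMono g := by
  constructor
  · intro h
    have := DUAL.isMono_transpose_of h
    rwa [Matrix.transpose_transpose] at this
  · exact DUAL.isMono_transpose_of

theorem DUAL.isMono_inv (g : GL ι K) :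
    IsMono ((g⁻¹ : GL ι K) : Matrix ι ι K) ↔ IsMono (g : Matrix ι ι K) := by
  constructor
  · intro h
    have := DUAL.isMono_inv_of h
    rwa [inv_inv] at this
  · exact DUAL.isMono_inv_of

end Cfsg.Agent.MonoP
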