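import Mathlib
import Cfsg.Prelude.Def_OddOrderLocal
import Cfsg.Agent.Lead.CN10
import Cfsg.Agent.Helper23.CNGroup

/-!
# Reduction of the odd-order CN-theorem to the character-theoretic contradiction

`PartitionContra G` is the statement (for the group `G` and index types `Fin k`) that `G` is not
partitioned (up to conjugacy) by the kernels of coprime TI Frobenius subgroups.  We show: if this
holds for all odd-order groups (in a fixed universe), then every CN-group of odd order is solvable.
-/

set_option autoImplicit false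
set_option linter.style.haveILetI false
set_option linter.unusedSectionVars false
set_option linter.unusedVariables false

namespace Cfsg.Agent.Helper24.CNRed

open Subgroup Cfsg Cfsg.Agent.Lead.CN
open Cfsg.Agent.Helper14 (cj mem_map_cj map_cj_one map_cj_map_cj_inv map_cj_inv_map_cj
  map_cj_le_iff cj_injective map_cj_normalizer map_cj_mul mem_normalizer_iff_map_cj cj_apply)

universe u

/-- the conclusion of the final character-theoretic step, for index types `Fin k` -/
def PartitionContra (G : Type u) [Group G] : Prop :=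
  ∀ (k : ℕ), 2 ≤ k → ∀ (L H : Fin k → Subgroup G), (∀ i, H i < L i) → (∀ i, H i ≠ ⊥) →
    (∀ i, ∀ x ∈ L i, ∀ h ∈ H i, x * h * x⁻¹ ∈ H i) →
    (∀ i, ∀ h ∈ H i, h ≠ 1 → L i ⊓ Subgroup.centralizer ({h} : Set G) ≤ H i) →
    (∀ i j, i ≠ j → Nat.Coprime (Nat.card (H i)) (Nat.card (H j))) →
    (∀ i, Cfsg.IsTISubset (H i : Set G) ∧ Subgroup.normalizer (H i : Set G) = L i) →
    (∀ g : G, g ≠ 1 → ∃ i, ∃ x : G, x * g * x⁻¹ ∈ H i) → False

section Reps

variable {G : Type u} [Group G] [Finite G]

/-- conjugacy of subgroups as a setoid on the coatoms -/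
def coatomSetoid (G : Type u) [Group G] : Setoid {M : Subgroup G // IsCoatom M} where
  r M N := ∃ g : G, N.1 = M.1.map (cj g)
  iseqv := by
    refine ⟨fun M => ⟨1, (map_cj_one M.1).symm⟩, ?_, ?_⟩
    · rintro M N ⟨g, hg⟩
      exact ⟨g⁻¹, by rw [hg, map_cj_map_cj_inv]⟩
    · rintro M N K ⟨g, hg⟩ ⟨h, hh⟩
      exact ⟨h * g, by rw [hh, hg, map_cj_mul]⟩

/-- representatives of the conjugacy classes of maximal subgroups -/
theorem exists_reps (G : Type u) [Group G] [Finite G] :
    ∃ (k : ℕ) (Mrep : Fin k → Subgroup G), (∀ i, IsCoatom (Mrep i)) ∧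
      (∀ i j, i ≠ j → ∀ g : G, Mrep j ≠ (Mrep i).map (cj g)) ∧
      (∀ M : Subgroup G, IsCoatom M → ∃ i, ∃ g : G, M = (Mrep i).map (cj g)) := by
  classical
  let Q := Quotient (coatomSetoid G)
  haveI : Finite Q := Quotient.finite _
  obtain ⟨k, ⟨e⟩⟩ := Finite.exists_equiv_fin Q
  refine ⟨k, fun i => ((e.symm i).out).1, fun i => ((e.symm i).out).2, ?_, ?_⟩
  · intro i j hij g hg
    apply hij
    have h1 : (coatomSetoid G).r (e.symm i).out (e.symm j).out := ⟨g, hg⟩
    have h2 : (⟦(e.symm i).out⟧ : Q) = ⟦(e.symm j).out⟧ := Quotient.sound h1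
    rw [Quotient.out_eq, Quotient.out_eq] at h2
    exact e.symm.injective h2
  · intro M hM
    refine ⟨e ⟦⟨M, hM⟩⟧, ?_⟩
    show ∃ g : G, M = ((e.symm (e ⟦⟨M, hM⟩⟧)).out).1.map (cj g)
    rw [Equiv.symm_apply_apply]
    have h1 : (coatomSetoid G).r (⟦(⟨M, hM⟩ : {M : Subgroup G // IsCoatom M})⟧ : Q).out ⟨M, hM⟩ :=
      Quotient.exact (Quotient.out_eq _)
    obtain ⟨g, hg⟩ := h1
    exact ⟨g, hg⟩

end Reps

section Main

variable {G : Type u} [Group G] [Finite G]

/-- a minimal simple CN-group of odd order contradicts `PartitionContra` -/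
theorem false_of_minSimple (hpc : PartitionContra G) (hG : Cfsg.IsMinSimpleOddOrder G)
    (hCN : Cfsg.IsCNGroup G) : False := by
  haveI := hG.2.1
  obtain ⟨k, Mrep, hmax, hnc, hall⟩ := exists_reps G
  obtain ⟨hcop, hprod, hcover⟩ := partition_main hG hCN k Mrep hmax hnc hall
  -- the Frobenius structure of each representative
  have hker : ∀ i, MaxNil (Cfsg.fittingHallOf (Mrep i)) ∧
      ∃ E, FrobIn (Mrep i) (Cfsg.fittingHallOf (Mrep i)) E := by
    intro i
    obtain ⟨K, E, hF, hK⟩ := coatom_frob hG hCN (hmax i)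
    rw [fittingHallOf_eq hCN hF hK]
    exact ⟨hK, E, hF⟩
  have hlt : ∀ i, Cfsg.fittingHallOf (Mrep i) < Mrep i := by
    intro i
    obtain ⟨-, E, hF⟩ := hker i
    refine lt_of_le_of_ne hF.hK ?_
    intro heq
    apply hF.hE1
    have h1 : E ≤ Cfsg.fittingHallOf (Mrep i) := by rw [heq]; exact hF.hE
    rw [← hF.hdisj]
    exact (inf_eq_right.mpr h1).symm
  have hk2 : 2 ≤ k := by
    by_contra hk
    have hk' : k = 0 ∨ k = 1 := by omega
    rcases hk' with rfl | rfl
    · obtain ⟨i, -⟩ := hcover 1
      exact i.elim0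
    · rw [Fin.prod_univ_one] at hprod
      have h1 : Cfsg.fittingHallOf (Mrep 0) = ⊤ := Subgroup.eq_top_of_card_eq _ hprod
      have h2 := hlt 0
      rw [h1] at h2
      exact (not_top_lt h2)
  refine hpc k hk2 Mrep (fun i => Cfsg.fittingHallOf (Mrep i)) hlt ?_ ?_ ?_ hcop ?_ ?_
  · intro i
    obtain ⟨-, E, hF⟩ := hker i
    exact hF.hK1
  · intro i x hx h hh
    obtain ⟨-, E, hF⟩ := hker i
    exact (mem_normalizer_iff.mp (hF.hnorm hx) h).mp hh
  · intro i h hh hh1 y hy
    obtain ⟨-, E, hF⟩ := hker i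
    obtain ⟨hyM, hyc⟩ := Subgroup.mem_inf.mp hy
    by_contra hyK
    have hfpf := hF.fpf_of_not_mem hyM hyK
    have h2 : h ∈ Cfsg.fittingHallOf (Mrep i) ⊓ centralizer ({y} : Set G) := by
      refine Subgroup.mem_inf.mpr ⟨hh, ?_⟩
      rw [Subgroup.mem_centralizer_singleton_iff] at hyc ⊢
      exact hyc.symm
    rw [hfpf, Subgroup.mem_bot] at h2
    exact hh1 h2
  · intro i
    obtain ⟨hK, E, hF⟩ := hker i
    refine ⟨?_, normalizer_eq_of_coatom hG (hmax i) hF.hK1 hF.hK hF.hnorm⟩
    intro g hg x hx hgx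
    have hne : (Cfsg.fittingHallOf (Mrep i)).map (cj g) ≠ Cfsg.fittingHallOf (Mrep i) := by
      intro h
      exact hg (mem_normalizer_iff_map_cj.mpr h)
    have hti := hK.ti hG hCN g hne
    have h2 : g * x * g⁻¹ ∈ Cfsg.fittingHallOf (Mrep i) ⊓ (Cfsg.fittingHallOf (Mrep i)).map (cj g) :=
      Subgroup.mem_inf.mpr ⟨hgx, ⟨x, hx, rfl⟩⟩
    rw [hti, Subgroup.mem_bot] at h2
    have : x = g⁻¹ * (g * x * g⁻¹) * g := by group
    rw [this, h2]
    group
  · intro g _
    obtain ⟨i, x, hx⟩ := hcover g
    exact ⟨i, x, hx⟩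

/-- **The reduction.** If `PartitionContra` holds for all finite groups of odd order in universe
`u`, then every CN-group of odd order in universe `u` is solvable. -/
theorem solvable_of_cn_aux (hpc : ∀ (G : Type u) [Group G] [Finite G], Odd (Nat.card G) →
    PartitionContra G) : ∀ n : ℕ, ∀ (G : Type u) [Group G] [Finite G], Nat.card G = n →
    Odd (Nat.card G) → Cfsg.IsCNGroup G → Group.IsSolvable G := by
  intro n
  induction n using Nat.strong_induction_on with
  | _ n ih =>
    intro G _ _ hn hodd hCN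
    by_contra hns
    -- proper subgroups are solvable
    have hsub : ∀ H : Subgroup G, H ≠ ⊤ → Group.IsSolvable H := by
      intro H hH
      have hlt : Nat.card H < n := by
        rw [← hn]
        exact lt_of_le_of_ne (Subgroup.card_le_card_group H)
          (fun h => hH (Subgroup.eq_top_of_card_eq _ h))
      have hoddH : Odd (Nat.card H) :=
        Odd.of_dvd_nat hodd (Subgroup.card_subgroup_dvd_card H)
      exact ih (Nat.card H) hlt H rfl hoddH (Cfsg.Agent.Helper23.isCNGroup_subgroup hCN H)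
    haveI : Nontrivial G := by
      by_contra hnt
      rw [not_nontrivial_iff_subsingleton] at hnt
      exact hns inferInstance
    have hsimple : IsSimpleGroup G := by
      refine ⟨fun N hN => ?_⟩
      by_contra hcon
      push Not at hcon
      obtain ⟨hN1, hN2⟩ := hcon
      haveI := hN
      have hNs : Group.IsSolvable N := hsub N hN2
      have hCNq := Cfsg.Agent.Helper23.isCNGroup_quotient_solvable hCN N hNs
      have hcardq : Nat.card (G ⧸ N) < n := by
        rw [← hn, ← Subgroup.index_eq_card, ← Subgroup.card_mul_index N]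
        have h1 : 1 < Nat.card N := by
          rw [Subgroup.one_lt_card_iff_ne_bot]
          exact hN1
        have h2 : 0 < N.index := Nat.pos_of_ne_zero Subgroup.index_ne_zero_of_finite
        nlinarith
      have hoddq : Odd (Nat.card (G ⧸ N)) := by
        rw [← Subgroup.index_eq_card]
        exact Odd.of_dvd_nat hodd (Subgroup.index_dvd_card N)
      have hqs : Group.IsSolvable (G ⧸ N) := ih _ hcardq (G ⧸ N) rfl hoddq hCNq
      apply hns
      haveI := hNs
      haveI := hqs
      refine Group.isSolvable_of_ker_le_range N.subtype (QuotientGroup.mk' N) ?_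
      rw [QuotientGroup.ker_mk', Subgroup.range_subtype]
    have hnc : ¬ IsMulCommutative G := by
      intro hc
      apply hns
      haveI := hc
      exact Group.isSolvable_of_comm (fun a b => mul_comm' a b)
    have hG : Cfsg.IsMinSimpleOddOrder G := ⟨hodd, hsimple, hnc, hsub⟩
    exact false_of_minSimple (hpc G hodd) hG hCN

theorem solvable_of_cn (hpc : ∀ (G : Type u) [Group G] [Finite G], Odd (Nat.card G) →
    PartitionContra G) (G : Type u) [Group G] [Finite G] (hodd : Odd (Nat.card G))
    (hCN : Cfsg.IsCNGroup G) : Group.IsSolvable G :=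
  solvable_of_cn_aux hpc (Nat.card G) G rfl hodd hCN

/-- CA-groups are CN-groups -/
theorem isCNGroup_of_ca (hCA : ∀ x : G, x ≠ 1 → ∀ a ∈ Subgroup.centralizer ({x} : Set G),
    ∀ b ∈ Subgroup.centralizer ({x} : Set G), a * b = b * a) : Cfsg.IsCNGroup G := by
  intro x hx
  let cg : CommGroup (Subgroup.centralizer ({x} : Set G)) :=
    { (inferInstance : Group (Subgroup.centralizer ({x} : Set G))) with
      mul_comm := fun a b => Subtype.ext (hCA x hx a a.2 b b.2) }
  exact @CommGroup.isNilpotent _ cg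

end Main

end Cfsg.Agent.Helper24.CNRed
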