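import Mathlib
import Cfsg.Prelude.Def_LieExceptional
import Cfsg.Agent.Helper18.CTDefs
import Cfsg.Agent.S0182

set_option autoImplicit false
open Cfsg Cfsg.Agent.Helper18.CT MulAction

/-!
# S5748 piece LOCA: involutions in a simple CT-group

`exists_involution`, `inv_conj_of_not_comm`, `inv_conj`.
-/

namespace Cfsg.Agent.Helper24.CT

variable {G : Type*} [Group G]

theorem exists_involution [Finite G] [IsSimpleGroup G] (hct : IsCT G)
    (hna : ¬ ∀ a b : G, a * b = b * a) : ∃ t : G, orderOf t = 2 := by
  by_contra hno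
  have hodd : Odd (Nat.card G) := by
    by_contra h
    rw [Nat.not_odd_iff_even] at h
    haveI : Fact (Nat.Prime 2) := ⟨Nat.prime_two⟩
    obtain ⟨t, ht⟩ := exists_prime_orderOf_dvd_card' 2 h.two_dvd
    exact hno ⟨t, ht⟩
  have hsolv : Group.IsSolvable G := Cfsg.Agent.S0182.result hodd (by
    intro x hx a ha b hb
    by_cases ha1 : a = 1
    · simp [ha1]
    by_cases hb1 : b = 1
    · simp [hb1]
    have h1 : Commute a x := by
      have := Subgroup.mem_centralizer_iff.mp ha x (Set.mem_singleton x)
      exact this.symm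
    have h2 : Commute x b := by
      have := Subgroup.mem_centralizer_iff.mp hb x (Set.mem_singleton x)
      exact this
    exact (hct a x b ha1 hx hb1 h1 h2).eq)
  exact hna (IsSimpleGroup.comm_iff_isSolvable.mpr hsolv)

theorem ne_one_of_orderOf_two {u : G} (hu : orderOf u = 2) : u ≠ 1 := by
  rintro rfl
  simp at hu

theorem inv_eq_of_orderOf_two {u : G} (hu : orderOf u = 2) : u⁻¹ = u := by
  have h : u ^ 2 = 1 := by rw [← hu]; exact pow_orderOf_eq_one u
  rw [inv_eq_iff_mul_eq_one, ← sq]; exact h

theorem mul_self_of_orderOf_two {u : G} (hu : orderOf u = 2) : u * u = 1 := by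
  rw [← sq, ← hu]; exact pow_orderOf_eq_one u

theorem inv_conj_of_not_comm [Finite G] (hct : IsCT G) {u v : G} (hu : orderOf u = 2)
    (hv : orderOf v = 2) (huv : u * v ≠ v * u) : ∃ g : G, g * u * g⁻¹ = v := by
  have hu1 := ne_one_of_orderOf_two hu
  have hv1 := ne_one_of_orderOf_two hv
  have hui := inv_eq_of_orderOf_two hu
  have hvi := inv_eq_of_orderOf_two hv
  set x := u * v with hx
  have hxinv : x⁻¹ = v * u := by rw [hx, mul_inv_rev, hui, hvi]
  have hcu : u * x * u⁻¹ = x⁻¹ := by
    rw [hxinv, hx, hui]
    have : u * u = 1 := mul_self_of_orderOf_two hu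
    calc u * (u * v) * u = (u * u) * v * u := by group
      _ = v * u := by rw [this, one_mul]
  have hcv : v * x * v⁻¹ = x⁻¹ := by
    rw [hxinv, hx, hvi]
    have : v * v = 1 := mul_self_of_orderOf_two hv
    calc v * (u * v) * v = v * u * (v * v) := by group
      _ = v * u := by rw [this, mul_one]
  have hmpos : 0 < orderOf x := orderOf_pos x
  rcases Nat.even_or_odd (orderOf x) with hev | hod
  · -- even order: z = x^(m/2) is an involution commuting with u and v
    exfalso
    obtain ⟨k, hk⟩ := hev
    have hk' : orderOf x = 2 * k := by omega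
    have hkpos : 0 < k := by omega
    set z := x ^ k with hz
    have hzord : orderOf z = 2 := by
      rw [hz, orderOf_pow' x (by omega : k ≠ 0), hk']
      rw [Nat.gcd_eq_right (Dvd.intro_left 2 rfl)]
      exact Nat.mul_div_cancel _ hkpos
    have hz1 := ne_one_of_orderOf_two hzord
    have hzi := inv_eq_of_orderOf_two hzord
    have hcz : ∀ w : G, w * x * w⁻¹ = x⁻¹ → Commute w z := by
      intro w hw
      have : w * z * w⁻¹ = z := by
        rw [hz, ← conj_pow, hw, inv_pow, ← hz, hzi]
      have h2 : w * z = z * w := by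
        calc w * z = (w * z * w⁻¹) * w := by group
          _ = z * w := by rw [this]
      exact h2
    have h1 := hcz u hcu
    have h2 := hcz v hcv
    exact huv (hct u z v hu1 hz1 hv1 h1 h2.symm).eq
  · obtain ⟨k, hk⟩ := hod
    refine ⟨x ^ k, ?_⟩
    have hpow : x ^ (2 * k + 1) = 1 := by rw [← hk]; exact pow_orderOf_eq_one x
    have h1 : u * (x ^ k)⁻¹ * u⁻¹ = x ^ k := by
      rw [← inv_pow, ← conj_pow]
      have : u * x⁻¹ * u⁻¹ = x := by
        rw [← conj_inv, hcu, inv_inv]
      rw [this]
    have h2 : x ^ k * x ^ k = x⁻¹ := by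
      rw [← pow_add, eq_inv_iff_mul_eq_one, ← pow_succ]
      rw [show k + k + 1 = 2 * k + 1 by ring]; exact hpow
    calc x ^ k * u * (x ^ k)⁻¹ = x ^ k * (u * (x ^ k)⁻¹ * u⁻¹) * u := by group
      _ = x ^ k * x ^ k * u := by rw [h1]
      _ = x⁻¹ * u := by rw [h2]
      _ = v := by
        rw [hxinv, mul_assoc, mul_self_of_orderOf_two hu, mul_one]

theorem inv_conj [Finite G] [IsSimpleGroup G] (hct : IsCT G) (hna : ¬ ∀ a b : G, a * b = b * a)
    (u v : G) (hu : orderOf u = 2) (hv : orderOf v = 2) : ∃ g : G, g * u * g⁻¹ = v := by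
  have hu1 := ne_one_of_orderOf_two hu
  have hv1 := ne_one_of_orderOf_two hv
  -- an involution not commuting with u
  have hw : ∃ w : G, orderOf w = 2 ∧ u * w ≠ w * u := by
    by_contra hno
    push Not at hno
    set S : Set G := {x | orderOf x = 2} with hS
    have hle : Subgroup.normalClosure S ≤ Subgroup.centralizer ({u} : Set G) := by
      rw [Subgroup.normalClosure]
      rw [Subgroup.closure_le]
      intro y hy
      rw [Group.mem_conjugatesOfSet_iff] at hy
      obtain ⟨b, hb, hby⟩ := hy
      have hyo : orderOf y = 2 := by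
        obtain ⟨c, hc⟩ := isConj_iff.mp hby
        rw [← hc]
        have := MulEquiv.orderOf_eq (MulAut.conj c) b
        rw [MulAut.conj_apply] at this
        rw [this]; exact hb
      rw [SetLike.mem_coe, Subgroup.mem_centralizer_iff]
      intro z hz
      rw [Set.mem_singleton_iff] at hz
      rw [hz]
      exact hno y hyo
    have hnorm : (Subgroup.normalClosure S).Normal := Subgroup.normalClosure_normal
    rcases hnorm.eq_bot_or_eq_top with h | h
    · have : u ∈ Subgroup.normalClosure S := Subgroup.subset_normalClosure hu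
      rw [h, Subgroup.mem_bot] at this
      exact hu1 this
    · rw [h] at hle
      apply hna
      intro a b
      by_cases ha1 : a = 1
      · simp [ha1]
      by_cases hb1 : b = 1
      · simp [hb1]
      have hau : Commute a u := by
        have := Subgroup.mem_centralizer_iff.mp (hle (Subgroup.mem_top a)) u (Set.mem_singleton u)
        exact this.symm
      have hub : Commute u b := by
        have := Subgroup.mem_centralizer_iff.mp (hle (Subgroup.mem_top b)) u (Set.mem_singleton u)
        exact this
      exact (hct a u b ha1 hu1 hb1 hau hub).eq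
  obtain ⟨w, hwo, hwu⟩ := hw
  have hw1 := ne_one_of_orderOf_two hwo
  by_cases huv : u * v = v * u
  · -- w commutes with neither u nor v
    have hwv : w * v ≠ v * w := by
      intro h
      have h1 : Commute w v := h
      have h2 : Commute v u := huv.symm
      exact hwu (hct w v u hw1 hv1 hu1 h1 h2).eq.symm
    obtain ⟨g1, hg1⟩ := inv_conj_of_not_comm hct hu hwo hwu
    obtain ⟨g2, hg2⟩ := inv_conj_of_not_comm hct hwo hv hwv
    refine ⟨g2 * g1, ?_⟩
    rw [← hg2, ← hg1]; group
  · exact inv_conj_of_not_comm hct hu hv huv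

end Cfsg.Agent.Helper24.CT
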