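import Mathlib
import Cfsg.Agent.Helper29.TV2Basic
import Cfsg.Agent.Helper24.TV2_DE
import Cfsg.Agent.Helper18.TV2_USPAN
import Cfsg.Agent.Helper11.TV2_L0ND
import Cfsg.Agent.Helper8.TV2_SYMM
import Cfsg.Agent.Helper29.TV2_INJh
import Cfsg.Agent.Helper11.TV2_TRANS
import Cfsg.Agent.Helper11.TV2_KTRANS

/-! Board `tv2pieces`, row KCARD (helper24): all cliques have the same size `2 ^ n`, `n ≥ 1`. -/

set_option autoImplicit false
set_option linter.unusedSectionVars false

namespace Cfsg.Agent.TV2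

variable {P : Type*} [Group P] [Finite P] {W : Type*} [AddCommGroup W] [Module (ZMod 2) W] [Finite W] [DistribMulAction P W]

/-- at most one member of the clique of `x` lies outside the `T`-class of `x`. -/
theorem KCARD_aux_unique (C : Ctx P W) {x y' y'' : P} (hx : x ∈ C.D1) (hy' : y' ∈ C.K x) (hy'' : y'' ∈ C.K x)
    (hn' : y' ∉ {d | ∃ t ∈ (C.T : Subgroup P), d = t * x * t⁻¹})
    (hn'' : y'' ∉ {d | ∃ t ∈ (C.T : Subgroup P), d = t * x * t⁻¹}) : y' = y'' := by
  have hOD1 : ∀ d ∈ {d | ∃ t ∈ (C.T : Subgroup P), d = t * x * t⁻¹}, d ∈ C.D1 := by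
    rintro _ ⟨t, ht, rfl⟩
    exact DE_conj_D1 C hx (C.hTM ht)
  apply INJ C hy'.1.1 hy''.1.1
  have hagree : ∀ u ∈ cspan W {d | ∃ t ∈ (C.T : Subgroup P), d = t * x * t⁻¹},
      fn W y' u = fn W y'' u := by
    intro u hu
    unfold cspan at hu
    induction hu using AddSubgroup.closure_induction with
    | mem u hu =>
      obtain ⟨d, hd, rfl⟩ := hu
      change B W y' d = B W y'' d
      by_cases hdK : d ∈ C.K x
      · have e1 : y' ≠ d := fun e => hn' (e ▸ hd)
        have e2 : y'' ≠ d := fun e => hn'' (e ▸ hd)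
        rw [TRANS_B_one C hx hy' hdK e1, TRANS_B_one C hx hy'' hdK e2]
      · rw [TRANS_B_zero C hx hy' (hOD1 d hd) hdK, TRANS_B_zero C hx hy'' (hOD1 d hd) hdK]
    | zero => rw [map_zero, map_zero]
    | add a b _ _ ha hb => rw [map_add, map_add, ha, hb]
    | neg a _ ha => rw [map_neg, map_neg, ha]
  intro d' hd'
  have hmem : cen W d' ∈ cspan W {d | ∃ t ∈ (C.T : Subgroup P), d = t * x * t⁻¹} := by
    rw [← USPAN_T C hx]; exact USPAN_cen_mem C hd'
  exact hagree _ hmem

/-- the clique of `x` has at least two members. -/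
theorem KCARD_aux_two (C : Ctx P W) {x : P} (hx : x ∈ C.D1) : ∃ d ∈ C.K x, d ≠ x := by
  obtain ⟨d', hd', hB⟩ := ND_span C hx.1 C.D1 (le_of_eq (USPAN_D1 C))
  have hne : d' ≠ x := by
    rintro rfl
    rw [B_self (DE_tv C hx.1)] at hB
    exact zero_ne_one hB
  refine ⟨d', ⟨hd', Or.inr ?_⟩, hne⟩
  rw [SYMM C hd'.1 hx.1]; exact hB

/-- the case where the clique of `x` lies in the `T`-class of `x`. -/
theorem KCARD_aux_orbit (C : Ctx P W) {x : P} (hx : x ∈ C.D1)
    (hsub : C.K x ⊆ {d | ∃ t ∈ (C.T : Subgroup P), d = t * x * t⁻¹}) : ∃ n : ℕ, (C.K x).ncard = 2 ^ n := by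
  have hxK : x ∈ C.K x := ⟨hx, Or.inl rfl⟩
  -- the stabilizer of the clique in `T`
  let S : Subgroup P :=
    { carrier := {t | t ∈ (C.T : Subgroup P) ∧ ∀ k, k ∈ C.K x ↔ t * k * t⁻¹ ∈ C.K x}
      one_mem' := ⟨(C.T : Subgroup P).one_mem, fun k => by rw [one_mul, inv_one, mul_one]⟩
      mul_mem' := by
        rintro a b ⟨haT, ha⟩ ⟨hbT, hb⟩
        refine ⟨(C.T : Subgroup P).mul_mem haT hbT, fun k => ?_⟩
        rw [hb k, ha (b * k * b⁻¹)]
        have : a * b * k * (a * b)⁻¹ = a * (b * k * b⁻¹) * a⁻¹ := by group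
        rw [this]
      inv_mem' := by
        rintro a ⟨haT, ha⟩
        refine ⟨(C.T : Subgroup P).inv_mem haT, fun k => ?_⟩
        rw [ha (a⁻¹ * k * a⁻¹⁻¹)]
        have : a * (a⁻¹ * k * a⁻¹⁻¹) * a⁻¹ = k := by group
        rw [this] }
  have hSmem : ∀ t, t ∈ S ↔ t ∈ (C.T : Subgroup P) ∧ ∀ k, k ∈ C.K x ↔ t * k * t⁻¹ ∈ C.K x :=
    fun t => Iff.rfl
  have hST : S ≤ (C.T : Subgroup P) := fun t ht => ((hSmem t).1 ht).1
  -- members of `T` carrying `x` into its clique stabilize the clique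
  have hstab : ∀ t ∈ (C.T : Subgroup P), t * x * t⁻¹ ∈ C.K x → t ∈ S := by
    intro t ht htx
    refine (hSmem t).2 ⟨ht, fun k => ?_⟩
    have h1 : C.K (t * x * t⁻¹) = {d | ∃ k ∈ C.K x, d = t * k * t⁻¹} := TRANS_conj C hx (C.hTM ht)
    have h2 : C.K (t * x * t⁻¹) = C.K x := TRANS_K_eq C hx htx
    rw [h2] at h1
    constructor
    · intro hk
      rw [h1]; exact ⟨k, hk, rfl⟩
    · intro hk
      rw [h1] at hk
      obtain ⟨k', hk', e⟩ := hk
      have : k = k' := by
        have := congrArg (fun g => t⁻¹ * g * t) e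
        simpa [mul_assoc] using this
      rw [this]; exact hk'
  -- the clique is the orbit of `x` under `S`
  have hK : C.K x = MulAction.orbit ↥(S.map (ConjAct.toConjAct (G := P)).toMonoidHom) x := by
    ext w
    constructor
    · intro hw
      obtain ⟨t, ht, rfl⟩ := hsub hw
      have htS : t ∈ S := hstab t ht hw
      refine ⟨⟨ConjAct.toConjAct t, ⟨t, htS, rfl⟩⟩, ?_⟩
      show ConjAct.toConjAct t • x = t * x * t⁻¹
      rw [ConjAct.toConjAct_smul]
    · rintro ⟨⟨s, ⟨t, htS, rfl⟩⟩, rfl⟩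
      show ConjAct.toConjAct t • x ∈ C.K x
      rw [ConjAct.toConjAct_smul]
      exact (((hSmem t).1 htS).2 x).1 hxK
  have hp : IsPGroup 2 ↥(S.map (ConjAct.toConjAct (G := P)).toMonoidHom) :=
    (C.T.isPGroup'.to_le hST).map _
  obtain ⟨n, hn⟩ := hp.card_orbit x
  refine ⟨n, ?_⟩
  rw [hK, ← Nat.card_coe_set_eq]
  exact hn

theorem KCARD (C : Ctx P W) : ∃ n : ℕ, 1 ≤ n ∧ ∀ x ∈ C.D1, (C.K x).ncard = 2 ^ n := by
  obtain ⟨x, hx⟩ := DE_exists_D1 C
  have hxK : x ∈ C.K x := ⟨hx, Or.inl rfl⟩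
  have hxO : x ∈ {d | ∃ t ∈ (C.T : Subgroup P), d = t * x * t⁻¹} :=
    ⟨1, (C.T : Subgroup P).one_mem, by group⟩
  -- the size of the clique of `x`
  have hx2 : ∃ n : ℕ, (C.K x).ncard = 2 ^ n := by
    by_cases hsub : C.K x ⊆ {d | ∃ t ∈ (C.T : Subgroup P), d = t * x * t⁻¹}
    · exact KCARD_aux_orbit C hx hsub
    · rw [Set.not_subset] at hsub
      obtain ⟨y, hyK, hyO⟩ := hsub
      have hyD1 : y ∈ C.D1 := hyK.1
      have hKy : C.K y = C.K x := TRANS_K_eq C hx hyK
      have hxy : x ≠ y := fun e => hyO (e ▸ hxO)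
      have hxOy : x ∉ {d | ∃ t ∈ (C.T : Subgroup P), d = t * y * t⁻¹} := by
        rintro ⟨t, ht, e⟩
        apply hyO
        refine ⟨t⁻¹, (C.T : Subgroup P).inv_mem ht, ?_⟩
        rw [e]; group
      have hKeq : C.K x = {x, y} := by
        ext w
        constructor
        · intro hw
          by_contra hcon
          rw [Set.mem_insert_iff, Set.mem_singleton_iff, not_or] at hcon
          obtain ⟨hwx, hwy⟩ := hcon
          -- `w` lies in the `T`-class of `x`
          have hwO : w ∈ {d | ∃ t ∈ (C.T : Subgroup P), d = t * x * t⁻¹} := by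
            by_contra hwO
            exact hwy (KCARD_aux_unique C hx hw hyK hwO hyO)
          -- and in the `T`-class of `y`
          have hwOy : w ∈ {d | ∃ t ∈ (C.T : Subgroup P), d = t * y * t⁻¹} := by
            by_contra hwOy
            have hw' : w ∈ C.K y := by rw [hKy]; exact hw
            have hx' : x ∈ C.K y := by rw [hKy]; exact hxK
            exact hwx (KCARD_aux_unique C hyD1 hw' hx' hwOy hxOy)
          obtain ⟨t, ht, e1⟩ := hwO
          obtain ⟨s, hs, e2⟩ := hwOy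
          apply hyO
          refine ⟨s⁻¹ * t, (C.T : Subgroup P).mul_mem ((C.T : Subgroup P).inv_mem hs) ht, ?_⟩
          have : y = s⁻¹ * w * s := by rw [e2]; group
          rw [this, e1]; group
        · intro hw
          rw [Set.mem_insert_iff, Set.mem_singleton_iff] at hw
          rcases hw with rfl | rfl
          · exact hxK
          · exact hyK
      refine ⟨1, ?_⟩
      rw [hKeq, Set.ncard_pair hxy, pow_one]
  obtain ⟨n, hn⟩ := hx2
  refine ⟨n, ?_, ?_⟩
  · -- `n ≥ 1` since the clique has two members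
    by_contra hlt
    have hn0 : n = 0 := by omega
    rw [hn0, pow_zero, Set.ncard_eq_one] at hn
    obtain ⟨a, ha⟩ := hn
    obtain ⟨d, hdK, hdx⟩ := KCARD_aux_two C hx
    rw [ha, Set.mem_singleton_iff] at hdK hxK
    exact hdx (hdK.trans hxK.symm)
  · intro x' hx'
    obtain ⟨t, ht, hK'⟩ := KTRANS C hx hx'
    have himg : C.K x' = (fun k => t * k * t⁻¹) '' C.K x := by
      rw [hK']; ext d; constructor
      · rintro ⟨k, hk, rfl⟩; exact ⟨k, hk, rfl⟩
      · rintro ⟨k, hk, rfl⟩; exact ⟨k, hk, rfl⟩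
    rw [himg, Set.ncard_image_of_injective, hn]
    intro a b hab
    have := congrArg (fun g => t⁻¹ * g * t) hab
    simpa [mul_assoc] using this

end Cfsg.Agent.TV2
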