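import Mathlib
import Cfsg.Agent.Helper28.S5658.Defs
import Cfsg.Agent.Helper28.S5658.Lib
import Cfsg.Agent.Helper5.S5658PERP
import Cfsg.Agent.Helper22.S5658HYPB

/-! S5658 piece HYPB2 (driver helper28): a rational totally isotropic independent pair exists; a
rational frame through a rational isotropic vector. -/

set_option autoImplicit false

namespace Cfsg.Agent.S5658P

open Matrix
open Cfsg.Agent.S2644 Cfsg.Agent.Helper2.SUGen Cfsg.Agent.Helper28.SimMax Cfsg.Agent.S5639P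

variable {K : Type*} [Field K] {q n : ℕ}

local notation "h" => Cfsg.hermForm n K q
local notation "T" => Cfsg.unitaryTransvection n q

/-- HYPB2 (S-M) -/
theorem HYPB2.exists_pair [Finite K] (hn : 13 ≤ n) (D : Frob K q) (F₀ : Subfield K)
    (hθ : ∃ θ ∈ F₀, D.σ θ ≠ θ) :
    ∃ u w : Fin n → K, Rat F₀ u ∧ Rat F₀ w ∧ h u u = 0 ∧ h w w = 0 ∧ h w u = 0 ∧
      LinearIndependent K ![u, w] := by
  obtain ⟨b₁, hb₁, hb₁0, hb₁b₁, -, -, -⟩ :=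
    PERP.exists_perp3 hn D F₀ hθ (x₁ := 0) (x₂ := 0) (x₃ := 0) Rat.zero Rat.zero Rat.zero
  obtain ⟨f₁, hf₁, hf₁f₁, hf₁b₁, hb₁f₁⟩ := HYPB.exists_partner D F₀ hθ hb₁ hb₁0 hb₁b₁
  obtain ⟨b₂, hb₂, hb₂0, hb₂b₂, hb₂b₁, hb₂f₁, -⟩ :=
    PERP.exists_perp3 hn D F₀ hθ (x₁ := b₁) (x₂ := f₁) (x₃ := 0) hb₁ hf₁ Rat.zero
  refine ⟨b₁, b₂, hb₁, hb₂, hb₁b₁, hb₂b₂, hb₂b₁, ?_⟩
  have hne : h b₁ f₁ ≠ 0 := by rw [hb₁f₁]; exact one_ne_zero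
  exact li_pair hne hb₂f₁ hb₂0

theorem HYPB2.exists_frame_of_vec [Finite K] (hn : 13 ≤ n) (D : Frob K q) (F₀ : Subfield K)
    (hθ : ∃ θ ∈ F₀, D.σ θ ≠ θ) {b : Fin n → K} (hb : Rat F₀ b) (hb0 : b ≠ 0) (hbb : h b b = 0) :
    ∃ e f : Fin 3 → Fin n → K, HFrame q F₀ e f ∧ e 0 = b := by
  obtain ⟨f, hf, hff, hfb, hbf⟩ := HYPB.exists_partner D F₀ hθ hb hb0 hbb
  obtain ⟨w, hw, hw0, hww, hwb, hwf, -⟩ :=
    PERP.exists_perp3 hn D F₀ hθ (x₁ := b) (x₂ := f) (x₃ := 0) hb hf Rat.zero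
  have hne : h b f ≠ 0 := by rw [hbf]; exact one_ne_zero
  have hli : LinearIndependent K ![b, w] := li_pair hne hwf hw0
  obtain ⟨e, f', hF, he0, -⟩ := HYPB.exists_frame_of_pair hn D F₀ hθ hb hw hbb hww hwb hli
  exact ⟨e, f', hF, he0⟩

end Cfsg.Agent.S5658P
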