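import Mathlib
import Cfsg.Prelude.Def_GeometricClasses
import Cfsg.Prelude.Def_Classical
import Cfsg.Prelude.Def_LieClassical
import Cfsg.Agent.Helper6.S5992Defs
import Cfsg.Agent.Helper7.S5992PRODQ

/-! S5993 piece UNIPSPACE: an abstract odd-dimensional orthogonal space with a unipotent isometry
`y` of order `p` such that `range (y - 1) ⊓ ker (y - 1)` has dimension at least `d`
(Jordan type `[J₃, J₂^(d-1)]` for `d` odd, `[J₂^d, J₁]` for `d` even). -/

set_option autoImplicit false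
open scoped MatrixGroups
universe u

namespace Cfsg.Agent.S5993P

open Cfsg.Agent.Helper2.SympInvol Cfsg.Agent.Helper2.SympUnits Cfsg.Agent.S5961P Cfsg.Agent.S2614
  Cfsg.Agent.S5992P

namespace UNIPSPACE

variable {F : Type*} [Field F]

/-- the subspace `range (y - 1) ⊓ ker (y - 1)` -/
abbrev KK {V : Type*} [AddCommGroup V] [Module F V] (y : Module.End F V) : Submodule F V :=
  LinearMap.range (y - 1) ⊓ LinearMap.ker (y - 1)

theorem KK_prodMap {V₁ V₂ : Type*} [AddCommGroup V₁] [Module F V₁] [AddCommGroup V₂]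
    [Module F V₂] (y₁ : Module.End F V₁) (y₂ : Module.End F V₂) :
    KK (y₁.prodMap y₂) = (KK y₁).prod (KK y₂) := by
  unfold KK
  rw [Cfsg.Agent.S5955P.PRODB.prodMap_sub_one, LinearMap.range_prodMap, LinearMap.ker_prodMap,
    Submodule.prod_inf_prod]

theorem finrank_KK_prodMap {V₁ V₂ : Type*} [AddCommGroup V₁] [Module F V₁] [AddCommGroup V₂]
    [Module F V₂] [FiniteDimensional F V₁] [FiniteDimensional F V₂]
    (y₁ : Module.End F V₁) (y₂ : Module.End F V₂) :
    Module.finrank F ↥(KK (y₁.prodMap y₂)) =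
      Module.finrank F ↥(KK y₁) + Module.finrank F ↥(KK y₂) := by
  rw [KK_prodMap, Cfsg.Agent.S5955P.PRODB.finrank_prod_sub]

/-! ### The block `E₄` (Jordan type `J₂²`) -/

/-- the quadratic form `v₀ v₂ + v₁ v₃` -/
def Q4 : QuadraticForm F (Fin 4 → F) :=
  QuadraticMap.linMulLin (LinearMap.proj 0) (LinearMap.proj 2) +
    QuadraticMap.linMulLin (LinearMap.proj 1) (LinearMap.proj 3)

theorem Q4_apply (v : Fin 4 → F) : Q4 v = v 0 * v 2 + v 1 * v 3 := by
  simp [Q4]

theorem polar_Q4 (u v : Fin 4 → F) :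
    QuadraticMap.polar (Q4 (F := F)) u v = u 0 * v 2 + u 2 * v 0 + u 1 * v 3 + u 3 * v 1 := by
  unfold QuadraticMap.polar
  rw [Q4_apply, Q4_apply, Q4_apply]
  simp only [Pi.add_apply]
  ring

/-- the isometry `v ↦ (v₀ - v₃, v₁ + v₂, v₂, v₃)` -/
def y4 : Module.End F (Fin 4 → F) where
  toFun v := ![v 0 - v 3, v 1 + v 2, v 2, v 3]
  map_add' u v := by
    ext i
    fin_cases i <;> simp <;> ring
  map_smul' c v := by
    ext i
    fin_cases i <;> simp <;> ring

theorem y4_apply (v : Fin 4 → F) : y4 v = ![v 0 - v 3, v 1 + v 2, v 2, v 3] := rfl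

theorem y4_pow_apply (n : ℕ) (v : Fin 4 → F) :
    (y4 ^ n : Module.End F (Fin 4 → F)) v = ![v 0 - n * v 3, v 1 + n * v 2, v 2, v 3] := by
  induction n with
  | zero =>
    rw [pow_zero, Module.End.one_apply]
    ext i
    fin_cases i <;> simp
  | succ k ih =>
    rw [pow_succ', Module.End.mul_apply, ih, y4_apply]
    ext i
    fin_cases i <;> simp <;> ring

theorem N4_apply (v : Fin 4 → F) : (y4 - 1 : Module.End F (Fin 4 → F)) v = ![-v 3, v 2, 0, 0] := by
  rw [LinearMap.sub_apply, y4_apply, Module.End.one_apply]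
  ext i
  fin_cases i <;> simp

theorem y4_isYO (p : ℕ) [CharP F p] : IsYO (Q4 (F := F)) y4 p := by
  refine ⟨?_, ?_, ?_⟩
  · intro u _ hu0
    have hne : ∃ a : Fin 4, u a ≠ 0 := by
      by_contra hcon
      push Not at hcon
      exact hu0 (funext hcon)
    obtain ⟨a, ha⟩ := hne
    fin_cases a
    · refine ⟨Pi.single 2 1, trivial, ?_⟩
      rw [PB_apply, polar_Q4]
      simpa using ha
    · refine ⟨Pi.single 3 1, trivial, ?_⟩
      rw [PB_apply, polar_Q4]
      simpa using ha
    · refine ⟨Pi.single 0 1, trivial, ?_⟩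
      rw [PB_apply, polar_Q4]
      simpa using ha
    · refine ⟨Pi.single 1 1, trivial, ?_⟩
      rw [PB_apply, polar_Q4]
      simpa using ha
  · intro v
    rw [Q4_apply, Q4_apply, y4_apply]
    simp
    ring
  · apply LinearMap.ext
    intro v
    rw [y4_pow_apply, Module.End.one_apply, CharP.cast_eq_zero]
    ext i
    fin_cases i <;> simp

/-- the embedding of `F²` into `K(y₄)` -/
def g4 : (Fin 2 → F) →ₗ[F] (Fin 4 → F) where
  toFun u := ![u 0, u 1, 0, 0]
  map_add' u v := by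
    ext i
    fin_cases i <;> simp
  map_smul' c v := by
    ext i
    fin_cases i <;> simp

theorem g4_mem (u : Fin 2 → F) : g4 u ∈ KK (y4 (F := F)) := by
  refine Submodule.mem_inf.2 ⟨⟨![0, 0, u 1, -u 0], ?_⟩, ?_⟩
  · rw [N4_apply]
    ext i
    fin_cases i <;> simp [g4]
  · rw [LinearMap.mem_ker, N4_apply]
    ext i
    fin_cases i <;> simp [g4]

theorem two_le_KK4 : 2 ≤ Module.finrank F ↥(KK (y4 (F := F))) := by
  have hinj : Function.Injective (g4.codRestrict (KK (y4 (F := F))) g4_mem) := by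
    intro u v h
    have h' := congrArg (fun x : ↥(KK (y4 (F := F))) => (x : Fin 4 → F)) h
    simp only [LinearMap.codRestrict_apply] at h'
    ext i
    fin_cases i
    · simpa [g4] using congrFun h' 0
    · simpa [g4] using congrFun h' 1
  have := LinearMap.finrank_le_finrank_of_injective hinj
  rwa [Module.finrank_fin_fun] at this

/-! ### The block `E₃` (Jordan type `J₃`) -/

/-- the quadratic form `v₀² + v₁ v₂` -/
def Q3 : QuadraticForm F (Fin 3 → F) :=
  QuadraticMap.linMulLin (LinearMap.proj 0) (LinearMap.proj 0) +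
    QuadraticMap.linMulLin (LinearMap.proj 1) (LinearMap.proj 2)

theorem Q3_apply (v : Fin 3 → F) : Q3 v = v 0 * v 0 + v 1 * v 2 := by
  simp [Q3]

theorem polar_Q3 (u v : Fin 3 → F) :
    QuadraticMap.polar (Q3 (F := F)) u v = 2 * (u 0 * v 0) + u 1 * v 2 + u 2 * v 1 := by
  unfold QuadraticMap.polar
  rw [Q3_apply, Q3_apply, Q3_apply]
  simp only [Pi.add_apply]
  ring

/-- the isometry `v ↦ (v₀ + v₂, v₁ - 2 v₀ - v₂, v₂)` -/
def y3 : Module.End F (Fin 3 → F) where
  toFun v := ![v 0 + v 2, v 1 - 2 * v 0 - v 2, v 2]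
  map_add' u v := by
    ext i
    fin_cases i <;> simp <;> ring
  map_smul' c v := by
    ext i
    fin_cases i <;> simp <;> ring

theorem y3_apply (v : Fin 3 → F) : y3 v = ![v 0 + v 2, v 1 - 2 * v 0 - v 2, v 2] := rfl

theorem y3_pow_apply (n : ℕ) (v : Fin 3 → F) :
    (y3 ^ n : Module.End F (Fin 3 → F)) v =
      ![v 0 + n * v 2, v 1 - 2 * n * v 0 - n * n * v 2, v 2] := by
  induction n with
  | zero =>
    rw [pow_zero, Module.End.one_apply]
    ext i
    fin_cases i <;> simp
  | succ k ih =>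
    rw [pow_succ', Module.End.mul_apply, ih, y3_apply]
    ext i
    fin_cases i <;> simp <;> ring

theorem N3_apply (v : Fin 3 → F) :
    (y3 - 1 : Module.End F (Fin 3 → F)) v = ![v 2, -2 * v 0 - v 2, 0] := by
  rw [LinearMap.sub_apply, y3_apply, Module.End.one_apply]
  ext i
  fin_cases i <;> simp <;> ring

theorem y3_isYO (h2 : (2 : F) ≠ 0) (p : ℕ) [CharP F p] : IsYO (Q3 (F := F)) y3 p := by
  refine ⟨?_, ?_, ?_⟩
  · intro u _ hu0
    have hne : ∃ a : Fin 3, u a ≠ 0 := by
      by_contra hcon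
      push Not at hcon
      exact hu0 (funext hcon)
    obtain ⟨a, ha⟩ := hne
    fin_cases a
    · refine ⟨Pi.single 0 1, trivial, ?_⟩
      rw [PB_apply, polar_Q3]
      simpa using ⟨h2, ha⟩
    · refine ⟨Pi.single 2 1, trivial, ?_⟩
      rw [PB_apply, polar_Q3]
      simpa using ha
    · refine ⟨Pi.single 1 1, trivial, ?_⟩
      rw [PB_apply, polar_Q3]
      simpa using ha
  · intro v
    rw [Q3_apply, Q3_apply, y3_apply]
    simp
    ring
  · apply LinearMap.ext
    intro v
    rw [y3_pow_apply, Module.End.one_apply, CharP.cast_eq_zero]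
    ext i
    fin_cases i <;> simp

/-- the embedding of `F` into `K(y₃)` -/
def g3 : (Fin 1 → F) →ₗ[F] (Fin 3 → F) where
  toFun u := ![0, u 0, 0]
  map_add' u v := by
    ext i
    fin_cases i <;> simp
  map_smul' c v := by
    ext i
    fin_cases i <;> simp

theorem g3_mem (h2 : (2 : F) ≠ 0) (u : Fin 1 → F) : g3 u ∈ KK (y3 (F := F)) := by
  refine Submodule.mem_inf.2 ⟨⟨![-(u 0) / 2, 0, 0], ?_⟩, ?_⟩
  · rw [N3_apply]
    ext i
    fin_cases i <;> simp [g3]
    field_simp
  · rw [LinearMap.mem_ker, N3_apply]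
    ext i
    fin_cases i <;> simp [g3]

theorem one_le_KK3 (h2 : (2 : F) ≠ 0) : 1 ≤ Module.finrank F ↥(KK (y3 (F := F))) := by
  have hinj : Function.Injective (g3.codRestrict (KK (y3 (F := F))) (g3_mem h2)) := by
    intro u v h
    have h' := congrArg (fun x : ↥(KK (y3 (F := F))) => (x : Fin 3 → F)) h
    simp only [LinearMap.codRestrict_apply] at h'
    ext i
    fin_cases i
    simpa [g3] using congrFun h' 1
  have := LinearMap.finrank_le_finrank_of_injective hinj
  rwa [Module.finrank_fin_fun] at this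

/-- adding `b` blocks `E₄` to a base space -/
theorem exists_iterate {F : Type u} [Field F] (p : ℕ) [CharP F p] {V₀ : Type u}
    [AddCommGroup V₀] [Module F V₀] [FiniteDimensional F V₀] (Q₀ : QuadraticForm F V₀)
    (y₀ : Module.End F V₀) (h₀ : IsYO Q₀ y₀ p) (k₀ : ℕ)
    (hk₀ : k₀ ≤ Module.finrank F ↥(KK y₀)) (b : ℕ) :
    ∃ (V : Type u) (_ : AddCommGroup V) (_ : Module F V) (_ : FiniteDimensional F V)
      (Q : QuadraticForm F V) (y : Module.End F V),
      IsYO Q y p ∧ Module.finrank F V = Module.finrank F V₀ + 4 * b ∧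
      k₀ + 2 * b ≤ Module.finrank F ↥(KK y) := by
  induction b with
  | zero => exact ⟨V₀, inferInstance, inferInstance, inferInstance, Q₀, y₀, h₀, rfl, hk₀⟩
  | succ b ih =>
    obtain ⟨V, i1, i2, i3, Q, y, hY, h1, hk⟩ := ih
    refine ⟨(Fin 4 → F) × V, inferInstance, inferInstance, inferInstance, Q4.prod Q,
      y4.prodMap y, Cfsg.Agent.S5992P.PRODQ.prod_isYO Q4 Q y4 y p (y4_isYO p) hY, ?_, ?_⟩
    · rw [Module.finrank_prod, h1, Module.finrank_fin_fun]
      ring
    · rw [finrank_KK_prodMap]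
      have := two_le_KK4 (F := F)
      omega

end UNIPSPACE

open UNIPSPACE in
/-- UNIPSPACE -/
theorem exists_unip_space {F : Type u} [Field F] {p : ℕ} [Fact p.Prime] [CharP F p]
    (h2 : (2 : F) ≠ 0) (d : ℕ) (hd : 1 ≤ d) :
    ∃ (V : Type u) (_ : AddCommGroup V) (_ : Module F V) (_ : FiniteDimensional F V)
      (Q : QuadraticForm F V) (y : Module.End F V),
      IsYO Q y p ∧ Module.finrank F V = 2 * d + 1 ∧ y ≠ 1 ∧
      d ≤ Module.finrank F ↥(LinearMap.range (y - 1) ⊓ LinearMap.ker (y - 1)) := by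
  have key : ∃ (V : Type u) (_ : AddCommGroup V) (_ : Module F V) (_ : FiniteDimensional F V)
      (Q : QuadraticForm F V) (y : Module.End F V),
      IsYO Q y p ∧ Module.finrank F V = 2 * d + 1 ∧
      d ≤ Module.finrank F ↥(LinearMap.range (y - 1) ⊓ LinearMap.ker (y - 1)) := by
    obtain ⟨b, hb | hb⟩ := Nat.even_or_odd' d
    · obtain ⟨V, i1, i2, i3, Q, y, hY, h1, hk⟩ :=
        exists_iterate p (Cfsg.Agent.S5992P.PRODQ.sqQ (F := F) 1) 1
          (Cfsg.Agent.S5992P.PRODQ.sqQ_isYO h2 1 p) 0 (Nat.zero_le _) b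
      refine ⟨V, i1, i2, i3, Q, y, hY, ?_, ?_⟩
      · rw [h1, Module.finrank_fin_fun]
        omega
      · have : d = 0 + 2 * b := by omega
        rw [this]
        exact hk
    · obtain ⟨V, i1, i2, i3, Q, y, hY, h1, hk⟩ :=
        exists_iterate p (Q3 (F := F)) y3 (y3_isYO h2 p) 1 (one_le_KK3 h2) b
      refine ⟨V, i1, i2, i3, Q, y, hY, ?_, ?_⟩
      · rw [h1, Module.finrank_fin_fun]
        omega
      · have : d = 1 + 2 * b := by omega
        rw [this]
        exact hk
  obtain ⟨V, i1, i2, i3, Q, y, hY, h1, hk⟩ := key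
  refine ⟨V, i1, i2, i3, Q, y, hY, h1, ?_, hk⟩
  rintro rfl
  rw [sub_self, LinearMap.range_zero, bot_inf_eq, finrank_bot] at hk
  omega

end Cfsg.Agent.S5993P
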