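import Mathlib

set_option autoImplicit false

/-!
Piece (GAM) for S4025: the number of ring automorphisms of a finite field of order `p ^ n` is `n`,
and the number of semilinear maps `x ↦ a * σ x` (`a ≠ 0`) is `(p ^ n - 1) * n`.
-/

namespace Cfsg.Agent.Helper24.Gam

/-- The maps `x ↦ a * σ x`, `a ≠ 0`, `σ` a field automorphism. -/
def gammaSet (F : Type*) [Field F] : Set (F → F) :=
  {f | ∃ (a : F) (σ : F ≃+* F), a ≠ 0 ∧ ∀ x, f x = a * σ x}

theorem charP_of_card {p : ℕ} [hp : Fact p.Prime] {F : Type*} [Field F] [Finite F] {n : ℕ}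
    (hF : Nat.card F = p ^ n) : CharP F p := by
  have : Fintype F := Fintype.ofFinite F
  obtain ⟨q, hq⟩ := CharP.exists F
  have hqp : q.Prime := CharP.char_is_prime F q
  have : Fact q.Prime := ⟨hqp⟩
  obtain ⟨k, hk⟩ := FiniteField.card F q
  rw [Nat.card_eq_fintype_card, hk.2] at hF
  have hk0 : (k : ℕ) ≠ 0 := k.ne_zero
  have h1 : q ∣ p ^ n := by rw [← hF]; exact dvd_pow_self q hk0
  have h2 : q = p := (Nat.prime_dvd_prime_iff_eq hqp hp.out).mp (hqp.dvd_of_dvd_pow h1)
  rw [← h2]; exact hq

theorem card_ringAut {p : ℕ} [Fact p.Prime] {F : Type*} [Field F] [Finite F] {n : ℕ}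
    (hF : Nat.card F = p ^ n) : Nat.card (F ≃+* F) = n := by
  have hp : p.Prime := Fact.out
  have : CharP F p := charP_of_card hF
  let _ : Algebra (ZMod p) F := ZMod.algebra F p
  have hfr : Module.finrank (ZMod p) F = n := by
    have h1 := Module.natCard_eq_pow_finrank (K := ZMod p) (V := F)
    rw [hF, Nat.card_zmod] at h1
    exact (Nat.pow_right_injective hp.two_le h1).symm
  have h1 := IsGalois.card_aut_eq_finrank (ZMod p) F
  rw [hfr] at h1
  rw [← h1]
  apply Nat.card_congr
  exact
    { toFun := fun f => AlgEquiv.ofRingEquiv (f := f) (fun r => by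
        have : (f : F →+* F).comp (algebraMap (ZMod p) F) = algebraMap (ZMod p) F :=
          Subsingleton.elim _ _
        exact RingHom.congr_fun this r)
      invFun := fun g => g.toRingEquiv
      left_inv := fun f => by ext; rfl
      right_inv := fun g => by ext; rfl }

theorem card_gammaSet {p : ℕ} [Fact p.Prime] {F : Type*} [Field F] [Finite F] {n : ℕ}
    (hF : Nat.card F = p ^ n) : Nat.card (gammaSet F) = (p ^ n - 1) * n := by
  have h1 : Nat.card (Fˣ × (F ≃+* F)) = (p ^ n - 1) * n := by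
    rw [Nat.card_prod, card_ringAut hF, Nat.card_units, hF]
  rw [← h1]
  symm
  apply Nat.card_congr
  refine Equiv.ofBijective
    (fun x => ⟨fun y => (x.1 : F) * x.2 y, (x.1 : F), x.2, x.1.ne_zero, fun _ => rfl⟩) ⟨?_, ?_⟩
  · rintro ⟨a, σ⟩ ⟨b, τ⟩ h
    have h2 : ∀ y : F, (a : F) * σ y = (b : F) * τ y := fun y => congrFun (congrArg Subtype.val h) y
    have hab : a = b := by
      apply Units.ext
      have := h2 1
      simpa using this
    subst hab
    have hστ : σ = τ := by
      ext y
      exact mul_left_cancel₀ a.ne_zero (h2 y)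
    rw [hστ]
  · rintro ⟨f, a, σ, ha, hf⟩
    refine ⟨(Units.mk0 a ha, σ), ?_⟩
    apply Subtype.ext
    funext y
    exact (hf y).symm

end Cfsg.Agent.Helper24.Gam
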