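import Mathlib
import Cfsg.Agent.Helper17.Zsigmondy4

/-!
# Huppert: arithmetic lemmas
-/

set_option autoImplicit false

namespace Cfsg.Agent.Helper24.Hup

open Cfsg.Agent.Helper17.Zsig

/-- a prime `p = u + 1 ≥ 4` with `u` a prime power forces `u = 2^k` -/
theorem two_pow_of_isPrimePow_succ_prime {u p : ℕ} (hu : IsPrimePow u) (hp : p.Prime)
    (hpu : p = u + 1) (hp4 : 4 ≤ p) : ∃ k : ℕ, 1 ≤ k ∧ u = 2 ^ k := by
  obtain ⟨r, k, hr, hk, rfl⟩ := (isPrimePow_nat_iff u).1 hu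
  have hodd : Odd p := hp.odd_of_ne_two (by omega)
  have hev : Even (r ^ k) := by
    rcases hodd with ⟨t, ht⟩
    exact ⟨t, by omega⟩
  have hr2 : r = 2 := by
    have h2 : 2 ∣ r ^ k := even_iff_two_dvd.1 hev
    have h3 := (Nat.prime_two.dvd_of_dvd_pow h2)
    exact ((Nat.prime_dvd_prime_iff_eq Nat.prime_two hr).1 h3).symm
  exact ⟨k, hk, by rw [hr2]⟩

/-- `q + 1 ∣ 24` for a prime `q` -/
theorem prime_of_succ_dvd_24 {q : ℕ} (hq : q.Prime) (h : q + 1 ∣ 24) :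
    q = 2 ∨ q = 3 ∨ q = 5 ∨ q = 7 ∨ q = 11 ∨ q = 23 := by
  have hle : q + 1 ≤ 24 := Nat.le_of_dvd (by norm_num) h
  have h2 := hq.two_le
  have hle' : q ≤ 23 := by omega
  interval_cases q <;> first | omega | (exfalso; revert h; decide) | (exfalso; revert hq; decide)

/-- `TList` entries with `q` an odd prime and `n` a power of two -/
theorem tlist_cases {q n k : ℕ} (hq : q.Prime) (hq2 : q ≠ 2) (hn : n = 2 ^ k)
    (hT : (q, n) ∈ TList) : q = 3 ∧ n = 4 := by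
  unfold TList at hT
  simp only [List.mem_cons, Prod.mk.injEq, List.mem_nil_iff, or_false] at hT
  have hpow : ∀ j : ℕ, 2 ^ j ≠ 3 ∧ 2 ^ j ≠ 6 ∧ 2 ^ j ≠ 10 ∧ 2 ^ j ≠ 12 := by
    intro j
    rcases Nat.lt_or_ge j 4 with hj | hj
    · interval_cases j <;> norm_num
    · have : 2 ^ 4 ≤ 2 ^ j := Nat.pow_le_pow_right (by norm_num) hj
      omega
  obtain ⟨h3, h6, h10, h12⟩ := hpow k
  rcases hT with h | h | h | h | h | h | h | h | h | h | h | h | h | h | h | h | h | h | h | h | h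
  all_goals first
    | (exfalso; exact hq2 h.1)
    | (exfalso; have := h.1; subst this; revert hq; decide)
    | (exfalso; have := h.2; omega)
    | exact ⟨h.1, h.2⟩

/-- `q^n - 1` is divisible by `q^m - 1` when `m ∣ n` -/
theorem pow_sub_one_dvd_of_dvd (q : ℕ) {m n : ℕ} (h : m ∣ n) : q ^ m - 1 ∣ q ^ n - 1 := by
  obtain ⟨d, rfl⟩ := h
  rw [pow_mul]
  exact Nat.sub_one_dvd_pow_sub_one (q ^ m) d  -- may need adjusting

end Cfsg.Agent.Helper24.Hup
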