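import Mathlib
import Cfsg.Agent.Helper24.HupArith

/-!
# Huppert: the arithmetic core
-/

set_option autoImplicit false

namespace Cfsg.Agent.Helper24.Hup

open Cfsg.Agent.Helper17.Zsig

/-- a primitive prime divisor of `q^n - 1` is at least `n + 1` -/
theorem ppd_ge {q n p : ℕ} (hq : 2 ≤ q) (hn : 1 ≤ n) (hp : p.Prime) (hpd : p ∣ q ^ n - 1)
    (hprim : ∀ i : ℕ, 1 ≤ i → i < n → ¬ p ∣ q ^ i - 1) : n + 1 ≤ p := by
  haveI := Fact.mk hp
  have h1 : ((q : ZMod p)) ^ n = 1 := (cast_pow_eq_one_iff (by omega) n p).2 hpd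
  have hord : orderOf ((q : ZMod p)) = n := by
    have hdvd := orderOf_dvd_of_pow_eq_one h1
    have hle := Nat.le_of_dvd (by omega) hdvd
    by_contra hne
    have hlt : orderOf ((q : ZMod p)) < n := lt_of_le_of_ne hle hne
    have hpos : 0 < orderOf ((q : ZMod p)) := by
      apply orderOf_pos_iff.2
      exact isOfFinOrder_iff_pow_eq_one.2 ⟨n, by omega, h1⟩
    exact hprim _ hpos hlt ((cast_pow_eq_one_iff (by omega) _ p).1 (pow_orderOf_eq_one _))
  exact (prim_prime_props hq hn hp hpd hord).2

/-- existence of a suitable Zsigmondy prime for `n ≥ 3`, `(q,n) ≠ (2,6)` -/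
theorem exists_ppd {q n : ℕ} (hq : 2 ≤ q) (hn : 3 ≤ n) (h26 : ¬ (q = 2 ∧ n = 6)) :
    ∃ p : ℕ, p.Prime ∧ p ∣ q ^ n - 1 ∧ (∀ i : ℕ, 1 ≤ i → i < n → ¬ p ∣ q ^ i - 1) ∧ n + 1 ≤ p ∧
      ((q, n) ∉ TList → (n + 1 < p ∨ p ^ 2 ∣ q ^ n - 1)) := by
  by_cases hT : (q, n) ∈ TList
  · obtain ⟨p, hp, hpd, hprim⟩ := zsigmondy (a := q) (n := n) (by omega) (by omega) h26
      (by rintro ⟨h, -⟩; omega)
    have hprim' : ∀ i : ℕ, 1 ≤ i → i < n → ¬ p ∣ q ^ i - 1 := fun i hi hin => hprim i (by omega) hin
    exact ⟨p, hp, hpd, hprim', ppd_ge hq (by omega) hp hpd hprim', fun h => absurd hT h⟩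
  · obtain ⟨p, hp, hpd, hprim, hlarge⟩ := large_prim_prime (a := q) (n := n) hq hn hT
    exact ⟨p, hp, hpd, hprim, ppd_ge hq (by omega) hp hpd hprim, fun _ => hlarge⟩

theorem sq_le_sq_imp {u d : ℕ} (h : u ^ 2 ≤ d ^ 2) : u ≤ d := by
  by_contra hlt
  push Not at hlt
  have : d ^ 2 < u ^ 2 := Nat.pow_lt_pow_left hlt (by norm_num)
  omega

/-- **arithmetic core** -/
theorem arith_core (q n m d e2 cA iE iC N : ℕ) (hq : q.Prime) (hnm : n = m * d) (hm1 : 1 ≤ m)
    (hmn : m < n) (he2 : e2 ≤ d ^ 2) (he2pos : 0 < e2) (hcA : cA ∣ q ^ m - 1) (hiC : iC ∣ m)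
    (hN : N = iC * (iE * (e2 * cA))) (hNpos : 0 < N) (htr : q ^ n - 1 ∣ N)
    (hprimes : ∀ r : ℕ, r.Prime → r ∣ e2 → r ∣ cA)
    (hone : e2 = 1 → iE = 1)
    (hnotprime : ¬ e2.Prime)
    (hfact : iE ∣ (e2 - 1).factorial)
    (hstep : ∀ p : ℕ, p.Prime → p ∣ iE * (e2 * cA) → ¬ p ∣ e2 * cA →
      ∃ u : ℕ, IsPrimePow u ∧ u ^ 2 ∣ e2 ∧ (p < u ∨ p ∣ u + 1))
    (hfermat : ∀ k p : ℕ, iC = 1 → e2 = 2 ^ (2 * k) → p.Prime → p = 2 ^ k + 1 → ¬ p ∣ e2 * cA →
      p ^ 2 ∣ N → False) :
    (∃ p : ℕ, p.Prime ∧ p ∣ cA ∧ ∀ i : ℕ, 1 ≤ i → i < n → ¬ p ∣ q ^ i - 1) ∨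
      q ^ n ∈ ({9, 25, 49, 121, 529, 81} : Set ℕ) := by
  have hq2 := hq.two_le
  have hd1 : 1 ≤ d := by
    rcases Nat.eq_zero_or_pos d with h | h
    · rw [h, mul_zero] at hnm; omega
    · exact h
  have hd2 : 2 ≤ d := by
    by_contra h
    have : d = 1 := by omega
    rw [this, mul_one] at hnm
    omega
  have hdn : d ≤ n := by rw [hnm]; exact Nat.le_mul_of_pos_left d hm1
  have hiCpos : 0 < iC := Nat.pos_of_dvd_of_pos hiC hm1
  have hiCle : iC ≤ m := Nat.le_of_dvd hm1 hiC
  have hcApos : 0 < cA := by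
    rcases Nat.eq_zero_or_pos cA with h | h
    · rw [h] at hN; simp at hN; omega
    · exact h
  have hiEpos : 0 < iE := by
    rcases Nat.eq_zero_or_pos iE with h | h
    · rw [h] at hN; simp at hN; omega
    · exact h
  have hqm : 1 ≤ q ^ m := Nat.one_le_pow _ _ (by omega)
  rcases Nat.lt_or_ge n 3 with hn3 | hn3
  · -- n = 2
    have hn2 : n = 2 := by omega
    have hm : m = 1 := by
      have : m ∣ 2 := ⟨d, by omega⟩
      have := Nat.le_of_dvd (by norm_num) this
      omega
    have hd : d = 2 := by rw [hm, one_mul] at hnm; omega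
    have hiC1 : iC = 1 := by
      rw [hm] at hiC
      exact Nat.dvd_one.1 hiC
    rw [hd] at he2
    rw [hm, pow_one] at hcA
    have hcAle : cA ≤ q - 1 := Nat.le_of_dvd (by omega) hcA
    have hq2sq : q ^ 2 - 1 = (q - 1) * (q + 1) := by
      have : q ^ 2 = (q - 1) * (q + 1) + 1 := by
        obtain ⟨t, rfl⟩ : ∃ t, q = t + 1 := ⟨q - 1, by omega⟩
        simp only [Nat.add_sub_cancel]; ring
      omega
    have he2cases : e2 = 1 ∨ e2 = 4 := by
      have : e2 ≤ 4 := by omega
      interval_cases e2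
      · left; rfl
      · exact absurd Nat.prime_two hnotprime
      · exact absurd Nat.prime_three hnotprime
      · right; rfl
    rcases he2cases with h1 | h4
    · exfalso
      have hiE1 := hone h1
      rw [hiC1, hiE1, h1, one_mul, one_mul, one_mul] at hN
      rw [hn2, hq2sq, hN] at htr
      have := Nat.le_of_dvd hcApos htr
      have h3 : (q - 1) * (q + 1) ≥ (q - 1) * 3 := Nat.mul_le_mul_left _ (by omega)
      have h4 : q - 1 ≥ 1 := by omega
      nlinarith
    · right
      rw [h4] at hfact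
      have hfact' : iE ∣ 6 := by simpa [Nat.factorial] using hfact
      have hNdvd : N ∣ 24 * (q - 1) := by
        rw [hN, hiC1, h4, one_mul]
        have : iE * (4 * cA) = (iE * 4) * cA := by ring
        rw [this]
        have h24 : iE * 4 ∣ 24 := by
          have : (24 : ℕ) = 6 * 4 := by norm_num
          rw [this]; exact Nat.mul_dvd_mul_right hfact' 4
        exact Nat.mul_dvd_mul h24 hcA
      rw [hn2, hq2sq] at htr
      have h5 : (q - 1) * (q + 1) ∣ (q - 1) * 24 := by
        rw [mul_comm (q - 1) 24]; exact htr.trans hNdvd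
      have h6 : q + 1 ∣ 24 := Nat.dvd_of_mul_dvd_mul_left (by omega) h5
      have h2cA : 2 ∣ cA := hprimes 2 Nat.prime_two (by rw [h4]; norm_num)
      have hqne2 : q ≠ 2 := by
        rintro rfl
        have : 2 ∣ 2 - 1 := h2cA.trans hcA
        norm_num at this
      rcases prime_of_succ_dvd_24 hq h6 with h | h | h | h | h | h
      · exact absurd h hqne2
      all_goals (subst h; rw [hn2]; simp)
  · -- n ≥ 3
    have hdvdN : ∀ p : ℕ, p.Prime → p ∣ q ^ n - 1 → n < p → p ∣ iE * (e2 * cA) := by
      intro p hp hpd hnp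
      have h1 : p ∣ iC * (iE * (e2 * cA)) := by rw [← hN]; exact hpd.trans htr
      rcases (Nat.Prime.dvd_mul hp).1 h1 with h | h
      · exfalso
        have := Nat.le_of_dvd hiCpos h
        omega
      · exact h
    by_cases h26 : q = 2 ∧ n = 6
    · exfalso
      obtain ⟨rfl, rfl⟩ := h26
      have hmdvd : m ∣ 6 := ⟨d, hnm⟩
      have hm3 : m = 1 ∨ m = 2 ∨ m = 3 := by
        have := Nat.le_of_dvd (by norm_num) hmdvd
        interval_cases m <;> first | omega | (exfalso; revert hmdvd; decide)
      have h7N : 7 ∣ N := by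
        have : (7 : ℕ) ∣ 2 ^ 6 - 1 := by norm_num
        exact this.trans htr
      have h7 : 7 ∣ iE * (e2 * cA) := by
        have h1 : 7 ∣ iC * (iE * (e2 * cA)) := by rw [← hN]; exact h7N
        have hp7 : Nat.Prime 7 := by norm_num
        rcases (Nat.Prime.dvd_mul hp7).1 h1 with h | h
        · exfalso
          have := Nat.le_of_dvd hiCpos h
          omega
        · exact h
      have hp7 : Nat.Prime 7 := by norm_num
      by_cases h7A : 7 ∣ cA
      · have hm : m = 3 := by
          rcases hm3 with h | h | h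
          · subst h; have := h7A.trans hcA; norm_num at this
          · subst h; have := h7A.trans hcA; norm_num at this
          · exact h
        subst hm
        have hd : d = 2 := by omega
        subst hd
        have hcA7 : cA ∣ 7 := by simpa using hcA
        have he21 : e2 = 1 := by
          by_contra hne
          obtain ⟨r, hr, hre⟩ := Nat.exists_prime_and_dvd hne
          have hr7 : r ∣ 7 := (hprimes r hr hre).trans hcA7
          have : r = 7 := (Nat.prime_dvd_prime_iff_eq hr hp7).1 hr7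
          subst this
          have := Nat.le_of_dvd he2pos hre
          omega
        have hiE1 := hone he21
        rw [hiE1, he21, one_mul, one_mul] at hN
        have h1 : N ∣ 3 * 7 := by rw [hN]; exact Nat.mul_dvd_mul hiC hcA7
        have h2 : (2 : ℕ) ^ 6 - 1 ∣ 3 * 7 := htr.trans h1
        norm_num at h2
      · have h7e : ¬ 7 ∣ e2 * cA := by
          intro h
          rcases (Nat.Prime.dvd_mul hp7).1 h with h | h
          · exact h7A (hprimes 7 hp7 h)
          · exact h7A h
        obtain ⟨u, hu, hu2, hu3⟩ := hstep 7 hp7 h7 h7e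
        have hule : u ^ 2 ≤ d ^ 2 := (Nat.le_of_dvd he2pos hu2).trans he2
        have hud : u ≤ d := sq_le_sq_imp hule
        have hd6 : d ≤ 6 := hdn
        rcases hu3 with h | h
        · omega
        · have h8 : 7 ≤ u + 1 := Nat.le_of_dvd (by omega) h
          have hu6 : u = 6 := by omega
          subst hu6
          revert hu; decide
    · obtain ⟨p, hp, hpd, hprim, hpn, hlarge⟩ := exists_ppd hq2 hn3 h26
      by_cases hpA : p ∣ cA
      · exact Or.inl ⟨p, hp, hpA, hprim⟩
      · right
        have hpe : ¬ p ∣ e2 * cA := by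
          intro h
          rcases (Nat.Prime.dvd_mul hp).1 h with h | h
          · exact hpA (hprimes p hp h)
          · exact hpA h
        obtain ⟨u, hu, hu2, hu3⟩ := hstep p hp (hdvdN p hp hpd (by omega)) hpe
        have hupos : 0 < u := hu.pos
        have hule : u ^ 2 ≤ d ^ 2 := (Nat.le_of_dvd he2pos hu2).trans he2
        have hud : u ≤ d := sq_le_sq_imp hule
        rcases hu3 with h | h
        · omega
        · have h8 : p ≤ u + 1 := Nat.le_of_dvd (by omega) h
          have hun : u = n := by omega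
          have hdn' : d = n := by omega
          have hpn' : p = n + 1 := by omega
          have hm : m = 1 := by
            rw [hdn'] at hnm
            have : m * n = 1 * n := by omega
            exact Nat.eq_of_mul_eq_mul_right (by omega) this
          have hiC1 : iC = 1 := by
            rw [hm] at hiC; exact Nat.dvd_one.1 hiC
          have he2u : e2 = u ^ 2 := by
            apply le_antisymm
            · rw [hun, ← hdn']; exact he2
            · exact Nat.le_of_dvd he2pos hu2
          obtain ⟨k, hk1, huk⟩ := two_pow_of_isPrimePow_succ_prime hu hp (by omega) (by omega)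
          have he2k : e2 = 2 ^ (2 * k) := by
            rw [he2u, huk, ← pow_mul, mul_comm]
          have hpk : p = 2 ^ k + 1 := by omega
          have h2cA : 2 ∣ cA := by
            apply hprimes 2 Nat.prime_two
            rw [he2k]
            exact dvd_pow_self 2 (by omega)
          have hqne2 : q ≠ 2 := by
            rintro rfl
            rw [hm, pow_one] at hcA
            have : 2 ∣ 2 - 1 := h2cA.trans hcA
            norm_num at this
          by_cases hT : (q, n) ∈ TList
          · obtain ⟨rfl, rfl⟩ := tlist_cases hq hqne2 (by omega : n = 2 ^ k) hT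
            simp
          · exfalso
            rcases hlarge hT with h | h
            · omega
            · exact hfermat k p hiC1 he2k hp hpk hpe (h.trans htr)

end Cfsg.Agent.Helper24.Hup
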