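import Mathlib

/-!
# Huppert: the section `E/A`, its commutator pairing and the conjugation action
-/

set_option autoImplicit false

namespace Cfsg.Agent.Helper24.Hup

universe u

variable {G : Type u} [Group G]

/-- the section `E/A` -/
abbrev Sec (A E : Subgroup G) [A.Normal] := ↥E ⧸ A.subgroupOf E

section aut

variable (A E : Subgroup G) [hA : A.Normal] [hE : E.Normal]

theorem map_conjNormal (g : G) :
    (A.subgroupOf E).map ((MulAut.conjNormal g : MulAut E) : E →* E) = A.subgroupOf E := by
  ext x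
  constructor
  · rintro ⟨y, hy, rfl⟩
    rw [SetLike.mem_coe, Subgroup.mem_subgroupOf] at hy
    rw [Subgroup.mem_subgroupOf]
    have : (((MulAut.conjNormal g : MulAut E) : E →* E) y : G) = g * y * g⁻¹ :=
      MulAut.conjNormal_apply g y
    rw [this]
    exact hA.conj_mem _ hy g
  · intro hx
    rw [Subgroup.mem_subgroupOf] at hx
    refine ⟨(MulAut.conjNormal g⁻¹ : MulAut E) x, ?_, ?_⟩
    · rw [SetLike.mem_coe, Subgroup.mem_subgroupOf, MulAut.conjNormal_apply]
      exact hA.conj_mem _ hx g⁻¹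
    · apply Subtype.ext
      have h1 : (((MulAut.conjNormal g : MulAut E) : E →* E)
          ((MulAut.conjNormal g⁻¹ : MulAut E) x) : G)
          = g * ((MulAut.conjNormal g⁻¹ : MulAut E) x : G) * g⁻¹ := MulAut.conjNormal_apply g _
      rw [h1, MulAut.conjNormal_apply]
      group

/-- conjugation action of `G` on `E/A` -/
noncomputable def secAut : G →* MulAut (Sec A E) where
  toFun g := QuotientGroup.congr _ _ (MulAut.conjNormal g) (map_conjNormal A E g)
  map_one' := by
    apply MulEquiv.ext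
    intro w
    induction w using QuotientGroup.induction_on with
    | H b =>
      rw [QuotientGroup.congr_mk, map_one]
      rfl
  map_mul' := by
    intro g h
    apply MulEquiv.ext
    intro w
    induction w using QuotientGroup.induction_on with
    | H b =>
      simp only [MulAut.mul_apply, QuotientGroup.congr_mk, map_mul]

theorem secAut_mk (g : G) (b : E) :
    secAut A E g (QuotientGroup.mk b) = QuotientGroup.mk ((MulAut.conjNormal g : MulAut E) b) :=
  QuotientGroup.congr_mk _ _ _ (map_conjNormal A E g) b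

theorem secAut_eq_one_iff (g : G) :
    secAut A E g = 1 ↔ ∀ b ∈ E, g * b * g⁻¹ * b⁻¹ ∈ A := by
  constructor
  · intro h b hb
    have h1 := secAut_mk A E g ⟨b, hb⟩
    rw [h, MulAut.one_apply] at h1
    have h2 := QuotientGroup.eq.1 h1
    rw [Subgroup.mem_subgroupOf] at h2
    have h3 : g * b * g⁻¹ * b⁻¹ = (b * (b⁻¹ * (g * b * g⁻¹))) * b⁻¹ := by group
    rw [h3]
    have h4 : b⁻¹ * (g * b * g⁻¹) ∈ A := by
      simpa [MulAut.conjNormal_apply] using h2
    have := hA.conj_mem _ h4 b
    exact this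
  · intro h
    apply MulEquiv.ext
    intro w
    induction w using QuotientGroup.induction_on with
    | H b =>
      rw [secAut_mk, MulAut.one_apply]
      symm
      rw [QuotientGroup.eq, Subgroup.mem_subgroupOf]
      have h1 := h b b.2
      have h2 : b⁻¹ * (g * b * g⁻¹) ∈ A := by
        have := hA.conj_mem _ h1 (b : G)⁻¹
        have h3 : (b : G)⁻¹ * (g * b * g⁻¹ * (b : G)⁻¹) * ((b : G)⁻¹)⁻¹ = (b : G)⁻¹ * (g * b * g⁻¹) := by
          group
        rwa [h3] at this
      simpa [MulAut.conjNormal_apply] using h2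

end aut

section pairing

open scoped IsMulCommutative

variable (A E : Subgroup G) [hA : A.Normal] [hAc : IsMulCommutative A]

/-- `b' ↦ [b, b']` as a hom `E → A` -/
def commHom (hcent : ∀ a ∈ A, ∀ b ∈ E, a * b = b * a)
    (hcomm : ∀ b ∈ E, ∀ b' ∈ E, b * b' * b⁻¹ * b'⁻¹ ∈ A) (b : E) : E →* A where
  toFun b' := ⟨b * b' * b⁻¹ * b'⁻¹, hcomm b b.2 b' b'.2⟩
  map_one' := by
    apply Subtype.ext
    simp
  map_mul' := by
    intro x y
    apply Subtype.ext
    simp only [Subgroup.coe_mul, Subgroup.coe_inv]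
    have h1 : Commute ((b : G) * y * (b : G)⁻¹ * (y : G)⁻¹) (x : G) :=
      hcent _ (hcomm b b.2 y y.2) x x.2
    have h2 := h1.inv_right.eq
    calc (b : G) * (x * y) * (b : G)⁻¹ * ((x : G) * y)⁻¹
        = b * x * (b : G)⁻¹ * ((b * y * (b : G)⁻¹ * (y : G)⁻¹) * (x : G)⁻¹) := by group
      _ = b * x * (b : G)⁻¹ * ((x : G)⁻¹ * (b * y * (b : G)⁻¹ * (y : G)⁻¹)) := by rw [h2]
      _ = _ := by group


theorem commHom_apply (hcent : ∀ a ∈ A, ∀ b ∈ E, a * b = b * a)
    (hcomm : ∀ b ∈ E, ∀ b' ∈ E, b * b' * b⁻¹ * b'⁻¹ ∈ A) (b b' : E) :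
    ((commHom A E hcent hcomm b b' : A) : G) = b * b' * (b : G)⁻¹ * (b' : G)⁻¹ := rfl

theorem commHom_ker (hAE : A ≤ E) (hcent : ∀ a ∈ A, ∀ b ∈ E, a * b = b * a)
    (hcomm : ∀ b ∈ E, ∀ b' ∈ E, b * b' * b⁻¹ * b'⁻¹ ∈ A) (b : E) :
    A.subgroupOf E ≤ (commHom A E hcent hcomm b).ker := by
  intro x hx
  rw [Subgroup.mem_subgroupOf] at hx
  rw [MonoidHom.mem_ker]
  apply Subtype.ext
  rw [commHom_apply, Subgroup.coe_one]
  have := hcent _ hx b b.2
  calc (b : G) * x * (b : G)⁻¹ * (x : G)⁻¹ = (x * b) * (b : G)⁻¹ * (x : G)⁻¹ := by rw [this]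
    _ = 1 := by group

/-- `[b, ·]` as a hom `E/A → A` -/
noncomputable def commHomQ (hAE : A ≤ E) (hcent : ∀ a ∈ A, ∀ b ∈ E, a * b = b * a)
    (hcomm : ∀ b ∈ E, ∀ b' ∈ E, b * b' * b⁻¹ * b'⁻¹ ∈ A) (b : E) : Sec A E →* A :=
  QuotientGroup.lift (A.subgroupOf E) (commHom A E hcent hcomm b)
    (commHom_ker A E hAE hcent hcomm b)

/-- the commutator pairing `E/A × E/A → A` -/
noncomputable def pairing (hAE : A ≤ E) (hcent : ∀ a ∈ A, ∀ b ∈ E, a * b = b * a)
    (hcomm : ∀ b ∈ E, ∀ b' ∈ E, b * b' * b⁻¹ * b'⁻¹ ∈ A) : Sec A E →* (Sec A E →* A) :=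
  QuotientGroup.lift (A.subgroupOf E)
    ({ toFun := fun b => commHomQ A E hAE hcent hcomm b
       map_one' := by
        apply MonoidHom.ext
        intro w
        induction w using QuotientGroup.induction_on with
        | H x =>
          apply Subtype.ext
          change ((commHom A E hcent hcomm 1 x : A) : G) = _
          rw [commHom_apply]
          simp
       map_mul' := by
        intro b c
        apply MonoidHom.ext
        intro w
        induction w using QuotientGroup.induction_on with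
        | H x =>
          apply Subtype.ext
          change ((commHom A E hcent hcomm (b * c) x : A) : G)
            = ((commHom A E hcent hcomm b x : A) : G) * ((commHom A E hcent hcomm c x : A) : G)
          rw [commHom_apply, commHom_apply, commHom_apply]
          simp only [Subgroup.coe_mul]
          have h1 : Commute ((c : G) * x * (c : G)⁻¹ * (x : G)⁻¹) (b : G) :=
            hcent _ (hcomm c c.2 x x.2) b b.2
          have h2 := h1.inv_right.eq
          calc (b : G) * c * x * ((b : G) * c)⁻¹ * (x : G)⁻¹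
              = b * ((c * x * (c : G)⁻¹ * (x : G)⁻¹) * (b : G)⁻¹) * (b * x * (b : G)⁻¹ * (x : G)⁻¹) := by
                group
            _ = b * ((b : G)⁻¹ * (c * x * (c : G)⁻¹ * (x : G)⁻¹)) * (b * x * (b : G)⁻¹ * (x : G)⁻¹) := by
                rw [h2]
            _ = (c * x * (c : G)⁻¹ * (x : G)⁻¹) * (b * x * (b : G)⁻¹ * (x : G)⁻¹) := by group
            _ = _ := by
                have h3 := hcent _ (hcomm c c.2 x x.2) _
                  (E.mul_mem (E.mul_mem (E.mul_mem b.2 x.2) (E.inv_mem b.2)) (E.inv_mem x.2))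
                exact h3 } : E →* (Sec A E →* A))
    (by
      intro b hb
      rw [Subgroup.mem_subgroupOf] at hb
      rw [MonoidHom.mem_ker]
      apply MonoidHom.ext
      intro w
      induction w using QuotientGroup.induction_on with
      | H x =>
        apply Subtype.ext
        change ((commHom A E hcent hcomm b x : A) : G) = 1
        rw [commHom_apply]
        have := hcent _ hb x x.2
        calc (b : G) * x * (b : G)⁻¹ * (x : G)⁻¹ = x * b * (b : G)⁻¹ * (x : G)⁻¹ := by rw [this]
          _ = 1 := by group)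

theorem pairing_mk_mk (hAE : A ≤ E) (hcent : ∀ a ∈ A, ∀ b ∈ E, a * b = b * a)
    (hcomm : ∀ b ∈ E, ∀ b' ∈ E, b * b' * b⁻¹ * b'⁻¹ ∈ A) (b b' : E) :
    ((pairing A E hAE hcent hcomm (QuotientGroup.mk b) (QuotientGroup.mk b') : A) : G)
      = b * b' * (b : G)⁻¹ * (b' : G)⁻¹ := rfl

end pairing

section bridge

open scoped IsMulCommutative

/-- **Bridge**: the section `E/A` as an abstract abelian group `W` with the commutator pairing
into `Z = A` and the conjugation action `Φ` of `G`. -/
theorem bridge [Finite G] (A E : Subgroup G) [hA : A.Normal] [hE : E.Normal]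
    (hAE : A ≤ E) (hcent : ∀ a ∈ A, ∀ b ∈ E, a * b = b * a)
    (hcomm : ∀ b ∈ E, ∀ b' ∈ E, b * b' * b⁻¹ * b'⁻¹ ∈ A)
    (hZ : ∀ b ∈ E, (∀ b' ∈ E, b * b' = b' * b) → b ∈ A) (hcyc : IsCyclic A) :
    ∃ (W : Type u) (_ : CommGroup W) (_ : Finite W) (Z : Type u) (_ : CommGroup Z) (_ : Finite Z)
      (_ : IsCyclic Z) (Φ : G →* MulAut W) (β : W →* W →* Z),
      Nat.card W = A.relIndex E ∧ (∀ w, β w w = 1) ∧ (∀ w, (∀ w', β w w' = 1) → w = 1) ∧
      (∀ g ∈ Subgroup.centralizer (A : Set G), ∀ w w', β (Φ g w) (Φ g w') = β w w') ∧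
      (∀ g : G, Φ g = 1 ↔ ∀ b ∈ E, g * b * g⁻¹ * b⁻¹ ∈ A) := by
  haveI : IsMulCommutative A := ⟨⟨fun a b => Subtype.ext (hcent a a.2 b (hAE b.2))⟩⟩
  letI instW : CommGroup (Sec A E) :=
    { (inferInstance : Group (Sec A E)) with
      mul_comm := by
        intro x y
        induction x using QuotientGroup.induction_on with
        | H b =>
          induction y using QuotientGroup.induction_on with
          | H c =>
            rw [← QuotientGroup.mk_mul, ← QuotientGroup.mk_mul, QuotientGroup.eq,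
              Subgroup.mem_subgroupOf]
            have h1 := hcomm _ (E.inv_mem c.2) _ (E.inv_mem b.2)
            have h2 : ((b * c)⁻¹ * (c * b) : E) = (c : G)⁻¹ * (b : G)⁻¹ * ((c : G)⁻¹)⁻¹ * ((b : G)⁻¹)⁻¹ := by
              simp only [Subgroup.coe_mul, Subgroup.coe_inv]
              group
            rw [h2]
            exact h1 }
  refine ⟨Sec A E, instW, inferInstance, A, inferInstance, inferInstance, hcyc, secAut A E,
    pairing A E hAE hcent hcomm, rfl, ?_, ?_, ?_, ?_⟩
  · intro w
    induction w using QuotientGroup.induction_on with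
    | H b =>
      apply Subtype.ext
      rw [pairing_mk_mk]
      simp
  · intro w hw
    induction w using QuotientGroup.induction_on with
    | H b =>
      rw [QuotientGroup.eq_one_iff, Subgroup.mem_subgroupOf]
      apply hZ _ b.2
      intro b' hb'
      have h1 := hw (QuotientGroup.mk (⟨b', hb'⟩ : E))
      have h2 := congrArg (fun a : A => (a : G)) h1
      simp only [pairing_mk_mk, Subgroup.coe_one] at h2
      have h3 : (b : G) * b' = ((b : G) * b' * (b : G)⁻¹ * b'⁻¹) * (b' * b) := by group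
      rw [h3, h2, one_mul]
  · intro g hg w w'
    induction w using QuotientGroup.induction_on with
    | H b =>
      induction w' using QuotientGroup.induction_on with
      | H b' =>
        rw [secAut_mk, secAut_mk]
        apply Subtype.ext
        rw [pairing_mk_mk, pairing_mk_mk, MulAut.conjNormal_apply, MulAut.conjNormal_apply]
        have h1 := hcomm b b.2 b' b'.2
        have h2 := (Subgroup.mem_centralizer_iff.1 hg) _ h1
        calc g * ↑b * g⁻¹ * (g * ↑b' * g⁻¹) * (g * ↑b * g⁻¹)⁻¹ * (g * ↑b' * g⁻¹)⁻¹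
            = g * ((b : G) * b' * (b : G)⁻¹ * (b' : G)⁻¹) * g⁻¹ := by group
          _ = ((b : G) * b' * (b : G)⁻¹ * (b' : G)⁻¹) * g * g⁻¹ := by rw [h2]
          _ = _ := by group
  · intro g
    exact secAut_eq_one_iff A E g

end bridge

end Cfsg.Agent.Helper24.Hup
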