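import Mathlib
import Cfsg.Agent.Helper24.HupField

/-!
# Huppert: abelian normal subgroups are cyclic of order dividing `q^m - 1`
-/

set_option autoImplicit false

namespace Cfsg.Agent.Helper24.Hup

universe u v

variable {q : ℕ} [Fact q.Prime] {V : Type u} [AddCommGroup V] [Module (ZMod q) V] [Finite V]
  [Nontrivial V] {G : Type v} [Group G] [Finite G] (ρ : G →* (V ≃ₗ[ZMod q] V))

theorem rEnd_injective (hρ : Function.Injective ρ) : Function.Injective (rEnd ρ) := by
  intro g h hgh
  apply hρ
  ext v
  have := congrArg (fun f : Module.End (ZMod q) V => f v) hgh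
  simpa [rEnd] using this

/-- cardinality of the field attached to a good subalgebra -/
theorem card_eq_of_range {L : Type*} [Field L] {K : Subalgebra (ZMod q) (Module.End (ZMod q) V)}
    (ι : L →+* Module.End (ZMod q) V) (hinj : Function.Injective ι)
    (hrange : Set.range ι = (K : Set (Module.End (ZMod q) V))) : Nat.card L = Nat.card K := by
  have h1 := Nat.card_range_of_injective hinj
  rw [← h1]
  exact Nat.card_congr (Equiv.setCongr hrange)

/-- (B4) -/
theorem isCyclic_of_good (hρ : Function.Injective ρ) (A : Subgroup G)
    (hK : Good ρ (spanAlg ρ A)) (m : ℕ) (hm : Nat.card (spanAlg ρ A) = q ^ m) :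
    IsCyclic A ∧ Nat.card A ∣ q ^ m - 1 := by
  classical
  obtain ⟨L, _, _, ι, hinj, hrange⟩ := hK.exists_field
  have hcardL : Nat.card L = q ^ m := by rw [card_eq_of_range ι hinj hrange, hm]
  have hmem : ∀ a : A, rEnd ρ (a : G) ∈ Set.range ι := by
    intro a
    rw [hrange]
    exact rEnd_mem_spanAlg ρ a.2
  choose f hf using hmem
  let f0 : A →* L :=
    { toFun := f
      map_one' := by
        apply hinj
        rw [hf, map_one]
        exact rEnd_one ρ
      map_mul' := by
        intro a b
        apply hinj
        rw [hf, map_mul, hf, hf]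
        exact rEnd_mul ρ _ _ }
  have hf0 : Function.Injective f0 := by
    intro a b hab
    have h1 : ι (f a) = ι (f b) := congrArg ι hab
    rw [hf, hf] at h1
    exact Subtype.ext (rEnd_injective ρ hρ h1)
  refine ⟨isCyclic_of_subgroup_isDomain f0 hf0, ?_⟩
  have hinj' : Function.Injective (MonoidHom.toHomUnits f0) := by
    intro a b hab
    apply hf0
    have := congrArg (fun u : Lˣ => (u : L)) hab
    simpa using this
  have h1 := Subgroup.card_dvd_of_injective _ hinj'
  haveI : Fintype L := Fintype.ofFinite L
  have h2 : Nat.card Lˣ = Nat.card L - 1 := by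
    rw [Nat.card_eq_fintype_card, Fintype.card_units, Nat.card_eq_fintype_card]
  rw [h2, hcardL] at h1
  exact h1

end Cfsg.Agent.Helper24.Hup
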