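import Mathlib
import Cfsg.Agent.Helper24.HupField
import Cfsg.Agent.Helper24.HupBridge
import Cfsg.Agent.Helper16.HupA1
import Cfsg.Agent.Lead.HupA

/-!
# Huppert: group-theoretic steps of the assembly
-/

set_option autoImplicit false

namespace Cfsg.Agent.Helper24.Hup


universe u v

section grp

variable {G : Type v} [Group G] [Finite G]

/-- a maximal abelian normal subgroup -/
theorem exists_max_abelian_normal :
    ∃ A : Subgroup G, A.Normal ∧ (∀ a ∈ A, ∀ b ∈ A, a * b = b * a) ∧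
      ∀ B : Subgroup G, B.Normal → (∀ a ∈ B, ∀ b ∈ B, a * b = b * a) → A ≤ B → B ≤ A := by
  classical
  have hex : ∃ n : ℕ, ∃ A : Subgroup G, A.Normal ∧ (∀ a ∈ A, ∀ b ∈ A, a * b = b * a) ∧
      Nat.card G - Nat.card A = n :=
    ⟨_, ⊥, inferInstance, by
      intro a ha b hb
      rw [Subgroup.mem_bot] at ha hb
      rw [ha, hb], rfl⟩
  obtain ⟨A, hAn, hAab, hAcard⟩ := Nat.find_spec hex
  refine ⟨A, hAn, hAab, fun B hBn hBab hAB => ?_⟩
  have h1 : Nat.find hex ≤ Nat.card G - Nat.card B := Nat.find_min' hex ⟨B, hBn, hBab, rfl⟩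
  rw [← hAcard] at h1
  have h2 : Nat.card A ≤ Nat.card B := Subgroup.card_le_of_le hAB
  have h3 : Nat.card B ≤ Nat.card G := Subgroup.card_le_card_group B
  have h4 : Nat.card B ≤ Nat.card A := by omega
  have h5 : A = B := Subgroup.eq_of_le_of_card_ge hAB h4
  rw [h5]

/-- order decomposition along `A ≤ E ≤ C` -/
theorem card_decomp (A E C : Subgroup G) (hAE : A ≤ E) (hEC : E ≤ C) :
    Nat.card G = C.index * (E.relIndex C * (A.relIndex E * Nat.card A)) := by
  have h1 := Subgroup.relIndex_mul_index hAE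
  have h2 := Subgroup.relIndex_mul_index hEC
  have h3 := Subgroup.index_mul_card A
  rw [← h3, ← h1, ← h2]
  ring

theorem card_decomp_C (A E C : Subgroup G) (hAE : A ≤ E) (hEC : E ≤ C) :
    Nat.card C = E.relIndex C * (A.relIndex E * Nat.card A) := by
  have h1 := card_decomp A E C hAE hEC
  have h2 := Subgroup.index_mul_card C
  have h3 : C.index ≠ 0 := Subgroup.index_ne_zero_of_finite
  rw [← h2] at h1
  exact Nat.eq_of_mul_eq_mul_left (Nat.pos_of_ne_zero h3) h1

theorem card_decomp_E (A E : Subgroup G) (hAE : A ≤ E) :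
    Nat.card E = A.relIndex E * Nat.card A := by
  have h1 := Subgroup.relIndex_mul_index hAE
  have h2 := Subgroup.index_mul_card A
  have h3 := Subgroup.index_mul_card E
  have h4 : E.index ≠ 0 := Subgroup.index_ne_zero_of_finite
  have : E.index * Nat.card E = E.index * (A.relIndex E * Nat.card A) := by
    rw [h3, ← h2, ← h1]; ring
  exact Nat.eq_of_mul_eq_mul_left (Nat.pos_of_ne_zero h4) this

/-- **prime step**: a prime `p` dividing `|C|` but not `|E|` acts on `E/A`. -/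
theorem prime_step (A E : Subgroup G) [hA : A.Normal] [hE : E.Normal]
    (hAE : A ≤ E) (hEC : E ≤ Subgroup.centralizer (A : Set G))
    (hcomm : ∀ b ∈ E, ∀ b' ∈ E, b * b' * b⁻¹ * b'⁻¹ ∈ A)
    (hZ : ∀ b ∈ E, (∀ b' ∈ E, b * b' = b' * b) → b ∈ A) (hcyc : IsCyclic A)
    (hCE : ∀ c ∈ Subgroup.centralizer (A : Set G), (∀ b ∈ E, c * b * c⁻¹ * b⁻¹ ∈ A) → c ∈ E)
    (p : ℕ) (hp : p.Prime) (hpC : p ∣ Nat.card (Subgroup.centralizer (A : Set G)))
    (hpE : ¬ p ∣ Nat.card E) :
    ∃ u : ℕ, IsPrimePow u ∧ u ^ 2 ∣ A.relIndex E ∧ (p < u ∨ p ∣ u + 1) := by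
  haveI := Fact.mk hp
  have hcent : ∀ a ∈ A, ∀ b ∈ E, a * b = b * a := by
    intro a ha b hb
    exact ((Subgroup.mem_centralizer_iff.1 (hEC hb)) a ha)
  obtain ⟨W, _, _, Z, _, _, _, Φ, β, hcardW, halt, hnd, hinv, hker⟩ :=
    bridge A E hAE hcent hcomm hZ hcyc
  obtain ⟨x, hx⟩ := exists_prime_orderOf_dvd_card' p hpC
  have hxC : (x : G) ∈ Subgroup.centralizer (A : Set G) := x.2
  have hxord : orderOf (x : G) = p := by rw [Subgroup.orderOf_coe, hx]
  have hxE : (x : G) ∉ E := by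
    intro hxE
    apply hpE
    have := orderOf_dvd_natCard (⟨(x : G), hxE⟩ : E)
    rwa [← Subgroup.orderOf_coe, hxord] at this
  have hφ1 : Φ (x : G) ≠ 1 := by
    intro h
    exact hxE (hCE _ hxC ((hker _).1 h))
  have hφp : Φ (x : G) ^ p = 1 := by
    rw [← map_pow, ← hxord, pow_orderOf_eq_one, map_one]
  have hcop : ¬ p ∣ Nat.card W := by
    rw [hcardW]
    intro h
    apply hpE
    rw [card_decomp_E A E hAE]
    exact Dvd.dvd.mul_right h _
  obtain ⟨u, hu1, hu2, hu3⟩ := Cfsg.Agent.Helper16.HupA1.prime_bound_abstract β halt hnd (Φ (x : G))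
    (hinv _ hxC) p hp hφp hφ1 hcop
  exact ⟨u, hu1, by rwa [hcardW] at hu2, hu3⟩

/-- **Fermat step** -/
theorem fermat_step (A E : Subgroup G) [hA : A.Normal] [hE : E.Normal]
    (hAE : A ≤ E) (hEC : E ≤ Subgroup.centralizer (A : Set G))
    (hcomm : ∀ b ∈ E, ∀ b' ∈ E, b * b' * b⁻¹ * b'⁻¹ ∈ A)
    (hZ : ∀ b ∈ E, (∀ b' ∈ E, b * b' = b' * b) → b ∈ A) (hcyc : IsCyclic A)
    (hCE : ∀ c ∈ Subgroup.centralizer (A : Set G), (∀ b ∈ E, c * b * c⁻¹ * b⁻¹ ∈ A) → c ∈ E)
    (hCtop : Subgroup.centralizer (A : Set G) = ⊤)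
    (k : ℕ) (he2 : A.relIndex E = 2 ^ (2 * k)) (p : ℕ) (hp : p.Prime) (hpk : p = 2 ^ k + 1)
    (hpE : ¬ p ∣ Nat.card E) (hp2 : p ^ 2 ∣ Nat.card G) : False := by
  haveI := Fact.mk hp
  have hcent : ∀ a ∈ A, ∀ b ∈ E, a * b = b * a := by
    intro a ha b hb
    exact ((Subgroup.mem_centralizer_iff.1 (hEC hb)) a ha)
  obtain ⟨W, _, _, Z, _, _, _, Φ, β, hcardW, halt, hnd, hinv, hker⟩ :=
    bridge A E hAE hcent hcomm hZ hcyc
  obtain ⟨P⟩ : Nonempty (Sylow p G) := inferInstance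
  have hPcard := P.card_eq_multiplicity
  have h2 : 2 ≤ (Nat.card G).factorization p := by
    have hG0 : Nat.card G ≠ 0 := Nat.card_pos.ne'
    exact (hp.pow_dvd_iff_le_factorization hG0).1 hp2
  -- Φ is injective on P
  set f : (P : Subgroup G) →* MulAut W := Φ.comp (P : Subgroup G).subtype with hf
  have hinj : Function.Injective f := by
    rw [injective_iff_map_eq_one]
    intro y hy
    have hy : Φ (y : G) = 1 := hy
    have hyE : (y : G) ∈ E := by
      apply hCE _ (by rw [hCtop]; exact Subgroup.mem_top _)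
      exact (hker _).1 hy
    -- y is a p-element of E, whose order is prime to p
    obtain ⟨j, hj⟩ := (P.2 y)
    have h3 : orderOf (y : G) ∣ p ^ j := by
      apply orderOf_dvd_of_pow_eq_one
      have := congrArg (fun t : (P : Subgroup G) => (t : G)) hj
      simpa using this
    have h4 : orderOf (y : G) ∣ Nat.card E := by
      have := orderOf_dvd_natCard (⟨(y : G), hyE⟩ : E)
      rwa [← Subgroup.orderOf_coe] at this
    have h5 : Nat.Coprime (p ^ j) (Nat.card E) :=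
      Nat.Coprime.pow_left _ ((Nat.Prime.coprime_iff_not_dvd hp).2 hpE)
    have h6 : orderOf (y : G) = 1 := Nat.eq_one_of_dvd_coprimes h5 h3 h4
    exact Subtype.ext (orderOf_eq_one_iff.1 h6)
  have hPgrp : IsPGroup p f.range := by
    have := P.2
    exact IsPGroup.of_surjective this _ (MonoidHom.rangeRestrict_surjective _)
  have hdvd := Cfsg.Agent.Lead.HupA.fermat_bound_abstract k (by rw [hcardW, he2]) p hp hpk _ hPgrp
  have hcardR : Nat.card f.range = Nat.card (P : Subgroup G) :=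
    (Nat.card_congr (MonoidHom.ofInjective hinj).toEquiv).symm
  rw [hcardR, hPcard] at hdvd
  have h7 : p ^ 2 ∣ p ^ (Nat.card G).factorization p := pow_dvd_pow p h2
  have h8 := h7.trans hdvd
  have h9 : p ^ 2 ≤ p := Nat.le_of_dvd hp.pos h8
  have := hp.one_lt
  nlinarith

end grp

end Cfsg.Agent.Helper24.Hup
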