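import Mathlib
import Cfsg.Agent.Helper24.HupField
import Cfsg.Agent.Helper24.HupCyclic
import Cfsg.Agent.Helper24.HupBridge
import Cfsg.Agent.Helper24.HupMainA

/-!
# Huppert: more steps of the assembly
-/

set_option autoImplicit false

namespace Cfsg.Agent.Helper24.Hup

universe u v

section grp

variable {G : Type v} [Group G] [Finite G]

/-- automorphisms of a finite group embed into the permutations of the non-identity elements -/
theorem card_mulAut_dvd_factorial (W : Type*) [Group W] [Finite W] :
    Nat.card (MulAut W) ∣ (Nat.card W - 1).factorial := by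
  classical
  haveI : Fintype W := Fintype.ofFinite W
  let X := {w : W // w ≠ 1}
  let f : MulAut W →* Equiv.Perm X :=
    { toFun := fun φ =>
        { toFun := fun x => ⟨φ x.1, fun h => x.2 (by
            have := congrArg φ.symm h
            simpa using this)⟩
          invFun := fun x => ⟨φ.symm x.1, fun h => x.2 (by
            have := congrArg φ h
            simpa using this)⟩
          left_inv := fun x => by simp
          right_inv := fun x => by simp }
      map_one' := by ext x; rfl
      map_mul' := by intro a b; ext x; rfl }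
  have hf : Function.Injective f := by
    intro a b hab
    apply MulEquiv.ext
    intro w
    by_cases hw : w = 1
    · rw [hw, map_one, map_one]
    · have := congrArg (fun σ : Equiv.Perm X => ((σ ⟨w, hw⟩ : X) : W)) hab
      exact this
  have h1 := Subgroup.card_dvd_of_injective f hf
  have h2 : Nat.card (Equiv.Perm X) = (Nat.card W - 1).factorial := by
    rw [Nat.card_eq_fintype_card, Fintype.card_perm, Nat.card_eq_fintype_card]
    congr 1
    rw [Fintype.card_subtype_compl]
    congr 1
  rw [h2] at h1
  exact h1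

/-- `|C : E|` divides `(|E/A| - 1)!` -/
theorem relIndex_dvd_factorial (A E : Subgroup G) [hA : A.Normal] [hE : E.Normal]
    (hAE : A ≤ E) (hEC : E ≤ Subgroup.centralizer (A : Set G))
    (hcomm : ∀ b ∈ E, ∀ b' ∈ E, b * b' * b⁻¹ * b'⁻¹ ∈ A)
    (hZ : ∀ b ∈ E, (∀ b' ∈ E, b * b' = b' * b) → b ∈ A) (hcyc : IsCyclic A)
    (hCE : ∀ c ∈ Subgroup.centralizer (A : Set G), (∀ b ∈ E, c * b * c⁻¹ * b⁻¹ ∈ A) → c ∈ E) :
    E.relIndex (Subgroup.centralizer (A : Set G)) ∣ (A.relIndex E - 1).factorial := by
  have hcent : ∀ a ∈ A, ∀ b ∈ E, a * b = b * a := by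
    intro a ha b hb
    exact ((Subgroup.mem_centralizer_iff.1 (hEC hb)) a ha)
  obtain ⟨W, _, _, Z, _, _, _, Φ, β, hcardW, halt, hnd, hinv, hker⟩ :=
    bridge A E hAE hcent hcomm hZ hcyc
  set C := Subgroup.centralizer (A : Set G) with hC
  set f : C →* MulAut W := Φ.comp C.subtype with hf
  have hkerf : f.ker = E.subgroupOf C := by
    ext c
    rw [MonoidHom.mem_ker, Subgroup.mem_subgroupOf]
    change Φ (c : G) = 1 ↔ _
    rw [hker]
    constructor
    · intro h; exact hCE _ c.2 h
    · intro h b hb
      have := hcomm _ h b hb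
      exact this
  have h1 : E.relIndex C = Nat.card f.range := by
    rw [Subgroup.relIndex, ← hkerf, Subgroup.index_ker]
  rw [h1, ← hcardW]
  exact (Subgroup.card_subgroup_dvd_card _).trans (card_mulAut_dvd_factorial W)

/-- if `E = A` then `C = A` -/
theorem relIndex_eq_one_of_relIndex_eq_one (A E : Subgroup G)
    (hCE : ∀ c ∈ Subgroup.centralizer (A : Set G), (∀ b ∈ E, c * b * c⁻¹ * b⁻¹ ∈ A) → c ∈ E)
    (h1 : A.relIndex E = 1) : E.relIndex (Subgroup.centralizer (A : Set G)) = 1 := by
  rw [Subgroup.relIndex_eq_one] at h1 ⊢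
  intro c hc
  apply hCE c hc
  intro b hb
  have hbA := h1 hb
  have := (Subgroup.mem_centralizer_iff.1 hc) b hbA
  have h2 : c * b * c⁻¹ * b⁻¹ = 1 := by
    rw [← this]; group
  rw [h2]; exact A.one_mem

/-- `E/A` is not of prime order -/
theorem not_prime_relIndex (A E : Subgroup G) [hA : A.Normal]
    (hEC : E ≤ Subgroup.centralizer (A : Set G))
    (hZ : ∀ b ∈ E, (∀ b' ∈ E, b * b' = b' * b) → b ∈ A) : ¬ (A.relIndex E).Prime := by
  intro hprime
  haveI := Fact.mk hprime
  have hcyc : IsCyclic (↥E ⧸ A.subgroupOf E) := isCyclic_of_prime_card (p := A.relIndex E) rfl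
  have hker : (QuotientGroup.mk' (A.subgroupOf E)).ker ≤ Subgroup.center E := by
    rw [QuotientGroup.ker_mk']
    intro x hx
    rw [Subgroup.mem_subgroupOf] at hx
    rw [Subgroup.mem_center_iff]
    intro y
    apply Subtype.ext
    simp only [Subgroup.coe_mul]
    exact ((Subgroup.mem_centralizer_iff.1 (hEC y.2)) _ hx).symm
  have hcommE : ∀ a b : E, a * b = b * a := by
    have := MonoidHom.isMulCommutative_of_isCyclic_of_ker_le_center
      (QuotientGroup.mk' (A.subgroupOf E)) hker
    exact fun a b => this.is_comm.comm a b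
  have hle : E ≤ A := by
    intro b hb
    apply hZ b hb
    intro b' hb'
    have := hcommE ⟨b, hb⟩ ⟨b', hb'⟩
    exact congrArg Subtype.val this
  have h1 : A.relIndex E = 1 := Subgroup.relIndex_eq_one.2 hle
  rw [h1] at hprime
  exact Nat.not_prime_one hprime

end grp

section lin

variable {q : ℕ} [Fact q.Prime] {V : Type u} [AddCommGroup V] [Module (ZMod q) V] [Finite V]
  [Nontrivial V] {G : Type v} [Group G] [Finite G] (ρ : G →* (V ≃ₗ[ZMod q] V))

theorem rEnd_pow (g : G) (k : ℕ) : rEnd ρ (g ^ k) = rEnd ρ g ^ k := by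
  induction k with
  | zero => rw [pow_zero, pow_zero, rEnd_one]
  | succ k ih => rw [pow_succ, pow_succ, rEnd_mul, ih]

/-- transitivity: `|V| - 1` divides `|G|` -/
theorem card_sub_one_dvd_of_trans (htrans : Trans ρ) : Nat.card V - 1 ∣ Nat.card G := by
  classical
  obtain ⟨v0, hv0⟩ := exists_ne (0 : V)
  letI : MulAction G V := MulAction.compHom V ρ
  have hsmul : ∀ (g : G) (v : V), g • v = ρ g v := fun g v => rfl
  have h1 := MulAction.index_stabilizer G v0
  have h2 : MulAction.orbit G v0 = {w : V | w ≠ 0} := by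
    ext w
    constructor
    · rintro ⟨g, rfl⟩
      change ρ g v0 ≠ 0
      intro h
      apply hv0
      have := congrArg (ρ g).symm h
      simpa using this
    · intro hw
      obtain ⟨g, hg⟩ := htrans v0 w hv0 hw
      exact ⟨g, hg⟩
  have h3 : ({w : V | w ≠ 0} : Set V).ncard = Nat.card V - 1 := by
    have : ({w : V | w ≠ 0} : Set V) = ({0} : Set V)ᶜ := by ext w; simp
    rw [this, Set.ncard_compl, Set.ncard_singleton]
  rw [h2, h3] at h1
  rw [← h1]
  exact Subgroup.index_dvd_card _

/-- a good subalgebra has at most `|V|` elements -/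
theorem card_le_of_good {K : Subalgebra (ZMod q) (Module.End (ZMod q) V)} (hK : Good ρ K) :
    Nat.card K ≤ Nat.card V := by
  obtain ⟨v0, hv0⟩ := exists_ne (0 : V)
  apply Nat.card_le_card_of_injective (fun k : K => (k : Module.End (ZMod q) V) v0)
  intro a b hab
  by_contra hne
  have h1 : ((a - b : K) : Module.End (ZMod q) V) ≠ 0 := by
    intro h
    apply hne
    have : a - b = 0 := Subtype.ext h
    exact sub_eq_zero.1 this
  have h2 := hK.inj _ (a - b).2 h1
  have h3 : ((a - b : K) : Module.End (ZMod q) V) v0 = 0 := by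
    have : (a : Module.End (ZMod q) V) v0 = (b : Module.End (ZMod q) V) v0 := hab
    simp [this]
  exact hv0 (h2 (h3.trans (map_zero _).symm))

end lin

end Cfsg.Agent.Helper24.Hup
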