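import Mathlib
import Cfsg.Agent.Helper24.HupField
import Cfsg.Agent.Helper24.HupCyclic
import Cfsg.Agent.Helper24.HupBridge
import Cfsg.Agent.Helper24.HupMainA
import Cfsg.Agent.Helper24.HupMainB
import Cfsg.Agent.Helper24.HupArith2
import Cfsg.Agent.Helper1.HupC1
import Cfsg.Agent.Helper25.HupB3
import Cfsg.Agent.Helper25.HupB5

/-!
# Huppert: the core theorem
-/

set_option autoImplicit false

namespace Cfsg.Agent.Helper24.Hup


universe u v

variable {q : ℕ} [Fact q.Prime] {V : Type u} [AddCommGroup V] [Module (ZMod q) V] [Finite V]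
  [Nontrivial V] {G : Type v} [Group G] [Finite G] (ρ : G →* (V ≃ₗ[ZMod q] V))

theorem card_subalgebra_pow (K : Subalgebra (ZMod q) (Module.End (ZMod q) V)) :
    ∃ j : ℕ, Nat.card K = q ^ j :=
  ⟨_, (FiniteField.pow_finrank_eq_natCard q K).symm⟩

/-- a normal abelian subgroup of order divisible by a primitive prime divisor gives a big field -/
theorem exists_good_of_prime_dvd_card (hρ : Function.Injective ρ) (htrans : Trans ρ)
    (A : Subgroup G) [hA : A.Normal] (hAab : ∀ a ∈ A, ∀ b ∈ A, a * b = b * a) (n : ℕ)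
    (hn : Nat.card V = q ^ n) (p : ℕ) (hp : p.Prime) (hpA : p ∣ Nat.card A)
    (hprim : ∀ i : ℕ, 1 ≤ i → i < n → ¬ p ∣ q ^ i - 1) :
    ∃ K, Good ρ K ∧ Nat.card K = Nat.card V := by
  classical
  haveI := Fact.mk hp
  have hq2 : 2 ≤ q := (Fact.out : q.Prime).two_le
  let P0 : Subgroup G :=
    { carrier := {a | a ∈ A ∧ a ^ p = 1}
      one_mem' := ⟨A.one_mem, one_pow _⟩
      mul_mem' := by
        rintro a b ⟨ha, hap⟩ ⟨hb, hbp⟩
        refine ⟨A.mul_mem ha hb, ?_⟩
        rw [(show Commute a b from hAab a ha b hb).mul_pow, hap, hbp, one_mul]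
      inv_mem' := by
        rintro a ⟨ha, hap⟩
        exact ⟨A.inv_mem ha, by rw [inv_pow, hap, inv_one]⟩ }
  haveI hP0n : P0.Normal := by
    refine ⟨?_⟩
    rintro a ⟨ha, hap⟩ g
    refine ⟨hA.conj_mem a ha g, ?_⟩
    rw [conj_pow, hap, mul_one, mul_inv_cancel]
  have hP0ab : ∀ a ∈ P0, ∀ b ∈ P0, a * b = b * a := fun a ha b hb => hAab a ha.1 b hb.1
  obtain ⟨x0, hx0⟩ := exists_prime_orderOf_dvd_card' p hpA
  have hx0ord : orderOf (x0 : G) = p := by rw [Subgroup.orderOf_coe, hx0]
  have hx0P : (x0 : G) ∈ P0 := ⟨x0.2, by rw [← hx0ord]; exact pow_orderOf_eq_one _⟩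
  have hK := good_spanAlg ρ htrans P0 hP0ab
  refine ⟨spanAlg ρ P0, hK, ?_⟩
  obtain ⟨j, hj⟩ := card_subalgebra_pow (spanAlg ρ P0)
  obtain ⟨L, _, _, ι, hinj, hrange⟩ := hK.exists_field
  have hcardL : Nat.card L = q ^ j := by rw [card_eq_of_range ι hinj hrange, hj]
  have hmem : rEnd ρ (x0 : G) ∈ Set.range ι := by
    rw [hrange]; exact rEnd_mem_spanAlg ρ hx0P
  obtain ⟨l0, hl0⟩ := hmem
  have hl0p : l0 ^ p = 1 := by
    apply hinj
    rw [map_pow, hl0, map_one]
    rw [← rEnd_pow, ← hx0ord, pow_orderOf_eq_one, rEnd_one]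
  have hl01 : l0 ≠ 1 := by
    intro h
    rw [h, map_one] at hl0
    have h1 : rEnd ρ (1 : G) = rEnd ρ (x0 : G) := by rw [rEnd_one]; exact hl0
    have h2 := rEnd_injective ρ hρ h1
    have h3 : orderOf (x0 : G) = 1 := by rw [← h2]; exact orderOf_one
    rw [hx0ord] at h3
    exact hp.one_lt.ne' h3
  have hl0ord : orderOf l0 = p := orderOf_eq_prime hl0p hl01
  have hl00 : l0 ≠ 0 := by
    intro h
    rw [h, zero_pow hp.ne_zero] at hl0p
    exact zero_ne_one hl0p
  haveI : Fintype L := Fintype.ofFinite L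
  have h1 : l0 ^ (Fintype.card L - 1) = 1 := FiniteField.pow_card_sub_one_eq_one l0 hl00
  have h2 : p ∣ Fintype.card L - 1 := by
    rw [← hl0ord]; exact orderOf_dvd_of_pow_eq_one h1
  rw [← Nat.card_eq_fintype_card, hcardL] at h2
  have hj1 : 1 ≤ j := by
    rcases Nat.eq_zero_or_pos j with h | h
    · exfalso
      rw [h, pow_zero] at hcardL
      have := Fintype.one_lt_card (α := L)
      rw [← Nat.card_eq_fintype_card] at this
      omega
    · exact h
  have hjn : n ≤ j := by
    by_contra hlt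
    push Not at hlt
    exact hprim j hj1 hlt h2
  have hle := card_le_of_good ρ hK
  rw [hj, hn] at hle
  have hjn' : j ≤ n := (Nat.pow_le_pow_iff_right hq2).1 hle
  rw [hj, hn, le_antisymm hjn' hjn]

/-- **Huppert, core form**: either some `G`-invariant subfield of `End(V)` has `|V|` elements,
or `|V|` is exceptional. -/
theorem huppert_core (hsol : Group.IsSolvable G) (hρ : Function.Injective ρ) (htrans : Trans ρ) :
    (∃ K, Good ρ K ∧ Nat.card K = Nat.card V) ∨
      Nat.card V ∈ ({9, 25, 49, 121, 529, 81} : Set ℕ) := by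
  classical
  have hq : q.Prime := Fact.out
  have hq2 : 2 ≤ q := hq.two_le
  -- n
  have hn : Nat.card V = q ^ Module.finrank (ZMod q) V :=
    (FiniteField.pow_finrank_eq_natCard q V).symm
  set n := Module.finrank (ZMod q) V with hndef
  -- A
  obtain ⟨A, hAn, hAab, hAmax⟩ := exists_max_abelian_normal (G := G)
  haveI := hAn
  have hK := good_spanAlg ρ htrans A hAab
  obtain ⟨m, hm⟩ := card_subalgebra_pow (spanAlg ρ A)
  obtain ⟨hAcyc, hAdvd⟩ := isCyclic_of_good ρ hρ A hK m hm
  -- E
  obtain ⟨E, hEn, hAE, hEC, hcomm, hZ, hCE, hprimes⟩ := Cfsg.Agent.Helper1.HupC1.exists_E hsol A hAcyc hAmax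
  haveI := hEn
  obtain ⟨d, hnm, he2⟩ := Cfsg.Agent.Helper25.HupB5.relIndex_le_sq ρ hρ A E hK hAE hEC hcomm hZ m n hm hn
  have hiC := Cfsg.Agent.Helper25.HupB3.index_centralizer_dvd ρ hρ A hK m hm
  have htr := card_sub_one_dvd_of_trans ρ htrans
  rw [hn] at htr
  -- m ≥ 1
  have hm1 : 1 ≤ m := by
    rcases Nat.eq_zero_or_pos m with h | h
    · exfalso
      rw [h, pow_zero] at hm
      have h0 : (0 : spanAlg ρ A) ≠ 1 := by
        intro h01
        have h1 : (0 : Module.End (ZMod q) V) = 1 := congrArg Subtype.val h01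
        obtain ⟨v, hv⟩ := exists_ne (0 : V)
        have := congrArg (fun f : Module.End (ZMod q) V => f v) h1
        simp at this
        exact hv this.symm
      have := (Nat.card_eq_one_iff_unique.1 hm).1
      exact h0 (Subsingleton.elim _ _)
    · exact h
  have hmle : m ≤ n := by
    have := card_le_of_good ρ hK
    rw [hm, hn] at this
    exact (Nat.pow_le_pow_iff_right hq2).1 this
  rcases Nat.lt_or_ge m n with hmn | hmn
  swap
  · left
    exact ⟨spanAlg ρ A, hK, by rw [hm, hn, le_antisymm hmle hmn]⟩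
  -- the numbers
  set C := Subgroup.centralizer (A : Set G) with hC
  have hdec := card_decomp A E C hAE hEC
  have hdecC := card_decomp_C A E C hAE hEC
  have hdecE := card_decomp_E A E hAE
  have he2pos : 0 < A.relIndex E := by
    apply Nat.pos_of_ne_zero
    have : (A.subgroupOf E).index ≠ 0 := Subgroup.index_ne_zero_of_finite
    exact this
  have hNpos : 0 < Nat.card G := Nat.card_pos
  have key := arith_core q n m d (A.relIndex E) (Nat.card A) (E.relIndex C) C.index (Nat.card G)
    hq hnm hm1 hmn he2 he2pos hAdvd hiC hdec hNpos htr hprimes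
    (relIndex_eq_one_of_relIndex_eq_one A E hCE)
    (not_prime_relIndex A E hEC hZ)
    (relIndex_dvd_factorial A E hAE hEC hcomm hZ hAcyc hCE)
    (by
      intro p hp hpC hpE
      rw [← hdecC] at hpC
      rw [← hdecE] at hpE
      exact prime_step A E hAE hEC hcomm hZ hAcyc hCE p hp hpC hpE)
    (by
      intro k p hiC1 he2k hp hpk hpE hp2
      rw [← hdecE] at hpE
      exact fermat_step A E hAE hEC hcomm hZ hAcyc hCE (Subgroup.index_eq_one.1 hiC1) k he2k p hp
        hpk hpE hp2)
  rcases key with ⟨p, hp, hpA, hprim⟩ | hlist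
  · left
    exact exists_good_of_prime_dvd_card ρ hρ htrans A hAab n hn p hp hpA hprim
  · right
    rw [hn]; exact hlist

end Cfsg.Agent.Helper24.Hup
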