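import Mathlib
import Cfsg.Prelude.Def_Solvable
import Cfsg.Agent.Helper4.McLDefs

set_option autoImplicit false

/-! S5075, piece PGRP: two non-opposite transvections generate a `p`-group (`p` odd). -/

namespace Cfsg.Agent.S5075P

variable {p : ℕ} [Fact p.Prime] {V : Type*} [AddCommGroup V] [Module (ZMod p) V]
variable {G : Subgroup (V ≃ₗ[ZMod p] V)}

/-- the stabiliser of the flag `0 ≤ U₁ ≤ U₂ ≤ V` acting trivially on the factors -/
def PGRPflag (U₁ U₂ : Submodule (ZMod p) V) (hU : U₁ ≤ U₂) : Subgroup (V ≃ₗ[ZMod p] V) where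
  carrier := {g | (∀ x, g x - x ∈ U₂) ∧ (∀ x ∈ U₂, g x - x ∈ U₁) ∧ (∀ x ∈ U₁, g x = x)}
  mul_mem' := by
    rintro g h ⟨hg1, hg2, hg3⟩ ⟨hh1, hh2, hh3⟩
    refine ⟨?_, ?_, ?_⟩
    · intro x
      have : (g * h) x - x = (g (h x) - h x) + (h x - x) := by
        rw [LinearEquiv.mul_apply]; abel
      rw [this]
      exact U₂.add_mem (hg1 _) (hh1 _)
    · intro x hx
      have hhx : h x ∈ U₂ := by
        have := U₂.add_mem (hU (hh2 x hx)) hx
        rwa [sub_add_cancel] at this
      have : (g * h) x - x = (g (h x) - h x) + (h x - x) := by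
        rw [LinearEquiv.mul_apply]; abel
      rw [this]
      exact U₁.add_mem (hg2 _ hhx) (hh2 x hx)
    · intro x hx
      rw [LinearEquiv.mul_apply, hh3 x hx, hg3 x hx]
  one_mem' := by
    refine ⟨?_, ?_, ?_⟩
    · intro x; simp
    · intro x _; simp
    · intro x _; rfl
  inv_mem' := by
    rintro g ⟨hg1, hg2, hg3⟩
    have e : ∀ x, g (g⁻¹ x) = x := by
      intro x
      rw [← LinearEquiv.mul_apply, mul_inv_cancel]; rfl
    have e2 : ∀ x, g⁻¹ x - x = -(g (g⁻¹ x) - g⁻¹ x) := by
      intro x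
      rw [e x]; abel
    refine ⟨?_, ?_, ?_⟩
    · intro x
      rw [e2 x]
      exact U₂.neg_mem (hg1 _)
    · intro x hx
      have hy : g⁻¹ x ∈ U₂ := by
        have h1 := hg1 (g⁻¹ x)
        rw [e x] at h1
        have := U₂.sub_mem hx h1
        rwa [sub_sub_cancel] at this
      rw [e2 x]
      exact U₁.neg_mem (hg2 _ hy)
    · intro x hx
      have h1 := hg3 x hx
      have : g⁻¹ (g x) = x := by
        rw [← LinearEquiv.mul_apply, inv_mul_cancel]; rfl
      rw [h1] at this
      exact this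

theorem PGRPpow_eq_one (hp : p ≠ 2) (U₁ U₂ : Submodule (ZMod p) V) (hU : U₁ ≤ U₂)
    (g : V ≃ₗ[ZMod p] V) (hg : g ∈ PGRPflag U₁ U₂ hU) : g ^ p = 1 := by
  obtain ⟨hg1, hg2, hg3⟩ := hg
  have hpp : p.Prime := Fact.out
  have hp3 : 3 ≤ p := by
    have := hpp.two_le
    omega
  rcases subsingleton_or_nontrivial V with hs | hn
  · apply LinearEquiv.ext
    intro x
    exact Subsingleton.elim _ _
  · haveI : CharP (Module.End (ZMod p) V) p :=
      charP_of_injective_algebraMap (algebraMap (ZMod p) (Module.End (ZMod p) V)).injective p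
    obtain ⟨n, hn⟩ : ∃ n : Module.End (ZMod p) V, n = (g : V →ₗ[ZMod p] V) - 1 := ⟨_, rfl⟩
    have hnx : ∀ x, n x = g x - x := by
      intro x
      rw [hn]
      rfl
    have hn3 : n ^ 3 = 0 := by
      apply LinearMap.ext
      intro x
      have h1 : (n ^ 3) x = n (n (n x)) := by
        rw [pow_succ, pow_succ, pow_one, Module.End.mul_apply, Module.End.mul_apply]
      rw [h1, LinearMap.zero_apply]
      have h2 : n x ∈ U₂ := by rw [hnx]; exact hg1 x
      have h3 : n (n x) ∈ U₁ := by rw [hnx (n x)]; exact hg2 _ h2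
      rw [hnx (n (n x)), hg3 _ h3, sub_self]
    have hnp : n ^ p = 0 := pow_eq_zero_of_le hp3 hn3
    have hgn : ((g : V →ₗ[ZMod p] V) : Module.End (ZMod p) V) = n + 1 := by
      rw [hn, sub_add_cancel]
    have hpow : ((g : V →ₗ[ZMod p] V) : Module.End (ZMod p) V) ^ p = 1 := by
      rw [hgn, add_pow_char_of_commute p (Commute.one_right n), hnp, one_pow, zero_add]
    have h4 : LinearEquiv.automorphismGroup.toLinearMapMonoidHom (g ^ p) =
        LinearEquiv.automorphismGroup.toLinearMapMonoidHom (1 : V ≃ₗ[ZMod p] V) := by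
      rw [map_pow, map_one]
      exact hpow
    apply LinearEquiv.ext
    intro x
    exact LinearMap.congr_fun h4 x

theorem PGRPaux (hp : p ≠ 2) {v w : V} {φ ψ : Module.Dual (ZMod p) V}
    (hφ : φ v = 0) (hψ : ψ w = 0) (h : φ w = 0) :
    IsPGroup p ↥(Subgroup.closure ({tv v φ, tv w ψ} : Set (V ≃ₗ[ZMod p] V))) := by
  have hU : Submodule.span (ZMod p) ({w} : Set V) ≤ Submodule.span (ZMod p) ({v, w} : Set V) :=
    Submodule.span_mono (by intro x hx; rw [Set.mem_singleton_iff] at hx; rw [hx]; simp)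
  have hvU : v ∈ Submodule.span (ZMod p) ({v, w} : Set V) := Submodule.subset_span (by simp)
  have hwU : w ∈ Submodule.span (ZMod p) ({w} : Set V) := Submodule.subset_span (by simp)
  have hφU : ∀ x ∈ Submodule.span (ZMod p) ({v, w} : Set V), φ x = 0 := by
    intro x hx
    rw [Submodule.mem_span_pair] at hx
    obtain ⟨a, b, rfl⟩ := hx
    rw [map_add, map_smul, map_smul, hφ, h, smul_zero, smul_zero, add_zero]
  have hψU : ∀ x ∈ Submodule.span (ZMod p) ({w} : Set V), ψ x = 0 := by
    intro x hx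
    rw [Submodule.mem_span_singleton] at hx
    obtain ⟨a, rfl⟩ := hx
    rw [map_smul, hψ, smul_zero]
  have hle : Subgroup.closure ({tv v φ, tv w ψ} : Set (V ≃ₗ[ZMod p] V)) ≤
      PGRPflag (Submodule.span (ZMod p) ({w} : Set V)) (Submodule.span (ZMod p) ({v, w} : Set V))
        hU := by
    rw [Subgroup.closure_le]
    intro g hg
    rcases hg with rfl | hg
    · refine ⟨?_, ?_, ?_⟩
      · intro x
        rw [tv_apply hφ, add_sub_cancel_left]
        exact Submodule.smul_mem _ _ hvU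
      · intro x hx
        rw [tv_apply hφ, add_sub_cancel_left, hφU x hx, zero_smul]
        exact Submodule.zero_mem _
      · intro x hx
        rw [tv_apply hφ, hφU x (hU hx), zero_smul, add_zero]
    · rw [Set.mem_singleton_iff] at hg
      subst hg
      refine ⟨?_, ?_, ?_⟩
      · intro x
        rw [tv_apply hψ, add_sub_cancel_left]
        exact hU (Submodule.smul_mem _ _ hwU)
      · intro x _
        rw [tv_apply hψ, add_sub_cancel_left]
        exact Submodule.smul_mem _ _ hwU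
      · intro x hx
        rw [tv_apply hψ, hψU x hx, zero_smul, add_zero]
  intro g
  refine ⟨1, ?_⟩
  rw [pow_one]
  apply Subtype.ext
  rw [Subgroup.coe_pow, Subgroup.coe_one]
  exact PGRPpow_eq_one hp _ _ hU g.1 (hle g.2)

/-! ### PGRP -/
theorem isPGroup_closure_pair [Finite V] (hp : p ≠ 2) {v w : V} {φ ψ : Module.Dual (ZMod p) V}
    (hφ : φ v = 0) (hψ : ψ w = 0) (h : φ w = 0 ∨ ψ v = 0) :
    IsPGroup p ↥(Subgroup.closure ({tv v φ, tv w ψ} : Set (V ≃ₗ[ZMod p] V))) := by
  rcases h with h | h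
  · exact PGRPaux hp hφ hψ h
  · have := PGRPaux hp hψ hφ h
    rwa [Set.pair_comm] at this

end Cfsg.Agent.S5075P

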