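import Mathlib

set_option autoImplicit false
set_option linter.unusedVariables false

/-! S0679 chapter (5), piece 5-CENT (helper24; designer helper19): the centraliser of the odd element `τ`
in `G` is 4-transitive on `Fix τ`. -/

namespace Cfsg.Agent.S0679F

open Equiv

variable {α : Type*} [Fintype α] [DecidableEq α]

/-- a permutation fixing the four points of an injective 4-tuple moves at most `card α - 4` points -/
theorem CENT.aux_supp (ρ : Perm α) (y : Fin 4 ↪ α) (hfix : ∀ i, ρ (y i) = y i) :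
    ρ.support.card + 4 ≤ Fintype.card α := by
  have hsub : ρ.support ⊆ (Finset.univ.map y)ᶜ := by
    intro a ha
    rw [Finset.mem_compl, Finset.mem_map]
    rintro ⟨i, -, rfl⟩
    exact (Perm.mem_support.mp ha) (hfix i)
  have h1 := Finset.card_le_card hsub
  rw [Finset.card_compl, Finset.card_map, Finset.card_univ, Fintype.card_fin] at h1
  have h2 : 4 ≤ Fintype.card α := by
    have := Fintype.card_le_of_embedding y
    rwa [Fintype.card_fin] at this
  omega

/-- (5-CENT) the centraliser of `τ` in `G` is 4-transitive on `Fix τ`. -/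
theorem CENT (hα : Fintype.card α = 11) (G : Subgroup (Perm α))
    (h4 : ∀ x y : Fin 4 ↪ α, ∃ h ∈ G, h ∈ alternatingGroup α ∧ ∀ i, h (x i) = y i)
    (hsh : ∀ h ∈ G, h ∈ alternatingGroup α → h ≠ 1 → 8 ≤ h.support.card)
    {τ : Perm α} (hτ : τ ∈ G) (hτo : τ ∉ alternatingGroup α)
    (x y : Fin 4 ↪ α) (hx : ∀ i, τ (x i) = x i) (hy : ∀ i, τ (y i) = y i) :
    ∃ g ∈ G, g * τ = τ * g ∧ ∀ i, g (x i) = y i := by
  obtain ⟨g, hgG, hgA, hgxy⟩ := h4 x y
  refine ⟨g, hgG, ?_, hgxy⟩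
  obtain ⟨ρ, hρ⟩ : ∃ ρ : Perm α, ρ = τ⁻¹ * (g * τ * g⁻¹) := ⟨_, rfl⟩
  have hρG : ρ ∈ G := by
    rw [hρ]
    exact G.mul_mem (G.inv_mem hτ) (G.mul_mem (G.mul_mem hgG hτ) (G.inv_mem hgG))
  have hsg : ∀ a b : ℤˣ, a * (b * a * b) = 1 := by decide
  have hρA : ρ ∈ alternatingGroup α := by
    rw [Equiv.Perm.mem_alternatingGroup, hρ, Equiv.Perm.sign_mul, Equiv.Perm.sign_mul,
      Equiv.Perm.sign_mul, Equiv.Perm.sign_inv, Equiv.Perm.sign_inv]
    exact hsg _ _
  have hginv : ∀ i, g⁻¹ (y i) = x i := by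
    intro i
    rw [Perm.inv_eq_iff_eq, hgxy i]
  have hτinv : ∀ i, τ⁻¹ (y i) = y i := by
    intro i
    rw [Perm.inv_eq_iff_eq, hy i]
  have hfix : ∀ i, ρ (y i) = y i := by
    intro i
    rw [hρ, Perm.mul_apply, Perm.mul_apply, Perm.mul_apply, hginv i, hx i, hgxy i, hτinv i]
  have hρ1 : ρ = 1 := by
    by_contra hne
    have h8 := hsh ρ hρG hρA hne
    have h7 := CENT.aux_supp ρ y hfix
    omega
  -- `τ⁻¹ * (g * τ * g⁻¹) = 1`
  rw [hρ] at hρ1
  have h1 : g * τ * g⁻¹ = τ := by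
    have := congrArg (fun z => τ * z) hρ1
    simpa [mul_assoc] using this
  calc g * τ = g * τ * g⁻¹ * g := by group
    _ = τ * g := by rw [h1]

end Cfsg.Agent.S0679F
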