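import Mathlib
import Cfsg.Prelude.Def_GeometricClasses
import Cfsg.Agent.Helper29.S5965Defs
import Cfsg.Agent.Helper21.S5958FREE

set_option autoImplicit false
open scoped MatrixGroups

/-! S5965, piece DETKUM: if `x ^ r = z • 1` with `z` not an `r`-th power (`r` an odd prime), then
`dim V = r * s` and `det x = z ^ s`. -/

namespace Cfsg.Agent.S5965P

open Polynomial Cfsg.Agent.S5958P

namespace DETKUM

theorem sign_rot (r0 s : ℕ) (hev : Even r0) :
    Equiv.Perm.sign ((finRotate (r0 + 1)).prodCongr (Equiv.refl (Fin s))) = 1 := by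
  have h1 : ((finRotate (r0 + 1)).prodCongr (Equiv.refl (Fin s))) =
      Equiv.prodCongrLeft (fun _ : Fin s => finRotate (r0 + 1)) := by
    ext p <;> rfl
  rw [h1, Equiv.Perm.sign_prodCongrLeft]
  apply Finset.prod_eq_one
  intro k _
  rw [sign_finRotate]
  simp only [Nat.add_sub_cancel]
  exact hev.neg_one_pow

end DETKUM

theorem det_of_pow_eq_nonpower {F V : Type*} [Field F] [AddCommGroup V] [Module F V]
    [FiniteDimensional F V] (r : ℕ) [Fact r.Prime] (hr2 : r ≠ 2)
    (x : Module.End F V) (z : F) (hx : x ^ r = z • (1 : Module.End F V))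
    (hz : ∀ d : F, d ^ r ≠ z) :
    ∃ s : ℕ, Module.finrank F V = r * s ∧ LinearMap.det x = z ^ s := by
  classical
  have hr : r.Prime := Fact.out
  have hodd : Odd r := hr.odd_of_ne_two hr2
  obtain ⟨r0, rfl⟩ : ∃ r0, r = r0 + 1 := ⟨r - 1, by have := hr.pos; omega⟩
  have hev : Even r0 := by
    rcases Nat.even_or_odd r0 with h | h
    · exact h
    · exfalso
      have : Even (r0 + 1) := h.add_one
      exact (Nat.not_even_iff_odd.mpr hodd) this
  have hz0 : z ≠ 0 := by
    intro h
    apply hz 0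
    rw [h, zero_pow hr.ne_zero]
  have hirr : Irreducible (X ^ (r0 + 1) - C z : F[X]) := X_pow_sub_C_irreducible_of_prime hr hz
  have hdeg : (X ^ (r0 + 1) - C z : F[X]).natDegree = r0 + 1 := natDegree_X_pow_sub_C
  have hgf : aeval x (X ^ (r0 + 1) - C z : F[X]) = 0 := by
    rw [map_sub, map_pow, aeval_X, aeval_C, hx, Algebra.algebraMap_eq_smul_one, sub_self]
  obtain ⟨s, b0, w, hb0⟩ := free_of_irreducible x _ hirr hgf
  obtain ⟨b, hb⟩ : ∃ b : Module.Basis (Fin (r0 + 1) × Fin s) F V,
      ∀ i j, b (i, j) = (x ^ (i : ℕ)) (w j) := by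
    refine ⟨b0.reindex (Equiv.prodCongr (finCongr hdeg) (Equiv.refl _)), ?_⟩
    intro i j
    rw [Module.Basis.reindex_apply]
    have h1 : (Equiv.prodCongr (finCongr hdeg) (Equiv.refl (Fin s))).symm (i, j) =
        ((finCongr hdeg).symm i, j) := rfl
    rw [h1, hb0]
    rfl
  have hcard : Module.finrank F V = (r0 + 1) * s := by
    rw [Module.finrank_eq_card_basis b, Fintype.card_prod, Fintype.card_fin,
      Fintype.card_fin]
  -- the action of `x` on the basis
  obtain ⟨σ, hσ⟩ : ∃ σ : Equiv.Perm (Fin (r0 + 1) × Fin s),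
      σ = (finRotate (r0 + 1)).prodCongr (Equiv.refl _) := ⟨_, rfl⟩
  obtain ⟨c, hc⟩ : ∃ c : Fin (r0 + 1) × Fin s → F,
      c = fun p => if p.1 = Fin.last r0 then z else 1 := ⟨_, rfl⟩
  have hxb : ∀ p, x (b p) = c p • b (σ p) := by
    rintro ⟨i, j⟩
    rw [hb, hσ, hc]
    by_cases hi : i = Fin.last r0
    · subst hi
      have h1 : ((finRotate (r0 + 1)).prodCongr (Equiv.refl (Fin s))) (Fin.last r0, j) =
          (0, j) := by
        show (finRotate (r0 + 1) (Fin.last r0), j) = (0, j)
        rw [finRotate_last]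
      rw [h1, hb]
      simp only [if_true, Fin.val_last, Fin.val_zero, pow_zero, Module.End.one_apply]
      have h2 : x ((x ^ r0) (w j)) = (x ^ (r0 + 1)) (w j) := by
        rw [pow_succ', Module.End.mul_apply]
      rw [h2, hx, LinearMap.smul_apply, Module.End.one_apply]
    · have h1 : ((finRotate (r0 + 1)).prodCongr (Equiv.refl (Fin s))) (i, j) =
          (finRotate (r0 + 1) i, j) := rfl
      rw [h1, hb, coe_finRotate_of_ne_last hi]
      simp only [hi, if_false, one_smul]
      rw [pow_succ', Module.End.mul_apply]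
  refine ⟨s, hcard, ?_⟩
  -- the matrix
  have hM : LinearMap.toMatrix b b x =
      Equiv.Perm.permMatrix F σ⁻¹ * Matrix.diagonal c := by
    ext p q
    rw [LinearMap.toMatrix_apply, hxb, Matrix.mul_diagonal]
    rw [map_smul, Finsupp.smul_apply, Module.Basis.repr_self, Finsupp.single_apply]
    rw [Equiv.Perm.permMatrix, PEquiv.toMatrix_apply, Equiv.toPEquiv_apply]
    by_cases h : σ q = p
    · have h' : q ∈ some (σ⁻¹ p) := by
        rw [Option.mem_some_iff, ← h]
        simp
      rw [if_pos h, if_pos h']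
      simp [mul_comm]
    · have h' : ¬ q ∈ some (σ⁻¹ p) := by
        rw [Option.mem_some_iff]
        intro h2
        apply h
        rw [← h2]
        simp
      rw [if_neg h, if_neg h']
      simp
  rw [← LinearMap.det_toMatrix b, hM, Matrix.det_mul, Matrix.det_permutation, Matrix.det_diagonal]
  have hsign : Equiv.Perm.sign σ⁻¹ = 1 := by
    rw [Equiv.Perm.sign_inv, hσ]
    exact DETKUM.sign_rot r0 s hev
  rw [hsign]
  have hprod : ∏ p, c p = z ^ s := by
    rw [Fintype.prod_prod_type, hc]
    simp only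
    rw [Fin.prod_univ_castSucc]
    have h1 : ∀ i : Fin r0, (∏ y : Fin s, if (Fin.castSucc i) = Fin.last r0 then z else (1 : F)) = 1 := by
      intro i
      apply Finset.prod_eq_one
      intro y _
      rw [if_neg (Fin.castSucc_lt_last i).ne]
    rw [Finset.prod_congr rfl (fun i _ => h1 i)]
    simp
  rw [hprod]
  simp

example {F V : Type*} [Field F] [AddCommGroup V] [Module F V]
    [FiniteDimensional F V] (r : ℕ) [Fact r.Prime] (hr2 : r ≠ 2)
    (x : Module.End F V) (z : F) (hx : x ^ r = z • (1 : Module.End F V))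
    (hz : ∀ d : F, d ^ r ≠ z) :
    ∃ s : ℕ, Module.finrank F V = r * s ∧ LinearMap.det x = z ^ s :=
  det_of_pow_eq_nonpower r hr2 x z hx hz

end Cfsg.Agent.S5965P

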