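import Mathlib
import Cfsg.Prelude.Def_GeometricClasses
import Cfsg.Agent.Helper29.S5965Defs

set_option autoImplicit false
open scoped MatrixGroups

/-! S5965, pieces SYM3 and SYM5: a multiset of `r` residues mod `r` with sum `0` is symmetric about
some centre, for `r = 3, 5` (finite checks by kernel evaluation). -/

namespace Cfsg.Agent.S5965P

open Polynomial

namespace SYM

theorem card_sub (r n : ℕ) [NeZero r] (e : Fin n → ZMod r) (t : ZMod r) :
    Nat.card {j // e j = t} = (Finset.univ.filter (fun j => e j = t)).card := by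
  rw [Nat.card_eq_fintype_card, Fintype.card_subtype]

theorem aux3 : ∀ e : Fin 3 → ZMod 3, ∑ j, e j = 0 →
    ∃ c : ZMod 3, ∀ a : ZMod 3, (Finset.univ.filter (fun j => e j = c + a)).card =
      (Finset.univ.filter (fun j => e j = c - a)).card := by
  decide +kernel

set_option maxRecDepth 100000 in
theorem aux5 : ∀ e : Fin 5 → ZMod 5, ∑ j, e j = 0 →
    ∃ c : ZMod 5, ∀ a : ZMod 5, (Finset.univ.filter (fun j => e j = c + a)).card =
      (Finset.univ.filter (fun j => e j = c - a)).card := by
  decide +kernel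

end SYM

/-- SYM3 -/
theorem exists_center_three (e : Fin 3 → ZMod 3) (hsum : ∑ j, e j = 0) :
    ∃ c : ZMod 3, ∀ a : ZMod 3, Nat.card {j // e j = c + a} = Nat.card {j // e j = c - a} := by
  obtain ⟨c, hc⟩ := SYM.aux3 e hsum
  refine ⟨c, fun a => ?_⟩
  rw [SYM.card_sub, SYM.card_sub]
  exact hc a

/-- SYM5 -/
theorem exists_center_five (e : Fin 5 → ZMod 5) (hsum : ∑ j, e j = 0) :
    ∃ c : ZMod 5, ∀ a : ZMod 5, Nat.card {j // e j = c + a} = Nat.card {j // e j = c - a} := by
  obtain ⟨c, hc⟩ := SYM.aux5 e hsum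
  refine ⟨c, fun a => ?_⟩
  rw [SYM.card_sub, SYM.card_sub]
  exact hc a

end Cfsg.Agent.S5965P
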