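import Mathlib
import Cfsg.Prelude.Def_GeometricClasses
import Cfsg.Prelude.Def_Classical
import Cfsg.Prelude.Def_LieClassical
import Cfsg.Agent.Helper27.S5989Defs
import Cfsg.Agent.Helper27.S5991Defs
import Cfsg.Agent.Helper28.Spin6
import Cfsg.Agent.Helper8.S5992DISCBASIS

/-! S5991 pieces J3 and LINE: the 3-dimensional space `x₀ x₂ + c x₁²` with its regular unipotent
isometry, and the line `c t²`. -/

set_option autoImplicit false
open scoped MatrixGroups
universe u

namespace Cfsg.Agent.S5989P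

open Cfsg.Agent.Helper2.SympInvol Cfsg.Agent.Helper2.SympUnits Cfsg.Agent.S5961P
  Cfsg.Agent.S5992P Cfsg.Agent.Helper28.Spin

namespace J3

variable {F : Type*} [Field F]

theorem polar_j3Q (c : F) (u v : Fin 3 → F) :
    QuadraticMap.polar (j3Q F c) u v = u 0 * v 2 + u 2 * v 0 + 2 * c * (u 1 * v 1) := by
  unfold QuadraticMap.polar
  rw [j3Q_apply, j3Q_apply, j3Q_apply]
  simp only [Pi.add_apply]
  ring

theorem N_apply (c : F) (v : Fin 3 → F) :
    (j3X F c - 1) v = ![-2 * c * v 1 - c * v 2, v 2, 0] := by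
  rw [LinearMap.sub_apply, j3X_apply, Module.End.one_apply]
  ext i
  fin_cases i <;> simp <;> ring

theorem N2_apply (c : F) (v : Fin 3 → F) :
    ((j3X F c - 1) ^ 2 : Module.End F (Fin 3 → F)) v = ![-2 * c * v 2, 0, 0] := by
  rw [pow_two, Module.End.mul_apply, N_apply, N_apply]
  ext i
  fin_cases i <;> simp

theorem N3 (c : F) : ((j3X F c - 1) ^ 3 : Module.End F (Fin 3 → F)) = 0 := by
  apply LinearMap.ext
  intro v
  rw [pow_succ, Module.End.mul_apply, N2_apply, N_apply]
  ext i
  fin_cases i <;> simp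

/-- the standard basis of `⊤` -/
noncomputable def topBasis (n : ℕ) : Module.Basis (Fin n) F (⊤ : Submodule F (Fin n → F)) :=
  (Pi.basisFun F (Fin n)).map (Submodule.topEquiv (R := F) (M := Fin n → F)).symm

theorem topBasis_apply (n : ℕ) (i : Fin n) :
    ((topBasis (F := F) n i : (⊤ : Submodule F (Fin n → F))) : Fin n → F) = Pi.single i 1 := by
  simp [topBasis]

theorem gramDet_j3 (c : F) :
    gramDet (j3Q F c) (fun i => ((topBasis (F := F) 3 i : (⊤ : Submodule F (Fin 3 → F))) : Fin 3 → F)) =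
      -2 * c := by
  unfold gramDet
  have : (Matrix.of fun i j : Fin 3 => QuadraticMap.polar (j3Q F c)
      ((topBasis (F := F) 3 i : (⊤ : Submodule F (Fin 3 → F))) : Fin 3 → F)
      ((topBasis (F := F) 3 j : (⊤ : Submodule F (Fin 3 → F))) : Fin 3 → F)) =
      !![0, 0, 1; 0, 2 * c, 0; 1, 0, 0] := by
    ext i j
    rw [Matrix.of_apply, topBasis_apply, topBasis_apply, polar_j3Q]
    fin_cases i <;> fin_cases j <;> simp
  rw [this, Matrix.det_fin_three]
  simp

theorem polar_lineQ (c : F) (u v : Fin 1 → F) :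
    QuadraticMap.polar (lineQ F c) u v = 2 * c * (u 0 * v 0) := by
  unfold QuadraticMap.polar
  rw [lineQ_apply, lineQ_apply, lineQ_apply]
  simp only [Pi.add_apply]
  ring

theorem gramDet_line (c : F) :
    gramDet (lineQ F c) (fun i => ((topBasis (F := F) 1 i : (⊤ : Submodule F (Fin 1 → F))) : Fin 1 → F)) =
      2 * c := by
  unfold gramDet
  rw [Matrix.det_fin_one, Matrix.of_apply]
  beta_reduce
  rw [topBasis_apply, polar_lineQ]
  simp

end J3

open J3 in
/-- J3 -/
theorem j3_props {F : Type*} [Field F] (h2 : (2 : F) ≠ 0) (c : F) (hc : c ≠ 0) :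
    (∀ v, j3Q F c (j3X F c v) = j3Q F c v) ∧ (j3X F c - 1) ^ 3 = 0 ∧
    Module.finrank F (LinearMap.ker (j3X F c - 1)) = 1 ∧
    Module.finrank F (LinearMap.ker ((j3X F c - 1) ^ 2)) = 2 ∧
    Nondeg (PB (j3Q F c)) ⊤ ∧ (∀ u ∈ LinearMap.ker (j3X F c - 1), j3Q F c u = 0) ∧
    (DiscSq (j3Q F c) ⊤ ↔ IsSquare (2 * c)) := by
  have h2c : (2 : F) * c ≠ 0 := mul_ne_zero h2 hc
  -- the kernel of `N`
  have hker : ∀ v : Fin 3 → F, v ∈ LinearMap.ker (j3X F c - 1) ↔ v 1 = 0 ∧ v 2 = 0 := by
    intro v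
    rw [LinearMap.mem_ker, N_apply]
    constructor
    · intro h
      have h1 := congrFun h 1
      have h0 := congrFun h 0
      simp at h1 h0
      rw [h1, mul_zero, sub_zero] at h0
      have h0' : (2 * c) * v 1 = 0 := by linear_combination (-1 : F) * h0
      rcases mul_eq_zero.mp h0' with h3 | h3
      · exact absurd h3 h2c
      · exact ⟨h3, h1⟩
    · rintro ⟨h1, h2'⟩
      rw [h1, h2']
      ext i
      fin_cases i <;> simp
  have hker2 : ∀ v : Fin 3 → F, v ∈ LinearMap.ker ((j3X F c - 1) ^ 2) ↔ v 2 = 0 := by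
    intro v
    rw [LinearMap.mem_ker, N2_apply]
    constructor
    · intro h
      have h0 := congrFun h 0
      simp at h0
      have : -2 * c * v 2 = -(2 * c) * v 2 := by ring
      rcases h0 with h3 | h3
      · rcases h3 with h4 | h4
        · exact absurd h4 h2
        · exact absurd h4 hc
      · exact h3
    · intro h1
      rw [h1]
      ext i
      fin_cases i <;> simp
  refine ⟨?_, N3 c, ?_, ?_, ?_, ?_, ?_⟩
  · intro v
    rw [j3X_apply, j3Q_apply, j3Q_apply]
    simp
    ring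
  · -- `ker N = span {e₀}`
    have hspan : LinearMap.ker (j3X F c - 1) = Submodule.span F {(Pi.single 0 1 : Fin 3 → F)} := by
      ext v
      rw [hker, Submodule.mem_span_singleton]
      constructor
      · rintro ⟨h1, h2'⟩
        refine ⟨v 0, ?_⟩
        ext i
        fin_cases i <;> simp [h1, h2']
      · rintro ⟨a, rfl⟩
        simp
    rw [hspan, finrank_span_singleton]
    intro h
    have := congrFun h 0
    simp at this
  · -- `ker N² = ker (proj 2)`
    have hproj : LinearMap.ker ((j3X F c - 1) ^ 2) =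
        LinearMap.ker (LinearMap.proj (R := F) (φ := fun _ : Fin 3 => F) 2) := by
      ext v
      rw [hker2, LinearMap.mem_ker, LinearMap.proj_apply]
    rw [hproj]
    have h1 := LinearMap.finrank_range_add_finrank_ker
      (LinearMap.proj (R := F) (φ := fun _ : Fin 3 => F) 2)
    have h3 : LinearMap.range (LinearMap.proj (R := F) (φ := fun _ : Fin 3 => F) 2) = ⊤ :=
      LinearMap.range_eq_top.mpr (LinearMap.proj_surjective 2)
    rw [h3, finrank_top, Module.finrank_self, Module.finrank_fin_fun] at h1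
    omega
  · rw [(discSq_iff (j3Q F c) ⊤ (topBasis (F := F) 3)).2, gramDet_j3]
    have : -2 * c = -(2 * c) := by ring
    rw [this]
    exact neg_ne_zero.mpr h2c
  · intro u hu
    obtain ⟨h1, h2'⟩ := (hker u).mp hu
    rw [j3Q_apply, h1, h2']
    ring
  · rw [(discSq_iff (j3Q F c) ⊤ (topBasis (F := F) 3)).1, gramDet_j3]
    have : (-1 : F) ^ (3 / 2) * (-2 * c) = 2 * c := by
      norm_num
    rw [this]

open J3 in
/-- LINE -/
theorem line_props {F : Type*} [Field F] (h2 : (2 : F) ≠ 0) (c : F) (hc : c ≠ 0) :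
    Nondeg (PB (lineQ F c)) ⊤ ∧ (DiscSq (lineQ F c) ⊤ ↔ IsSquare (2 * c)) ∧
    (∀ u : Fin 1 → F, ∃ t : F, lineQ F c u = c * t * t) := by
  have h2c : (2 : F) * c ≠ 0 := mul_ne_zero h2 hc
  refine ⟨?_, ?_, ?_⟩
  · rw [(discSq_iff (lineQ F c) ⊤ (topBasis (F := F) 1)).2, gramDet_line]
    exact h2c
  · rw [(discSq_iff (lineQ F c) ⊤ (topBasis (F := F) 1)).1, gramDet_line]
    have : (-1 : F) ^ (1 / 2) * (2 * c) = 2 * c := by
      norm_num
    rw [this]
  · intro u
    refine ⟨u 0, ?_⟩
    rw [lineQ_apply]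
    ring

end Cfsg.Agent.S5989P
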