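import Mathlib
import Cfsg.Agent.Helper2.S3086Defs
import Cfsg.Agent.Helper2.S3086Basic

/-! S3086 board `s3086pieces`, row LEMP: Lemma P (`p` odd): a quadratic `a` and a `p'`-element `x` commuting with
`a x a⁻¹` and `a² x a⁻²` commute. -/

set_option autoImplicit false
set_option linter.unusedSectionVars false

namespace Cfsg.Agent.S3086P

universe u

variable {p : ℕ} [Fact p.Prime] {V : Type u} [AddCommGroup V] [Module (ZMod p) V] [Finite V]

/-- if `N_a² = 0` then `a⁻¹ = 1 - N_a` -/
theorem LEMP_aux_inv (a : GLV p V) (ha : Nop a * Nop a = 0) : toE a⁻¹ = 1 - Nop a := by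
  have h : toE a * (1 - Nop a) = 1 := by
    rw [toE_eq a, add_mul, mul_sub, mul_sub, ha]
    simp
  calc toE a⁻¹ = toE a⁻¹ * (toE a * (1 - Nop a)) := by rw [h, mul_one]
    _ = (toE a⁻¹ * toE a) * (1 - Nop a) := by rw [mul_assoc]
    _ = 1 - Nop a := by rw [toE_inv_mul, one_mul]

/-- `Nop (a^2) = 2 N_a` if `N_a² = 0` -/
theorem LEMP_aux_sq (a : GLV p V) (ha : Nop a * Nop a = 0) : Nop (a ^ 2) = Nop a + Nop a := by
  have : toE (a ^ 2) = 1 + (Nop a + Nop a) := by
    rw [toE_pow, toE_eq a, pow_two, add_mul, mul_add, mul_add, ha]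
    simp [add_assoc]
  show toE (a ^ 2) - 1 = _
  rw [this]
  simp

theorem LEMP_aux_sq_sq (a : GLV p V) (ha : Nop a * Nop a = 0) : Nop (a ^ 2) * Nop (a ^ 2) = 0 := by
  rw [LEMP_aux_sq a ha, add_mul, mul_add, ha]
  simp

/-- conjugation formula: `a x a⁻¹ = X + (NX - XN) - NXN`. -/
theorem LEMP_aux_conj (a x : GLV p V) (ha : Nop a * Nop a = 0) :
    toE (a * x * a⁻¹) = toE x + (Nop a * toE x - toE x * Nop a) - Nop a * toE x * Nop a := by
  rw [toE_mul, toE_mul, LEMP_aux_inv a ha, toE_eq a]
  noncomm_ring

theorem LEMP_aux_two_ne (hp : p ≠ 2) : (2 : ZMod p) ≠ 0 := by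
  intro h
  have h2 : ((2 : ℕ) : ZMod p) = 0 := by exact_mod_cast h
  rw [ZMod.natCast_eq_zero_iff] at h2
  have hpp : p.Prime := Fact.out
  have := (Nat.prime_dvd_prime_iff_eq hpp Nat.prime_two).mp h2
  exact hp this

theorem LEMP_aux_cast_ne {k : ℕ} (hk : k.Coprime p) : (k : ZMod p) ≠ 0 := by
  intro h
  rw [ZMod.natCast_eq_zero_iff] at h
  have hpp : p.Prime := Fact.out
  have h1 : p ∣ Nat.gcd k p := Nat.dvd_gcd h dvd_rfl
  rw [hk] at h1
  exact hpp.one_lt.ne' (Nat.dvd_one.mp h1)

/-- the ring-theoretic heart of Lemma P -/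
theorem LEMP_aux_ring (hp : p ≠ 2) (X Y N : Module.End (ZMod p) V) (hXY : X * Y = 1) (hYX : Y * X = 1)
    (k : ℕ) (hk : k.Coprime p) (hXk : X ^ k = 1) (hYk : Y ^ k = 1)
    (h1 : X * (X + (N * X - X * N) - N * X * N) = (X + (N * X - X * N) - N * X * N) * X)
    (h2 : X * (X + ((N + N) * X - X * (N + N)) - (N + N) * X * (N + N))
      = (X + ((N + N) * X - X * (N + N)) - (N + N) * X * (N + N)) * X) : N * X = X * N := by
  set c := N * X - X * N with hc
  set d := N * X * N with hd
  -- `2 (Xd - dX) = 0`
  have e2 : (2 : ZMod p) • (X * d - d * X) = 0 := by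
    rw [two_smul]
    have h1' : X * c - X * d = c * X - d * X := by
      have := h1
      rw [mul_sub, mul_add, sub_mul, add_mul] at this
      have h3 : X * X + X * c - X * d - X * X = X * X + c * X - d * X - X * X := by rw [this]
      have l : X * X + X * c - X * d - X * X = X * c - X * d := by abel
      have r : X * X + c * X - d * X - X * X = c * X - d * X := by abel
      rw [l, r] at h3
      exact h3
    have h2' : (X * c + X * c) - (X * d + X * d + X * d + X * d) = (c * X + c * X) - (d * X + d * X + d * X + d * X) := by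
      have e1 : (N + N) * X - X * (N + N) = c + c := by
        rw [hc]; noncomm_ring
      have e2 : (N + N) * X * (N + N) = d + d + d + d := by
        rw [hd]; noncomm_ring
      have := h2
      rw [e1, e2] at this
      have h3 : X * (X + (c + c) - (d + d + d + d)) - X * X = (X + (c + c) - (d + d + d + d)) * X - X * X := by rw [this]
      have l : X * (X + (c + c) - (d + d + d + d)) - X * X = (X * c + X * c) - (X * d + X * d + X * d + X * d) := by
        noncomm_ring
      have r : (X + (c + c) - (d + d + d + d)) * X - X * X = (c * X + c * X) - (d * X + d * X + d * X + d * X) := by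
        noncomm_ring
      rw [l, r] at h3
      exact h3
    -- 2*(h1') - h2'
    have : (X * d - d * X) + (X * d - d * X) =
        ((X * c - X * d) + (X * c - X * d) - ((X * c + X * c) - (X * d + X * d + X * d + X * d)))
        - ((c * X - d * X) + (c * X - d * X) - ((c * X + c * X) - (d * X + d * X + d * X + d * X))) := by
      abel
    rw [this, h1', h2']
    abel
  have hXd : X * d = d * X := by
    have := (smul_eq_zero.mp e2).resolve_left (LEMP_aux_two_ne hp)
    exact sub_eq_zero.mp this
  have hXc : X * c = c * X := by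
    have h1' : X * c - X * d = c * X - d * X := by
      have := h1
      rw [mul_sub, mul_add, sub_mul, add_mul] at this
      have h3 : X * X + X * c - X * d - X * X = X * X + c * X - d * X - X * X := by rw [this]
      have l : X * X + X * c - X * d - X * X = X * c - X * d := by abel
      have r : X * X + c * X - d * X - X * X = c * X - d * X := by abel
      rw [l, r] at h3
      exact h3
    rw [hXd] at h1'
    exact sub_left_injective h1'
  -- `e = - Y c`
  set e := N - Y * N * X with he
  have hYc : Y * c = - e := by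
    rw [hc, he, mul_sub, ← mul_assoc Y X N, hYX, one_mul, mul_assoc]
    abel
  have hYcomm : Y * c = c * Y := by
    calc Y * c = Y * c * (X * Y) := by rw [hXY, mul_one]
      _ = Y * (c * X) * Y := by noncomm_ring
      _ = Y * (X * c) * Y := by rw [hXc]
      _ = (Y * X) * c * Y := by noncomm_ring
      _ = c * Y := by rw [hYX, one_mul]
  have heX : Y * e * X = e := by
    have h3 : e = - (Y * c) := by rw [hYc, neg_neg]
    rw [h3]
    calc Y * -(Y * c) * X = - (Y * (Y * (c * X))) := by noncomm_ring
      _ = - (Y * (Y * (X * c))) := by rw [hXc]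
      _ = - (Y * ((Y * X) * c)) := by noncomm_ring
      _ = - (Y * c) := by rw [hYX, one_mul]
  have hind : ∀ n : ℕ, Y ^ n * N * X ^ n = N - n • e := by
    intro n
    induction n with
    | zero => simp
    | succ n ih =>
      calc Y ^ (n + 1) * N * X ^ (n + 1) = Y * (Y ^ n * N * X ^ n) * X := by
            rw [pow_succ' Y, pow_succ X]; noncomm_ring
        _ = Y * (N - n • e) * X := by rw [ih]
        _ = Y * N * X - n • (Y * e * X) := by
            rw [mul_sub, sub_mul, mul_smul_comm, smul_mul_assoc]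
        _ = N - (n + 1) • e := by
            rw [heX, succ_nsmul]
            have : Y * N * X = N - e := by rw [he]; abel
            rw [this]; abel
  have hk0 : k • e = 0 := by
    have := hind k
    rw [hXk, hYk, one_mul, mul_one] at this
    have h3 : N - (N - k • e) = 0 := by rw [← this, sub_self]
    rwa [sub_sub_cancel] at h3
  have he0 : e = 0 := by
    rw [← Nat.cast_smul_eq_nsmul (ZMod p)] at hk0
    exact (smul_eq_zero.mp hk0).resolve_left (LEMP_aux_cast_ne hk)
  have hc0 : c = 0 := by
    calc c = (X * Y) * c := by rw [hXY, one_mul]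
      _ = X * (Y * c) := by rw [mul_assoc]
      _ = 0 := by rw [hYc, he0]; simp
  exact sub_eq_zero.mp hc0

/-- LEMP (M): Lemma P. -/
theorem LemP (hp : p ≠ 2) (a x : GLV p V) (ha : Nop a * Nop a = 0) (hx : (orderOf x).Coprime p)
    (h1 : Commute x (a * x * a⁻¹)) (h2 : Commute x (a ^ 2 * x * (a ^ 2)⁻¹)) : Commute x a := by
  have hXk : toE x ^ orderOf x = 1 := by rw [← toE_pow, pow_orderOf_eq_one, toE_one]
  have hYk : toE x⁻¹ ^ orderOf x = 1 := by rw [← toE_pow, inv_pow, pow_orderOf_eq_one, inv_one, toE_one]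
  have e1 : toE x * toE (a * x * a⁻¹) = toE (a * x * a⁻¹) * toE x := by
    rw [← toE_mul, ← toE_mul, h1.eq]
  have e2 : toE x * toE (a ^ 2 * x * (a ^ 2)⁻¹) = toE (a ^ 2 * x * (a ^ 2)⁻¹) * toE x := by
    rw [← toE_mul, ← toE_mul, h2.eq]
  rw [LEMP_aux_conj a x ha] at e1
  rw [LEMP_aux_conj (a ^ 2) x (LEMP_aux_sq_sq a ha), LEMP_aux_sq a ha] at e2
  have key := LEMP_aux_ring hp (toE x) (toE x⁻¹) (Nop a) (toE_mul_inv x) (toE_inv_mul x) (orderOf x) hx hXk hYk e1 e2
  show x * a = a * x
  apply toE_injective
  rw [toE_mul, toE_mul, toE_eq a, mul_add, add_mul, key]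
  simp

end Cfsg.Agent.S3086P
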