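import Mathlib
import Cfsg.Agent.Helper2.S3086Defs
import Cfsg.Agent.Helper2.S3086Basic
import Cfsg.Agent.Helper24.S3086LEMP
import Cfsg.Agent.Helper24.S3086QS2

/-! S3086 board `s3086pieces`, row LEMPC: a quadratic element of `A` normalises `K` (`p` odd). -/

set_option autoImplicit false
set_option linter.unusedSectionVars false

namespace Cfsg.Agent.S3086P

universe u

variable {p : ℕ} [Fact p.Prime] {V : Type u} [AddCommGroup V] [Module (ZMod p) V] [Finite V]
variable {K A : Subgroup (GLV p V)}

/-- LEMPC, core: the generation by `p'`-elements (row QS2) as a hypothesis. -/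
theorem LEMPC_aux_core (hp : p ≠ 2) (H : Hyp p V K A)
    (hgen : Subgroup.closure {x | x ∈ K ∧ (orderOf x).Coprime p} = K)
    {a : GLV p V} (ha : a ∈ A) (hq : Nop a * Nop a = 0) : cjg a K = K := by
  by_contra hne
  have hpp : p.Prime := Fact.out
  have hc1 : CommS K (cjg a K) := (H.hcomm a ha).resolve_left hne
  have ha2 : a ^ 2 ∈ A := A.pow_mem ha 2
  have hne2 : cjg (a ^ 2) K ≠ K := by
    intro h2
    apply hne
    rw [cjg_eq_iff] at h2 ⊢
    have hodd : Odd p := hpp.odd_of_ne_two hp
    obtain ⟨m, hm⟩ := hodd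
    have hap : a ^ p = 1 := H.hAel.2 a ha
    have : (a ^ 2) ^ (m + 1) = a := by
      rw [← pow_mul]
      have : 2 * (m + 1) = p + 1 := by omega
      rw [this, pow_succ, hap, one_mul]
    rw [← this]
    exact Subgroup.pow_mem _ h2 _
  have hc2 : CommS K (cjg (a ^ 2) K) := (H.hcomm (a ^ 2) ha2).resolve_left hne2
  have hcen : K ≤ Subgroup.centralizer ({a} : Set (GLV p V)) := by
    rw [← hgen, Subgroup.closure_le]
    rintro x ⟨hxK, hx⟩
    have h1 : Commute x (a * x * a⁻¹) := hc1 x hxK _ (conj_mem_cjg hxK)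
    have h2 : Commute x (a ^ 2 * x * (a ^ 2)⁻¹) := hc2 x hxK _ (conj_mem_cjg hxK)
    have := LemP hp a x hq hx h1 h2
    show x ∈ Subgroup.centralizer ({a} : Set (GLV p V))
    rw [Subgroup.mem_centralizer_iff]
    intro y hy
    rw [Set.mem_singleton_iff] at hy
    subst hy
    exact this.eq.symm
  apply hne
  ext y
  rw [mem_cjg]
  have hcomm : ∀ z ∈ K, a * z = z * a := by
    intro z hz
    have := hcen hz
    rw [Subgroup.mem_centralizer_iff] at this
    exact this a rfl
  constructor
  · intro h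
    have h3 := hcomm _ h
    have : y = a⁻¹ * y * a := by
      calc y = (a * (a⁻¹ * y * a)) * a⁻¹ := by group
        _ = ((a⁻¹ * y * a) * a) * a⁻¹ := by rw [h3]
        _ = a⁻¹ * y * a := by group
    rw [this]; exact h
  · intro h
    have h3 := hcomm _ h
    have : a⁻¹ * y * a = y := by
      calc a⁻¹ * y * a = a⁻¹ * (y * a) := by group
        _ = a⁻¹ * (a * y) := by rw [h3]
        _ = y := by group
    rw [this]; exact h

/-- LEMPC (M): a quadratic element of `A` normalises `K` (`p` odd). -/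
theorem LemP_cor (hp : p ≠ 2) (H : Hyp p V K A) {a : GLV p V} (ha : a ∈ A) (hq : Nop a * Nop a = 0) : cjg a K = K :=
  LEMPC_aux_core hp H (QS_gen_pprime H.hK p) ha hq

end Cfsg.Agent.S3086P
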