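import Mathlib
import Cfsg.Agent.Helper2.S3086Defs
import Cfsg.Agent.Helper2.S3086Basic
import Cfsg.Agent.Helper2.S3086VMaux
import Cfsg.Agent.Helper16.S3086QS1
import Cfsg.Agent.Helper24.S3086LEMP

/-! S3086 board `s3086pieces`, row LEMQ: Lemma Q (`p` odd). -/

set_option autoImplicit false
set_option linter.unusedSectionVars false

namespace Cfsg.Agent.S3086P

universe u

variable {p : ℕ} [Fact p.Prime] {V : Type u} [AddCommGroup V] [Module (ZMod p) V] [Finite V]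
variable {K : Subgroup (GLV p V)}

/-- the elements stabilising `U` and commuting on `U` with each element of `S` -/
def LEMQ_aux_ZU (U : Submodule (ZMod p) V) (S : Set (GLV p V)) : Subgroup (GLV p V) where
  carrier := {g | g ∈ stabS U ∧ ∀ s ∈ S, ∀ u ∈ U, g (s u) = s (g u)}
  mul_mem' := by
    rintro g h ⟨hg, hg'⟩ ⟨hh, hh'⟩
    refine ⟨(stabS U).mul_mem hg hh, ?_⟩
    intro s hs u hu
    show g (h (s u)) = s (g (h u))
    rw [hh' s hs u hu, hg' s hs (h u) ((hh u).mp hu)]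
  one_mem' := ⟨(stabS U).one_mem, fun s _ u _ => rfl⟩
  inv_mem' := by
    rintro g ⟨hg, hg'⟩
    refine ⟨(stabS U).inv_mem hg, ?_⟩
    intro s hs u hu
    have hu' : g⁻¹ u ∈ U := (((stabS U).inv_mem hg) u).mp hu
    have h1 := hg' s hs (g⁻¹ u) hu'
    rw [VM_aux_apply_inv] at h1
    rw [← h1, VM_aux_inv_apply]

/-- a subgroup containing all `K`-conjugates of `b` contains `K = [K,⟨b⟩]` -/
theorem LEMQ_aux_gen {b : GLV p V}
    (hgen : Subgroup.closure {y | ∃ x ∈ K, ∃ j : ℤ, y = x⁻¹ * (b ^ j * x * b ^ (-j))} = K)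
    (Z : Subgroup (GLV p V)) (hZ : ∀ x ∈ K, x * b * x⁻¹ ∈ Z) : K ≤ Z := by
  have h2 : b ∈ Z := by simpa using hZ 1 K.one_mem
  have : Subgroup.closure {y | ∃ x ∈ K, ∃ j : ℤ, y = x⁻¹ * (b ^ j * x * b ^ (-j))} ≤ Z := by
    rw [Subgroup.closure_le]
    rintro y ⟨x, hx, j, rfl⟩
    have h1 : x⁻¹ * b * x⁻¹⁻¹ ∈ Z := hZ _ (K.inv_mem hx)
    have e : x⁻¹ * (b ^ j * x * b ^ (-j)) = (x⁻¹ * b * x⁻¹⁻¹) ^ j * b ^ (-j) := by
      rw [conj_zpow, inv_inv]
      simp only [mul_assoc]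
    rw [e]
    exact Z.mul_mem (Z.zpow_mem h1 j) (Z.zpow_mem h2 (-j))
  rwa [hgen] at this

theorem LEMQ_aux_sum (N X : Module.End (ZMod p) V) :
    (1 + N) * X * (1 - N) + (1 - N) * X * (1 + N) = X + X - (N * X * N + N * X * N) := by
  noncomm_ring

/-- the ring-theoretic heart: `N X N` commutes with `Y`. -/
theorem LEMQ_aux_ring (hp : p ≠ 2) {N Aa Ai X Y Z1 Z2 : Module.End (ZMod p) V}
    (hNa : N * Aa = N) (haiN : Ai * N = N)
    (hZ : Z1 + Z2 = (Aa * X * Ai) + (Aa * X * Ai) - (N * (Aa * X * Ai) * N + N * (Aa * X * Ai) * N))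
    (hY0 : Y * (Aa * X * Ai) = (Aa * X * Ai) * Y) (hY1 : Y * Z1 = Z1 * Y) (hY2 : Y * Z2 = Z2 * Y) :
    Y * (N * X * N) = (N * X * N) * Y := by
  have hE : N * (Aa * X * Ai) * N = N * X * N := by
    calc N * (Aa * X * Ai) * N = (N * Aa) * X * (Ai * N) := by simp only [mul_assoc]
      _ = N * X * N := by rw [hNa, haiN]
  rw [hE] at hZ
  set E := N * X * N with hEdef
  set X' := Aa * X * Ai with hX'
  have h2 : E + E = X' + X' - (Z1 + Z2) := by rw [hZ]; abel
  have h3 : Y * (E + E) = (E + E) * Y := by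
    rw [h2, mul_sub, sub_mul, mul_add, mul_add, add_mul, add_mul, hY0, hY1, hY2]
  have h4 : (2 : ZMod p) • (Y * E - E * Y) = 0 := by
    rw [two_smul]
    have : Y * E - E * Y + (Y * E - E * Y) = Y * (E + E) - (E + E) * Y := by
      rw [mul_add, add_mul]; abel
    rw [this, h3, sub_self]
  exact sub_eq_zero.mp ((smul_eq_zero.mp h4).resolve_left (LEMP_aux_two_ne hp))

theorem LEMQ_aux_comm_of_quad {g g' : GLV p V} {u : V} (h1 : Nop g (Nop g' u) = 0) (h2 : Nop g' (Nop g u) = 0) :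
    g (g' u) = g' (g u) := by
  have h1' : g (g' u) - g u - g' u + u = 0 := by
    rw [← h1, Nop_apply, Nop_apply, map_sub]; abel
  have h2' : g' (g u) - g' u - g u + u = 0 := by
    rw [← h2, Nop_apply, Nop_apply, map_sub]; abel
  calc g (g' u) = (g (g' u) - g u - g' u + u) + (g u + g' u - u) := by abel
    _ = (g' (g u) - g' u - g u + u) + (g u + g' u - u) := by rw [h1', h2']
    _ = g' (g u) := by abel

theorem LEMQ_aux_Nop_conj (x b : GLV p V) : Nop (x * b * x⁻¹) = toE x * Nop b * toE x⁻¹ := by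
  show toE (x * b * x⁻¹) - 1 = _
  rw [toE_mul, toE_mul, toE_eq b, mul_add, add_mul, mul_one, toE_mul_inv]
  abel

/-- LEMQ (L): Lemma Q. -/
theorem LemQ (hp : p ≠ 2) (hK : Cfsg.IsQuasisimple ↥K) (a b : GLV p V) (hab : a * b = b * a)
    (hb : Nop b * Nop b = 0) (hq : Nop a * Nop b = 0) (hbK : cjg b K = K) (hc : CommS K (cjg a K)) :
    ∀ x ∈ K, b * x = x * b := by
  by_contra hn
  have hbn : ∀ x ∈ K, b * x * b⁻¹ ∈ K := by
    intro x hx
    have := conj_mem_cjg (a := b) hx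
    rwa [hbK] at this
  have hbn' : ∀ x ∈ K, b⁻¹ * x * b ∈ K := by
    intro x hx
    rw [← hbK] at hx
    exact mem_cjg.mp hx
  have hgen := QS_gen_comm hK hbn hn
  set N := Nop b with hN
  have hbE : toE b = 1 + N := toE_eq b
  have hbiE : toE b⁻¹ = 1 - N := LEMP_aux_inv b hb
  -- `N_a N_b = N_b N_a`
  have hq' : N * Nop a = 0 := by
    have e1 : Nop a * N = toE (a * b) - toE a - toE b + 1 := by
      rw [hN]; show (toE a - 1) * (toE b - 1) = _
      rw [toE_mul]; noncomm_ring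
    have e2 : N * Nop a = toE (b * a) - toE a - toE b + 1 := by
      rw [hN]; show (toE b - 1) * (toE a - 1) = _
      rw [toE_mul]; noncomm_ring
    rw [e2, ← hab, ← e1, hq]
  have haN : toE a * N = N := by
    rw [toE_eq a, add_mul, one_mul, hq, add_zero]
  have hNa : N * toE a = N := by
    rw [toE_eq a, mul_add, mul_one, hq', add_zero]
  have haiN : toE a⁻¹ * N = N := by
    calc toE a⁻¹ * N = toE a⁻¹ * (toE a * N) := by rw [haN]
      _ = (toE a⁻¹ * toE a) * N := by rw [mul_assoc]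
      _ = N := by rw [toE_inv_mul, one_mul]
  -- (F0)
  have hF0 : ∀ x ∈ K, ∀ y ∈ K, toE y * (N * toE x * N) = (N * toE x * N) * toE y := by
    intro x hx y hy
    have hx' : a * x * a⁻¹ ∈ cjg a K := conj_mem_cjg hx
    have hz1 : b * (a * x * a⁻¹) * b⁻¹ ∈ cjg a K := by
      have e : b * (a * x * a⁻¹) * b⁻¹ = a * (b * x * b⁻¹) * a⁻¹ := by
        have hab' : b * a = a * b := hab.symm
        have hi : a⁻¹ * b⁻¹ = b⁻¹ * a⁻¹ := by rw [← mul_inv_rev, ← mul_inv_rev, hab']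
        calc b * (a * x * a⁻¹) * b⁻¹ = (b * a) * x * (a⁻¹ * b⁻¹) := by group
          _ = (a * b) * x * (b⁻¹ * a⁻¹) := by rw [hab', hi]
          _ = a * (b * x * b⁻¹) * a⁻¹ := by group
      rw [e]; exact conj_mem_cjg (hbn x hx)
    have hz2 : b⁻¹ * (a * x * a⁻¹) * b ∈ cjg a K := by
      have e : b⁻¹ * (a * x * a⁻¹) * b = a * (b⁻¹ * x * b) * a⁻¹ := by
        have hab' : b * a = a * b := hab.symm
        have hi : a⁻¹ * b = b * a⁻¹ := by
          calc a⁻¹ * b = a⁻¹ * (b * a) * a⁻¹ := by group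
            _ = a⁻¹ * (a * b) * a⁻¹ := by rw [hab']
            _ = b * a⁻¹ := by group
        have hi2 : b⁻¹ * a = a * b⁻¹ := by
          calc b⁻¹ * a = b⁻¹ * (a * b) * b⁻¹ := by group
            _ = b⁻¹ * (b * a) * b⁻¹ := by rw [hab]
            _ = a * b⁻¹ := by group
        calc b⁻¹ * (a * x * a⁻¹) * b = (b⁻¹ * a) * x * (a⁻¹ * b) := by group
          _ = (a * b⁻¹) * x * (b * a⁻¹) := by rw [hi, hi2]
          _ = a * (b⁻¹ * x * b) * a⁻¹ := by group
      rw [e]; exact conj_mem_cjg (hbn' x hx)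
    have hcomm : ∀ z ∈ cjg a K, toE y * toE z = toE z * toE y := by
      intro z hz
      rw [← toE_mul, ← toE_mul, hc y hy z hz]
    refine LEMQ_aux_ring hp (Aa := toE a) (Ai := toE a⁻¹) (Z1 := toE (b * (a * x * a⁻¹) * b⁻¹))
      (Z2 := toE (b⁻¹ * (a * x * a⁻¹) * b)) hNa haiN ?_ ?_ (hcomm _ hz1) (hcomm _ hz2)
    · have e1 : toE (b * (a * x * a⁻¹) * b⁻¹) = (1 + N) * (toE a * toE x * toE a⁻¹) * (1 - N) := by
        rw [toE_mul, toE_mul, toE_mul, toE_mul, hbE, hbiE]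
      have e2 : toE (b⁻¹ * (a * x * a⁻¹) * b) = (1 - N) * (toE a * toE x * toE a⁻¹) * (1 + N) := by
        rw [toE_mul, toE_mul, toE_mul, toE_mul, hbE, hbiE]
      rw [e1, e2, LEMQ_aux_sum]
    · have := hcomm _ hx'
      rwa [toE_mul, toE_mul] at this
  have hF0v : ∀ x ∈ K, ∀ y ∈ K, ∀ v : V, y ((N * toE x * N) v) = (N * toE x * N) (y v) := by
    intro x hx y hy v
    have := congrArg (fun f : Module.End (ZMod p) V => f v) (hF0 x hx y hy)
    simpa using this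
  -- (S3)
  have hS3 : ∀ x ∈ K, K ≤ centS (LinearMap.range (N * toE x * N)) := by
    intro x hx
    apply LEMQ_aux_gen hgen
    intro k hk w hw
    obtain ⟨v, rfl⟩ := hw
    show k (b (k⁻¹ ((N * toE x * N) v))) = (N * toE x * N) v
    have h1 : k⁻¹ ((N * toE x * N) v) = (N * toE x * N) (k⁻¹ v) := hF0v x hx k⁻¹ (K.inv_mem hk) v
    have h2 : b ((N * toE x * N) (k⁻¹ v)) = (N * toE x * N) (k⁻¹ v) := by
      rw [← mem_ker_Nop, LinearMap.mem_ker]
      show N ((N * toE x * N) (k⁻¹ v)) = 0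
      have : N * (N * toE x * N) = 0 := by
        rw [← mul_assoc, ← mul_assoc, hb, zero_mul, zero_mul]
      have := congrArg (fun f : Module.End (ZMod p) V => f (k⁻¹ v)) this
      simpa using this
    rw [h1, h2, ← h1, VM_aux_apply_inv]
  -- (S3')
  have hS3' : ∀ x ∈ K, ∀ u ∈ comV K, (N * toE x * N) u = 0 := by
    intro x hx u hu
    unfold comV at hu
    induction hu using Submodule.span_induction with
    | mem w hw =>
      obtain ⟨k, hk, v, rfl⟩ := hw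
      rw [map_sub, ← hF0v x hx k hk v, hS3 x hx hk _ ⟨v, rfl⟩, sub_self]
    | zero => simp
    | add u w _ _ hu hw => rw [map_add, hu, hw, add_zero]
    | smul c u _ hu => rw [map_smul, hu, smul_zero]
  -- stabilisers
  have hKU : ∀ x ∈ K, x ∈ stabS (comV K) := fun x hx => VM_aux_stab_com (VM_aux_cjg_self hx)
  have hbU : b ∈ stabS (comV K) := VM_aux_stab_com hbK
  have hconjU : ∀ x ∈ K, x * b * x⁻¹ ∈ stabS (comV K) := fun x hx =>
    (stabS _).mul_mem ((stabS _).mul_mem (hKU x hx) hbU) ((stabS _).inv_mem (hKU x hx))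
  -- (A1)
  have hA1 : ∀ x ∈ K, ∀ x' ∈ K, ∀ u ∈ comV K, Nop (x * b * x⁻¹) (Nop (x' * b * x'⁻¹) u) = 0 := by
    intro x hx x' hx' u hu
    rw [LEMQ_aux_Nop_conj, LEMQ_aux_Nop_conj]
    have e : (toE x * Nop b * toE x⁻¹) * (toE x' * Nop b * toE x'⁻¹)
        = toE x * (N * toE (x⁻¹ * x') * N) * toE x'⁻¹ := by
      rw [toE_mul]; simp only [mul_assoc, hN]
    have hu' : x'⁻¹ u ∈ comV K := ((hKU x'⁻¹ (K.inv_mem hx')) u).mp hu
    have h0 := hS3' (x⁻¹ * x') (K.mul_mem (K.inv_mem hx) hx') _ hu'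
    have := congrArg (fun f : Module.End (ZMod p) V => f u) e
    simp only [Module.End.mul_apply, toE_apply] at this h0 ⊢
    rw [this, h0, map_zero]
  -- (i)
  have hi : K ≤ LEMQ_aux_ZU (comV K) {g | ∃ x ∈ K, g = x * b * x⁻¹} := by
    apply LEMQ_aux_gen hgen
    intro x hx
    refine ⟨hconjU x hx, ?_⟩
    rintro s ⟨x', hx', rfl⟩ u hu
    exact LEMQ_aux_comm_of_quad (hA1 x hx x' hx' u hu) (hA1 x' hx' x hx u hu)
  -- (ii)
  have hii : K ≤ LEMQ_aux_ZU (comV K) (K : Set (GLV p V)) := by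
    apply LEMQ_aux_gen hgen
    intro x hx
    refine ⟨hconjU x hx, ?_⟩
    intro k hk u hu
    exact ((hi hk).2 _ ⟨x, hx, rfl⟩ u hu).symm
  -- (iv)
  have hcent : K ≤ centS (comV K) := by
    have hperf : ⁅K, K⁆ = K := Subgroup.isPerfect_iff.1 hK.1
    have : ⁅K, K⁆ ≤ centS (comV K) := by
      rw [Subgroup.commutator_le]
      intro g₁ h₁ g₂ h₂ u hu
      rw [commutatorElement_def]
      show g₁ (g₂ (g₁⁻¹ (g₂⁻¹ u))) = u
      have hu1 : g₂⁻¹ u ∈ comV K := ((hKU _ (K.inv_mem h₂)) u).mp hu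
      have hu2 : g₁⁻¹ (g₂⁻¹ u) ∈ comV K := ((hKU _ (K.inv_mem h₁)) _).mp hu1
      rw [(hii h₁).2 g₂ h₂ _ hu2, VM_aux_apply_inv, VM_aux_apply_inv]
    rwa [hperf] at this
  -- (v)
  apply QS_not_comm hK
  intro x hx y hy
  apply LinearEquiv.ext
  intro v
  show x (y v) = y (x v)
  have h1 : x (y v - v) = y v - v := hcent hx _ (mem_comV hy v)
  have h2 : y (x v - v) = x v - v := hcent hy _ (mem_comV hx v)
  rw [map_sub] at h1 h2
  calc x (y v) = (x (y v) - x v) + x v := by abel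
    _ = (y v - v) + x v := by rw [h1]
    _ = (x v - v) + y v := by abel
    _ = (y (x v) - y v) + y v := by rw [h2]
    _ = y (x v) := by abel

end Cfsg.Agent.S3086P
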