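import Mathlib
import Cfsg.Prelude.Def_Characters
import Cfsg.Agent.Helper24.Regular

/-!
Counting square roots of the identity via characters.
-/

namespace Cfsg.Agent.Helper24

universe u

/-- The number of solutions of `s * s = 1`. -/
theorem card_sq_eq_one {G : Type u} [Group G] [Fintype G] :
    (Nat.card {s : G // s * s = 1} : ℂ) =
      ∑ᶠ χ : IrrCharacter G,
        ((Nat.card G : ℂ)⁻¹ * ∑ s : G, (χ : G → ℂ) (s * s)) * (χ : G → ℂ) 1 := by
  classical
  haveI : Fintype (IrrCharacter G) := Fintype.ofFinite _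
  rw [finsum_eq_sum_of_fintype]
  have h1 : ∀ χ : IrrCharacter G,
      ((Nat.card G : ℂ)⁻¹ * ∑ s : G, (χ : G → ℂ) (s * s)) * (χ : G → ℂ) 1 =
      (Nat.card G : ℂ)⁻¹ * ∑ s : G, (χ : G → ℂ) 1 * (χ : G → ℂ) (s * s) := by
    intro χ
    rw [mul_assoc, Finset.sum_mul]
    congr 1
    refine Finset.sum_congr rfl ?_
    intro s _
    ring
  simp_rw [h1]
  rw [← Finset.mul_sum, Finset.sum_comm]
  have h2 : ∀ s : G, ∑ χ : IrrCharacter G, (χ : G → ℂ) 1 * (χ : G → ℂ) (s * s) =
      if s * s = 1 then (Nat.card G : ℂ) else 0 := by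
    intro s
    by_cases hs : s * s = 1
    · rw [if_pos hs, hs, ← sum_sq_irr_one]
      refine Finset.sum_congr rfl ?_
      intro χ _
      ring
    · rw [if_neg hs]
      exact sum_irr_one_mul_eq_zero hs
  simp_rw [h2]
  rw [Finset.sum_ite, Finset.sum_const_zero, add_zero, Finset.sum_const, nsmul_eq_mul,
    ← mul_assoc, mul_comm _ ((Finset.univ.filter _).card : ℂ), mul_assoc,
    inv_mul_cancel₀ card_ne_zero_complex, mul_one, Nat.card_eq_fintype_card, Fintype.card_subtype]

end Cfsg.Agent.Helper24
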