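import Mathlib
import Cfsg.Prelude.Def_Characters
import Cfsg.Agent.Helper24.Span
import Cfsg.Agent.Helper24.Linear

/-!
Frobenius' formula for the number of ways to write an element as a commutator.
-/

namespace Cfsg.Agent.Helper24

open Representation Module

universe u v

section

variable {G : Type u} [Group G] [Fintype G]

/-- The number of `y` with `y w y⁻¹ = g`, as a complex number: a class function of `g`. -/
noncomputable def conjCount [DecidableEq G] (w : G) : G → ℂ :=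
  fun g => ∑ y : G, if y * w * y⁻¹ = g then (1 : ℂ) else 0

theorem isClassFunction_conjCount [DecidableEq G] (w : G) : IsClassFunction G (conjCount w) := by
  intro g h
  unfold conjCount
  refine Fintype.sum_equiv (Equiv.mulLeft h⁻¹) _ _ ?_
  intro y
  simp only [Equiv.coe_mulLeft]
  have : y * w * y⁻¹ = h * g * h⁻¹ ↔ h⁻¹ * y * w * (h⁻¹ * y)⁻¹ = g := by
    constructor
    · intro e
      calc h⁻¹ * y * w * (h⁻¹ * y)⁻¹ = h⁻¹ * (y * w * y⁻¹) * h := by group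
        _ = g := by rw [e]; group
    · intro e
      calc y * w * y⁻¹ = h * (h⁻¹ * y * w * (h⁻¹ * y)⁻¹) * h⁻¹ := by group
        _ = h * g * h⁻¹ := by rw [e]
  exact if_congr this rfl rfl

theorem sum_conjCount_mul [DecidableEq G] (w : G) (F : G → ℂ) :
    ∑ g : G, conjCount w g * F g = ∑ y : G, F (y * w * y⁻¹) := by
  unfold conjCount
  simp_rw [Finset.sum_mul]
  rw [Finset.sum_comm]
  refine Finset.sum_congr rfl ?_
  intro y _
  simp

/-- `χ(1) ∑_y χ(y w y⁻¹ x) = |G| χ(w) χ(x)` for an irreducible character `χ`. -/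
theorem irr_sum_conj_mul (χ : IrrCharacter G) (w x : G) :
    (χ : G → ℂ) 1 * ∑ y : G, (χ : G → ℂ) (y * w * y⁻¹ * x) =
      (Nat.card G : ℂ) * (χ : G → ℂ) w * (χ : G → ℂ) x := by
  classical
  have h := irr_sum_mul_char_mul χ (conjCount w) (isClassFunction_conjCount w) x
  rw [sum_conjCount_mul w (fun g => (χ : G → ℂ) (g * x)),
    sum_conjCount_mul w (fun g => (χ : G → ℂ) g)] at h
  rw [h]
  have hcf := isClassFunction_irr χ
  have : ∀ y : G, (χ : G → ℂ) (y * w * y⁻¹) = (χ : G → ℂ) w := fun y => hcf w y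
  simp_rw [this]
  rw [Finset.sum_const, Finset.card_univ, nsmul_eq_mul, Nat.card_eq_fintype_card]
  ring

/-- `∑_{x,y} χ(x y x⁻¹ y⁻¹) = |G|² / χ(1)`. -/
theorem irr_sum_commutator (χ : IrrCharacter G) :
    (χ : G → ℂ) 1 * ∑ x : G, ∑ y : G, (χ : G → ℂ) (x * y * x⁻¹ * y⁻¹) =
      (Nat.card G : ℂ) ^ 2 := by
  rw [Finset.sum_comm, Finset.mul_sum]
  have h1 : ∀ y : G, (χ : G → ℂ) 1 * ∑ x : G, (χ : G → ℂ) (x * y * x⁻¹ * y⁻¹) =
      (Nat.card G : ℂ) * ((χ : G → ℂ) y * (starRingEnd ℂ) ((χ : G → ℂ) y)) := by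
    intro y
    rw [irr_sum_conj_mul χ y y⁻¹]
    have : (χ : G → ℂ) y⁻¹ = (starRingEnd ℂ) ((χ : G → ℂ) y) := by
      obtain ⟨n, ρ, _, hρ⟩ := χ.2
      rw [← hρ]
      exact char_inv ρ y
    rw [this]
    ring
  simp_rw [h1]
  rw [← Finset.mul_sum]
  have h2 := classInner_irr_self χ
  unfold classInner at h2
  have h3 : ∑ g : G, (χ : G → ℂ) g * (starRingEnd ℂ) ((χ : G → ℂ) g) = (Nat.card G : ℂ) := by
    have hne := card_ne_zero_complex (G := G)
    field_simp at h2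
    exact h2
  rw [h3]
  ring

/-- The number of pairs `(x, y)` with `[x, y] = z`. -/
noncomputable def commCount [DecidableEq G] : G → ℂ :=
  fun z => ∑ x : G, ∑ y : G, if x * y * x⁻¹ * y⁻¹ = z then (1 : ℂ) else 0

theorem isClassFunction_commCount [DecidableEq G] : IsClassFunction G (commCount (G := G)) := by
  intro g h
  unfold commCount
  refine Fintype.sum_equiv (Equiv.mulLeft h⁻¹ |>.trans (Equiv.mulRight h)) _ _ ?_
  intro x
  refine Fintype.sum_equiv (Equiv.mulLeft h⁻¹ |>.trans (Equiv.mulRight h)) _ _ ?_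
  intro y
  simp only [Equiv.trans_apply, Equiv.coe_mulLeft, Equiv.coe_mulRight]
  have : x * y * x⁻¹ * y⁻¹ = h * g * h⁻¹ ↔
      h⁻¹ * x * h * (h⁻¹ * y * h) * (h⁻¹ * x * h)⁻¹ * (h⁻¹ * y * h)⁻¹ = g := by
    constructor
    · intro e
      calc h⁻¹ * x * h * (h⁻¹ * y * h) * (h⁻¹ * x * h)⁻¹ * (h⁻¹ * y * h)⁻¹
          = h⁻¹ * (x * y * x⁻¹ * y⁻¹) * h := by group
        _ = g := by rw [e]; group
    · intro e
      calc x * y * x⁻¹ * y⁻¹
          = h * (h⁻¹ * x * h * (h⁻¹ * y * h) * (h⁻¹ * x * h)⁻¹ * (h⁻¹ * y * h)⁻¹) * h⁻¹ := by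
            group
        _ = h * g * h⁻¹ := by rw [e]
  exact if_congr this rfl rfl

theorem sum_commCount_mul [DecidableEq G] (F : G → ℂ) :
    ∑ z : G, commCount z * F z = ∑ x : G, ∑ y : G, F (x * y * x⁻¹ * y⁻¹) := by
  unfold commCount
  simp_rw [Finset.sum_mul]
  rw [Finset.sum_comm]
  refine Finset.sum_congr rfl ?_
  intro x _
  rw [Finset.sum_comm]
  refine Finset.sum_congr rfl ?_
  intro y _
  simp

theorem classInner_commCount [DecidableEq G] (χ : IrrCharacter G) :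
    classInner (commCount (G := G)) (χ : G → ℂ) = (Nat.card G : ℂ) / (χ : G → ℂ) 1 := by
  unfold classInner
  rw [sum_commCount_mul (fun z => (starRingEnd ℂ) ((χ : G → ℂ) z))]
  have h := congrArg (starRingEnd ℂ) (irr_sum_commutator χ)
  rw [map_mul, irr_one_conj, map_sum] at h
  simp_rw [map_sum] at h
  have hne := card_ne_zero_complex (G := G)
  have h1 := irr_one_ne_zero χ
  rw [map_pow, Complex.conj_natCast] at h
  field_simp
  rw [mul_comm]
  rw [h]

variable [Fintype (IrrCharacter G)]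

/-- Frobenius' formula: the number of pairs `(x, y)` with `[x, y] = z` is
`|G| ∑_χ χ(z) / χ(1)`. -/
theorem commCount_eq [DecidableEq G] (z : G) :
    commCount z = (Nat.card G : ℂ) * ∑ χ : IrrCharacter G, (χ : G → ℂ) z / (χ : G → ℂ) 1 := by
  have h := congrFun (IsClassFunction.eq_sum_classInner (isClassFunction_commCount (G := G))) z
  rw [h, Finset.sum_apply, Finset.mul_sum]
  refine Finset.sum_congr rfl ?_
  intro χ _
  rw [Pi.smul_apply, smul_eq_mul, classInner_commCount]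
  ring

end

section Statements

variable {G : Type u} [Group G] [Finite G]

theorem card_commutator_pairs (z : G) :
    (Nat.card {xy : G × G // xy.1 * xy.2 * xy.1⁻¹ * xy.2⁻¹ = z} : ℂ) =
      (Nat.card G : ℂ) * ∑ᶠ χ : IrrCharacter G, (χ : G → ℂ) z / (χ : G → ℂ) 1 := by
  classical
  haveI : Fintype G := Fintype.ofFinite G
  haveI : Fintype (IrrCharacter G) := Fintype.ofFinite _
  rw [finsum_eq_sum_of_fintype, ← commCount_eq z]
  unfold commCount
  rw [Nat.card_eq_fintype_card, Fintype.card_subtype]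
  rw [← Finset.sum_product' (f := fun x y => if x * y * x⁻¹ * y⁻¹ = z then (1 : ℂ) else 0)]
  rw [Finset.sum_boole]
  rfl

/-- An element is a commutator iff `∑_χ χ(g)/χ(1) ≠ 0`. -/
theorem isCommutator_iff (g : G) :
    (∃ a b : G, g = a * b * a⁻¹ * b⁻¹) ↔
      ∑ᶠ χ : IrrCharacter G, (χ : G → ℂ) g / (χ : G → ℂ) 1 ≠ 0 := by
  have h := card_commutator_pairs g
  have hG : (Nat.card G : ℂ) ≠ 0 := by
    exact_mod_cast (Nat.card_pos (α := G)).ne'
  constructor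
  · rintro ⟨a, b, hab⟩ h0
    rw [h0, mul_zero] at h
    have h1 : Nat.card {xy : G × G // xy.1 * xy.2 * xy.1⁻¹ * xy.2⁻¹ = g} = 0 := by
      exact_mod_cast h
    haveI : Nonempty {xy : G × G // xy.1 * xy.2 * xy.1⁻¹ * xy.2⁻¹ = g} :=
      ⟨⟨(a, b), hab.symm⟩⟩
    exact (Nat.card_pos (α := {xy : G × G // xy.1 * xy.2 * xy.1⁻¹ * xy.2⁻¹ = g})).ne' h1
  · intro hne
    have h1 : (Nat.card {xy : G × G // xy.1 * xy.2 * xy.1⁻¹ * xy.2⁻¹ = g} : ℂ) ≠ 0 := by
      rw [h]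
      exact mul_ne_zero hG hne
    have h2 : Nat.card {xy : G × G // xy.1 * xy.2 * xy.1⁻¹ * xy.2⁻¹ = g} ≠ 0 := by
      exact_mod_cast h1
    haveI : Nonempty {xy : G × G // xy.1 * xy.2 * xy.1⁻¹ * xy.2⁻¹ = g} := by
      by_contra hemp
      rw [not_nonempty_iff] at hemp
      exact h2 Nat.card_of_isEmpty
    obtain ⟨⟨⟨a, b⟩, hab⟩⟩ := this
    exact ⟨a, b, hab.symm⟩

end Statements

section TwoCommutators

variable {G : Type u} [Group G] [Fintype G]

omit [Fintype G] in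
theorem IsClassFunction.mul_comm' {f : G → ℂ} (hf : IsClassFunction G f) (a b : G) :
    f (a * b) = f (b * a) := by
  have := hf (a * b) b
  rw [← this]
  congr 1
  group

/-- `χ(1) ∑_x conj χ(x) χ(x z) = |G| χ(z)`. -/
theorem irr_sum_conj_mul_self (χ : IrrCharacter G) (z : G) :
    (χ : G → ℂ) 1 * ∑ x : G, (starRingEnd ℂ) ((χ : G → ℂ) x) * (χ : G → ℂ) (x * z) =
      (Nat.card G : ℂ) * (χ : G → ℂ) z := by
  have h := irr_sum_mul_char_mul χ (fun g => (starRingEnd ℂ) ((χ : G → ℂ) g))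
    (isClassFunction_conj (isClassFunction_irr χ)) z
  rw [h]
  have h2 := classInner_irr_self χ
  unfold classInner at h2
  have h3 : ∑ g : G, (starRingEnd ℂ) ((χ : G → ℂ) g) * (χ : G → ℂ) g = (Nat.card G : ℂ) := by
    have hne := card_ne_zero_complex (G := G)
    field_simp at h2
    rw [← h2]
    refine Finset.sum_congr rfl ?_
    intro g _
    ring
  rw [h3]
  ring

/-- `χ(1)² ∑_{x,y} χ(z [x,y]) = |G|² χ(z)`. -/
theorem irr_sum_mul_commutator (χ : IrrCharacter G) (z : G) :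
    (χ : G → ℂ) 1 ^ 2 * ∑ x : G, ∑ y : G, (χ : G → ℂ) (z * (x * y * x⁻¹ * y⁻¹)) =
      (Nat.card G : ℂ) ^ 2 * (χ : G → ℂ) z := by
  have hcf := isClassFunction_irr χ
  have h1 : ∀ x : G, (χ : G → ℂ) 1 * ∑ y : G, (χ : G → ℂ) (z * (x * y * x⁻¹ * y⁻¹)) =
      (Nat.card G : ℂ) * ((starRingEnd ℂ) ((χ : G → ℂ) x) * (χ : G → ℂ) (x * z)) := by
    intro x
    have : ∀ y : G, (χ : G → ℂ) (z * (x * y * x⁻¹ * y⁻¹)) =
        (χ : G → ℂ) (y * x⁻¹ * y⁻¹ * (z * x)) := by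
      intro y
      rw [IsClassFunction.mul_comm' hcf (y * x⁻¹ * y⁻¹) (z * x)]
      group
    simp_rw [this]
    rw [irr_sum_conj_mul χ x⁻¹ (z * x)]
    have hinv : (χ : G → ℂ) x⁻¹ = (starRingEnd ℂ) ((χ : G → ℂ) x) := by
      obtain ⟨n, ρ, _, hρ⟩ := χ.2
      rw [← hρ]
      exact char_inv ρ x
    rw [hinv, IsClassFunction.mul_comm' hcf z x]
    ring
  have h2 : (χ : G → ℂ) 1 ^ 2 * ∑ x : G, ∑ y : G, (χ : G → ℂ) (z * (x * y * x⁻¹ * y⁻¹)) =
      (χ : G → ℂ) 1 * ∑ x : G, ((χ : G → ℂ) 1 *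
        ∑ y : G, (χ : G → ℂ) (z * (x * y * x⁻¹ * y⁻¹))) := by
    rw [← Finset.mul_sum]
    ring
  rw [h2]
  simp_rw [h1]
  rw [← Finset.mul_sum, mul_left_comm, irr_sum_conj_mul_self]
  ring

end TwoCommutators

section TwoCommutatorsStatement

variable {G : Type u} [Group G] [Finite G]

/-- If `∑_χ 1/χ(1)² < 2` then every element is a product of two commutators. -/
theorem exists_two_commutators
    (h : ∑ᶠ χ : IrrCharacter G, 1 / ‖(χ : G → ℂ) 1‖ ^ 2 < (2 : ℝ)) (g : G) :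
    ∃ a b c d : G, (a * b * a⁻¹ * b⁻¹) * (c * d * c⁻¹ * d⁻¹) = g := by
  classical
  haveI : Fintype G := Fintype.ofFinite G
  haveI : Fintype (IrrCharacter G) := Fintype.ofFinite _
  rw [finsum_eq_sum_of_fintype] at h
  by_contra hcon
  push Not at hcon
  -- for all c d, g * [c,d]⁻¹ is not a commutator
  have h0 : ∀ c d : G, ∑ χ : IrrCharacter G,
      (χ : G → ℂ) (g * (c * d * c⁻¹ * d⁻¹)) / (χ : G → ℂ) 1 = 0 := by
    intro c d
    by_contra hne
    rw [← finsum_eq_sum_of_fintype] at hne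
    obtain ⟨a, b, hab⟩ := (isCommutator_iff _).mpr hne
    apply hcon a b d c
    rw [← hab]
    group
  -- sum over all c d
  have hG : (Nat.card G : ℂ) ≠ 0 := card_ne_zero_complex
  have h1 : ∑ χ : IrrCharacter G, (χ : G → ℂ) g / (χ : G → ℂ) 1 ^ 3 = 0 := by
    have hs : ∑ c : G, ∑ d : G, ∑ χ : IrrCharacter G,
        (χ : G → ℂ) (g * (c * d * c⁻¹ * d⁻¹)) / (χ : G → ℂ) 1 = 0 := by
      simp_rw [h0]
      simp
    have hs2 : ∑ c : G, ∑ d : G, ∑ χ : IrrCharacter G,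
        (χ : G → ℂ) (g * (c * d * c⁻¹ * d⁻¹)) / (χ : G → ℂ) 1 =
        (Nat.card G : ℂ) ^ 2 * ∑ χ : IrrCharacter G, (χ : G → ℂ) g / (χ : G → ℂ) 1 ^ 3 := by
      have : ∀ c : G, ∑ d : G, ∑ χ : IrrCharacter G,
          (χ : G → ℂ) (g * (c * d * c⁻¹ * d⁻¹)) / (χ : G → ℂ) 1 =
          ∑ χ : IrrCharacter G, ∑ d : G,
            (χ : G → ℂ) (g * (c * d * c⁻¹ * d⁻¹)) / (χ : G → ℂ) 1 := fun c => Finset.sum_comm
      simp_rw [this]
      rw [Finset.sum_comm, Finset.mul_sum]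
      refine Finset.sum_congr rfl ?_
      intro χ _
      have h3 := irr_sum_mul_commutator χ g
      have hne := irr_one_ne_zero χ
      simp_rw [div_eq_mul_inv]
      simp_rw [← Finset.sum_mul]
      field_simp
      rw [← h3]
      ring
    rw [hs2] at hs
    exact (mul_eq_zero.mp hs).resolve_left (pow_ne_zero 2 hG)
  -- estimate
  rw [← Finset.add_sum_erase Finset.univ _ (Finset.mem_univ (trivIrr G))] at h1 h
  simp only [trivIrr_apply, one_pow, div_one, norm_one] at h1 h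
  have hbound : ‖∑ χ ∈ Finset.univ.erase (trivIrr G), (χ : G → ℂ) g / (χ : G → ℂ) 1 ^ 3‖ ≤
      ∑ χ ∈ Finset.univ.erase (trivIrr G), 1 / ‖(χ : G → ℂ) 1‖ ^ 2 := by
    refine (norm_sum_le _ _).trans (Finset.sum_le_sum ?_)
    intro χ _
    obtain ⟨n, ρ, hρ, hχ⟩ := χ.2
    haveI := hρ
    have hle : ‖(χ : G → ℂ) g‖ ≤ ‖(χ : G → ℂ) 1‖ := by
      rw [← hχ, Representation.char_one, Complex.norm_natCast]
      exact norm_char_le ρ g
    have hpos : 0 < ‖(χ : G → ℂ) 1‖ := norm_pos_iff.mpr (irr_one_ne_zero χ)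
    rw [norm_div, norm_pow, div_le_div_iff₀ (pow_pos hpos 3) (pow_pos hpos 2)]
    calc ‖(χ : G → ℂ) g‖ * ‖(χ : G → ℂ) 1‖ ^ 2 ≤ ‖(χ : G → ℂ) 1‖ * ‖(χ : G → ℂ) 1‖ ^ 2 :=
          mul_le_mul_of_nonneg_right hle (pow_nonneg hpos.le 2)
      _ = 1 * ‖(χ : G → ℂ) 1‖ ^ 3 := by ring
  have h5 : ∑ χ ∈ Finset.univ.erase (trivIrr G), (χ : G → ℂ) g / (χ : G → ℂ) 1 ^ 3 = -1 := by
    linear_combination h1
  rw [h5, norm_neg, norm_one] at hbound
  linarith

end TwoCommutatorsStatement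


end Cfsg.Agent.Helper24
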