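import Mathlib
import Cfsg.Prelude.Def_Characters
import Cfsg.Agent.Helper24.Expansion
import Cfsg.Agent.Helper24.Induced
import Cfsg.Agent.Helper24.Abelian
import Cfsg.Agent.Helper8.CliffordAb
import Cfsg.Agent.Helper8.Ind
import Cfsg.Agent.Helper5.IndFun

/-!
Fully ramified characters: `χ_N = e ϑ` with `e² = [G : N]`.
-/

namespace Cfsg.Agent.Helper24

universe u

section FullyRamified

variable {G : Type u} [Group G] [Fintype G] (N : Subgroup G) [hN : N.Normal] [Fintype N]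

omit hN in
/-- Splitting the norm of a function on `G` into the part on `N` and the rest. -/
theorem card_mul_classInner_split (χ : G → ℂ) [DecidablePred (· ∈ N)] :
    (Nat.card G : ℂ) * classInner χ χ =
      (Nat.card N : ℂ) * classInner (fun n : N => χ n) (fun n : N => χ n) +
        ∑ g ∈ Finset.univ.filter (fun g : G => g ∉ N), χ g * (starRingEnd ℂ) (χ g) := by
  unfold classInner
  have hG : (Nat.card G : ℂ) ≠ 0 := by exact_mod_cast Nat.card_pos.ne'
  have hNc : (Nat.card N : ℂ) ≠ 0 := by exact_mod_cast Nat.card_pos.ne'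
  rw [← mul_assoc, mul_inv_cancel₀ hG, one_mul, ← mul_assoc, mul_inv_cancel₀ hNc, one_mul]
  rw [← Finset.sum_filter_add_sum_filter_not Finset.univ (fun g : G => g ∈ N)]
  congr 1
  rw [Finset.sum_subtype (Finset.univ.filter (fun g : G => g ∈ N)) (p := fun g => g ∈ N)
    (fun g => by simp)]

variable (χ : G → ℂ) (ϑ : N → ℂ)

omit hN in
/-- If `χ_N = e ϑ` then `|G| = |N| e² + Σ_{g ∉ N} |χ g|²`. -/
theorem card_eq_of_restrict_eq_smul [DecidablePred (· ∈ N)] (hχ : IsIrrCharacter G χ)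
    (hϑ : IsIrrCharacter N ϑ) (e : ℕ)
    (he : (fun n : N => χ n) = (e : ℂ) • ϑ) :
    (Nat.card G : ℂ) = (Nat.card N : ℂ) * (e : ℂ) ^ 2 +
      ∑ g ∈ Finset.univ.filter (fun g : G => g ∉ N), χ g * (starRingEnd ℂ) (χ g) := by
  haveI : Fintype (IrrCharacter G) := Fintype.ofFinite _
  haveI : Fintype (IrrCharacter N) := Fintype.ofFinite _
  have h1 := card_mul_classInner_split N χ
  rw [(isIrrCharacter_iff_classInner_self.mp hχ).2, mul_one, he, classInner_smul_left,
    classInner_smul_right, (isIrrCharacter_iff_classInner_self.mp hϑ).2, Complex.conj_natCast,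
    mul_one] at h1
  rw [h1]
  ring

omit hN [Fintype N] in
/-- The sum of `|χ g|²` off `N` vanishes iff `χ` vanishes off `N`. -/
theorem sum_off_eq_zero_iff [DecidablePred (· ∈ N)] :
    ∑ g ∈ Finset.univ.filter (fun g : G => g ∉ N), χ g * (starRingEnd ℂ) (χ g) = 0 ↔
      ∀ g : G, g ∉ N → χ g = 0 := by
  constructor
  · intro h g hg
    have h1 : ∀ g : G, χ g * (starRingEnd ℂ) (χ g) = ((Complex.normSq (χ g) : ℝ) : ℂ) :=
      fun g => Complex.mul_conj (χ g)
    simp_rw [h1] at h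
    rw [← Complex.ofReal_sum] at h
    have h2 : ∑ g ∈ Finset.univ.filter (fun g : G => g ∉ N), Complex.normSq (χ g) = 0 := by
      exact_mod_cast h
    have h3 := (Finset.sum_eq_zero_iff_of_nonneg (fun g _ => Complex.normSq_nonneg (χ g))).mp h2 g
      (Finset.mem_filter.mpr ⟨Finset.mem_univ _, hg⟩)
    exact Complex.normSq_eq_zero.mp h3
  · intro h
    apply Finset.sum_eq_zero
    intro g hg
    rw [h g (Finset.mem_filter.mp hg).2, zero_mul]

omit [Fintype G] [Fintype N] in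
/-- Invariance of `ϑ` when `χ_N = e ϑ` with `e ≠ 0`. -/
theorem invariant_of_restrict_eq_smul (hχ : IsIrrCharacter G χ) (e : ℕ) (he0 : e ≠ 0)
    (he : (fun n : N => χ n) = (e : ℂ) • ϑ) (g : G) (n : N) :
    ϑ ⟨g * n * g⁻¹, hN.conj_mem (n : G) n.2 g⟩ = ϑ n := by
  have hcf : IsClassFunction G χ := IsCharacter.isClassFunction (IsIrrCharacter.isCharacter hχ)
  have h1 := congrFun he ⟨g * n * g⁻¹, hN.conj_mem (n : G) n.2 g⟩
  have h2 := congrFun he n
  simp only [Pi.smul_apply, smul_eq_mul] at h1 h2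
  have h3 : χ (g * n * g⁻¹) = χ n := hcf n g
  rw [h3, h2] at h1
  have he0' : (e : ℂ) ≠ 0 := by exact_mod_cast he0
  exact (mul_left_cancel₀ he0' h1).symm

/-- For an invariant constituent `ϑ` of `χ_N`: `χ_N = e ϑ` with `e = [ϑ^G, χ]`. -/
theorem exists_restrict_eq_smul_of_invariant (hχ : IsIrrCharacter G χ) (hϑ : IsIrrCharacter N ϑ)
    (hcon : classInner (fun n : N => χ n) ϑ ≠ 0)
    (hinv : ∀ (g : G) (n : N), ϑ ⟨g * n * g⁻¹, hN.conj_mem (n : G) n.2 g⟩ = ϑ n) :
    ∃ e : ℕ, e ≠ 0 ∧ (fun n : N => χ n) = (e : ℂ) • ϑ ∧ classInner (indFun N ϑ) χ = e := by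
  haveI : Fintype (IrrCharacter G) := Fintype.ofFinite _
  have hcf : IsClassFunction G χ := IsCharacter.isClassFunction (IsIrrCharacter.isCharacter hχ)
  have hne : classInner (indFun N ϑ) χ ≠ 0 := by
    rw [Helper8.frobenius_reciprocity N ϑ χ hcf, ← classInner_conj_symm]
    intro h0
    apply hcon
    have := congrArg (starRingEnd ℂ) h0
    simpa using this
  obtain ⟨e, he⟩ := IsCharacter.classInner_irr_nat
    (isCharacter_indFun N (IsIrrCharacter.isCharacter hϑ)) ⟨χ, hχ⟩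
  have he' : classInner (indFun N ϑ) χ = e := he
  refine ⟨e, ?_, ?_, he'⟩
  · intro h0
    apply hne
    rw [he', h0, Nat.cast_zero]
  · rw [← he']
    exact Helper8.restrict_eq_of_invariant N ϑ hϑ hinv χ hχ hne

omit hN [Fintype N] in
/-- The degree equation for the induced character. -/
theorem index_mul_eq_sum (hϑ : IsIrrCharacter N ϑ) [Fintype (IrrCharacter G)] :
    ∃ m : IrrCharacter G → ℕ,
      (∀ ψ : IrrCharacter G, classInner (indFun N ϑ) (ψ : G → ℂ) = m ψ) ∧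
      N.index * irrDeg (⟨ϑ, hϑ⟩ : IrrCharacter N) = ∑ ψ : IrrCharacter G, m ψ * irrDeg ψ := by
  obtain ⟨m, hm⟩ := IsCharacter.exists_nat_coeff
    (isCharacter_indFun N (IsIrrCharacter.isCharacter hϑ))
  refine ⟨m, ?_, ?_⟩
  · intro ψ
    rw [hm]
    exact classInner_sum_irr _ ψ
  · have h1 : indFun N ϑ 1 = ((N.index * irrDeg (⟨ϑ, hϑ⟩ : IrrCharacter N) : ℕ) : ℂ) := by
      rw [Helper5.indFun_apply_one]
      have := irrDeg_spec (⟨ϑ, hϑ⟩ : IrrCharacter N)
      simp only at this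
      rw [this]
      push_cast
      ring
    have h2 : indFun N ϑ 1 = ((∑ ψ : IrrCharacter G, m ψ * irrDeg ψ : ℕ) : ℂ) := by
      rw [hm]
      simp only [Finset.sum_apply, Pi.smul_apply, smul_eq_mul]
      push_cast
      refine Finset.sum_congr rfl ?_
      intro ψ _
      rw [irrDeg_spec]
    rw [h1] at h2
    exact_mod_cast h2

/-- Statement S0900. -/
theorem fully_ramified_iff (hχ : IsIrrCharacter G χ) (hϑ : IsIrrCharacter N ϑ)
    (hcon : classInner (fun n : N => χ n) ϑ ≠ 0) :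
    ((∃ e : ℕ, (fun n : N => χ n) = (e : ℂ) • ϑ ∧ e ^ 2 = N.index) ↔
      ((∀ g : G, g ∉ N → χ g = 0) ∧
        ∀ (g : G) (n : N), ϑ ⟨g * n * g⁻¹, hN.conj_mem (n : G) n.2 g⟩ = ϑ n)) ∧
    ((∃ e : ℕ, (fun n : N => χ n) = (e : ℂ) • ϑ ∧ e ^ 2 = N.index) ↔
      (∀ (g : G) (n : N), ϑ ⟨g * n * g⁻¹, hN.conj_mem (n : G) n.2 g⟩ = ϑ n ∧
        ∀ ψ : G → ℂ, IsIrrCharacter G ψ → classInner (indFun N ϑ) ψ ≠ 0 → ψ = χ)) := by
  classical
  haveI : Fintype (IrrCharacter G) := Fintype.ofFinite _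
  haveI : Fintype (IrrCharacter N) := Fintype.ofFinite _
  have hcf : IsClassFunction G χ := IsCharacter.isClassFunction (IsIrrCharacter.isCharacter hχ)
  have hNpos : (Nat.card N : ℂ) ≠ 0 := by exact_mod_cast Nat.card_pos.ne'
  have hGN : (Nat.card G : ℂ) = (N.index : ℂ) * (Nat.card N : ℂ) := by
    rw [← Nat.cast_mul, Subgroup.index_mul_card]
  -- e ≠ 0 in (A)
  have he0 : ∀ e : ℕ, (fun n : N => χ n) = (e : ℂ) • ϑ → e ≠ 0 := by
    intro e he h0
    apply hcon
    rw [he, h0, Nat.cast_zero, zero_smul, classInner_zero_left]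
  -- the key equivalence given χ_N = e ϑ
  have hkey : ∀ e : ℕ, (fun n : N => χ n) = (e : ℂ) • ϑ →
      (e ^ 2 = N.index ↔ ∀ g : G, g ∉ N → χ g = 0) := by
    intro e he
    have h1 := card_eq_of_restrict_eq_smul N χ ϑ hχ hϑ e he
    rw [← sum_off_eq_zero_iff N χ]
    constructor
    · intro h2
      have h3 : (Nat.card G : ℂ) = (Nat.card N : ℂ) * (e : ℂ) ^ 2 := by
        rw [hGN, ← h2]
        push_cast
        ring
      rw [h3] at h1
      exact (add_eq_left.mp h1.symm)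
    · intro h2
      rw [h2, add_zero, hGN] at h1
      have h3 : (N.index : ℂ) = (e : ℂ) ^ 2 := by
        have h4 : (N.index : ℂ) * (Nat.card N : ℂ) = (e : ℂ) ^ 2 * (Nat.card N : ℂ) := by
          rw [h1]; ring
        exact mul_right_cancel₀ hNpos h4
      exact_mod_cast h3.symm
  constructor
  · constructor
    · rintro ⟨e, he, he2⟩
      exact ⟨(hkey e he).mp he2, invariant_of_restrict_eq_smul N χ ϑ hχ e (he0 e he) he⟩
    · rintro ⟨hvan, hinv⟩
      obtain ⟨e, _, he, _⟩ := exists_restrict_eq_smul_of_invariant N χ ϑ hχ hϑ hcon hinv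
      exact ⟨e, he, (hkey e he).mpr hvan⟩
  · obtain ⟨m, hm, hdeg⟩ := index_mul_eq_sum N ϑ hϑ
    have hdpos := irrDeg_pos (⟨ϑ, hϑ⟩ : IrrCharacter N)
    -- multiplicity and degree of χ when χ_N = e ϑ
    have hmχ : ∀ e : ℕ, (fun n : N => χ n) = (e : ℂ) • ϑ →
        m ⟨χ, hχ⟩ = e ∧ irrDeg (⟨χ, hχ⟩ : IrrCharacter G) =
          e * irrDeg (⟨ϑ, hϑ⟩ : IrrCharacter N) := by
      intro e he
      constructor
      · have h1 := hm ⟨χ, hχ⟩
        simp only at h1
        rw [Helper8.frobenius_reciprocity N ϑ χ hcf, he, classInner_smul_right,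
          (isIrrCharacter_iff_classInner_self.mp hϑ).2, Complex.conj_natCast, mul_one] at h1
        exact_mod_cast h1.symm
      · have h1 := congrFun he 1
        simp only [Pi.smul_apply, smul_eq_mul, OneMemClass.coe_one] at h1
        have h2 := irrDeg_spec (⟨χ, hχ⟩ : IrrCharacter G)
        have h3 := irrDeg_spec (⟨ϑ, hϑ⟩ : IrrCharacter N)
        simp only at h2 h3
        rw [h2, h3] at h1
        exact_mod_cast h1
    constructor
    · rintro ⟨e, he, he2⟩
      intro g n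
      refine ⟨invariant_of_restrict_eq_smul N χ ϑ hχ e (he0 e he) he g n, ?_⟩
      intro ψ hψ hne
      by_contra hψχ
      have hne' : (⟨ψ, hψ⟩ : IrrCharacter G) ≠ ⟨χ, hχ⟩ := fun h => hψχ (congrArg Subtype.val h)
      obtain ⟨h1, h2⟩ := hmχ e he
      have hmψ : m ⟨ψ, hψ⟩ ≠ 0 := by
        intro h0
        apply hne
        have := hm ⟨ψ, hψ⟩
        simp only at this
        rw [this, h0, Nat.cast_zero]
      have h3 := Finset.add_le_sum (f := fun ψ : IrrCharacter G => m ψ * irrDeg ψ)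
        (fun _ _ => Nat.zero_le _) (Finset.mem_univ (⟨χ, hχ⟩ : IrrCharacter G))
        (Finset.mem_univ (⟨ψ, hψ⟩ : IrrCharacter G)) hne'.symm
      rw [← hdeg] at h3
      have h3' : m ⟨χ, hχ⟩ * irrDeg (⟨χ, hχ⟩ : IrrCharacter G) +
          m ⟨ψ, hψ⟩ * irrDeg (⟨ψ, hψ⟩ : IrrCharacter G) ≤
          N.index * irrDeg (⟨ϑ, hϑ⟩ : IrrCharacter N) := h3
      rw [h1, h2, ← he2] at h3'
      have h4 := irrDeg_pos (⟨ψ, hψ⟩ : IrrCharacter G)
      have h5 : 1 ≤ m ⟨ψ, hψ⟩ := Nat.one_le_iff_ne_zero.mpr hmψ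
      have h6 : 1 ≤ m ⟨ψ, hψ⟩ * irrDeg (⟨ψ, hψ⟩ : IrrCharacter G) := Nat.mul_pos h5 h4
      have h7 : e * (e * irrDeg (⟨ϑ, hϑ⟩ : IrrCharacter N)) =
          e ^ 2 * irrDeg (⟨ϑ, hϑ⟩ : IrrCharacter N) := by ring
      omega
    · intro hC
      have hinv : ∀ (g : G) (n : N), ϑ ⟨g * n * g⁻¹, hN.conj_mem (n : G) n.2 g⟩ = ϑ n :=
        fun g n => (hC g n).1
      have huniq := (hC 1 1).2
      obtain ⟨e, _, he, _⟩ := exists_restrict_eq_smul_of_invariant N χ ϑ hχ hϑ hcon hinv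
      refine ⟨e, he, ?_⟩
      obtain ⟨h1, h2⟩ := hmχ e he
      have h3 : ∑ ψ : IrrCharacter G, m ψ * irrDeg ψ =
          m ⟨χ, hχ⟩ * irrDeg (⟨χ, hχ⟩ : IrrCharacter G) := by
        refine Finset.sum_eq_single (⟨χ, hχ⟩ : IrrCharacter G) ?_ ?_
        · intro ψ _ hψ
          have : m ψ = 0 := by
            by_contra hmψ
            apply hψ
            apply Subtype.ext
            refine huniq ψ.1 ψ.2 ?_
            rw [hm ψ]
            exact_mod_cast hmψ
          rw [this, zero_mul]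
        · intro h
          exact absurd (Finset.mem_univ _) h
      rw [h3, h1, h2] at hdeg
      have h4 : N.index * irrDeg (⟨ϑ, hϑ⟩ : IrrCharacter N) =
          e ^ 2 * irrDeg (⟨ϑ, hϑ⟩ : IrrCharacter N) := by
        rw [hdeg]; ring
      exact (Nat.eq_of_mul_eq_mul_right hdpos h4).symm

end FullyRamified

end Cfsg.Agent.Helper24
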