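import Mathlib
import Cfsg.Prelude.Def_Classical
import Cfsg.Agent.Helper23.S5953Defs
import Cfsg.Agent.Helper20.S5954Defs
import Cfsg.Agent.Helper2.UnitaryCount

set_option autoImplicit false
open scoped MatrixGroups Matrix

/-! # S5954 piece PRODKU: kernels of powers of `y - 1` on a product. -/

universe u

namespace Cfsg.Agent.S5954P

open Polynomial Cfsg.Agent.S5953P Cfsg.Agent.Helper28.HW Cfsg.Agent.Helper28.HermFrame
open Cfsg.Agent.S2644 Cfsg.Agent.Helper2.SUGen Cfsg.Agent.Helper28.UPair Cfsg.Agent.S5984P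

namespace PRODKU

/-- kernels of a product map -/
noncomputable def kerProdEquiv {F M₁ M₂ : Type*} [Field F] [AddCommGroup M₁] [Module F M₁]
    [AddCommGroup M₂] [Module F M₂] (f : Module.End F M₁) (k : Module.End F M₂) :
    LinearMap.ker (f.prodMap k) ≃ₗ[F] (LinearMap.ker f × LinearMap.ker k) where
  toFun x := (⟨x.1.1, by
      have := x.2
      rw [LinearMap.mem_ker, LinearMap.prodMap_apply, Prod.mk_eq_zero] at this
      exact this.1⟩, ⟨x.1.2, by
      have := x.2
      rw [LinearMap.mem_ker, LinearMap.prodMap_apply, Prod.mk_eq_zero] at this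
      exact this.2⟩)
  invFun y := ⟨(y.1.1, y.2.1), by
      rw [LinearMap.mem_ker, LinearMap.prodMap_apply, Prod.mk_eq_zero]
      exact ⟨y.1.2, y.2.2⟩⟩
  left_inv x := rfl
  right_inv y := rfl
  map_add' x y := rfl
  map_smul' c x := rfl

theorem finrank_ker_prodMap {F M₁ M₂ : Type*} [Field F] [AddCommGroup M₁] [Module F M₁]
    [AddCommGroup M₂] [Module F M₂] [FiniteDimensional F M₁] [FiniteDimensional F M₂]
    (f : Module.End F M₁) (k : Module.End F M₂) :
    Module.finrank F (LinearMap.ker (f.prodMap k)) =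
      Module.finrank F (LinearMap.ker f) + Module.finrank F (LinearMap.ker k) := by
  rw [(kerProdEquiv f k).finrank_eq, Module.finrank_prod]

theorem prodMap_sub_one_pow {F M₁ M₂ : Type*} [Field F] [AddCommGroup M₁] [Module F M₁]
    [AddCommGroup M₂] [Module F M₂] (f : Module.End F M₁) (k : Module.End F M₂) (i : ℕ) :
    (f.prodMap k - 1) ^ i = ((f - 1) ^ i).prodMap ((k - 1) ^ i) := by
  have h1 : f.prodMap k = LinearMap.prodMapRingHom F M₁ M₂ (f, k) := rfl
  have h2 : ((f - 1) ^ i).prodMap ((k - 1) ^ i) =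
      LinearMap.prodMapRingHom F M₁ M₂ ((f - 1) ^ i, (k - 1) ^ i) := rfl
  rw [h1, h2, ← map_one (LinearMap.prodMapRingHom F M₁ M₂), ← map_sub, ← map_pow]
  rfl

end PRODKU

/-- PRODKU (form-free): kernels of powers of `y - 1` on a product -/
theorem finrank_ker_prodMap_pow {F V₁ V₂ : Type*} [Field F] [AddCommGroup V₁] [Module F V₁]
    [FiniteDimensional F V₁] [AddCommGroup V₂] [Module F V₂] [FiniteDimensional F V₂]
    (y₁ : Module.End F V₁) (y₂ : Module.End F V₂) (a : ℕ) :
    Module.finrank F (LinearMap.ker ((y₁.prodMap y₂ - 1) ^ a)) =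
      Module.finrank F (LinearMap.ker ((y₁ - 1) ^ a)) +
        Module.finrank F (LinearMap.ker ((y₂ - 1) ^ a)) := by
  rw [PRODKU.prodMap_sub_one_pow, PRODKU.finrank_ker_prodMap]

end Cfsg.Agent.S5954P
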