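import Mathlib
import Cfsg.Prelude.Def_Classical
import Cfsg.Agent.Helper23.S5953Defs
import Cfsg.Agent.Helper20.S5954Defs
import Cfsg.Agent.Helper2.UnitaryCount

set_option autoImplicit false
open scoped MatrixGroups Matrix

/-! # S5954 piece CYCKER: kernels of the powers of a nilpotent endomorphism on a cyclic subspace. -/

universe u

namespace Cfsg.Agent.S5954P

open Polynomial Cfsg.Agent.S5953P Cfsg.Agent.Helper28.HW Cfsg.Agent.Helper28.HermFrame
open Cfsg.Agent.S2644 Cfsg.Agent.Helper2.SUGen Cfsg.Agent.Helper28.UPair Cfsg.Agent.S5984P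

namespace CYCKER

variable {F V : Type*} [Field F] [AddCommGroup V] [Module F V]

/-- the span of the tail `N^a v, N^(a+1) v, …` -/
def tail (N : Module.End F V) (v : V) (a : ℕ) : Submodule F V :=
  Submodule.span F (Set.range fun j : ℕ => (N ^ (a + j)) v)

theorem map_pow_tail (N : Module.End F V) (v : V) (a b : ℕ) :
    (tail N v b).map (N ^ a) = tail N v (a + b) := by
  rw [tail, tail, Submodule.map_span]
  congr 1
  ext x
  constructor
  · rintro ⟨_, ⟨j, rfl⟩, rfl⟩
    refine ⟨j, ?_⟩
    show (N ^ (a + b + j)) v = (N ^ a) ((N ^ (b + j)) v)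
    simp only [add_assoc, pow_add, Module.End.mul_apply]
  · rintro ⟨j, rfl⟩
    refine ⟨_, ⟨j, rfl⟩, ?_⟩
    show (N ^ a) ((N ^ (b + j)) v) = (N ^ (a + b + j)) v
    simp only [add_assoc, pow_add, Module.End.mul_apply]

theorem tail_eq_sup (N : Module.End F V) (v : V) (a : ℕ) :
    tail N v a = Submodule.span F {(N ^ a) v} ⊔ tail N v (a + 1) := by
  apply le_antisymm
  · rw [tail, Submodule.span_le]
    rintro _ ⟨j, rfl⟩
    rcases j with _ | j
    · apply Submodule.mem_sup_left
      show (N ^ (a + 0)) v ∈ _
      rw [add_zero]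
      exact Submodule.mem_span_singleton_self _
    · apply Submodule.mem_sup_right
      apply Submodule.subset_span
      refine ⟨j, ?_⟩
      show (N ^ (a + 1 + j)) v = (N ^ (a + (j + 1))) v
      congr 2
      omega
  · apply sup_le
    · rw [Submodule.span_singleton_le_iff_mem]
      apply Submodule.subset_span
      exact ⟨0, by simp⟩
    · rw [tail, Submodule.span_le]
      rintro _ ⟨j, rfl⟩
      apply Submodule.subset_span
      refine ⟨j + 1, ?_⟩
      show (N ^ (a + (j + 1))) v = (N ^ (a + 1 + j)) v
      congr 2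
      omega

theorem tail_eq_bot (N : Module.End F V) (v : V) (e : ℕ) (he : (N ^ e) v = 0) (a : ℕ)
    (hae : e ≤ a) : tail N v a = ⊥ := by
  rw [tail, Submodule.span_eq_bot]
  rintro _ ⟨j, rfl⟩
  have : a + j = (a + j - e) + e := by omega
  show (N ^ (a + j)) v = 0
  rw [this, pow_add, Module.End.mul_apply, he, map_zero]

theorem finrank_tail [FiniteDimensional F V] (N : Module.End F V) (v : V) (e : ℕ)
    (he : (N ^ e) v = 0) (hmin : ∀ j, j < e → (N ^ j) v ≠ 0) (a : ℕ) :
    Module.finrank F (tail N v a) = e - a := by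
  induction' hd : e - a with d ih generalizing a
  · rw [tail_eq_bot N v e he a (by omega), finrank_bot]
  · have hlt : a < e := by omega
    have ih' := ih (a + 1) (by omega)
    rw [tail_eq_sup]
    have hnot : (N ^ a) v ∉ tail N v (a + 1) := by
      intro hmem
      have hkill : ∀ x ∈ tail N v (a + 1), (N ^ (e - 1 - a)) x = 0 := by
        intro x hx
        have h1 : (N ^ (e - 1 - a)) x ∈ (tail N v (a + 1)).map (N ^ (e - 1 - a)) :=
          Submodule.mem_map_of_mem hx
        rw [map_pow_tail, tail_eq_bot N v e he _ (by omega)] at h1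
        exact (Submodule.mem_bot F).mp h1
      have h2 := hkill _ hmem
      rw [← Module.End.mul_apply, ← pow_add] at h2
      have h3 : e - 1 - a + a = e - 1 := by omega
      rw [h3] at h2
      exact hmin (e - 1) (by omega) h2
    have hne : (N ^ a) v ≠ 0 := hmin a hlt
    have hdisj : Submodule.span F {(N ^ a) v} ⊓ tail N v (a + 1) = ⊥ := by
      rw [← disjoint_iff, disjoint_comm, Submodule.disjoint_span_singleton' hne]
      exact hnot
    have h4 := Submodule.finrank_sup_add_finrank_inf_eq (Submodule.span F {(N ^ a) v})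
      (tail N v (a + 1))
    rw [hdisj, finrank_bot, add_zero, finrank_span_singleton hne, ih'] at h4
    rw [h4]
    omega

theorem finrank_inf_ker [FiniteDimensional F V] (f : Module.End F V) (E : Submodule F V) :
    Module.finrank F ↥(E ⊓ LinearMap.ker f) + Module.finrank F (E.map f) =
      Module.finrank F E := by
  have h := LinearMap.finrank_range_add_finrank_ker (f.comp E.subtype)
  rw [LinearMap.range_comp, Submodule.range_subtype, LinearMap.ker_comp] at h
  have h2 : Module.finrank F ↥(Submodule.comap E.subtype (LinearMap.ker f)) =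
      Module.finrank F ↥(E ⊓ LinearMap.ker f) := by
    rw [← Submodule.map_comap_subtype, Submodule.finrank_map_subtype_eq]
  rw [h2] at h
  omega

end CYCKER

open CYCKER in
/-- CYCKER (form-free): the kernels of the powers of a nilpotent endomorphism on a cyclic subspace -/
theorem finrank_ker_pow_cyc {F V : Type*} [Field F] [AddCommGroup V] [Module F V]
    [FiniteDimensional F V] (N : Module.End F V) (k : ℕ) (hN : N ^ k = 0) (E : Submodule F V)
    (hE : IsCyc N E) (a : ℕ) :
    Module.finrank F ↥(E ⊓ LinearMap.ker (N ^ a)) = min a (Module.finrank F E) := by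
  classical
  obtain ⟨v, rfl⟩ := hE
  have hex : ∃ e, (N ^ e) v = 0 := ⟨k, by rw [hN]; rfl⟩
  set e := Nat.find hex with he_def
  have he : (N ^ e) v = 0 := Nat.find_spec hex
  have hmin : ∀ j, j < e → (N ^ j) v ≠ 0 := fun j hj => Nat.find_min hex hj
  have hE0 : Submodule.span F (Set.range fun a : ℕ => (N ^ a) v) = tail N v 0 := by
    rw [tail]
    congr 1
    ext x
    simp
  rw [hE0]
  have h1 := finrank_inf_ker (N ^ a) (tail N v 0)
  rw [map_pow_tail, add_zero, finrank_tail N v e he hmin a] at h1
  have h2 := finrank_tail N v e he hmin 0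
  rw [h2] at h1 ⊢
  omega

end Cfsg.Agent.S5954P
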