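import Mathlib
import Cfsg.Prelude.Def_Classical
import Cfsg.Agent.Helper23.S5953Defs
import Cfsg.Agent.Helper20.S5954Defs
import Cfsg.Agent.Helper2.UnitaryCount

set_option autoImplicit false
open scoped MatrixGroups Matrix

/-! # S5954 piece KERSUM: kernels along an invariant direct sum. -/

universe u

namespace Cfsg.Agent.S5954P

open Polynomial Cfsg.Agent.S5953P Cfsg.Agent.Helper28.HW Cfsg.Agent.Helper28.HermFrame
open Cfsg.Agent.S2644 Cfsg.Agent.Helper2.SUGen Cfsg.Agent.Helper28.UPair Cfsg.Agent.S5984P

namespace KERSUM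

theorem finrank_biSup {F V : Type*} [Field F] [AddCommGroup V] [Module F V]
    [FiniteDimensional F V] {U : Type*} (Φ : U → Submodule F V) (hind : iSupIndep Φ)
    (s : Finset U) : Module.finrank F ↥(⨆ i ∈ s, Φ i) = ∑ i ∈ s, Module.finrank F (Φ i) := by
  classical
  induction s using Finset.induction_on with
  | empty => simp
  | insert j s hj ih =>
    rw [Finset.iSup_insert, Finset.sum_insert hj, ← ih]
    have hd : Disjoint (Φ j) (⨆ i ∈ s, Φ i) :=
      hind.disjoint_biSup (x := j) (y := (s : Set U)) (by simpa using hj)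
    have := Submodule.finrank_sup_add_finrank_inf_eq (Φ j) (⨆ i ∈ s, Φ i)
    rw [hd.eq_bot, finrank_bot, add_zero] at this
    exact this

end KERSUM

/-- KERSUM (form-free): kernels along an invariant direct sum -/
theorem finrank_ker_iSup {F V : Type*} [Field F] [AddCommGroup V] [Module F V]
    [FiniteDimensional F V] (f : Module.End F V) {t : ℕ} (E : Fin t → Submodule F V)
    (hinv : ∀ j, ∀ v ∈ E j, f v ∈ E j) (hind : iSupIndep E) :
    Module.finrank F ↥((⨆ j, E j) ⊓ LinearMap.ker f) =
      ∑ j, Module.finrank F ↥(E j ⊓ LinearMap.ker f) := by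
  classical
  have hind' : iSupIndep (fun j => E j ⊓ LinearMap.ker f) :=
    hind.mono (fun j => inf_le_left)
  have hsup' : (⨆ j ∈ (Finset.univ : Finset (Fin t)), (E j ⊓ LinearMap.ker f)) =
      (⨆ j, E j) ⊓ LinearMap.ker f := by
    apply le_antisymm
    · apply iSup_le
      intro j
      apply iSup_le
      intro _
      exact inf_le_inf_right _ (le_iSup E j)
    · rintro v ⟨hv0, hv⟩
      have hv1 : v ∈ ⨆ j ∈ (Finset.univ : Finset (Fin t)), E j := by
        have : (⨆ j ∈ (Finset.univ : Finset (Fin t)), E j) = ⨆ j, E j := by simp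
        rw [this]
        exact hv0
      obtain ⟨μ, hμ⟩ := (Submodule.mem_iSup_finset_iff_exists_sum E v).mp hv1
      have hfv : ∑ j, f (μ j : V) = 0 := by
        rw [← map_sum, hμ]
        exact hv
      have hzero : ∀ j, f (μ j : V) = 0 := by
        intro j
        have h1 : f (μ j : V) ∈ E j := hinv j _ (μ j).2
        have h2 : f (μ j : V) ∈ ⨆ (i : Fin t) (_ : i ≠ j), E i := by
          have h3 : f (μ j : V) = - ∑ i ∈ Finset.univ.erase j, f (μ i : V) := by
            rw [eq_neg_iff_add_eq_zero]
            have := Finset.add_sum_erase Finset.univ (fun i : Fin t => f (μ i : V))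
              (Finset.mem_univ j)
            rw [this]
            exact hfv
          rw [h3]
          apply Submodule.neg_mem
          apply Submodule.sum_mem
          intro i hi
          have hij : i ≠ j := Finset.ne_of_mem_erase hi
          exact Submodule.mem_iSup_of_mem i (Submodule.mem_iSup_of_mem hij (hinv i _ (μ i).2))
        have h4 := (hind j).le_bot ⟨h1, h2⟩
        exact (Submodule.mem_bot F).mp h4
      rw [← hμ]
      apply Submodule.sum_mem
      intro j hj
      apply Submodule.mem_iSup_of_mem j
      apply Submodule.mem_iSup_of_mem hj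
      exact ⟨(μ j).2, hzero j⟩
  have h := KERSUM.finrank_biSup (F := F) (fun j => E j ⊓ LinearMap.ker f) hind' Finset.univ
  rw [hsup'] at h
  exact h

end Cfsg.Agent.S5954P
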