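import Mathlib
import Cfsg.Prelude.Def_Classical
import Cfsg.Agent.Helper23.S5953Defs
import Cfsg.Agent.Helper20.S5954Defs
import Cfsg.Agent.Helper2.UnitaryCount

set_option autoImplicit false
open scoped MatrixGroups Matrix

/-! # S5954 pieces NTB, NTBEX: number theory of the non-split classes for `r = 2`. -/

universe u

namespace Cfsg.Agent.S5954P

open Polynomial Cfsg.Agent.S5953P Cfsg.Agent.Helper28.HW Cfsg.Agent.Helper28.HermFrame
open Cfsg.Agent.S2644 Cfsg.Agent.Helper2.SUGen Cfsg.Agent.Helper28.UPair Cfsg.Agent.S5984P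

namespace NTB

theorem padicVal_two_pow_mul_odd (s m : ℕ) (hm : Odd m) : padicValNat 2 (2 ^ s * m) = s := by
  have hm0 : m ≠ 0 := by
    rintro rfl
    simp at hm
  rw [padicValNat.mul (by positivity) hm0, padicValNat.prime_pow,
    padicValNat.eq_zero_of_not_dvd hm.not_two_dvd_nat,
    add_zero]

end NTB

/-- NTB: non-split classes with `x² = ν²`, `ν^(q+1) = -1` of determinant one force `q ≡ 1 (4)` or `v₂(q+1) < v₂(n)` -/
theorem nonsplit_cond {F : Type*} [Field F] {q : ℕ} (h2 : (2 : F) ≠ 0) (hq : Odd q) (k : ℕ)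
    (hk : 0 < k) (ν : F) (hν : ν ^ (q + 1) = -1) (hdet : (-(ν ^ 2)) ^ k = 1) :
    q % 4 = 1 ∨ padicValNat 2 (q + 1) < padicValNat 2 (2 * k) := by
  obtain ⟨s, m, hm, hqm⟩ := Nat.exists_eq_two_pow_mul_odd (n := q + 1) (by omega)
  have hs : padicValNat 2 (q + 1) = s := by
    rw [hqm, NTB.padicVal_two_pow_mul_odd s m hm]
  set μ := ν ^ m with hμ_def
  have hμ : μ ^ (2 ^ s) = -1 := by
    rw [hμ_def, ← pow_mul, mul_comm, ← hqm, hν]
  have hne : (-1 : F) ≠ 1 := by
    intro h
    apply h2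
    have : (2 : F) = 1 - (-1) := by ring
    rw [this, h, sub_self]
  haveI : Fact (Nat.Prime 2) := ⟨Nat.prime_two⟩
  have hord : orderOf μ = 2 ^ (s + 1) := by
    apply orderOf_eq_prime_pow
    · rw [hμ]
      exact hne
    · rw [pow_succ, pow_mul, hμ]
      norm_num
  rcases Nat.even_or_odd k with hke | hko
  · right
    have h1 : ν ^ (2 * k) = 1 := by
      rw [neg_pow, hke.neg_one_pow, one_mul, ← pow_mul] at hdet
      exact hdet
    have h3 : μ ^ (2 * k) = 1 := by
      rw [hμ_def, ← pow_mul, mul_comm, pow_mul, h1, one_pow]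
    have h4 : 2 ^ (s + 1) ∣ 2 * k := by
      rw [← hord]
      exact orderOf_dvd_of_pow_eq_one h3
    have h5 := (padicValNat_dvd_iff_le (by omega)).mp h4
    omega
  · left
    have h1 : ν ^ (2 * k) = -1 := by
      rw [neg_pow, hko.neg_one_pow, ← pow_mul] at hdet
      have : ν ^ (2 * k) = -(-1 * ν ^ (2 * k)) := by ring
      rw [this, hdet]
    have h3 : μ ^ (4 * k) = 1 := by
      have : 4 * k = (2 * k) * 2 := by ring
      rw [hμ_def, ← pow_mul, mul_comm, this, pow_mul, pow_mul, h1]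
      norm_num
    have h4 : 2 ^ (s + 1) ∣ 4 * k := by
      rw [← hord]
      exact orderOf_dvd_of_pow_eq_one h3
    have h5 := (padicValNat_dvd_iff_le (by omega)).mp h4
    have h6 : padicValNat 2 (4 * k) = 2 := by
      have : 4 * k = 2 ^ 2 * k := by ring
      rw [this, NTB.padicVal_two_pow_mul_odd 2 k hko]
    rw [h6] at h5
    have hs1 : s ≤ 1 := by omega
    obtain ⟨t, ht⟩ := hm
    obtain ⟨c, hc⟩ := hq
    interval_cases s
    · rw [pow_zero, one_mul] at hqm
      omega
    · rw [pow_one] at hqm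
      omega

/-- NTBEX: a non-square `z` of norm one with `(-z)^k = 1` -/
theorem exists_nonsplit {F : Type*} [Field F] [Fintype F] {q : ℕ} (hF : Fintype.card F = q ^ 2)
    (hq : Odd q) (k : ℕ) (hk : 0 < k)
    (h : q % 4 = 1 ∨ padicValNat 2 (q + 1) < padicValNat 2 (2 * k)) :
    ∃ z : F, z ^ (q + 1) = 1 ∧ z ^ ((q + 1) / 2) = -1 ∧ (-z) ^ k = 1 := by
  classical
  obtain ⟨s, m, hm, hqm⟩ := Nat.exists_eq_two_pow_mul_odd (n := q + 1) (by omega)
  have hs : padicValNat 2 (q + 1) = s := by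
    rw [hqm, NTB.padicVal_two_pow_mul_odd s m hm]
  -- `q ≥ 3`
  have hq2 : 2 ≤ q := by
    have h1 : 1 < Fintype.card F := Fintype.one_lt_card
    rw [hF] at h1
    by_contra hlt
    have : q ≤ 1 := by omega
    have : q ^ 2 ≤ 1 ^ 2 := Nat.pow_le_pow_left this 2
    omega
  obtain ⟨c, hc⟩ : ∃ c, q = c + 1 := ⟨q - 1, by omega⟩
  have hs1 : 1 ≤ s := by
    rcases Nat.eq_zero_or_pos s with h0 | h0
    · exfalso
      rw [h0, pow_zero, one_mul] at hqm
      obtain ⟨t, ht⟩ := hm
      obtain ⟨c', hc'⟩ := hq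
      omega
    · exact h0
  obtain ⟨s', hs'⟩ : ∃ s', s = s' + 1 := ⟨s - 1, by omega⟩
  -- a generator
  obtain ⟨g, hg⟩ := IsCyclic.exists_ofOrder_eq_natCard (α := Fˣ)
  rw [Nat.card_eq_fintype_card, Fintype.card_units, hF] at hg
  have hgF : orderOf (g : F) = q ^ 2 - 1 := by
    rw [orderOf_units]
    exact hg
  set N := c * m * 2 ^ s' with hN_def
  have h2N : 2 * N = q ^ 2 - 1 := by
    have h1 : q ^ 2 = c * (q + 1) + 1 := by
      rw [hc]
      ring
    rw [h1, Nat.add_sub_cancel, hqm, hs', hN_def]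
    ring
  have hNpos : 0 < N := by
    have : 0 < q ^ 2 - 1 := by
      have : 2 ^ 2 ≤ q ^ 2 := Nat.pow_le_pow_left hq2 2
      omega
    omega
  have hζN : (g : F) ^ N = -1 := by
    have h1 : ((g : F) ^ N) * ((g : F) ^ N) = 1 := by
      rw [← pow_add, ← two_mul, h2N, ← hgF]
      exact pow_orderOf_eq_one _
    have h3 : ((g : F) ^ N - 1) * ((g : F) ^ N + 1) = 0 := by
      have : ((g : F) ^ N - 1) * ((g : F) ^ N + 1) = ((g : F) ^ N) * ((g : F) ^ N) - 1 := by ring
      rw [this, h1, sub_self]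
    rcases mul_eq_zero.mp h3 with h4 | h4
    · exfalso
      have h5 : (g : F) ^ N = 1 := sub_eq_zero.mp h4
      have h6 := orderOf_dvd_of_pow_eq_one h5
      rw [hgF] at h6
      have := Nat.le_of_dvd hNpos h6
      omega
    · exact eq_neg_of_add_eq_zero_left h4
  set z : F := (g : F) ^ (c * m) with hz_def
  have hz1 : z ^ (2 ^ s') = -1 := by
    rw [hz_def, ← pow_mul, ← hN_def, hζN]
  have hz2 : z ^ (2 ^ s) = 1 := by
    rw [hs', pow_succ, pow_mul, hz1]
    norm_num
  refine ⟨z, ?_, ?_, ?_⟩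
  · rw [hqm, pow_mul, hz2, one_pow]
  · have : (q + 1) / 2 = 2 ^ s' * m := by
      rw [hqm, hs', pow_succ, mul_comm (2 ^ s') 2, mul_assoc, Nat.mul_div_cancel_left _ (by norm_num)]
    rw [this, pow_mul, hz1, hm.neg_one_pow]
  · rcases h with h | h
    · -- `s = 1`
      have hs0 : s' = 0 := by
        rcases Nat.eq_zero_or_pos s' with h0 | h0
        · exact h0
        · exfalso
          obtain ⟨s'', hs''⟩ : ∃ s'', s' = s'' + 1 := ⟨s' - 1, by omega⟩
          have h4 : q + 1 = 4 * (2 ^ s'' * m) := by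
            rw [hqm, hs', hs'', pow_succ, pow_succ]
            ring
          omega
      rw [hs0, pow_zero, pow_one] at hz1
      rw [hz1, neg_neg, one_pow]
    · rw [hs] at h
      have hk2 : padicValNat 2 (2 * k) = padicValNat 2 k + 1 := by
        have hk0 : k ≠ 0 := by omega
        rw [padicValNat.mul (by norm_num) hk0, padicValNat_self]
        ring
      rw [hk2] at h
      have hdvd : 2 ^ s ∣ k := (padicValNat_dvd_iff_le (by omega)).mpr (by omega)
      obtain ⟨k', hk'⟩ := hdvd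
      have hke : Even k := by
        rw [hk', hs', pow_succ]
        exact ⟨2 ^ s' * k', by ring⟩
      rw [neg_pow, hke.neg_one_pow, one_mul, hk', pow_mul, hz2, one_pow]

end Cfsg.Agent.S5954P
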