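import Mathlib
import Cfsg.Prelude.Def_Blocks
import Cfsg.Agent.Helper24.Codegree
import Cfsg.Agent.Helper24.CharBasic
import Cfsg.Agent.Helper23.Schur

/-!
A nontrivial finite group is perfect iff no irreducible character has prime codegree.
-/

namespace Cfsg.Agent.Helper24

open Cfsg Representation Module

universe u

section PrimeCodegree

variable {H : Type u} [Group H] [Finite H]

/-- `|Z| χ(1)² ≤ |H|` for a central subgroup `Z`. -/
theorem card_mul_irrDeg_sq_le_of_le_center (χ : IrrCharacter H) (Z : Subgroup H)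
    (hZ : Z ≤ Subgroup.center H) : Nat.card Z * irrDeg χ ^ 2 ≤ Nat.card H := by
  classical
  haveI : Fintype H := Fintype.ofFinite H
  obtain ⟨n, ρ, hρ, hχ⟩ := χ.2
  haveI := hρ
  have hd : (irrDeg χ : ℝ) = (finrank ℂ (Fin n → ℂ) : ℝ) := by
    have h1 := irrDeg_spec χ
    rw [← hχ, Representation.char_one] at h1
    have : (finrank ℂ (Fin n → ℂ)) = irrDeg χ := by exact_mod_cast h1
    rw [this]
  have hnorm : ∀ z ∈ Z, ‖(χ : H → ℂ) z‖ = irrDeg χ := by
    intro z hz
    rw [← hχ, hd]
    exact (norm_char_eq_iff ρ z).mpr (Helper23.exists_scalar_of_mem_center ρ z (hZ hz))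
  have hsum : ∑ g : H, ‖(χ : H → ℂ) g‖ ^ 2 = (Nat.card H : ℝ) := by
    have h1 := classInner_irr_self χ
    rw [classInner] at h1
    have hH : (Nat.card H : ℂ) ≠ 0 := by exact_mod_cast Nat.card_pos.ne'
    have h2 : ∑ g : H, (χ : H → ℂ) g * (starRingEnd ℂ) ((χ : H → ℂ) g) = (Nat.card H : ℂ) := by
      field_simp at h1
      exact h1
    have h3 : ∀ g : H, (χ : H → ℂ) g * (starRingEnd ℂ) ((χ : H → ℂ) g) =
        ((‖(χ : H → ℂ) g‖ ^ 2 : ℝ) : ℂ) := by
      intro g
      rw [Complex.mul_conj, Complex.normSq_eq_norm_sq]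
    simp_rw [h3] at h2
    have h4 : ((∑ g : H, ‖(χ : H → ℂ) g‖ ^ 2 : ℝ) : ℂ) = ((Nat.card H : ℝ) : ℂ) := by
      push_cast
      push_cast at h2
      exact h2
    exact_mod_cast h4
  have hle : ∑ g ∈ Finset.univ.filter (fun g : H => g ∈ Z), ‖(χ : H → ℂ) g‖ ^ 2 ≤
      ∑ g : H, ‖(χ : H → ℂ) g‖ ^ 2 :=
    Finset.sum_le_sum_of_subset_of_nonneg (Finset.filter_subset _ _)
      (fun _ _ _ => by positivity)
  have heq : ∑ g ∈ Finset.univ.filter (fun g : H => g ∈ Z), ‖(χ : H → ℂ) g‖ ^ 2 =
      (Nat.card Z : ℝ) * (irrDeg χ : ℝ) ^ 2 := by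
    rw [Finset.sum_congr rfl (fun g hg => by rw [hnorm g (Finset.mem_filter.mp hg).2])]
    rw [Finset.sum_const, nsmul_eq_mul]
    congr 2
    rw [Nat.card_eq_fintype_card, Fintype.card_subtype]
  rw [heq, hsum] at hle
  exact_mod_cast hle

omit [Finite H] in
/-- A nontrivial homomorphism to a commutative group shows the group is not perfect. -/
theorem commutator_ne_top_of_hom {A : Type*} [CommGroup A] (f : H →* A) (hf : f ≠ 1) :
    commutator H ≠ ⊤ := by
  intro h
  apply hf
  ext g
  have : g ∈ f.ker := Abelianization.commutator_subset_ker f (h ▸ Subgroup.mem_top g)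
  exact this

omit [Finite H] in
/-- A normal subgroup of prime order of a perfect group is central. -/
theorem le_center_of_normal_of_prime_card_of_perfect (Q : Subgroup H) [Q.Normal] (q : ℕ)
    [Fact q.Prime] (hQ : Nat.card Q = q) (hperf : commutator H = ⊤) : Q ≤ Subgroup.center H := by
  haveI : IsCyclic Q := isCyclic_of_prime_card hQ
  set e := IsCyclic.mulAutMulEquiv Q with he
  set φ : H →* (ZMod (Nat.card Q))ˣ := e.toMonoidHom.comp (MulAut.conjNormal) with hφ
  have hφ1 : φ = 1 := by
    by_contra hne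
    exact commutator_ne_top_of_hom φ hne hperf
  intro x hx
  rw [Subgroup.mem_center_iff]
  intro g
  have h1 : φ g = 1 := by rw [hφ1]; rfl
  rw [hφ, MonoidHom.comp_apply] at h1
  have h2 : (MulAut.conjNormal g : MulAut Q) = 1 := by
    apply e.injective
    rw [map_one]
    exact h1
  have h3 : ((MulAut.conjNormal g : MulAut Q) ⟨x, hx⟩ : H) = g * x * g⁻¹ :=
    MulAut.conjNormal_apply g ⟨x, hx⟩
  rw [h2] at h3
  have h4 : x = g * x * g⁻¹ := h3
  calc g * x = g * x * g⁻¹ * g := by group
    _ = x * g := by rw [← h4]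

/-- A group with a faithful irreducible character `χ` and `|H| = q χ(1)`, `q` prime, is not
perfect. -/
theorem commutator_ne_top_of_faithful_of_card_eq (χ : IrrCharacter H)
    (hfaith : ∀ x : H, (χ : H → ℂ) x = (χ : H → ℂ) 1 → x = 1) (q : ℕ) (hq : q.Prime)
    (hcard : Nat.card H = q * irrDeg χ) : commutator H ≠ ⊤ := by
  classical
  haveI : Fintype H := Fintype.ofFinite H
  haveI : Fintype (IrrCharacter H) := Fintype.ofFinite _
  haveI : Fact q.Prime := ⟨hq⟩
  intro hperf
  set d := irrDeg χ with hd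
  have hdpos : 0 < d := irrDeg_pos χ
  -- χ is not the trivial character
  have hne : χ ≠ trivIrr H := by
    intro h
    have h1 : ∀ x : H, x = 1 := by
      intro x
      apply hfaith
      rw [h, trivIrr_apply, trivIrr_apply]
    have h2 : Nat.card H = 1 := by
      haveI : Subsingleton H := ⟨fun a b => by rw [h1 a, h1 b]⟩
      exact Nat.card_unique
    rw [h2] at hcard
    have := hq.two_le
    nlinarith
  -- d < q
  have hdq : d < q := by
    have hsum := sum_irrDeg_sq (G := H)
    rw [← Finset.add_sum_erase _ _ (Finset.mem_univ χ),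
      ← Finset.add_sum_erase _ _ (Finset.mem_erase.mpr ⟨hne.symm, Finset.mem_univ (trivIrr H)⟩)]
      at hsum
    have h1 : irrDeg (trivIrr H) = 1 := by
      have := irrDeg_spec (trivIrr H)
      rw [trivIrr_apply] at this
      exact_mod_cast this.symm
    rw [h1, hcard] at hsum
    by_contra hcon
    push Not at hcon
    have h5 : q * d ≤ d * d := Nat.mul_le_mul_right d hcon
    rw [← hd] at hsum
    have h6 : d ^ 2 = d * d := sq d
    omega
  have hqd : ¬ q ∣ d := fun h => absurd (Nat.le_of_dvd hdpos h) (not_le.mpr hdq)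
  -- a Sylow q-subgroup
  obtain ⟨Q⟩ : Nonempty (Sylow q H) := inferInstance
  have hfac : (Nat.card H).factorization q = 1 := by
    rw [hcard, Nat.factorization_mul hq.ne_zero hdpos.ne', Finsupp.add_apply,
      hq.factorization_self, Nat.factorization_eq_zero_of_not_dvd hqd]
  have hQcard : Nat.card (Q : Subgroup H) = q := by
    rw [Q.card_eq_multiplicity, hfac, pow_one]
  have hQidx : (Q : Subgroup H).index = d := by
    have := Subgroup.card_mul_index (Q : Subgroup H)
    rw [hQcard, hcard] at this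
    exact Nat.eq_of_mul_eq_mul_left hq.pos this
  have hn1 : Nat.card (Sylow q H) = 1 := by
    have h1 := card_sylow_modEq_one q H
    have h2 := Q.card_dvd_index
    rw [hQidx] at h2
    have h3 : Nat.card (Sylow q H) ≤ d := Nat.le_of_dvd hdpos h2
    have h4 : Nat.card (Sylow q H) < q := lt_of_le_of_lt h3 hdq
    unfold Nat.ModEq at h1
    rw [Nat.mod_eq_of_lt h4, Nat.mod_eq_of_lt hq.one_lt] at h1
    exact h1
  haveI hQn : (Q : Subgroup H).Normal := by
    rw [← Subgroup.normalizer_eq_top_iff, ← Subgroup.index_eq_one]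
    have := Q.card_eq_index_normalizer
    rw [hn1] at this
    exact this.symm
  have hcen := le_center_of_normal_of_prime_card_of_perfect (Q : Subgroup H) q hQcard hperf
  have hle := card_mul_irrDeg_sq_le_of_le_center χ (Q : Subgroup H) hcen
  rw [hQcard, hcard, ← hd] at hle
  have hd1 : d = 1 := by
    have h1 : d ^ 2 ≤ d := Nat.le_of_mul_le_mul_left hle hq.pos
    nlinarith
  -- now H = Q is abelian
  have hQtop : (Q : Subgroup H) = ⊤ := by
    apply Subgroup.eq_top_of_card_eq
    rw [hQcard, hcard, hd1, mul_one]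
  have hcentop : Subgroup.center H = ⊤ := by
    rw [eq_top_iff, ← hQtop]; exact hcen
  rw [← commutator_eq_bot_iff_center_eq_top, hperf] at hcentop
  have h2 : Nat.card (⊤ : Subgroup H) = 1 := by rw [hcentop]; simp
  rw [Subgroup.card_top, hcard] at h2
  have := hq.two_le
  nlinarith

end PrimeCodegree

section Main

variable {G : Type u} [Group G] [Finite G]

/-- If some irreducible character has prime codegree then `G` is not perfect. -/
theorem commutator_ne_top_of_prime_codegree (χ : IrrCharacter G)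
    (hprime : (Nat.card G / (Nat.card {g : G // (χ : G → ℂ) g = (χ : G → ℂ) 1} *
      charDegree (χ : G → ℂ))).Prime) : commutator G ≠ ⊤ := by
  classical
  obtain ⟨N, hNn, hN, χ', hχ'⟩ := exists_kernel_quotient χ
  have h1 : Nat.card {g : G // (χ : G → ℂ) g = (χ : G → ℂ) 1} = Nat.card N :=
    Nat.card_congr (Equiv.subtypeEquivRight (fun g => (hN g).symm))
  have h2 : irrDeg χ' = irrDeg χ := by
    have := irrDeg_spec χ'
    rw [← QuotientGroup.mk_one, hχ' 1, irrDeg_spec χ] at this
    exact_mod_cast this.symm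
  have h3 := irrDeg_dvd_card χ'
  have hcardQ : Nat.card (G ⧸ N) = Nat.card G / Nat.card N := by
    rw [← Subgroup.card_mul_index N, ← Subgroup.index_eq_card,
      Nat.mul_div_cancel_left _ Nat.card_pos]
  rw [h1, charDegree_irr, ← Nat.div_div_eq_div_mul, ← hcardQ, ← h2] at hprime
  obtain ⟨c, hc⟩ := h3
  have hdpos : 0 < irrDeg χ' := irrDeg_pos χ'
  rw [hc, Nat.mul_div_cancel_left _ hdpos] at hprime
  have hfaith : ∀ x : G ⧸ N, (χ' : G ⧸ N → ℂ) x = (χ' : G ⧸ N → ℂ) 1 → x = 1 := by
    intro x hx
    induction x using QuotientGroup.induction_on with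
    | H g =>
      rw [← QuotientGroup.mk_one, hχ', hχ', ← hN] at hx
      exact (QuotientGroup.eq_one_iff g).mpr hx
  have hH := commutator_ne_top_of_faithful_of_card_eq χ' hfaith c hprime
    (by rw [hc, mul_comm])
  set f : G →* Abelianization (G ⧸ N) := Abelianization.of.comp (QuotientGroup.mk' N) with hf
  apply commutator_ne_top_of_hom f
  intro hf1
  apply hH
  rw [eq_top_iff]
  intro x _
  induction x using QuotientGroup.induction_on with
  | H g =>
    have : f g = 1 := by rw [hf1]; rfl
    rw [← Abelianization.ker_of]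
    exact this

/-- If `G` is not perfect then some irreducible character has prime codegree. -/
theorem exists_prime_codegree_of_commutator_ne_top (h : commutator G ≠ ⊤) :
    ∃ χ : IrrCharacter G, (Nat.card G / (Nat.card {g : G // (χ : G → ℂ) g = (χ : G → ℂ) 1} *
      charDegree (χ : G → ℂ))).Prime := by
  classical
  haveI : NeZero ((Monoid.exponent (Abelianization G) : ℕ) : ℂ) :=
    ⟨by exact_mod_cast Monoid.exponent_ne_zero_of_finite⟩
  have hD : Nat.card (Abelianization G →* ℂˣ) = (commutator G).index := by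
    rw [CommGroup.card_monoidHom_of_hasEnoughRootsOfUnity (Abelianization G) ℂ,
      Subgroup.index_eq_card]
    rfl
  have hD1 : Nat.card (Abelianization G →* ℂˣ) ≠ 1 := by
    rw [hD]
    intro h1
    exact h (Subgroup.index_eq_one.mp h1)
  obtain ⟨p, hp, hpD⟩ := Nat.exists_prime_and_dvd hD1
  haveI : Fact p.Prime := ⟨hp⟩
  obtain ⟨φ, hφ⟩ := exists_prime_orderOf_dvd_card' p hpD
  set lam : G →* ℂˣ := φ.comp Abelianization.of with hlam
  have hlamp : ∀ g, lam g ^ p = 1 := by
    intro g
    have h1 : φ ^ p = 1 := by rw [← hφ]; exact pow_orderOf_eq_one φ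
    have h2 := congrArg (fun ψ : Abelianization G →* ℂˣ => ψ (Abelianization.of g)) h1
    have h3 : φ (Abelianization.of g) ^ p = 1 := by simpa [MonoidHom.pow_apply] using h2
    exact h3
  have hlam1 : lam ≠ 1 := by
    intro h1
    have h2 : φ = 1 := by
      apply Abelianization.hom_ext
      ext g
      have := congrArg (fun ψ : G →* ℂˣ => (ψ g : ℂ)) h1
      simpa [hlam] using this
    rw [h2, orderOf_one] at hφ
    exact hp.one_lt.ne hφ
  have hrange : lam.range ≤ rootsOfUnity p ℂ := by
    rintro _ ⟨g, rfl⟩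
    rw [mem_rootsOfUnity]
    exact hlamp g
  have hcardrange : Nat.card lam.range = p := by
    have h1 := Subgroup.card_dvd_of_le hrange
    rw [Complex.card_rootsOfUnity] at h1
    rcases (Nat.dvd_prime hp).mp h1 with h2 | h2
    · exfalso
      apply hlam1
      ext g
      have h3 : lam.range = ⊥ := Subgroup.card_eq_one.mp h2
      have h4 : lam g ∈ lam.range := ⟨g, rfl⟩
      rw [h3, Subgroup.mem_bot] at h4
      rw [h4]; rfl
    · exact h2
  have hidx : lam.ker.index = p := by rw [Subgroup.index_ker, hcardrange]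
  refine ⟨⟨fun g => ((lam g : ℂˣ) : ℂ),
    isIrrCharacter_of_monoidHom ((Units.coeHom ℂ).comp lam)⟩, ?_⟩
  set χ : IrrCharacter G := ⟨fun g => ((lam g : ℂˣ) : ℂ),
    isIrrCharacter_of_monoidHom ((Units.coeHom ℂ).comp lam)⟩ with hχ
  have hχapp : ∀ g, (χ : G → ℂ) g = ((lam g : ℂˣ) : ℂ) := fun g => rfl
  have hker : Nat.card {g : G // (χ : G → ℂ) g = (χ : G → ℂ) 1} = Nat.card lam.ker := by
    apply Nat.card_congr
    apply Equiv.subtypeEquivRight
    intro g
    rw [hχapp, hχapp, map_one, MonoidHom.mem_ker]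
    constructor
    · intro h1
      exact Units.ext h1
    · intro h1
      rw [h1]
  have hdeg : charDegree (χ : G → ℂ) = 1 := by
    rw [charDegree_irr]
    have h1 := irrDeg_spec χ
    rw [hχapp, map_one] at h1
    have h2 : ((1 : ℕ) : ℂ) = (irrDeg χ : ℂ) := by rw [← h1]; simp
    exact_mod_cast h2.symm
  rw [hker, hdeg, mul_one, ← Subgroup.card_mul_index lam.ker,
    Nat.mul_div_cancel_left _ Nat.card_pos, hidx]
  exact hp

/-- A nontrivial finite group is perfect iff no irreducible character has prime codegree. -/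
theorem perfect_iff_no_prime_codegree :
    commutator G = ⊤ ↔ ∀ χ : IrrCharacter G,
      ¬ ((Nat.card G / (Nat.card {g : G // (χ : G → ℂ) g = (χ : G → ℂ) 1} *
        charDegree (χ : G → ℂ)))).Prime := by
  constructor
  · intro h χ hχ
    exact commutator_ne_top_of_prime_codegree χ hχ h
  · intro h
    by_contra hne
    obtain ⟨χ, hχ⟩ := exists_prime_codegree_of_commutator_ne_top hne
    exact h χ hχ

end Main

end Cfsg.Agent.Helper24
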