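import Mathlib
import Cfsg.Prelude.Def_Characters
import Cfsg.Agent.Helper24.Expansion
import Cfsg.Agent.Helper23.Schur

/-!
Representations with equal characters are equivalent.
-/

namespace Cfsg.Agent.Helper24

open Representation Module

universe u v w

section Pieces

variable {G : Type u} [Group G]
variable {V : Type v} [AddCommGroup V] [Module ℂ V]
variable {W : Type w} [AddCommGroup W] [Module ℂ W]

/-- The product of two equivalences of representations. -/
noncomputable def equivProd {V' : Type*} {W' : Type*} [AddCommGroup V'] [Module ℂ V'] [AddCommGroup W']
    [Module ℂ W'] {ρ : Representation ℂ G V} {σ : Representation ℂ G W}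
    {ρ' : Representation ℂ G V'} {σ' : Representation ℂ G W'}
    (φ : ρ.Equiv σ) (φ' : ρ'.Equiv σ') : (ρ.prod ρ').Equiv (σ.prod σ') :=
  Representation.Equiv.mk (LinearEquiv.prodCongr φ.toLinearEquiv φ'.toLinearEquiv) (by
    intro g
    apply LinearMap.ext
    rintro ⟨a, b⟩
    have h1 := congrArg (fun f : V →ₗ[ℂ] W => f a) (φ.toIntertwiningMap.isIntertwining' g)
    have h2 := congrArg (fun f : V' →ₗ[ℂ] W' => f b) (φ'.toIntertwiningMap.isIntertwining' g)
    simp only [LinearMap.comp_apply] at h1 h2
    apply Prod.ext
    · simpa [Representation.prod] using h1
    · simpa [Representation.prod] using h2)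

/-- A representation is equivalent to the product of two complementary subrepresentations. -/
noncomputable def equivProdOfIsCompl (ρ : Representation ℂ G V) (U U' : Subrepresentation ρ)
    (h : IsCompl U.toSubmodule U'.toSubmodule) :
    (U.toRepresentation.prod U'.toRepresentation).Equiv ρ :=
  Representation.Equiv.mk (Submodule.prodEquivOfIsCompl U.toSubmodule U'.toSubmodule h) (by
    intro g
    ext ⟨a, b⟩
    · simp [Representation.prod, Subrepresentation.toRepresentation]
    · simp [Representation.prod, Subrepresentation.toRepresentation])

/-- A nonzero intertwining map out of an irreducible representation is injective. -/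
theorem injective_of_intertwining_ne_zero {τ : Representation ℂ G V} [hτ : τ.IsIrreducible]
    {σ : Representation ℂ G W} (f : IntertwiningMap τ σ) (hf : f ≠ 0) :
    Function.Injective f.toLinearMap := by
  let K : Subrepresentation τ :=
    { toSubmodule := LinearMap.ker f.toLinearMap
      apply_mem_toSubmodule := by
        intro g v hv
        rw [LinearMap.mem_ker] at hv ⊢
        have := congrArg (fun F : V →ₗ[ℂ] W => F v) (f.isIntertwining' g)
        simp only [LinearMap.comp_apply] at this
        rw [this, hv, map_zero] }
  rcases hτ.eq_bot_or_eq_top K with h | h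
  · have : LinearMap.ker f.toLinearMap = ⊥ := congrArg Subrepresentation.toSubmodule h
    exact LinearMap.ker_eq_bot.mp this
  · exfalso
    apply hf
    have hk : LinearMap.ker f.toLinearMap = ⊤ := congrArg Subrepresentation.toSubmodule h
    apply IntertwiningMap.ext
    exact LinearMap.ker_eq_top.mp hk

/-- The image of an intertwining map as a subrepresentation. -/
def rangeSubrep {τ : Representation ℂ G V} {σ : Representation ℂ G W}
    (f : IntertwiningMap τ σ) : Subrepresentation σ where
  toSubmodule := LinearMap.range f.toLinearMap
  apply_mem_toSubmodule := by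
    rintro g w ⟨v, rfl⟩
    refine ⟨τ g v, ?_⟩
    have := congrArg (fun F : V →ₗ[ℂ] W => F v) (f.isIntertwining' g)
    simpa using this

/-- An injective intertwining map gives an equivalence onto its image. -/
noncomputable def equivRangeSubrep {τ : Representation ℂ G V} {σ : Representation ℂ G W}
    (f : IntertwiningMap τ σ) (hf : Function.Injective f.toLinearMap) :
    τ.Equiv (rangeSubrep f).toRepresentation :=
  Representation.Equiv.mk (LinearEquiv.ofInjective f.toLinearMap hf) (by
    intro g
    apply LinearMap.ext
    intro v
    apply Subtype.ext
    have := congrArg (fun F : V →ₗ[ℂ] W => F v) (f.isIntertwining' g)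
    simp only [LinearMap.comp_apply] at this
    rw [LinearMap.comp_apply, LinearMap.comp_apply]
    show f.toLinearMap (τ g v) = σ g (f.toLinearMap v)
    exact this)

end Pieces

section Main

variable {G : Type u} [Group G] [Finite G]

theorem equiv_of_character_eq_aux : ∀ n : ℕ, ∀ (V : Type v) (W : Type w) [AddCommGroup V]
    [Module ℂ V] [FiniteDimensional ℂ V] [AddCommGroup W] [Module ℂ W] [FiniteDimensional ℂ W]
    (ρ : Representation ℂ G V) (σ : Representation ℂ G W), finrank ℂ V = n →
    ρ.character = σ.character → Nonempty (ρ.Equiv σ) := by
  classical
  haveI : Fintype G := Fintype.ofFinite G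
  haveI : Fintype (IrrCharacter G) := Fintype.ofFinite _
  haveI : NeZero (Nat.card G : ℂ) := ⟨by
    have : 0 < Nat.card G := Nat.card_pos
    exact_mod_cast this.ne'⟩
  intro n
  induction n using Nat.strong_induction_on with
  | _ n ih =>
    intro V W _ _ _ _ _ _ ρ σ hn hchar
    have hdimW : finrank ℂ W = finrank ℂ V := by
      have h1 := congrFun hchar 1
      rw [Representation.char_one, Representation.char_one] at h1
      exact_mod_cast h1.symm
    by_cases h0 : n = 0
    · subst h0
      haveI : Subsingleton V := Module.finrank_zero_iff.mp hn
      haveI : Subsingleton W := Module.finrank_zero_iff.mp (hdimW.trans hn)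
      refine ⟨Representation.Equiv.mk (LinearEquiv.ofSubsingleton V W) ?_⟩
      intro g
      ext v
      exact Subsingleton.elim _ _
    have hpos : 0 < finrank ℂ V := by omega
    haveI : Nontrivial V := Module.nontrivial_of_finrank_pos hpos
    obtain ⟨U, hU, hirr⟩ := exists_irreducible_subrepresentation ρ
    haveI := hirr
    obtain ⟨U', hc⟩ := exists_isCompl U
    have hc' : IsCompl U.toSubmodule U'.toSubmodule := by
      constructor
      · rw [disjoint_iff]
        exact congrArg Subrepresentation.toSubmodule hc.inf_eq_bot
      · rw [codisjoint_iff]
        exact congrArg Subrepresentation.toSubmodule hc.sup_eq_top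
    have hdim : finrank ℂ U.toSubmodule + finrank ℂ U'.toSubmodule = finrank ℂ V :=
      Submodule.finrank_add_eq_of_isCompl hc'
    have hUpos : 0 < finrank ℂ U.toSubmodule := by
      haveI : Nontrivial U.toSubmodule := Submodule.nontrivial_iff_ne_bot.mpr hU
      exact Module.finrank_pos
    have hρ := character_eq_add_of_isCompl ρ U U' hc'
    -- the inner product of σ with the character of U is nonzero
    have hne : classInner σ.character U.toRepresentation.character ≠ 0 := by
      rw [← hchar, hρ, classInner_add_left]
      have h1 : classInner U.toRepresentation.character U.toRepresentation.character = 1 :=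
        classInner_irr_self ⟨_, isIrrCharacter_character _ hirr⟩
      obtain ⟨m, hm⟩ := IsCharacter.classInner_nat (isCharacter_character U'.toRepresentation)
        (isCharacter_character U.toRepresentation)
      rw [h1, hm]
      have : (1 : ℂ) + (m : ℂ) = ((1 + m : ℕ) : ℂ) := by push_cast; ring
      rw [this]
      exact_mod_cast (Nat.succ_ne_zero m ∘ (by omega : 1 + m = 0 → m.succ = 0))
    obtain ⟨f, hf⟩ := Cfsg.Agent.Helper23.exists_intertwining_ne_zero_of_inner_ne_zero
      U.toRepresentation σ hne
    have hinj := injective_of_intertwining_ne_zero f hf
    set T := rangeSubrep f with hT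
    have e₁ := equivRangeSubrep f hinj
    obtain ⟨T', hcT⟩ := exists_isCompl T
    have hcT' : IsCompl T.toSubmodule T'.toSubmodule := by
      constructor
      · rw [disjoint_iff]
        exact congrArg Subrepresentation.toSubmodule hcT.inf_eq_bot
      · rw [codisjoint_iff]
        exact congrArg Subrepresentation.toSubmodule hcT.sup_eq_top
    have hσ := character_eq_add_of_isCompl σ T T' hcT'
    have hchar' : U'.toRepresentation.character = T'.toRepresentation.character := by
      have h1 : U.toRepresentation.character = T.toRepresentation.character := char_iso e₁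
      have h2 : U.toRepresentation.character + U'.toRepresentation.character =
          T.toRepresentation.character + T'.toRepresentation.character := by
        rw [← hρ, ← hσ, hchar]
      rw [h1] at h2
      exact add_left_cancel h2
    obtain ⟨e₂⟩ := ih (finrank ℂ U'.toSubmodule) (by omega) U'.toSubmodule T'.toSubmodule
      U'.toRepresentation T'.toRepresentation rfl hchar'
    exact ⟨((equivProdOfIsCompl ρ U U' hc').symm.trans (equivProd e₁ e₂)).trans
      (equivProdOfIsCompl σ T T' hcT')⟩

/-- Complex representations of a finite group with equal characters are equivalent. -/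
theorem equiv_of_character_eq {V : Type v} {W : Type w} [AddCommGroup V]
    [Module ℂ V] [FiniteDimensional ℂ V] [AddCommGroup W] [Module ℂ W] [FiniteDimensional ℂ W]
    (ρ : Representation ℂ G V) (σ : Representation ℂ G W) (h : ρ.character = σ.character) :
    Nonempty (ρ.Equiv σ) :=
  equiv_of_character_eq_aux _ V W ρ σ rfl h

end Main

end Cfsg.Agent.Helper24
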