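import Mathlib

set_option autoImplicit false

/-! S2549 piece IDX2 (generic): a subgroup covering the group with two cosets contains the
commutator subgroup. -/

namespace Cfsg.Agent.S2549P

open scoped commutatorElement

theorem commutator_le_of_cover {G : Type*} [Group G] (H : Subgroup G) (r : G)
    (h : ∀ g : G, g ∈ H ∨ g * r ∈ H) : commutator G ≤ H := by
  -- the left-handed version of the covering
  have h' : ∀ g : G, g ∈ H ∨ r⁻¹ * g ∈ H := by
    intro g
    rcases h g⁻¹ with h1 | h1
    · left
      have := H.inv_mem h1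
      rwa [inv_inv] at this
    · right
      have := H.inv_mem h1
      rwa [mul_inv_rev, inv_inv] at this
  haveI hN : H.Normal := by
    refine ⟨fun x hx g => ?_⟩
    by_cases hg : g ∈ H
    · exact H.mul_mem (H.mul_mem hg hx) (H.inv_mem hg)
    · have h1 : r⁻¹ * g ∈ H := (h' g).resolve_left hg
      by_contra hcon
      have h2 : g * x * g⁻¹ * r ∈ H := (h (g * x * g⁻¹)).resolve_left hcon
      have h3 : g⁻¹ * r ∈ H := by
        have := H.inv_mem h1
        rwa [mul_inv_rev, inv_inv] at this
      have h4 : x * (g⁻¹ * r) ∈ H := H.mul_mem hx h3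
      have h5 : g ∈ H := by
        have := H.mul_mem h2 (H.inv_mem h4)
        have e : g * x * g⁻¹ * r * (x * (g⁻¹ * r))⁻¹ = g := by group
        rwa [e] at this
      exact hg h5
  rw [commutator_eq_closure, Subgroup.closure_le]
  rintro _ ⟨g₁, g₂, rfl⟩
  rw [SetLike.mem_coe, ← QuotientGroup.eq_one_iff (N := H)]
  have hval : ∀ g : G, (g : G ⧸ H) = 1 ∨ (g : G ⧸ H) = ((r : G ⧸ H))⁻¹ := by
    intro g
    rcases h g with h1 | h1
    · left
      exact (QuotientGroup.eq_one_iff g).2 h1
    · right
      have := (QuotientGroup.eq_one_iff (N := H) (g * r)).2 h1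
      rw [QuotientGroup.mk_mul] at this
      exact eq_inv_of_mul_eq_one_left this
  have hcomm : Commute (g₁ : G ⧸ H) (g₂ : G ⧸ H) := by
    rcases hval g₁ with e1 | e1 <;> rcases hval g₂ with e2 | e2
    · rw [e1]; exact Commute.one_left _
    · rw [e1]; exact Commute.one_left _
    · rw [e2]; exact Commute.one_right _
    · rw [e1, e2]
  have : ((⁅g₁, g₂⁆ : G) : G ⧸ H) = ⁅(g₁ : G ⧸ H), (g₂ : G ⧸ H)⁆ := by
    simp [commutatorElement_def]
  rw [this, commutatorElement_eq_one_iff_commute]
  exact hcomm

end Cfsg.Agent.S2549P
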