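import Cfsg.Agent.Helper24.Deg2Proj
import Cfsg.Agent.Helper5.Central
import Cfsg.Agent.Helper18.Klein5

/-!
A finite group with a faithful irreducible complex representation of degree two acts, modulo
its centre, on the finitely many eigenlines of its non-central elements, every non-identity
element fixing exactly two of them, with cyclic point stabilisers.
-/

set_option autoImplicit false

namespace Cfsg.Agent.Helper24.Deg2

open Module Polynomial MulAction
open scoped LinearAlgebra.Projectivization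

variable {V : Type*} [AddCommGroup V] [Module ℂ V]
variable {G : Type*} [Group G]

theorem scalar_of_mem_center [FiniteDimensional ℂ V] (ρ : Representation ℂ G V)
    [ρ.IsIrreducible] {z : G} (hz : z ∈ Subgroup.center G) :
    ∃ c : ℂ, ρ z = c • (1 : Module.End ℂ V) := by
  apply Cfsg.Agent.Helper5.schur_scalar ρ (ρ z)
  intro g
  rw [← Module.End.mul_eq_comp, ← Module.End.mul_eq_comp, ← map_mul, ← map_mul,
    (Subgroup.mem_center_iff.mp hz g)]

theorem mem_center_of_scalar (ρ : Representation ℂ G V) (hinj : Function.Injective ρ)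
    {z : G} {c : ℂ} (hz : ρ z = c • (1 : Module.End ℂ V)) : z ∈ Subgroup.center G := by
  rw [Subgroup.mem_center_iff]
  intro g
  apply hinj
  rw [map_mul, map_mul, hz]
  simp

/-- the points fixed by some non-central element -/
def XSub (ρ : Representation ℂ G V) : SubMulAction G (PLine ρ) where
  carrier := {p | ∃ g : G, g ∉ Subgroup.center G ∧ g • p = p}
  smul_mem' := by
    rintro h p ⟨g, hg, hp⟩
    refine ⟨h * g * h⁻¹, ?_, ?_⟩
    · intro hc
      apply hg
      have := (Subgroup.center G).normal_of_characteristic.conj_mem _ hc h⁻¹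
      simpa [mul_assoc] using this
    · rw [mul_smul, mul_smul, inv_smul_smul, hp]

theorem mem_XSub_iff (ρ : Representation ℂ G V) (p : PLine ρ) :
    p ∈ XSub ρ ↔ ∃ g : G, g ∉ Subgroup.center G ∧ g • p = p := Iff.rfl

theorem finite_XSub [Finite G] [FiniteDimensional ℂ V] (h2 : finrank ℂ V = 2)
    (ρ : Representation ℂ G V) (hinj : Function.Injective ρ) : Finite (XSub ρ) := by
  have hsub : (XSub ρ : Set (PLine ρ)) ⊆
      ⋃ g : {g : G // g ∉ Subgroup.center G}, {r : PLine ρ | (g : G) • r = r} := by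
    rintro p ⟨g, hg, hp⟩
    exact Set.mem_iUnion.mpr ⟨⟨g, hg⟩, hp⟩
  have hfin : (⋃ g : {g : G // g ∉ Subgroup.center G}, {r : PLine ρ | (g : G) • r = r}).Finite := by
    apply Set.finite_iUnion
    rintro ⟨g, hg⟩
    apply Set.finite_of_ncard_ne_zero
    rw [ncard_fixed h2 ρ g (isOfFinOrder_of_finite g)
      (fun c hc => hg (mem_center_of_scalar ρ hinj hc))]
    norm_num
  exact (hfin.subset hsub).to_subtype

theorem center_smul [FiniteDimensional ℂ V] (ρ : Representation ℂ G V) [ρ.IsIrreducible]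
    {z : G} (hz : z ∈ Subgroup.center G) (p : PLine ρ) : z • p = p := by
  obtain ⟨c, hc⟩ := scalar_of_mem_center ρ hz
  exact PLine.smul_eq_of_scalar ρ z hc p

/-- the quotient by the centre acting on the special points -/
noncomputable def quotHom [FiniteDimensional ℂ V] (ρ : Representation ℂ G V) [ρ.IsIrreducible] :
    G ⧸ Subgroup.center G →* Equiv.Perm (XSub ρ) :=
  QuotientGroup.lift (Subgroup.center G) (MulAction.toPermHom G (XSub ρ)) (by
    intro z hz
    ext x
    simp only [MulAction.toPermHom_apply, MulAction.toPerm_apply, Equiv.Perm.coe_one, id_eq]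
    rw [SubMulAction.val_smul]
    exact center_smul ρ hz _)

/-- the special points with the action of the central quotient -/
def XQ (ρ : Representation ℂ G V) : Type _ := XSub ρ

noncomputable instance [FiniteDimensional ℂ V] (ρ : Representation ℂ G V) [ρ.IsIrreducible] :
    MulAction (G ⧸ Subgroup.center G) (XQ ρ) :=
  MulAction.compHom (XSub ρ) (quotHom ρ)

/-- the underlying point -/
def XQ.pt {ρ : Representation ℂ G V} (x : XQ ρ) : PLine ρ := (x : XSub ρ).1

/-- a special point from a point with a non-central stabilising element -/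
def XQ.ofPt {ρ : Representation ℂ G V} (p : PLine ρ)
    (h : ∃ g : G, g ∉ Subgroup.center G ∧ g • p = p) : XQ ρ := (⟨p, h⟩ : XSub ρ)

theorem XQ.pt_ofPt {ρ : Representation ℂ G V} (p : PLine ρ)
    (h : ∃ g : G, g ∉ Subgroup.center G ∧ g • p = p) : (XQ.ofPt p h).pt = p := rfl

theorem XQ.pt_injective {ρ : Representation ℂ G V} : Function.Injective (XQ.pt (ρ := ρ)) :=
  Subtype.val_injective

theorem XQ.pt_mem {ρ : Representation ℂ G V} (x : XQ ρ) :
    ∃ g : G, g ∉ Subgroup.center G ∧ g • x.pt = x.pt := (x : XSub ρ).2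

theorem XQ.mk_smul_pt [FiniteDimensional ℂ V] (ρ : Representation ℂ G V) [ρ.IsIrreducible]
    (g : G) (x : XQ ρ) : ((g : G ⧸ Subgroup.center G) • x).pt = g • x.pt := rfl


theorem twoFix [Finite G] [FiniteDimensional ℂ V] (h2 : finrank ℂ V = 2)
    (ρ : Representation ℂ G V) [ρ.IsIrreducible] (hinj : Function.Injective ρ) :
    Cfsg.Agent.Helper18.Klein.TwoFix (G ⧸ Subgroup.center G) (XQ ρ) := by
  intro k hk
  obtain ⟨g, rfl⟩ := QuotientGroup.mk_surjective k
  have hg : g ∉ Subgroup.center G := fun h => hk ((QuotientGroup.eq_one_iff g).mpr h)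
  have e : ↥(fixedBy (XQ ρ) (g : G ⧸ Subgroup.center G)) ≃ ↥{r : PLine ρ | g • r = r} :=
    { toFun := fun x => ⟨x.1.pt, by
        have := x.2
        rw [mem_fixedBy] at this
        show g • x.1.pt = x.1.pt
        rw [← XQ.mk_smul_pt, this]⟩
      invFun := fun r => ⟨XQ.ofPt r.1 ⟨g, hg, r.2⟩, by
        rw [mem_fixedBy]
        apply XQ.pt_injective
        rw [XQ.mk_smul_pt]
        exact r.2⟩
      left_inv := fun x => by
        apply Subtype.ext
        apply XQ.pt_injective
        rfl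
      right_inv := fun r => by
        apply Subtype.ext
        rfl }
  rw [Nat.card_congr e, Nat.card_coe_set_eq]
  exact ncard_fixed h2 ρ g (isOfFinOrder_of_finite g)
    (fun c hc => hg (mem_center_of_scalar ρ hinj hc))

/-- the ratio of the two eigenvalues on the stabiliser of a point -/
noncomputable def ratioHom (ρ : Representation ℂ G V) {v : V} (hv : v ≠ 0) :
    stabilizer G (PLine.mk ρ v hv) →* ℂˣ :=
  (lamHom ρ hv).toHomUnits * (lamHom ρ hv).toHomUnits /
    ((LinearMap.det : Module.End ℂ V →* ℂ).comp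
      ((ρ : G →* Module.End ℂ V).comp (stabilizer G (PLine.mk ρ v hv)).subtype)).toHomUnits

theorem ratioHom_eq_one_iff (ρ : Representation ℂ G V) {v : V} (hv : v ≠ 0)
    (s : stabilizer G (PLine.mk ρ v hv)) :
    ratioHom ρ hv s = 1 ↔ eig ρ v (s : G) * eig ρ v (s : G) = LinearMap.det (ρ (s : G)) := by
  unfold ratioHom
  rw [MonoidHom.div_apply, MonoidHom.mul_apply, div_eq_one, Units.ext_iff]
  simp only [Units.val_mul, MonoidHom.coe_toHomUnits, lamHom_apply, MonoidHom.comp_apply,
    Subgroup.subtype_apply]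

theorem mem_center_of_ratio_eq_one [Finite G] [FiniteDimensional ℂ V] (h2 : finrank ℂ V = 2)
    (ρ : Representation ℂ G V) (hinj : Function.Injective ρ) {v : V} (hv : v ≠ 0)
    (s : stabilizer G (PLine.mk ρ v hv)) (hs : ratioHom ρ hv s = 1) :
    (s : G) ∈ Subgroup.center G := by
  rw [ratioHom_eq_one_iff] at hs
  have hfix := (mem_stabilizer_mk_iff ρ hv _).mp s.2
  obtain ⟨b, -, hdet, hsc⟩ := trace_det_of_fixed h2 ρ hv (isOfFinOrder_of_finite (s : G)) hfix
  have hne := eig_ne_zero ρ hv hfix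
  have hb : b = eig ρ v (s : G) := by
    rw [hdet] at hs
    exact (mul_left_cancel₀ hne hs).symm
  exact mem_center_of_scalar ρ hinj (hsc hb)

theorem isCyclic_stabilizer [Finite G] [FiniteDimensional ℂ V] (h2 : finrank ℂ V = 2)
    (ρ : Representation ℂ G V) [ρ.IsIrreducible] (hinj : Function.Injective ρ) (x : XQ ρ) :
    IsCyclic (stabilizer (G ⧸ Subgroup.center G) x) := by
  obtain ⟨v, hv, hxv⟩ := PLine.exists_rep ρ x.pt
  haveI : Finite (stabilizer G (PLine.mk ρ v hv)) := inferInstance
  haveI : Finite (ratioHom ρ hv).range :=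
    Finite.of_surjective (ratioHom ρ hv).rangeRestrict (ratioHom ρ hv).rangeRestrict_surjective
  have hC : IsCyclic (ratioHom ρ hv).range := isCyclic_subgroup_units _
  obtain ⟨⟨c, ⟨s0, rfl⟩⟩, hc⟩ := hC.exists_generator
  have hs0 : ((s0 : G) : G ⧸ Subgroup.center G) ∈ stabilizer (G ⧸ Subgroup.center G) x := by
    rw [mem_stabilizer_iff]
    apply XQ.pt_injective
    rw [XQ.mk_smul_pt, hxv]
    exact s0.2
  refine ⟨⟨⟨_, hs0⟩, ?_⟩⟩
  rintro ⟨k, hk⟩
  obtain ⟨g, rfl⟩ := QuotientGroup.mk_surjective k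
  have hg : g ∈ stabilizer G (PLine.mk ρ v hv) := by
    rw [mem_stabilizer_iff] at hk ⊢
    rw [← hxv, ← XQ.mk_smul_pt, hk]
  obtain ⟨n, hn⟩ := Subgroup.mem_zpowers_iff.mp (hc ⟨ratioHom ρ hv ⟨g, hg⟩, ⟨_, rfl⟩⟩)
  have hn' : ratioHom ρ hv s0 ^ n = ratioHom ρ hv ⟨g, hg⟩ := by
    have := congrArg Subtype.val hn
    simpa using this
  have ht : ratioHom ρ hv (s0 ^ (-n) * ⟨g, hg⟩) = 1 := by
    rw [map_mul, map_zpow, zpow_neg, hn', inv_mul_cancel]
  have hcen := mem_center_of_ratio_eq_one h2 ρ hinj hv _ ht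
  refine ⟨n, ?_⟩
  apply Subtype.ext
  simp only [Subgroup.coe_zpow]
  have h1 : (((s0 ^ (-n) * ⟨g, hg⟩ : stabilizer G (PLine.mk ρ v hv)) : G) :
      G ⧸ Subgroup.center G) = 1 := (QuotientGroup.eq_one_iff _).mpr hcen
  simp only [Subgroup.coe_mul, QuotientGroup.mk_mul, zpow_neg] at h1
  exact (inv_mul_eq_one.mp h1)

end Cfsg.Agent.Helper24.Deg2
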