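import Mathlib
import Cfsg.Agent.Helper28.S5658.Defs
import Cfsg.Agent.Helper28.S5658.Lib

/-! S5658 piece SUMISO (driver helper28): a rational vector orthogonal to `b` is a sum of two
rational isotropic vectors orthogonal to `b`. -/

set_option autoImplicit false

namespace Cfsg.Agent.S5658P

open Matrix
open Cfsg.Agent.S2644 Cfsg.Agent.Helper2.SUGen Cfsg.Agent.Helper28.SimMax Cfsg.Agent.S5639P

variable {K : Type*} [Field K] {q n : ℕ}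

local notation "h" => Cfsg.hermForm n K q
local notation "T" => Cfsg.unitaryTransvection n q

namespace SUMISO

theorem herm_up_eq_zero (F₀ : Subfield K) (a b : Fin n → F₀) :
    h (up F₀ a) (up F₀ b) = 0 ↔ Cfsg.hermForm n F₀ q a b = 0 := by
  rw [herm_up]
  constructor
  · intro h0
    exact Subtype.ext h0
  · intro h0
    rw [h0]
    rfl

end SUMISO

/-- SUMISO (S-M) -/
theorem SUMISO.exists_sum [Finite K] (hn : 13 ≤ n) (D : Frob K q) (F₀ : Subfield K)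
    (hθ : ∃ θ ∈ F₀, D.σ θ ≠ θ) {b x : Fin n → K} (hb : Rat F₀ b) (hx : Rat F₀ x) (hxb : h x b = 0) :
    ∃ x₁ x₂ : Fin n → K, Rat F₀ x₁ ∧ Rat F₀ x₂ ∧ x = x₁ + x₂ ∧ h x₁ x₁ = 0 ∧ h x₂ x₂ = 0 ∧
      h x₁ b = 0 ∧ h x₂ b = 0 := by
  obtain ⟨b₀, rfl⟩ := exists_up (F₀ := F₀) hb
  obtain ⟨x₀, rfl⟩ := exists_up (F₀ := F₀) hx
  have h0 : Cfsg.hermForm n F₀ q x₀ b₀ = 0 := (SUMISO.herm_up_eq_zero F₀ x₀ b₀).1 hxb
  obtain ⟨w1, w2, hsum, h11, h22, h1b, h2b⟩ :=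
    exists_sum_iso (frob0 D F₀ hθ) (by omega : 4 ≤ n) b₀ x₀ h0
  refine ⟨up F₀ w1, up F₀ w2, rat_up w1, rat_up w2, ?_, ?_, ?_, ?_, ?_⟩
  · rw [hsum, up_add]
  · exact (SUMISO.herm_up_eq_zero F₀ w1 w1).2 h11
  · exact (SUMISO.herm_up_eq_zero F₀ w2 w2).2 h22
  · exact (SUMISO.herm_up_eq_zero F₀ w1 b₀).2 h1b
  · exact (SUMISO.herm_up_eq_zero F₀ w2 b₀).2 h2b

end Cfsg.Agent.S5658P
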