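import Mathlib
import Cfsg.Prelude.Def_GeometricClasses
import Cfsg.Prelude.Def_ClassicalGeometry
import Cfsg.Agent.Helper29.S5977Defs
import Cfsg.Agent.Helper28.Spin6
import Cfsg.Agent.Helper28.OrthSum
import Cfsg.Agent.Helper7.OrthUni3

set_option autoImplicit false
open scoped MatrixGroups

/-! S5977 / S5978 piece NORMSQ: an element of `F(√ν)` whose norm is a non-zero square of `F` is a
square in `F(√ν)`. -/

namespace Cfsg.Agent.S5977P

open Polynomial
open Cfsg.Agent.Helper7.OrthUni (gram qf)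
open Cfsg.Agent.Helper28.OrthSum (Qs)
open Cfsg.Agent.Helper28.Spin (QfPlus)

namespace NORMSQ

variable {F : Type*} [Field F] [Fintype F]

/-- the product of two non-squares is a square -/
theorem isSquare_mul_of_not (ν : F) (hν : ¬ IsSquare ν) (c : F) (hc : ¬ IsSquare c) :
    IsSquare (c * ν) := by
  classical
  have hc0 : c ≠ 0 := by
    rintro rfl
    exact hc ⟨0, by simp⟩
  have hν0 : ν ≠ 0 := by
    rintro rfl
    exact hν ⟨0, by simp⟩
  rw [← quadraticChar_one_iff_isSquare (mul_ne_zero hc0 hν0), map_mul,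
    quadraticChar_neg_one_iff_not_isSquare.mpr hc, quadraticChar_neg_one_iff_not_isSquare.mpr hν]
  norm_num

/-- the core computation -/
theorem core (ν : F) (hν0 : ν ≠ 0) (a b t t' : F) (ht : IsSquare t) (ht' : IsSquare (t' * ν))
    (hsum : t + t' = a) (hprod : 4 * t * t' = ν * b ^ 2) :
    ∃ x y : F, x ^ 2 + ν * y ^ 2 = a ∧ 2 * x * y = b := by
  obtain ⟨x, hx⟩ := ht
  obtain ⟨w, hw⟩ := ht'
  have hy : ν * (w / ν) ^ 2 = t' := by
    field_simp
    rw [mul_comm, hw]
    ring
  have hsq : (2 * x * (w / ν)) ^ 2 = b ^ 2 := by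
    have h1 : ν * (2 * x * (w / ν)) ^ 2 = ν * b ^ 2 := by
      rw [← hprod, hx, ← hy]
      ring
    exact mul_left_cancel₀ hν0 h1
  have h3 : (2 * x * (w / ν) - b) * (2 * x * (w / ν) + b) = 0 := by
    linear_combination hsq
  rcases mul_eq_zero.mp h3 with h4 | h4
  · refine ⟨x, w / ν, ?_, ?_⟩
    · rw [hy, ← hsum, hx]
      ring
    · linear_combination h4
  · refine ⟨x, -(w / ν), ?_, ?_⟩
    · rw [neg_sq, hy, ← hsum, hx]
      ring
    · linear_combination -h4

end NORMSQ

open NORMSQ in
/-- NORMSQ -/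
theorem exists_sqrt_of_norm_sq {F : Type*} [Field F] [Fintype F] (h2 : (2 : F) ≠ 0)
    (ν : F) (hν : ¬ IsSquare ν) (a b s : F) (hs : s ≠ 0) (hab : a ^ 2 - ν * b ^ 2 = s ^ 2) :
    ∃ x y : F, x ^ 2 + ν * y ^ 2 = a ∧ 2 * x * y = b := by
  classical
  have hν0 : ν ≠ 0 := by
    rintro rfl
    exact hν ⟨0, by simp⟩
  have h4 : (4 : F) ≠ 0 := by
    have : (4 : F) = 2 * 2 := by norm_num
    rw [this]
    exact mul_ne_zero h2 h2
  obtain ⟨t, ht⟩ : ∃ t : F, t = (a + s) / 2 := ⟨_, rfl⟩
  obtain ⟨t', ht'⟩ : ∃ t' : F, t' = (a - s) / 2 := ⟨_, rfl⟩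
  have hsum : t + t' = a := by
    rw [ht, ht']
    field_simp
    ring
  have hsum' : t' + t = a := by rw [add_comm]; exact hsum
  have e1 : 2 * t = a + s := by
    rw [ht]
    field_simp
  have e2 : 2 * t' = a - s := by
    rw [ht']
    field_simp
  have hprod : 4 * t * t' = ν * b ^ 2 := by
    have : 4 * t * t' = (2 * t) * (2 * t') := by ring
    rw [this, e1, e2]
    linear_combination hab
  have hprod' : 4 * t' * t = ν * b ^ 2 := by rw [← hprod]; ring
  have hzero_sq : IsSquare (0 : F) := ⟨0, by simp⟩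
  by_cases h1 : IsSquare t
  · by_cases h1' : IsSquare t'
    · -- both squares: one of them vanishes
      by_cases ht0 : t = 0
      · apply core ν hν0 a b t' t h1' _ hsum' hprod'
        rw [ht0, zero_mul]
        exact hzero_sq
      · by_cases ht'0 : t' = 0
        · apply core ν hν0 a b t t' h1 _ hsum hprod
          rw [ht'0, zero_mul]
          exact hzero_sq
        · exfalso
          -- `ν b² = 4 t t'` would be a non-zero square
          have hb0 : b ≠ 0 := by
            rintro rfl
            have : 4 * t * t' = 0 := by rw [hprod]; ring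
            exact mul_ne_zero (mul_ne_zero h4 ht0) ht'0 this
          apply hν
          obtain ⟨x, hx⟩ := h1
          obtain ⟨x', hx'⟩ := h1'
          refine ⟨2 * x * x' / b, ?_⟩
          rw [div_mul_div_comm, eq_div_iff (mul_ne_zero hb0 hb0)]
          linear_combination (-1 : F) * hprod + 4 * t' * hx + 4 * x * x * hx'
    · exact core ν hν0 a b t t' h1 (isSquare_mul_of_not ν hν t' h1') hsum hprod
  · by_cases h1' : IsSquare t'
    · exact core ν hν0 a b t' t h1' (isSquare_mul_of_not ν hν t h1) hsum' hprod'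
    · exfalso
      -- both non-squares: `t t'` is a non-zero square, so `ν b²` is
      have ht0 : t ≠ 0 := by
        rintro rfl
        exact h1 hzero_sq
      have ht'0 : t' ≠ 0 := by
        rintro rfl
        exact h1' hzero_sq
      have hb0 : b ≠ 0 := by
        rintro rfl
        have : 4 * t * t' = 0 := by rw [hprod]; ring
        exact mul_ne_zero (mul_ne_zero h4 ht0) ht'0 this
      have h5 : IsSquare (t * ν) := isSquare_mul_of_not ν hν t h1
      have h6 : IsSquare (t' * ν) := isSquare_mul_of_not ν hν t' h1'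
      apply hν
      obtain ⟨x, hx⟩ := h5
      obtain ⟨x', hx'⟩ := h6
      -- `(tν)(t'ν) = ν² t t' = ν³ b² / 4`
      refine ⟨2 * x * x' / (ν * b), ?_⟩
      have h7 : (2 * x * x') ^ 2 = ν ^ 3 * b ^ 2 := by
        have : (2 * x * x') ^ 2 = 4 * (x * x) * (x' * x') := by ring
        rw [this, ← hx, ← hx']
        linear_combination ν ^ 2 * hprod
      have hνb : ν * b ≠ 0 := mul_ne_zero hν0 hb0
      rw [div_mul_div_comm, eq_div_iff (mul_ne_zero hνb hνb)]
      linear_combination -h7

end Cfsg.Agent.S5977P
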