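import Mathlib
import Cfsg.Prelude.Def_GeometricClasses

set_option autoImplicit false
open scoped MatrixGroups Kronecker TensorProduct

/-! S5979, piece TR3: the rank of `1 ⊗ h` is `dim U * rank h`. -/

namespace Cfsg.Agent.S5979P

/-- TR3: the rank of `1 ⊗ h` -/
theorem rank_tensor_one {F U W : Type*} [Field F] [AddCommGroup U] [Module F U]
    [AddCommGroup W] [Module F W] [FiniteDimensional F U] [FiniteDimensional F W]
    (h : Module.End F W) :
    Module.finrank F (LinearMap.range (TensorProduct.map (1 : Module.End F U) h)) =
      Module.finrank F U * Module.finrank F (LinearMap.range h) := by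
  have h1 : TensorProduct.map (1 : Module.End F U) h = LinearMap.lTensor U h := rfl
  rw [h1, LinearMap.lTensor_range]
  have hinj : Function.Injective (LinearMap.lTensor U (LinearMap.range h).subtype) :=
    Module.Flat.lTensor_preserves_injective_linearMap _ (Submodule.subtype_injective _)
  rw [LinearMap.finrank_range_of_inj hinj, Module.finrank_tensorProduct]

example {F U W : Type*} [Field F] [AddCommGroup U] [Module F U]
    [AddCommGroup W] [Module F W] [FiniteDimensional F U] [FiniteDimensional F W]
    (h : Module.End F W) :
    Module.finrank F (LinearMap.range (TensorProduct.map (1 : Module.End F U) h)) =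
      Module.finrank F U * Module.finrank F (LinearMap.range h) :=
  rank_tensor_one h

end Cfsg.Agent.S5979P

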