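import Cfsg.Agent.Helper22.S1572Defs

/-! S1572 piece CNTB: at most 97152 minimal vectors of shape `(±2^8, 0^16)`. -/

set_option autoImplicit false

namespace Cfsg.Agent.S1572P

open Cfsg Cfsg.Agent.Helper27 Cfsg.Agent.Helper22.Co0Mono Cfsg.Agent.Helper22.CrossStab
  Cfsg.Agent.Helper22.Co0Center Cfsg.Agent.Helper22.MinTrans Cfsg.Agent.Helper22.Co0Order
  Cfsg.Agent.Helper22.Census
open scoped Pointwise

namespace CNTB

open Cfsg.Agent.Helper22.LeechShapes

/-- the even vectors of sum of squares 32 over a codeword of weight 8 -/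
def T : Set (GolayPt → ℤ) :=
  {x | x ∈ leechLattice ∧ sqNorm x = ((32 : ℕ) : ℤ) ∧
    ∃ mk ∈ classSet 0 (fun w => w == 8), InClass x mk.1 mk.2}

theorem ncard_T : T.ncard = 97152 := by
  rw [T, ncard_classSet 32 (by decide) 0 (by decide) (fun w => w == 8) g32 (fun a b c d => rfl)
    (fun m w => rfl)]
  decide +kernel

theorem mem_T_of_shapeB {v : GolayPt → ℤ} (hv : v ∈ leechLattice) (h : ShapeB v) : v ∈ T := by
  classical
  obtain ⟨O, hO, hon, hoff⟩ := h
  obtain ⟨m, hm, k, hk, hres, hsum⟩ := (mem_leech_iff_res v).mp hv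
  have hm' : m = 0 ∨ m = 1 := by simpa using hm
  have hk' := Finset.mem_range.mp hk
  have hval : ∀ p, v p = 0 ∨ v p = 2 ∨ v p = -2 := by
    intro p
    by_cases hp : p ∈ O
    · rcases hon p hp with h | h
      · exact Or.inr (Or.inl h)
      · exact Or.inr (Or.inr h)
    · exact Or.inl (hoff p hp)
  have hm0 : m = 0 := by
    have h1 := hres (pt 0)
    have hb := bitZ_cases (cw k) (idx (pt 0))
    rcases hval (pt 0) with h | h | h <;> rw [h] at h1 <;> omega
  subst hm0
  have hbit : ∀ p, bitZ (cw k) (idx p) = if p ∈ O then 1 else 0 := by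
    intro p
    have h1 := hres p
    have hb := bitZ_cases (cw k) (idx p)
    by_cases hp : p ∈ O
    · rw [if_pos hp]
      rcases hon p hp with h | h <;> rw [h] at h1 <;> omega
    · rw [if_neg hp]
      rw [hoff p hp] at h1
      omega
  have hpop : popc 24 (cw k) = 8 := by
    have h1 := sum_bitZ (cw k)
    rw [Finset.sum_congr rfl (fun p _ => hbit p), Finset.sum_ite_mem, Finset.univ_inter,
      Finset.sum_const, hO.2] at h1
    have : ((popc 24 (cw k) : ℕ) : ℤ) = 8 := by rw [← h1]; norm_num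
    exact_mod_cast this
  have hn : sqNorm v = ((32 : ℕ) : ℤ) := by
    have hsq : ∀ p, v p ^ 2 = if p ∈ O then 4 else 0 := by
      intro p
      by_cases hp : p ∈ O
      · rw [if_pos hp]
        rcases hon p hp with h | h <;> rw [h] <;> norm_num
      · rw [if_neg hp, hoff p hp]
        norm_num
    unfold sqNorm
    rw [Finset.sum_congr rfl (fun p _ => hsq p), Finset.sum_ite_mem, Finset.univ_inter,
      Finset.sum_const, hO.2]
    norm_num
  refine ⟨hv, hn, (((0 : ℕ) : ℤ), k), mem_classSet.mpr ⟨rfl, hk', ?_⟩, ?_⟩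
  · show (popc 24 (cw k) == 8) = true
    rw [hpop]
    rfl
  · show InClass v ((0 : ℕ) : ℤ) k
    rw [Nat.cast_zero]
    exact hres

end CNTB

/-- CNTB -/
theorem ncard_XB_le : XB.ncard ≤ 97152 := by
  have hfin : CNTB.T.Finite :=
    Set.finite_of_ncard_ne_zero (by rw [CNTB.ncard_T]; norm_num)
  rw [← CNTB.ncard_T]
  refine Set.ncard_le_ncard_of_injOn (fun v : ↥leechLattice => (v : GolayPt → ℤ)) ?_ ?_ hfin
  · intro v hv
    exact CNTB.mem_T_of_shapeB v.2 hv
  · exact Subtype.val_injective.injOn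

end Cfsg.Agent.S1572P
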