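import Cfsg.Agent.Helper22.S1572Defs

/-! S1572 piece CNTC: at most 98304 minimal vectors of shape `(∓3, ±1^23)`. -/

set_option autoImplicit false

namespace Cfsg.Agent.S1572P

open Cfsg Cfsg.Agent.Helper27 Cfsg.Agent.Helper22.Co0Mono Cfsg.Agent.Helper22.CrossStab
  Cfsg.Agent.Helper22.Co0Center Cfsg.Agent.Helper22.MinTrans Cfsg.Agent.Helper22.Co0Order
  Cfsg.Agent.Helper22.Census
open scoped Pointwise

namespace CNTC

theorem card_pt : Fintype.card GolayPt = 24 := by decide

theorem sqNorm_shapeC {v : GolayPt → ℤ} (h : ShapeC v) : sqNorm v = 32 := by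
  classical
  obtain ⟨i, hi, hoth, _⟩ := h
  have hsq : ∀ p, v p ^ 2 = 1 + if p = i then 8 else 0 := by
    intro p
    by_cases hp : p = i
    · rw [if_pos hp, hp]
      rcases hi with h | h <;> rw [h] <;> norm_num
    · rw [if_neg hp]
      rcases hoth p hp with h | h <;> rw [h] <;> norm_num
  unfold sqNorm
  rw [Finset.sum_congr rfl (fun p _ => hsq p), Finset.sum_add_distrib, Finset.sum_const,
    Finset.sum_ite_eq' Finset.univ i, if_pos (Finset.mem_univ i), Finset.card_univ, card_pt]
  norm_num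

end CNTC

/-- CNTC -/
theorem ncard_XC_le : XC.ncard ≤ 98304 := by
  have hfin : (Cfsg.Agent.Helper22.LeechShapes.oddSet 32).Finite :=
    Set.finite_of_ncard_ne_zero (by rw [Cfsg.Agent.Helper22.LeechShapes.ncard_odd32]; norm_num)
  rw [← Cfsg.Agent.Helper22.LeechShapes.ncard_odd32]
  refine Set.ncard_le_ncard_of_injOn (fun v : ↥leechLattice => (v : GolayPt → ℤ)) ?_ ?_ hfin
  · intro v hv
    have hn := CNTC.sqNorm_shapeC hv
    obtain ⟨i, hi, _, _⟩ := hv
    apply Cfsg.Agent.Helper22.LeechShapes.mem_oddSet v.2 (n := 32) (i := i)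
    · rw [hn]; rfl
    · rcases hi with h | h <;> rw [h] <;> norm_num
  · exact Subtype.val_injective.injOn

end Cfsg.Agent.S1572P
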