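import Cfsg.Agent.Helper22.S1572Defs

/-! S1572 piece CNTYA: at most 88 minimal vectors `-4 e_a ± 4 e_k` having inner product `-16`
with `v0`. -/

set_option autoImplicit false

namespace Cfsg.Agent.S1572P

open Cfsg Cfsg.Agent.Helper27 Cfsg.Agent.Helper22.Co0Mono Cfsg.Agent.Helper22.CrossStab
  Cfsg.Agent.Helper22.Co0Center Cfsg.Agent.Helper22.MinTrans Cfsg.Agent.Helper22.Co0Order
  Cfsg.Agent.Helper22.Census
open scoped Pointwise

namespace CNTYA

/-- the parameters: which of the two points carries `-4`, the other position, its sign -/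
abbrev Par : Type := Bool × {k : GolayPt // k ≠ pt 0 ∧ k ≠ pt 1} × Bool

theorem card_Par : Fintype.card Par = 88 := by
  have h22 : Fintype.card {k : GolayPt // k ≠ pt 0 ∧ k ≠ pt 1} = 22 := by decide
  rw [Fintype.card_prod, Fintype.card_prod, Fintype.card_bool, h22]

/-- the vector of a parameter -/
def vec (x : Par) : GolayPt → ℤ :=
  Pi.single (if x.1 then pt 0 else pt 1) (-4) + Pi.single x.2.1.1 (if x.2.2 then 4 else -4)

theorem mem_range_of_mem_YA {w : GolayPt → ℤ} (hA : ShapeA w)
    (hd : dotInt (v0 : GolayPt → ℤ) w = -16) : w ∈ Set.range vec := by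
  classical
  have h01 : pt 0 ≠ pt 1 := by decide
  rw [dot_v0] at hd
  obtain ⟨i, j, hij, hi, hj, hrest⟩ := hA
  -- the general form: given the position `a ∈ {pt 0, pt 1}` with `-4` and the other position `k`
  have key : ∀ (a : Bool) (k : GolayPt) (hk0 : k ≠ pt 0) (hk1 : k ≠ pt 1) (s : Bool),
      w (if a then pt 0 else pt 1) = -4 → w k = (if s then 4 else -4) →
      (∀ p, p ≠ (if a then pt 0 else pt 1) → p ≠ k → w p = 0) → w ∈ Set.range vec := by
    intro a k hk0 hk1 s ha hk hz
    refine ⟨(a, ⟨k, hk0, hk1⟩, s), ?_⟩
    funext p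
    unfold vec
    simp only [Pi.add_apply]
    have hak : (if a then pt 0 else pt 1) ≠ k := by
      cases a
      · exact fun h => hk1 h.symm
      · exact fun h => hk0 h.symm
    by_cases hpa : p = (if a then pt 0 else pt 1)
    · rw [hpa, Pi.single_eq_same, Pi.single_eq_of_ne hak, add_zero, ha]
    · by_cases hpk : p = k
      · rw [hpk, Pi.single_eq_of_ne (Ne.symm hak), Pi.single_eq_same, zero_add, hk]
      · rw [Pi.single_eq_of_ne hpa, Pi.single_eq_of_ne hpk, add_zero, hz p hpa hpk]
  -- case analysis on the positions of `pt 0`, `pt 1` among `i`, `j`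
  by_cases h0i : pt 0 = i
  · by_cases h1j : pt 1 = j
    · exfalso
      rw [h0i, h1j] at hd
      rcases hi with h | h <;> rcases hj with h' | h' <;> rw [h, h'] at hd <;> omega
    · -- `pt 1` is not `i` (as `pt 0 = i`), not `j`
      have h1i : pt 1 ≠ i := fun h => h01 (h0i.trans h.symm)
      have hw1 : w (pt 1) = 0 := hrest _ h1i h1j
      have hw0 : w (pt 0) = -4 := by rw [hw1] at hd; omega
      have hj0 : j ≠ pt 0 := fun h => hij (h0i.symm.trans h.symm)
      have hj1 : j ≠ pt 1 := fun h => h1j h.symm
      rcases hj with h | h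
      · exact key true j hj0 hj1 true (by simpa using hw0) (by simpa using h)
          (fun p hp hpj => hrest p (by simpa [h0i] using hp) hpj)
      · exact key true j hj0 hj1 false (by simpa using hw0) (by simpa using h)
          (fun p hp hpj => hrest p (by simpa [h0i] using hp) hpj)
  · by_cases h0j : pt 0 = j
    · by_cases h1i : pt 1 = i
      · exfalso
        rw [h0j, h1i] at hd
        rcases hi with h | h <;> rcases hj with h' | h' <;> rw [h, h'] at hd <;> omega
      · have h1j : pt 1 ≠ j := fun h => h01 (h0j.trans h.symm)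
        have hw1 : w (pt 1) = 0 := hrest _ h1i h1j
        have hw0 : w (pt 0) = -4 := by rw [hw1] at hd; omega
        have hi0 : i ≠ pt 0 := fun h => hij (h.trans h0j)
        have hi1 : i ≠ pt 1 := fun h => h1i h.symm
        rcases hi with h | h
        · exact key true i hi0 hi1 true (by simpa using hw0) (by simpa using h)
            (fun p hp hpi => hrest p hpi (by simpa [h0j] using hp))
        · exact key true i hi0 hi1 false (by simpa using hw0) (by simpa using h)
            (fun p hp hpi => hrest p hpi (by simpa [h0j] using hp))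
    · -- `pt 0` is neither `i` nor `j`
      have hw0 : w (pt 0) = 0 := hrest _ h0i h0j
      have hw1 : w (pt 1) = -4 := by rw [hw0] at hd; omega
      by_cases h1i : pt 1 = i
      · have hj0 : j ≠ pt 0 := fun h => h0j h.symm
        have hj1 : j ≠ pt 1 := fun h => hij (h1i.symm.trans h.symm)
        rcases hj with h | h
        · exact key false j hj0 hj1 true (by simpa using hw1) (by simpa using h)
            (fun p hp hpj => hrest p (by simpa [h1i] using hp) hpj)
        · exact key false j hj0 hj1 false (by simpa using hw1) (by simpa using h)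
            (fun p hp hpj => hrest p (by simpa [h1i] using hp) hpj)
      · by_cases h1j : pt 1 = j
        · have hi0 : i ≠ pt 0 := fun h => h0i h.symm
          have hi1 : i ≠ pt 1 := fun h => hij (h.trans h1j)
          rcases hi with h | h
          · exact key false i hi0 hi1 true (by simpa using hw1) (by simpa using h)
              (fun p hp hpi => hrest p hpi (by simpa [h1j] using hp))
          · exact key false i hi0 hi1 false (by simpa using hw1) (by simpa using h)
              (fun p hp hpi => hrest p hpi (by simpa [h1j] using hp))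
        · exfalso
          have := hrest _ h1i h1j
          omega

end CNTYA

/-- CNTYA -/
theorem ncard_YA_le : YA.ncard ≤ 88 := by
  classical
  have hfin : (Set.range CNTYA.vec).Finite := Set.finite_range _
  have h1 : YA.ncard ≤ (Set.range CNTYA.vec).ncard := by
    refine Set.ncard_le_ncard_of_injOn (fun v : ↥leechLattice => (v : GolayPt → ℤ)) ?_ ?_ hfin
    · intro v hv
      exact CNTYA.mem_range_of_mem_YA hv.1 hv.2
    · exact Subtype.val_injective.injOn
  have h2 : (Set.range CNTYA.vec).ncard ≤ 88 := by
    rw [← CNTYA.card_Par, ← Set.image_univ, ← Nat.card_eq_fintype_card, ← Set.ncard_univ]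
    exact Set.ncard_image_le Set.finite_univ
  exact h1.trans h2

end Cfsg.Agent.S1572P
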