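import Mathlib

set_option autoImplicit false
set_option linter.unusedSectionVars false

namespace Cfsg.Agent.S5046P

variable {G : Type*} [Group G]

/-- ANTI (pure group theory): b and e induce different transpositions on {x, z, xz}, so (b e)^4 = 1 forces x = z. -/
theorem ANTI {b e x z : G} (hb : b * b = 1) (he : e * e = 1) (hbz : b * z = z * b) (hex : e * x = x * e)
    (hbx : b * x * b = x * z) (hez : e * z * e = z * x) (hxz : x * z = z * x)
    (h : (b * e) ^ 4 = 1) : x = z := by
  have hbinv : b⁻¹ = b := inv_eq_of_mul_eq_one_left hb
  have heinv : e⁻¹ = e := inv_eq_of_mul_eq_one_left he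
  have hcinv : (b * e)⁻¹ = e * b := by rw [mul_inv_rev, hbinv, heinv]
  -- b z b = z, e x e = x
  have hbzb : b * z * b = z := by rw [hbz, mul_assoc, hb, mul_one]
  have hexe : e * x * e = x := by rw [hex, mul_assoc, he, mul_one]
  -- z^2 = 1 : conjugate hbx by b
  have hzz : z * z = 1 := by
    have h1 : b * (b * x * b) * b = x := by
      calc b * (b * x * b) * b = (b * b) * x * (b * b) := by group
        _ = x := by rw [hb, one_mul, mul_one]
    rw [hbx] at h1
    have h2 : b * (x * z) * b = (b * x * b) * (b * z * b) := by
      calc b * (x * z) * b = b * x * 1 * z * b := by group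
        _ = b * x * (b * b) * z * b := by rw [hb]
        _ = (b * x * b) * (b * z * b) := by group
    rw [h2, hbx, hbzb] at h1
    -- x * z * z = x
    have h3 : x * (z * z) = x * 1 := by rw [mul_one, ← mul_assoc]; exact h1
    exact mul_left_cancel h3
  have hxx : x * x = 1 := by
    have h1 : e * (e * z * e) * e = z := by
      calc e * (e * z * e) * e = (e * e) * z * (e * e) := by group
        _ = z := by rw [he, one_mul, mul_one]
    rw [hez] at h1
    have h2 : e * (z * x) * e = (e * z * e) * (e * x * e) := by
      calc e * (z * x) * e = e * z * 1 * x * e := by group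
        _ = e * z * (e * e) * x * e := by rw [he]
        _ = (e * z * e) * (e * x * e) := by group
    rw [h2, hez, hexe] at h1
    have h3 : z * (x * x) = z * 1 := by rw [mul_one, ← mul_assoc]; exact h1
    exact mul_left_cancel h3
  -- conjugation by c = b e
  have c1 : (b * e) * z * (e * b) = x := by
    calc (b * e) * z * (e * b) = b * (e * z * e) * b := by group
      _ = b * (z * x) * b := by rw [hez]
      _ = b * z * 1 * x * b := by group
      _ = b * z * (b * b) * x * b := by rw [hb]
      _ = (b * z * b) * (b * x * b) := by group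
      _ = z * (x * z) := by rw [hbzb, hbx]
      _ = z * (z * x) := by rw [hxz]
      _ = (z * z) * x := by group
      _ = x := by rw [hzz, one_mul]
  have c2 : (b * e) * x * (e * b) = x * z := by
    calc (b * e) * x * (e * b) = b * (e * x * e) * b := by group
      _ = x * z := by rw [hexe, hbx]
  have c3 : (b * e) * (x * z) * (e * b) = z := by
    calc (b * e) * (x * z) * (e * b) = (b * e) * x * 1 * z * (e * b) := by group
      _ = (b * e) * x * ((b * e)⁻¹ * (b * e)) * z * (e * b) := by rw [inv_mul_cancel]
      _ = (b * e) * x * ((e * b) * (b * e)) * z * (e * b) := by rw [hcinv]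
      _ = ((b * e) * x * (e * b)) * ((b * e) * z * (e * b)) := by group
      _ = x * z * x := by rw [c1, c2]
      _ = x * (z * x) := by group
      _ = x * (x * z) := by rw [hxz]
      _ = (x * x) * z := by group
      _ = z := by rw [hxx, one_mul]
  have key0 : ∀ c g : G, c ^ 4 * g * (c ^ 4)⁻¹
      = c * (c * (c * (c * g * c⁻¹) * c⁻¹) * c⁻¹) * c⁻¹ := by
    intro c g
    have h4 : c ^ 4 = c * c * c * c := by
      rw [pow_succ, pow_succ, pow_succ, pow_one]
    rw [h4]; group
  have key := key0 (b * e) z
  rw [h, hcinv, c1, c2, c3, c1] at key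
  simpa using key.symm

end Cfsg.Agent.S5046P
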