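import Mathlib

set_option autoImplicit false
set_option linter.unusedSectionVars false

namespace Cfsg.Agent.S5046P

variable {G : Type*} [Group G]

/-- The partial product `d_0 d_1 ⋯ d_{n-1}` of the conjugates `d_j = σ^j x' σ^{-j}`. -/
theorem SWAP_aux_P_succ (σ x' : G) (n : ℕ) :
    ((List.range (n + 1)).map (fun j => σ ^ j * x' * (σ ^ j)⁻¹)).prod
      = ((List.range n).map (fun j => σ ^ j * x' * (σ ^ j)⁻¹)).prod * (σ ^ n * x' * (σ ^ n)⁻¹) := by
  rw [List.range_succ, List.map_append, List.prod_append]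
  simp

/-- `ρ^n = P_n σ^n` where `ρ = x' σ`. -/
theorem SWAP_aux_rho_pow (σ x' : G) (n : ℕ) :
    (x' * σ) ^ n = ((List.range n).map (fun j => σ ^ j * x' * (σ ^ j)⁻¹)).prod * σ ^ n := by
  induction n with
  | zero => simp
  | succ n ih =>
    rw [pow_succ, ih, SWAP_aux_P_succ, pow_succ]
    group

/-- each `d_i` commutes with `P_n`. -/
theorem SWAP_aux_comm (σ x' : G)
    (hcomm : ∀ i j : ℕ, Commute (σ ^ i * x' * (σ ^ i)⁻¹) (σ ^ j * x' * (σ ^ j)⁻¹)) (i n : ℕ) :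
    Commute (σ ^ i * x' * (σ ^ i)⁻¹) ((List.range n).map (fun j => σ ^ j * x' * (σ ^ j)⁻¹)).prod := by
  induction n with
  | zero => simp
  | succ n ih =>
    rw [SWAP_aux_P_succ]
    exact ih.mul_right (hcomm i n)

/-- `P_n` is an involution (or trivial). -/
theorem SWAP_aux_P_sq (σ x' : G) (hx' : x' * x' = 1)
    (hcomm : ∀ i j : ℕ, Commute (σ ^ i * x' * (σ ^ i)⁻¹) (σ ^ j * x' * (σ ^ j)⁻¹)) (n : ℕ) :
    ((List.range n).map (fun j => σ ^ j * x' * (σ ^ j)⁻¹)).prod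
      * ((List.range n).map (fun j => σ ^ j * x' * (σ ^ j)⁻¹)).prod = 1 := by
  induction n with
  | zero => simp
  | succ n ih =>
    rw [SWAP_aux_P_succ]
    have hc := SWAP_aux_comm σ x' hcomm n n
    have hd : (σ ^ n * x' * (σ ^ n)⁻¹) * (σ ^ n * x' * (σ ^ n)⁻¹) = 1 := by
      have : (σ ^ n * x' * (σ ^ n)⁻¹) * (σ ^ n * x' * (σ ^ n)⁻¹) = σ ^ n * (x' * x') * (σ ^ n)⁻¹ := by
        group
      rw [this, hx']; group
    set Pn := ((List.range n).map (fun j => σ ^ j * x' * (σ ^ j)⁻¹)).prod with hPn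
    set dn := σ ^ n * x' * (σ ^ n)⁻¹ with hdn
    calc Pn * dn * (Pn * dn) = Pn * (dn * Pn) * dn := by group
      _ = Pn * (Pn * dn) * dn := by rw [hc.eq]
      _ = (Pn * Pn) * (dn * dn) := by group
      _ = 1 := by rw [ih, hd, one_mul]

/-- an element of odd order whose `m`-th power squares to one has trivial `m`-th power. -/
theorem SWAP_aux_odd {ρ : G} (hodd : Odd (orderOf ρ)) (m : ℕ) (h : ρ ^ m * ρ ^ m = 1) : ρ ^ m = 1 := by
  obtain ⟨t, ht⟩ := hodd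
  have h1 : (ρ ^ m) ^ (2 * t + 1) = 1 := by
    rw [← pow_mul, mul_comm, pow_mul, ← ht, pow_orderOf_eq_one, one_pow]
  have h2 : (ρ ^ m) ^ (2 * t) = 1 := by
    rw [pow_mul, pow_two, h, one_pow]
  rw [pow_succ, h2, one_mul] at h1
  exact h1

/-- an involution inverting `σ` inverts every power of `σ`. -/
theorem SWAP_aux_inv_pow {u σ : G} (hu : u * u = 1) (h : u * σ * u = σ⁻¹) (n : ℕ) :
    u * σ ^ n * u = (σ ^ n)⁻¹ := by
  have hu' : u⁻¹ = u := inv_eq_of_mul_eq_one_left hu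
  have h' : u * σ * u⁻¹ = σ⁻¹ := by rw [hu']; exact h
  have := conj_pow (a := u) (b := σ) (i := n)
  rw [h', hu'] at this
  rw [← this, inv_pow]

/-- SWAP (pure group theory): some g swaps x and z = x x'. -/
theorem SWAP {x y x' : G} (hx : x * x = 1) (hy : y * y = 1) (hx' : x' * x' = 1) (hxx' : x * x' = x' * x)
    (hoddx : Odd (orderOf (x * y))) (hoddz : Odd (orderOf (x * x' * y)))
    (hcomm : ∀ i j : ℕ, Commute ((x * y) ^ i * x' * ((x * y) ^ i)⁻¹) ((x * y) ^ j * x' * ((x * y) ^ j)⁻¹)) :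
    ∃ g : G, g * x * g⁻¹ = x * x' ∧ g * (x * x') * g⁻¹ = x := by
  set σ := x * y with hσ
  have hρ : x * x' * y = x' * σ := by rw [hσ, hxx']; group
  rw [hρ] at hoddz
  set ρ := x' * σ with hρdef
  obtain ⟨a0, ha0⟩ := hoddx
  -- a = a0 + 1, 2a = m + 1
  set m := orderOf σ with hm
  let P : ℕ → G := fun n => ((List.range n).map (fun j => σ ^ j * x' * (σ ^ j)⁻¹)).prod
  have hPdef : ∀ n, P n = ((List.range n).map (fun j => σ ^ j * x' * (σ ^ j)⁻¹)).prod := fun _ => rfl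
  have hA : ∀ n, ρ ^ n = P n * σ ^ n := fun n => SWAP_aux_rho_pow σ x' n
  have hPsq : ∀ n, P n * P n = 1 := fun n => SWAP_aux_P_sq σ x' hx' hcomm n
  have hPx' : ∀ n, Commute x' (P n) := by
    intro n
    have := SWAP_aux_comm σ x' hcomm 0 n
    simpa using this
  -- ρ^m = 1
  have hρm : ρ ^ m = 1 := by
    apply SWAP_aux_odd hoddz m
    have h1 : ρ ^ m = P m := by rw [hA m, hm, pow_orderOf_eq_one, mul_one]
    rw [h1]; exact hPsq m
  have hσm : σ ^ m = 1 := pow_orderOf_eq_one σ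
  -- x inverts σ, y inverts ρ
  have hxinv : x⁻¹ = x := inv_eq_of_mul_eq_one_left hx
  have hyinv : y⁻¹ = y := inv_eq_of_mul_eq_one_left hy
  have hx'inv : x'⁻¹ = x' := inv_eq_of_mul_eq_one_left hx'
  have hxσ : x * σ * x = σ⁻¹ := by
    rw [hσ, mul_inv_rev, hxinv, hyinv]
    calc x * (x * y) * x = (x * x) * y * x := by group
      _ = y * x := by rw [hx, one_mul]
  have hyρ : y * ρ * y = ρ⁻¹ := by
    rw [hρdef, hσ, mul_inv_rev, mul_inv_rev, hxinv, hyinv, hx'inv]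
    calc y * (x' * (x * y)) * y = y * x' * x * (y * y) := by group
      _ = y * x * x' := by rw [hy, mul_one, mul_assoc, ← hxx', ← mul_assoc]
  set a := a0 + 1 with ha
  have h2a : 2 * a = m + 1 := by omega
  have hσ2a : σ ^ a * σ ^ a = σ := by
    rw [← pow_add, ← two_mul, h2a, pow_succ, hσm, one_mul]
  have hρ2a : ρ ^ a * ρ ^ a = ρ := by
    rw [← pow_add, ← two_mul, h2a, pow_succ, hρm, one_mul]
  -- (σ^a)⁻¹ x σ^a = y
  have h1 : (σ ^ a)⁻¹ * x * σ ^ a = y := by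
    have := SWAP_aux_inv_pow hx hxσ a
    rw [← this]
    calc x * σ ^ a * x * x * σ ^ a = x * σ ^ a * (x * x) * σ ^ a := by group
      _ = x * (σ ^ a * σ ^ a) := by rw [hx]; group
      _ = x * σ := by rw [hσ2a]
      _ = y := by rw [hσ, ← mul_assoc, hx, one_mul]
  -- ρ^a y (ρ^a)⁻¹ = x x'
  have h2 : ρ ^ a * y * (ρ ^ a)⁻¹ = x * x' := by
    have := SWAP_aux_inv_pow hy hyρ a
    rw [← this]
    calc ρ ^ a * y * (y * ρ ^ a * y) = ρ ^ a * (y * y) * ρ ^ a * y := by group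
      _ = (ρ ^ a * ρ ^ a) * y := by rw [hy]; group
      _ = ρ * y := by rw [hρ2a]
      _ = x * x' := by
        rw [hρdef, hσ, hxx']
        calc x' * (x * y) * y = x' * x * (y * y) := by group
          _ = x' * x := by rw [hy, mul_one]
  have hPa : P a = ρ ^ a * (σ ^ a)⁻¹ := by rw [hA a]; group
  have hPainv : (P a)⁻¹ = P a := inv_eq_of_mul_eq_one_left (hPsq a)
  have h3 : P a * x * (P a)⁻¹ = x * x' := by
    rw [hPa]
    calc ρ ^ a * (σ ^ a)⁻¹ * x * (ρ ^ a * (σ ^ a)⁻¹)⁻¹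
        = ρ ^ a * ((σ ^ a)⁻¹ * x * σ ^ a) * (ρ ^ a)⁻¹ := by group
      _ = x * x' := by rw [h1, h2]
  refine ⟨P a, h3, ?_⟩
  calc P a * (x * x') * (P a)⁻¹ = (P a * x * (P a)⁻¹) * (P a * x' * (P a)⁻¹) := by group
    _ = x * x' * (x' * P a * (P a)⁻¹) := by rw [h3, (hPx' a).eq]
    _ = x := by
      rw [mul_inv_cancel_right, mul_assoc, hx', mul_one]

end Cfsg.Agent.S5046P
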