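import Mathlib
import Cfsg.Prelude.Def_GeometricClasses
import Cfsg.Prelude.Def_ClassicalGeometry
import Cfsg.Agent.Helper27.S5975Defs

set_option autoImplicit false
open scoped MatrixGroups

/-! S5975 piece TAU: a non-zero functional on `K`. -/

namespace Cfsg.Agent.S5975P

open Polynomial

/-- TAU -/
theorem exists_functional {F : Type*} [Field F] (d k : ℕ) (hk : 0 < k)
    (K : Subalgebra F (Matrix (Fin d ⊕ Fin d) (Fin d ⊕ Fin d) F))
    (hK : Cfsg.Geo.IsFieldSubalgebra k K) : ∃ τ : K →ₗ[F] F, τ ≠ 0 := by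
  have hpos : 0 < Module.finrank F K := by rw [hK.finrank_eq]; exact hk
  haveI : Module.Finite F K := Module.finite_of_finrank_pos hpos
  let b := Module.finBasis F K
  have i : Fin (Module.finrank F K) := ⟨0, hpos⟩
  refine ⟨b.coord i, ?_⟩
  intro h
  have h1 : b.coord i (b i) = 1 := by simp
  rw [h] at h1
  simp at h1

end Cfsg.Agent.S5975P
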