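import Mathlib
import Cfsg.Agent.S3360

set_option autoImplicit false

/-!
Piece (HUP) for S4025: Huppert's theorem (S3360) applied to a solvable linear group which is
transitive on the subgroups of order `p` of `V`, `|V| = p ^ n`, `n ≥ 3`.
-/

namespace Cfsg.Agent.Helper24.HupApply

/-- `p ^ n`, `n ≥ 3`, is one of Huppert's exceptional orders only for `3 ^ 4`. -/
theorem exceptional_pow {p n : ℕ} (hp : p.Prime) (hn : 3 ≤ n)
    (h : p ^ n ∈ ({9, 25, 49, 121, 529, 81} : Set ℕ)) : p = 3 ∧ n = 4 := by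
  have key : ∀ q k : ℕ, q.Prime → p ^ n = q ^ k → p = q ∧ n = k := by
    intro q k hq hpk
    have hn0 : n ≠ 0 := by omega
    have h1 : p ∣ q ^ k := by rw [← hpk]; exact dvd_pow_self p hn0
    have h2 : p = q := (Nat.prime_dvd_prime_iff_eq hp hq).mp (hp.dvd_of_dvd_pow h1)
    subst h2
    exact ⟨rfl, Nat.pow_right_injective hp.two_le hpk⟩
  simp only [Set.mem_insert_iff, Set.mem_singleton_iff] at h
  rcases h with h | h | h | h | h | h
  · have := key 3 2 (by norm_num) (by rw [h]; norm_num); omega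
  · have := key 5 2 (by norm_num) (by rw [h]; norm_num); omega
  · have := key 7 2 (by norm_num) (by rw [h]; norm_num); omega
  · have := key 11 2 (by norm_num) (by rw [h]; norm_num); omega
  · have := key 23 2 (by norm_num) (by rw [h]; norm_num); omega
  · exact key 3 4 (by norm_num) (by rw [h]; norm_num)

theorem huppert_apply {p : ℕ} [Fact p.Prime] {V : Type*} [AddCommGroup V] [Module (ZMod p) V]
    [Finite V] {n : ℕ} (hn : 3 ≤ n) (hV : Nat.card V = p ^ n)
    {A : Type*} [Group A] [Finite A] (hsol : Group.IsSolvable A) (ρ : A →* (V ≃ₗ[ZMod p] V))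
    (h1 : ∀ L L' : AddSubgroup V, Nat.card L = p → Nat.card L' = p →
      ∃ g : A, ∀ v ∈ L, ρ g v ∈ L') :
    (∃ (F : Type) (_ : Field F) (_ : Fintype F) (e : V ≃+ F),
        ∀ g : A, ∃ (a : F) (σ : F ≃+* F), ∀ v : V, e (ρ g v) = a * σ (e v)) ∨
      (p = 3 ∧ n = 4) := by
  classical
  have hp : p.Prime := Fact.out
  have hVnt : Nontrivial V := by
    apply Finite.one_lt_card_iff_nontrivial.mp
    rw [hV]
    exact Nat.one_lt_pow (by omega) hp.one_lt
  -- the scalars
  let sc : (ZMod p)ˣ →* (V ≃ₗ[ZMod p] V) := DistribMulAction.toModuleAut (ZMod p) V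
  have hsc : ∀ (c : (ZMod p)ˣ) (v : V), sc c v = (c : ZMod p) • v := fun c v => rfl
  have hcomm : ∀ (c : (ZMod p)ˣ) (T : V ≃ₗ[ZMod p] V), sc c * T = T * sc c := by
    intro c T
    ext v
    show sc c (T v) = T (sc c v)
    rw [hsc, hsc, map_smul]
  -- the homomorphism from `A × scalars`
  let ρ' : A × (ZMod p)ˣ →* (V ≃ₗ[ZMod p] V) :=
    { toFun := fun x => ρ x.1 * sc x.2
      map_one' := by simp
      map_mul' := by
        intro x y
        show ρ (x.1 * y.1) * sc (x.2 * y.2) = ρ x.1 * sc x.2 * (ρ y.1 * sc y.2)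
        rw [map_mul, map_mul, mul_assoc, mul_assoc, ← mul_assoc (sc x.2) (ρ y.1), hcomm x.2 (ρ y.1),
          mul_assoc] }
  have hρ' : ∀ (g : A) (c : (ZMod p)ˣ) (v : V), ρ' (g, c) v = ρ g ((c : ZMod p) • v) :=
    fun g c v => rfl
  have hfinLin : Finite (V ≃ₗ[ZMod p] V) :=
    Finite.of_injective (fun T : V ≃ₗ[ZMod p] V => (T : V → V)) (fun T S h => by
      ext v; exact congrFun h v)
  -- the group generated: the range of `ρ'`
  let R : Subgroup (V ≃ₗ[ZMod p] V) := ρ'.range
  have hRsol : Group.IsSolvable R := by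
    have hAsol : Group.IsSolvable (A × (ZMod p)ˣ) := inferInstance
    exact Group.isSolvable_of_surjective (f := ρ'.rangeRestrict) ρ'.rangeRestrict_surjective
  -- transitivity
  have htrans : ∀ v w : V, v ≠ 0 → w ≠ 0 → ∃ T : R, R.subtype T v = w := by
    intro v w hv hw
    have hcardz : ∀ u : V, u ≠ 0 → Nat.card (AddSubgroup.zmultiples u) = p := by
      intro u hu
      rw [Nat.card_zmultiples]
      have h2 : addOrderOf u ∣ p := by
        apply addOrderOf_dvd_of_nsmul_eq_zero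
        have : (p : ZMod p) • u = 0 := by rw [ZMod.natCast_self, zero_smul]
        rwa [Nat.cast_smul_eq_nsmul] at this
      rcases (Nat.dvd_prime hp).mp h2 with h3 | h3
      · exact absurd (AddMonoid.addOrderOf_eq_one_iff.mp h3) hu
      · exact h3
    obtain ⟨g, hg⟩ := h1 (AddSubgroup.zmultiples v) (AddSubgroup.zmultiples w) (hcardz v hv)
      (hcardz w hw)
    have h2 := hg v (AddSubgroup.mem_zmultiples v)
    obtain ⟨k, hk⟩ := AddSubgroup.mem_zmultiples_iff.mp h2
    -- `ρ g v = k • w`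
    have hk' : ((k : ZMod p)) • w = ρ g v := by
      rw [← hk]
      exact Int.cast_smul_eq_zsmul (ZMod p) k w
    have hkne : (k : ZMod p) ≠ 0 := by
      intro h0
      rw [h0, zero_smul] at hk'
      exact hv ((ρ g).injective (by rw [← hk', map_zero]))
    let c : (ZMod p)ˣ := Units.mk0 (k : ZMod p) hkne
    refine ⟨⟨ρ' (g, c⁻¹), ⟨(g, c⁻¹), rfl⟩⟩, ?_⟩
    show ρ' (g, c⁻¹) v = w
    rw [hρ', map_smul, ← hk', smul_smul]
    have : ((c⁻¹ : (ZMod p)ˣ) : ZMod p) * (k : ZMod p) = 1 := by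
      have h3 : ((c : (ZMod p)ˣ) : ZMod p) = (k : ZMod p) := rfl
      rw [← h3, ← Units.val_mul, inv_mul_cancel, Units.val_one]
    rw [this, one_smul]
  rcases Cfsg.Agent.S3360.result p hRsol R.subtype R.subtype_injective htrans with
    ⟨F, iF, iFt, e, he⟩ | hex
  · left
    refine ⟨F, iF, iFt, e, ?_⟩
    intro g
    obtain ⟨a, σ, h⟩ := he ⟨ρ' (g, 1), ⟨(g, 1), rfl⟩⟩
    refine ⟨a, σ, fun v => ?_⟩
    have h3 := h v
    have h4 : R.subtype ⟨ρ' (g, 1), ⟨(g, 1), rfl⟩⟩ v = ρ g v := by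
      show ρ' (g, 1) v = ρ g v
      rw [hρ', Units.val_one, one_smul]
    rw [h4] at h3
    exact h3
  · right
    rw [hV] at hex
    exact exceptional_pow hp hn hex

end Cfsg.Agent.Helper24.HupApply
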