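import Mathlib
import Cfsg.Agent.Helper24.GlaubP
import Cfsg.Agent.Helper24.Gallagher
import Cfsg.Agent.Helper24.GallagherDet
import Cfsg.Agent.Helper24.DegreeRatio
import Cfsg.Agent.Helper24.OddIndexReal
import Cfsg.Agent.Helper24.SmallDegree

/-!
Counting the irreducible characters of degree prime to the index of a normal Hall subgroup `M`:
they are the products of the (canonical) extensions of the invariant irreducible characters of `M`
with the linear characters of the quotient.
-/

set_option autoImplicit false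

namespace Cfsg.Agent.Helper24

open Cfsg

universe u

section RestrictDegree

variable {X : Type u} [Group X] [Finite X]

/-- If `θ` is a constituent of `χ_M` of the same degree as `χ`, then `χ_M = θ`. -/
theorem restrict_eq_of_degree_eq (M : Subgroup X) [Fintype M] (χ : IrrCharacter X)
    (θ : IrrCharacter M)
    (hcon : classInner (fun n : M => (χ : X → ℂ) n) (θ : M → ℂ) ≠ 0)
    (hdeg : (χ : X → ℂ) 1 = (θ : M → ℂ) 1) :
    (fun n : M => (χ : X → ℂ) n) = (θ : M → ℂ) := by
  classical
  haveI : Fintype (IrrCharacter M) := Fintype.ofFinite _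
  have hres : IsCharacter M (fun n : M => (χ : X → ℂ) n) :=
    Helper8.isCharacter_restrict M (IsIrrCharacter.isCharacter χ.2)
  have hexp := IsCharacter.eq_sum_classInner hres
  have hm : ∀ η : IrrCharacter M, classInner (fun n : M => (χ : X → ℂ) n) (η : M → ℂ) =
      (mult M.subtype χ η : ℂ) := fun η => mult_spec M.subtype χ η
  simp_rw [hm] at hexp
  rw [hm] at hcon
  have hθpos : 1 ≤ mult M.subtype χ θ := by
    rcases Nat.eq_zero_or_pos (mult M.subtype χ θ) with h | h
    · rw [h] at hcon; simp at hcon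
    · exact h
  -- degrees
  have h1 := congrFun hexp 1
  simp only [Finset.sum_apply, Pi.smul_apply, smul_eq_mul, OneMemClass.coe_one] at h1
  rw [hdeg] at h1
  simp_rw [irrDeg_spec] at h1
  have h2 : irrDeg θ = ∑ η : IrrCharacter M, mult M.subtype χ η * irrDeg η := by
    exact_mod_cast h1
  rw [← Finset.add_sum_erase _ _ (Finset.mem_univ θ)] at h2
  have hpos := irrDeg_pos θ
  have hθ1 : mult M.subtype χ θ = 1 := by
    have : mult M.subtype χ θ * irrDeg θ ≤ irrDeg θ := by
      obtain ⟨r, hr⟩ : ∃ r, r = ∑ η ∈ Finset.univ.erase θ, mult M.subtype χ η * irrDeg η :=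
        ⟨_, rfl⟩
      rw [← hr] at h2
      omega
    have h3 : mult M.subtype χ θ ≤ 1 := by
      by_contra hlt
      push Not at hlt
      have : 2 * irrDeg θ ≤ mult M.subtype χ θ * irrDeg θ := Nat.mul_le_mul_right _ hlt
      omega
    omega
  have hrest : ∑ η ∈ Finset.univ.erase θ, mult M.subtype χ η * irrDeg η = 0 := by
    rw [hθ1, one_mul] at h2
    omega
  have hzero : ∀ η : IrrCharacter M, η ≠ θ → mult M.subtype χ η = 0 := by
    intro η hη
    have := (Finset.sum_eq_zero_iff.mp hrest) η (Finset.mem_erase.mpr ⟨hη, Finset.mem_univ η⟩)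
    rcases Nat.mul_eq_zero.mp this with h | h
    · exact h
    · have := irrDeg_pos η
      omega
  rw [hexp, ← Finset.add_sum_erase _ _ (Finset.mem_univ θ), hθ1]
  rw [Finset.sum_eq_zero]
  · simp
  · intro η hη
    rw [hzero η (Finset.mem_erase.mp hη).1]
    simp

end RestrictDegree

section Count

variable {X : Type u} [Group X] [Finite X] (M : Subgroup X) [hM : M.Normal]

/-- The irreducible characters of `X` of degree prime to `d`, where `|X : M|` divides `d` and
`|M|` is prime to `d`, are counted by the invariant characters of `M` and the linear characters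
of `X/M`. -/
theorem card_irr_coprime_degree (d : ℕ) (hd : M.index ∣ d) (hcop : (Nat.card M).Coprime d) :
    Nat.card {χ : IrrCharacter X // (charDegree (χ : X → ℂ)).Coprime d} =
      Nat.card {θ : IrrCharacter M // ∀ (g : X) (n : M),
          (θ : M → ℂ) ⟨g * n * g⁻¹, hM.conj_mem (n : X) n.2 g⟩ = (θ : M → ℂ) n} *
        Nat.card {β : IrrCharacter (X ⧸ M) // (β : X ⧸ M → ℂ) 1 = 1} := by
  classical
  haveI : Fintype X := Fintype.ofFinite X
  haveI : Fintype M := Fintype.ofFinite M
  have hcopM : (Nat.card M).Coprime M.index := Nat.Coprime.coprime_dvd_right hd hcop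
  -- choose extensions
  have hext : ∀ θ : {θ : IrrCharacter M // ∀ (g : X) (n : M),
      (θ : M → ℂ) ⟨g * n * g⁻¹, hM.conj_mem (n : X) n.2 g⟩ = (θ : M → ℂ) n},
      ∃ χ : IrrCharacter X, ∀ n : M, (χ : X → ℂ) n = (θ.1 : M → ℂ) n := by
    intro θ
    have hc : Nat.Coprime M.index (detOrder (θ.1 : M → ℂ) * irrDeg θ.1) := by
      apply Nat.Coprime.symm
      apply Nat.Coprime.mul_left
      · exact Nat.Coprime.coprime_dvd_left (detOrder_dvd_card θ.1.2) hcopM
      · exact Nat.Coprime.coprime_dvd_left (irrDeg_dvd_card θ.1) hcopM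
    obtain ⟨χ, ⟨hχ, hχM, -⟩, -⟩ := coprime_unique_extension M (θ.1 : M → ℂ) θ.1.2 θ.2
      (irrDeg θ.1) (irrDeg_spec θ.1) hc
    exact ⟨⟨χ, hχ⟩, hχM⟩
  choose ext hextM using hext
  have hextirr : ∀ θ, IsIrrCharacter M (fun n : M => (ext θ : X → ℂ) n) := by
    intro θ
    have : (fun n : M => (ext θ : X → ℂ) n) = (θ.1 : M → ℂ) := funext (hextM θ)
    rw [this]
    exact θ.1.2
  have hmk1 : ∀ n : M, ((n : X) : X ⧸ M) = 1 := fun n => (QuotientGroup.eq_one_iff _).mpr n.2
  -- restriction of the twist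
  have htwM : ∀ θ (β : {β : IrrCharacter (X ⧸ M) // (β : X ⧸ M → ℂ) 1 = 1}) (n : M),
      gallagherTwist M (ext θ) β.1 n = (θ.1 : M → ℂ) n := by
    intro θ β n
    unfold gallagherTwist
    rw [hmk1 n, β.2, one_mul, hextM]
  have htw1 : ∀ θ (β : {β : IrrCharacter (X ⧸ M) // (β : X ⧸ M → ℂ) 1 = 1}),
      gallagherTwist M (ext θ) β.1 1 = (irrDeg θ.1 : ℂ) := by
    intro θ β
    have := htwM θ β 1
    rw [OneMemClass.coe_one] at this
    rw [this, irrDeg_spec]
  have hdegcop : ∀ θ : {θ : IrrCharacter M // ∀ (g : X) (n : M),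
      (θ : M → ℂ) ⟨g * n * g⁻¹, hM.conj_mem (n : X) n.2 g⟩ = (θ : M → ℂ) n},
      (irrDeg θ.1).Coprime d := fun θ =>
    Nat.Coprime.coprime_dvd_left (irrDeg_dvd_card θ.1) hcop
  let F : {θ : IrrCharacter M // ∀ (g : X) (n : M),
        (θ : M → ℂ) ⟨g * n * g⁻¹, hM.conj_mem (n : X) n.2 g⟩ = (θ : M → ℂ) n} ×
      {β : IrrCharacter (X ⧸ M) // (β : X ⧸ M → ℂ) 1 = 1} →
      {χ : IrrCharacter X // (charDegree (χ : X → ℂ)).Coprime d} := fun x =>
    ⟨⟨gallagherTwist M (ext x.1) x.2.1, isIrrCharacter_gallagherTwist M (ext x.1) (hextirr x.1) x.2.1⟩,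
      by
        have : charDegree (gallagherTwist M (ext x.1) x.2.1) = irrDeg x.1.1 := by
          unfold charDegree
          rw [htw1]
          simp
        show (charDegree (gallagherTwist M (ext x.1) x.2.1)).Coprime d
        rw [this]
        exact hdegcop x.1⟩
  have hFval : ∀ x, ((F x).1 : X → ℂ) = gallagherTwist M (ext x.1) x.2.1 := fun x => rfl
  have hinj : Function.Injective F := by
    rintro ⟨θ, β⟩ ⟨θ', β'⟩ h
    have h1 : gallagherTwist M (ext θ) β.1 = gallagherTwist M (ext θ') β'.1 := by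
      have := congrArg (fun χ : {χ : IrrCharacter X // (charDegree (χ : X → ℂ)).Coprime d} =>
        ((χ.1 : IrrCharacter X) : X → ℂ)) h
      simpa only [hFval] using this
    have hθ : θ = θ' := by
      apply Subtype.ext
      apply Subtype.ext
      funext n
      rw [← htwM θ β n, ← htwM θ' β' n, h1]
    subst hθ
    have hβ : β.1 = β'.1 := gallagherTwist_injective M (ext θ) (hextirr θ) β.1 β'.1 h1
    rw [Prod.mk.injEq]
    exact ⟨rfl, Subtype.ext hβ⟩
  have hsurj : Function.Surjective F := by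
    rintro ⟨χ, hχ⟩
    obtain ⟨θ, hθ⟩ := exists_constituent_restrict M χ
    obtain ⟨e, he, hediv⟩ := degree_ratio_dvd_index M (χ : X → ℂ) χ.2 (θ : M → ℂ) θ.2 hθ
    have hdegχ : irrDeg χ = e * irrDeg θ := by
      rw [irrDeg_spec, irrDeg_spec] at he
      exact_mod_cast he
    have he1 : e = 1 := by
      rw [charDegree_irr, hdegχ] at hχ
      have h1 : e.Coprime d := Nat.Coprime.coprime_mul_right hχ
      have h2 : e ∣ d := hediv.trans hd
      exact (Nat.coprime_self e).mp (Nat.Coprime.coprime_dvd_right h2 h1)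
    have hdeg : (χ : X → ℂ) 1 = (θ : M → ℂ) 1 := by
      rw [he, he1]; simp
    have hres := restrict_eq_of_degree_eq M χ θ hθ hdeg
    have hθinv : ∀ (g : X) (n : M),
        (θ : M → ℂ) ⟨g * n * g⁻¹, hM.conj_mem (n : X) n.2 g⟩ = (θ : M → ℂ) n := by
      intro g n
      have h1 := congrFun hres ⟨g * n * g⁻¹, hM.conj_mem (n : X) n.2 g⟩
      have h2 := congrFun hres n
      simp only at h1 h2
      rw [← h1, ← h2]
      exact isClassFunction_irr χ n g
    have hover : classInner (fun n : M => (χ : X → ℂ) n)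
        (fun n : M => (ext ⟨θ, hθinv⟩ : X → ℂ) n) ≠ 0 := by
      have : (fun n : M => (ext ⟨θ, hθinv⟩ : X → ℂ) n) = (θ : M → ℂ) :=
        funext (hextM ⟨θ, hθinv⟩)
      rw [this]
      exact hθ
    obtain ⟨β, hβ⟩ := exists_gallagherTwist_eq M (ext ⟨θ, hθinv⟩) (hextirr ⟨θ, hθinv⟩) χ hover
    have hβ1 : (β : X ⧸ M → ℂ) 1 = 1 := by
      have h1 := congrFun hβ 1
      unfold gallagherTwist at h1
      have h2 := hextM ⟨θ, hθinv⟩ 1
      rw [OneMemClass.coe_one] at h2
      rw [h2, hdeg, QuotientGroup.mk_one] at h1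
      have hne : (θ : M → ℂ) 1 ≠ 0 := by
        rw [irrDeg_spec]
        have := irrDeg_pos θ
        exact_mod_cast this.ne'
      have h3 : ((β : X ⧸ M → ℂ) 1 - 1) * (θ : M → ℂ) 1 = 0 := by
        rw [sub_mul, one_mul, ← h1, sub_self]
      rcases mul_eq_zero.mp h3 with h | h
      · exact sub_eq_zero.mp h
      · exact absurd h hne
    refine ⟨(⟨θ, hθinv⟩, ⟨β, hβ1⟩), ?_⟩
    apply Subtype.ext
    apply Subtype.ext
    rw [hFval]
    exact hβ.symm
  rw [← Nat.card_prod]
  exact (Nat.card_congr (Equiv.ofBijective F ⟨hinj, hsurj⟩)).symm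

end Count

end Cfsg.Agent.Helper24
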