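import Mathlib
import Cfsg.Agent.Helper24.GlaubSolv
import Cfsg.Agent.Helper24.CoprimeDegCount

/-!
`G = K H` with `K` normal, `H` solvable, coprime orders: the numbers of irreducible characters of
degree prime to `|H|` of `G` and of `N_G(H)` agree (Isaacs 13.25 / the coprime McKay count).
-/

set_option autoImplicit false

namespace Cfsg.Agent.Helper24

open Cfsg

universe u

section Congr

variable {A B : Type u} [Group A] [Group B]

theorem card_irr_congr (e : A ≃* B) : Nat.card (IrrCharacter A) = Nat.card (IrrCharacter B) := by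
  refine Nat.card_congr (Equiv.ofBijective (pullIrr e.symm) ⟨pullIrr_injective e.symm, ?_⟩)
  intro β
  exact ⟨pullIrr e β, pullIrr_symm' e β⟩

theorem card_linear_irr_congr (e : A ≃* B) :
    Nat.card {β : IrrCharacter A // (β : A → ℂ) 1 = 1} =
      Nat.card {β : IrrCharacter B // (β : B → ℂ) 1 = 1} := by
  let f : {β : IrrCharacter A // (β : A → ℂ) 1 = 1} → {β : IrrCharacter B // (β : B → ℂ) 1 = 1} :=
    fun β => ⟨pullIrr e.symm β.1, by rw [pullIrr_apply, map_one]; exact β.2⟩
  refine Nat.card_congr (Equiv.ofBijective f ⟨?_, ?_⟩)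
  · intro β β' h
    apply Subtype.ext
    apply pullIrr_injective e.symm
    exact congrArg Subtype.val h
  · intro β
    refine ⟨⟨pullIrr e β.1, by rw [pullIrr_apply, map_one]; exact β.2⟩, ?_⟩
    apply Subtype.ext
    show pullIrr e.symm (pullIrr e β.1) = β.1
    exact pullIrr_symm' e β.1

end Congr

section Main

variable {G : Type u} [Group G]

/-- Elements of `K ∩ N(H)` commute with `H` when `K ∩ H = 1`. -/
theorem commute_of_mem_normalizer_of_disjoint (K H : Subgroup G) [hK : K.Normal]
    (hdisj : K ⊓ H = ⊥) {n h : G} (hn : n ∈ K) (hnN : n ∈ Subgroup.normalizer (H : Set G))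
    (hh : h ∈ H) : n * h = h * n := by
  have h1 : n * h * n⁻¹ * h⁻¹ ∈ K := by
    have : n * h * n⁻¹ * h⁻¹ = n * (h * n⁻¹ * h⁻¹) := by group
    rw [this]
    exact K.mul_mem hn (hK.conj_mem _ (K.inv_mem hn) h)
  have h2 : n * h * n⁻¹ * h⁻¹ ∈ H :=
    H.mul_mem ((Subgroup.mem_normalizer_iff.mp hnN h).mp hh) (H.inv_mem hh)
  have h3 : n * h * n⁻¹ * h⁻¹ ∈ K ⊓ H := ⟨h1, h2⟩
  rw [hdisj, Subgroup.mem_bot] at h3
  calc n * h = n * h * n⁻¹ * h⁻¹ * (h * n) := by group
    _ = h * n := by rw [h3, one_mul]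

theorem exists_mul_of_sup_eq_top (K H : Subgroup G) [hK : K.Normal] (hKH : K ⊔ H = ⊤) (g : G) :
    ∃ k ∈ K, ∃ h ∈ H, g = k * h := by
  have : g ∈ ((K ⊔ H : Subgroup G) : Set G) := by rw [hKH]; trivial
  rw [Subgroup.normal_mul] at this
  obtain ⟨k, hk, h, hh, rfl⟩ := Set.mem_mul.mp this
  exact ⟨k, hk, h, hh, rfl⟩

theorem index_dvd_card_of_sup_eq_top (K H : Subgroup G) [hK : K.Normal] (hKH : K ⊔ H = ⊤) :
    K.index ∣ Nat.card H := by
  rw [← Subgroup.relIndex_top_right, ← hKH, Subgroup.relIndex_sup_left]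
  exact Subgroup.relIndex_dvd_card K H

/-- **Coprime McKay count** (statement S4452). -/
theorem card_irr_coprime_eq_normalizer [Finite G] (K H : Subgroup G) [hK : K.Normal] (hKH : K ⊔ H = ⊤)
    (hcop : (Nat.card K).Coprime (Nat.card H)) (hsolv : Group.IsSolvable H) :
    Nat.card {χ : IrrCharacter G // (charDegree (χ : G → ℂ)).Coprime (Nat.card H)} =
      Nat.card {η : IrrCharacter (Subgroup.normalizer (H : Set G)) //
        (charDegree (η : Subgroup.normalizer (H : Set G) → ℂ)).Coprime (Nat.card H)} := by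
  classical
  have hdisj : K ⊓ H = ⊥ := disjoint_iff.mp (Subgroup.disjoint_of_coprime_natCard hcop)
  obtain ⟨N, hN⟩ : ∃ N : Subgroup G, N = Subgroup.normalizer (H : Set G) := ⟨_, rfl⟩
  rw [← hN]
  have hHN : H ≤ N := hN ▸ Subgroup.le_normalizer
  obtain ⟨M, hMdef⟩ : ∃ M : Subgroup N, M = K.subgroupOf N := ⟨_, rfl⟩
  haveI hMn : M.Normal := hMdef ▸ Subgroup.normal_subgroupOf
  have hMmem : ∀ x : N, x ∈ M ↔ (x : G) ∈ K := by
    intro x
    rw [hMdef]
    exact Subgroup.mem_subgroupOf
  -- the two applications of the counting lemma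
  have hA := card_irr_coprime_degree K (Nat.card H) (index_dvd_card_of_sup_eq_top K H hKH) hcop
  have hMidx : M.index ∣ Nat.card H := by
    have h1 : M.index = K.relIndex N := by rw [hMdef]; rfl
    have hKN : N ⊔ K = ⊤ := by
      apply top_le_iff.mp
      rw [← hKH]
      exact sup_le le_sup_right (le_sup_of_le_left hHN)
    rw [h1, ← Subgroup.relIndex_sup_right, hKN, Subgroup.relIndex_top_right]
    exact index_dvd_card_of_sup_eq_top K H hKH
  have hMcard : Nat.card M ∣ Nat.card K := by
    rw [hMdef]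
    let φ : K.subgroupOf N →* K :=
      { toFun := fun x => ⟨(x : N), x.2⟩
        map_one' := rfl
        map_mul' := fun _ _ => rfl }
    apply Subgroup.card_dvd_of_injective φ
    intro x y hxy
    apply Subtype.ext
    apply Subtype.ext
    exact congrArg (fun z : K => (z : G)) hxy
  have hB := card_irr_coprime_degree M (Nat.card H) hMidx
    (Nat.Coprime.coprime_dvd_left hMcard hcop)
  rw [hA, hB]
  -- the decomposition of `N`
  have hdecomp : ∀ x : N, ∃ k ∈ M, ∃ h ∈ H.subgroupOf N, x = k * h := by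
    intro x
    obtain ⟨k, hk, h, hh, hx⟩ := exists_mul_of_sup_eq_top K H hKH (x : G)
    have hkN : k ∈ N := by
      have : k = (x : G) * h⁻¹ := by rw [hx]; group
      rw [this]
      exact N.mul_mem x.2 (N.inv_mem (hHN hh))
    refine ⟨⟨k, hkN⟩, ?_, ⟨h, hHN hh⟩, ?_, ?_⟩
    · exact (hMmem _).mpr hk
    · exact hh
    · apply Subtype.ext; exact hx
  -- linear characters of the quotients
  have hlin : Nat.card {β : IrrCharacter (G ⧸ K) // (β : G ⧸ K → ℂ) 1 = 1} =
      Nat.card {β : IrrCharacter (N ⧸ M) // (β : N ⧸ M → ℂ) 1 = 1} := by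
    have hle : M ≤ K.comap N.subtype := by
      rw [hMdef]; exact le_of_eq rfl
    let φ : N ⧸ M →* G ⧸ K := QuotientGroup.map M K N.subtype hle
    have hφinj : Function.Injective φ := by
      rw [injective_iff_map_eq_one]
      intro q hq
      obtain ⟨x, rfl⟩ := QuotientGroup.mk_surjective q
      have h1 : φ (QuotientGroup.mk x) = QuotientGroup.mk (x : G) := rfl
      rw [h1, QuotientGroup.eq_one_iff] at hq
      rw [QuotientGroup.eq_one_iff]
      exact (hMmem x).mpr hq
    have hφsurj : Function.Surjective φ := by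
      intro q
      obtain ⟨g, rfl⟩ := QuotientGroup.mk_surjective q
      obtain ⟨k, hk, h, hh, hg⟩ := exists_mul_of_sup_eq_top K H hKH g
      refine ⟨QuotientGroup.mk ⟨h, hHN hh⟩, ?_⟩
      have h1 : φ (QuotientGroup.mk (⟨h, hHN hh⟩ : N)) = QuotientGroup.mk h := rfl
      rw [h1, hg, QuotientGroup.mk_mul, (QuotientGroup.eq_one_iff k).mpr hk, one_mul]
    exact (card_linear_irr_congr (MulEquiv.ofBijective φ ⟨hφinj, hφsurj⟩)).symm
  -- invariant characters of `K`
  have hSN : H ≤ Subgroup.normalizer (K : Set G) := by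
    rw [Subgroup.normalizer_eq_top]; exact le_top
  have hinvK : Nat.card {θ : IrrCharacter K // ∀ (g : G) (n : K),
      (θ : K → ℂ) ⟨g * n * g⁻¹, hK.conj_mem (n : G) n.2 g⟩ = (θ : K → ℂ) n} =
      Nat.card (IrrCharacter ↥(K ⊓ Subgroup.centralizer (H : Set G))) := by
    rw [← card_invariant_irr_eq_card_irr_fixed K H hSN hcop hsolv]
    apply Nat.card_congr
    apply Equiv.subtypeEquivRight
    intro θ
    constructor
    · intro h s _ g g' hgg'
      have := h s g
      rw [← this]
      have e : g' = ⟨s * g * s⁻¹, hK.conj_mem (g : G) g.2 s⟩ := by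
        apply Subtype.ext
        exact hgg'
      rw [e]
    · intro h g n
      have hle : K ⊔ H ≤ invStab K (θ : K → ℂ) := by
        apply sup_le
        · intro k hk
          refine ⟨by rw [Subgroup.normalizer_eq_top]; trivial, ?_⟩
          intro a a' haa'
          have : a' = (⟨k, hk⟩ : K) * a * (⟨k, hk⟩ : K)⁻¹ := Subtype.ext haa'
          rw [this]
          exact isClassFunction_irr θ a ⟨k, hk⟩
        · intro s hs
          exact ⟨hSN hs, h s hs⟩
      have hg : g ∈ invStab K (θ : K → ℂ) := hle (by rw [hKH]; trivial)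
      exact hg.2 n _ rfl
  -- invariant characters of `M`
  have hinvM : Nat.card {θ : IrrCharacter M // ∀ (g : N) (n : M),
      (θ : M → ℂ) ⟨g * n * g⁻¹, hMn.conj_mem (n : N) n.2 g⟩ = (θ : M → ℂ) n} =
      Nat.card (IrrCharacter ↥(K ⊓ Subgroup.centralizer (H : Set G))) := by
    have hall : ∀ θ : IrrCharacter M, ∀ (g : N) (n : M),
        (θ : M → ℂ) ⟨g * n * g⁻¹, hMn.conj_mem (n : N) n.2 g⟩ = (θ : M → ℂ) n := by
      intro θ g n
      obtain ⟨k, hk, h, hh, hg⟩ := hdecomp g
      have hnK : ((n : N) : G) ∈ K := (hMmem n).mp n.2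
      have hcomm : ((n : N) : G) * (h : G) = (h : G) * ((n : N) : G) :=
        commute_of_mem_normalizer_of_disjoint K H hdisj hnK (hN ▸ (n : N).2) hh
      have h1 : (⟨g * n * g⁻¹, hMn.conj_mem (n : N) n.2 g⟩ : M) =
          (⟨k, hk⟩ : M) * n * (⟨k, hk⟩ : M)⁻¹ := by
        apply Subtype.ext
        apply Subtype.ext
        show ((g : N) : G) * ((n : N) : G) * ((g : N) : G)⁻¹ = (k : G) * ((n : N) : G) * (k : G)⁻¹
        rw [hg]
        show (k : G) * (h : G) * ((n : N) : G) * ((k : G) * (h : G))⁻¹ = _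
        calc (k : G) * (h : G) * ((n : N) : G) * ((k : G) * (h : G))⁻¹
            = (k : G) * ((h : G) * ((n : N) : G)) * (h : G)⁻¹ * (k : G)⁻¹ := by group
          _ = (k : G) * (((n : N) : G) * (h : G)) * (h : G)⁻¹ * (k : G)⁻¹ := by rw [hcomm]
          _ = (k : G) * ((n : N) : G) * (k : G)⁻¹ := by group
      rw [h1]
      exact isClassFunction_irr θ n ⟨k, hk⟩
    have h1 : Nat.card {θ : IrrCharacter M // ∀ (g : N) (n : M),
        (θ : M → ℂ) ⟨g * n * g⁻¹, hMn.conj_mem (n : N) n.2 g⟩ = (θ : M → ℂ) n} =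
        Nat.card (IrrCharacter M) :=
      Nat.card_congr (Equiv.subtypeUnivEquiv hall)
    rw [h1]
    apply card_irr_congr
    exact
      { toFun := fun x => ⟨((x : N) : G), by
          have hx : ((x : N) : G) ∈ K := (hMmem x).mp x.2
          refine ⟨hx, ?_⟩
          show ((x : N) : G) ∈ Subgroup.centralizer (H : Set G)
          rw [Subgroup.mem_centralizer_iff]
          intro h hh
          exact (commute_of_mem_normalizer_of_disjoint K H hdisj hx (hN ▸ (x : N).2) hh).symm⟩
        invFun := fun c => ⟨⟨(c : G), by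
          rw [hN]
          have hc : (c : G) ∈ Subgroup.centralizer (H : Set G) := c.2.2
          exact Subgroup.centralizer_le_normalizer _ hc⟩, (hMmem _).mpr c.2.1⟩
        left_inv := fun x => rfl
        right_inv := fun c => rfl
        map_mul' := fun x y => rfl }
  rw [hinvK, hinvM, hlin]

end Main

end Cfsg.Agent.Helper24
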