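import Cfsg.Agent.Helper27.S0745Defs

/-! Board `s0745pieces`, rows FLAGS2 and FLAGS4 (helper24): counting flags. -/

set_option autoImplicit false

namespace Cfsg.Agent.S0745P

open Equiv

variable {α : Type*} [Fintype α] [DecidableEq α]

open Classical in
/-- FLAGS2 -/
theorem card_flags2 (t : ℕ) :
    (Finset.univ.filter fun τ : Finset α × α × α =>
      τ.1.card = t ∧ τ.2.1 ∈ τ.1 ∧ τ.2.2 ∈ τ.1 ∧ τ.2.1 ≠ τ.2.2).card
      = (Fintype.card α).choose t * (t * (t - 1)) := by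
  have key : (Finset.univ.filter fun τ : Finset α × α × α =>
      τ.1.card = t ∧ τ.2.1 ∈ τ.1 ∧ τ.2.2 ∈ τ.1 ∧ τ.2.1 ≠ τ.2.2) =
      ((Finset.powersetCard t (Finset.univ : Finset α)).sigma (fun Γ => Γ.offDiag)).map
        (Equiv.sigmaEquivProd (Finset α) (α × α)).toEmbedding := by
    ext ⟨Γ, a, b⟩
    simp only [Finset.mem_filter, Finset.mem_univ, true_and, Finset.mem_map, Finset.mem_sigma,
      Finset.mem_powersetCard, Finset.subset_univ, Finset.mem_offDiag, Equiv.coe_toEmbedding,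
      Equiv.sigmaEquivProd_apply, Sigma.exists, Prod.mk.injEq, Prod.exists]
    constructor
    · rintro ⟨h1, h2, h3, h4⟩
      exact ⟨Γ, a, b, ⟨h1, h2, h3, h4⟩, rfl, rfl, rfl⟩
    · rintro ⟨Γ', a', b', ⟨h1, h2, h3, h4⟩, rfl, rfl, rfl⟩
      exact ⟨h1, h2, h3, h4⟩
  rw [key, Finset.card_map, Finset.card_sigma]
  have : ∀ Γ ∈ Finset.powersetCard t (Finset.univ : Finset α), Γ.offDiag.card = t * (t - 1) := by
    intro Γ hΓ
    rw [Finset.mem_powersetCard] at hΓ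
    rw [Finset.offDiag_card, hΓ.2, ← Nat.mul_sub_one]
  rw [Finset.sum_congr rfl this, Finset.sum_const, Finset.card_powersetCard, Finset.card_univ,
    smul_eq_mul]

open Classical in
/-- FLAGS4 -/
theorem card_flags4 (t : ℕ) :
    (Finset.univ.filter fun τ : Finset α × α × α × α × α =>
      τ.1.card = t ∧ τ.2.1 ∈ τ.1 ∧ τ.2.2.1 ∈ τ.1 ∧ τ.2.2.2.1 ∈ τ.1 ∧ τ.2.2.2.2 ∈ τ.1 ∧
        τ.2.1 ≠ τ.2.2.1 ∧ τ.2.1 ≠ τ.2.2.2.1 ∧ τ.2.1 ≠ τ.2.2.2.2 ∧ τ.2.2.1 ≠ τ.2.2.2.1 ∧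
        τ.2.2.1 ≠ τ.2.2.2.2 ∧ τ.2.2.2.1 ≠ τ.2.2.2.2).card
      = (Fintype.card α).choose t * (t * (t - 1) * (t - 2) * (t - 3)) := by
  have key : (Finset.univ.filter fun τ : Finset α × α × α × α × α =>
      τ.1.card = t ∧ τ.2.1 ∈ τ.1 ∧ τ.2.2.1 ∈ τ.1 ∧ τ.2.2.2.1 ∈ τ.1 ∧ τ.2.2.2.2 ∈ τ.1 ∧
        τ.2.1 ≠ τ.2.2.1 ∧ τ.2.1 ≠ τ.2.2.2.1 ∧ τ.2.1 ≠ τ.2.2.2.2 ∧ τ.2.2.1 ≠ τ.2.2.2.1 ∧
        τ.2.2.1 ≠ τ.2.2.2.2 ∧ τ.2.2.2.1 ≠ τ.2.2.2.2).card =
      ((Finset.powersetCard t (Finset.univ : Finset α)).sigma (fun Γ =>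
        (Γ.offDiag).sigma (fun p => (Γ \ {p.1, p.2}).offDiag))).card := by
    refine Finset.card_nbij'
      (fun τ => ⟨τ.1, ⟨(τ.2.1, τ.2.2.1), (τ.2.2.2.1, τ.2.2.2.2)⟩⟩)
      (fun σ => (σ.1, σ.2.1.1, σ.2.1.2, σ.2.2.1, σ.2.2.2)) ?_ ?_ ?_ ?_
    · rintro ⟨Γ, a, b, d, e⟩ h
      simp only [Finset.coe_filter, Finset.mem_univ, true_and, Set.mem_ofPred_eq] at h
      obtain ⟨h1, ha, hb, hd, he, hab, had, hae, hbd, hbe, hde⟩ := h
      simp only [Finset.coe_sigma, Set.mem_sigma_iff, Finset.mem_coe, Finset.mem_powersetCard,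
        Finset.subset_univ, true_and, Finset.mem_offDiag, Finset.mem_sdiff, Finset.mem_insert,
        Finset.mem_singleton, not_or]
      exact ⟨h1, ⟨ha, hb, hab⟩, ⟨hd, Ne.symm had, Ne.symm hbd⟩, ⟨he, Ne.symm hae, Ne.symm hbe⟩, hde⟩
    · rintro ⟨Γ, ⟨a, b⟩, ⟨d, e⟩⟩ h
      simp only [Finset.coe_sigma, Set.mem_sigma_iff, Finset.mem_coe, Finset.mem_powersetCard,
        Finset.subset_univ, true_and, Finset.mem_offDiag, Finset.mem_sdiff, Finset.mem_insert,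
        Finset.mem_singleton, not_or] at h
      obtain ⟨h1, ⟨ha, hb, hab⟩, ⟨hd, had, hbd⟩, ⟨he, hae, hbe⟩, hde⟩ := h
      simp only [Finset.coe_filter, Finset.mem_univ, true_and, Set.mem_ofPred_eq]
      exact ⟨h1, ha, hb, hd, he, hab, Ne.symm had, Ne.symm hae, Ne.symm hbd, Ne.symm hbe, hde⟩
    · rintro ⟨Γ, a, b, d, e⟩ _
      rfl
    · rintro ⟨Γ, ⟨a, b⟩, ⟨d, e⟩⟩ _
      rfl
  rw [key, Finset.card_sigma]
  have h1 : ∀ Γ ∈ Finset.powersetCard t (Finset.univ : Finset α),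
      ((Γ.offDiag).sigma (fun p => (Γ \ {p.1, p.2}).offDiag)).card =
        t * (t - 1) * (t - 2) * (t - 3) := by
    intro Γ hΓ
    rw [Finset.mem_powersetCard] at hΓ
    rw [Finset.card_sigma]
    have h2 : ∀ p ∈ Γ.offDiag, ((Γ \ {p.1, p.2}).offDiag).card = (t - 2) * (t - 3) := by
      rintro ⟨a, b⟩ hp
      rw [Finset.mem_offDiag] at hp
      obtain ⟨ha, hb, hab⟩ := hp
      have hsub : ({a, b} : Finset α) ⊆ Γ := by
        intro x hx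
        rw [Finset.mem_insert, Finset.mem_singleton] at hx
        rcases hx with rfl | rfl
        · exact ha
        · exact hb
      have hc : (Γ \ {a, b}).card = t - 2 := by
        rw [Finset.card_sdiff_of_subset hsub, hΓ.2, Finset.card_pair hab]
      rw [Finset.offDiag_card, hc, ← Nat.mul_sub_one]
      have : t - 2 - 1 = t - 3 := by omega
      rw [this]
    rw [Finset.sum_congr rfl h2, Finset.sum_const, Finset.offDiag_card, hΓ.2, smul_eq_mul]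
    rw [← Nat.mul_sub_one]
    ring
  rw [Finset.sum_congr rfl h1, Finset.sum_const, Finset.card_powersetCard, Finset.card_univ,
    smul_eq_mul]

end Cfsg.Agent.S0745P
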