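import Cfsg.Agent.Helper27.S0745Defs

/-! Board `s0745pieces`, rows PUREA and PUREB (helper24): counting the flags of an involution. -/

set_option autoImplicit false

namespace Cfsg.Agent.S0745P

open Equiv

variable {α : Type*} [Fintype α] [DecidableEq α]

set_option linter.unusedSectionVars false

theorem PUREA_aux_invol {u : Perm α} (hu : u ^ 2 = 1) (a : α) : u (u a) = a := by
  have := congrArg (fun f : Perm α => f a) hu
  simpa [pow_two] using this

theorem PUREA_aux_card_supp (u : Perm α) :
    (Finset.univ.filter fun a : α => u a ≠ a).card = Fintype.card α - nfix u := by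
  have := Finset.card_filter_add_card_filter_not (s := (Finset.univ : Finset α)) (fun a : α => u a = a)
  rw [Finset.card_univ] at this
  have e : (Finset.univ.filter fun a : α => u a ≠ a) = (Finset.univ.filter fun a : α => ¬ u a = a) := rfl
  rw [e]
  unfold nfix
  omega

open Classical in
/-- PUREA -/
theorem pure_countA (u : Perm α) (hu : u ^ 2 = 1) (t : ℕ) (ht : 2 ≤ t) :
    (Finset.univ.filter fun τ : Finset α × α × α =>
      τ.1.card = t ∧ τ.2.1 ∈ τ.1 ∧ τ.2.2 ∈ τ.1 ∧ τ.2.1 ≠ τ.2.2 ∧ u τ.2.1 = τ.2.2 ∧
        ∀ x ∈ τ.1, x ≠ τ.2.1 → x ≠ τ.2.2 → u x = x).card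
      = (Fintype.card α - nfix u) * (nfix u).choose (t - 2) := by
  have huu := PUREA_aux_invol hu
  have key : (Finset.univ.filter fun τ : Finset α × α × α =>
      τ.1.card = t ∧ τ.2.1 ∈ τ.1 ∧ τ.2.2 ∈ τ.1 ∧ τ.2.1 ≠ τ.2.2 ∧ u τ.2.1 = τ.2.2 ∧
        ∀ x ∈ τ.1, x ≠ τ.2.1 → x ≠ τ.2.2 → u x = x).card =
      ((Finset.univ.filter fun a : α => u a ≠ a) ×ˢ
        Finset.powersetCard (t - 2) (Finset.univ.filter fun x : α => u x = x)).card := by
    refine Finset.card_nbij'
      (fun τ => (τ.2.1, τ.1 \ {τ.2.1, τ.2.2}))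
      (fun σ => (insert σ.1 (insert (u σ.1) σ.2), σ.1, u σ.1)) ?_ ?_ ?_ ?_
    · rintro ⟨Γ, a, b⟩ h
      simp only [Finset.coe_filter, Finset.mem_univ, true_and, Set.mem_ofPred_eq] at h
      obtain ⟨h1, ha, hb, hab, hub, hfix⟩ := h
      simp only [Finset.coe_product, Set.mem_prod, Finset.mem_coe, Finset.mem_filter, Finset.mem_univ,
        true_and, Finset.mem_powersetCard]
      refine ⟨by rw [hub]; exact Ne.symm hab, ?_, ?_⟩
      · intro x hx
        rw [Finset.mem_sdiff, Finset.mem_insert, Finset.mem_singleton, not_or] at hx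
        rw [Finset.mem_filter]
        exact ⟨Finset.mem_univ _, hfix x hx.1 hx.2.1 hx.2.2⟩
      · have hsub : ({a, b} : Finset α) ⊆ Γ := by
          intro x hx
          rw [Finset.mem_insert, Finset.mem_singleton] at hx
          rcases hx with rfl | rfl
          · exact ha
          · exact hb
        rw [Finset.card_sdiff_of_subset hsub, h1, Finset.card_pair hab]
    · rintro ⟨a, S⟩ h
      simp only [Finset.coe_product, Set.mem_prod, Finset.mem_coe, Finset.mem_filter, Finset.mem_univ,
        true_and, Finset.mem_powersetCard] at h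
      obtain ⟨ha, hS, hcard⟩ := h
      have haS : a ∉ S := by
        intro h
        have := hS h
        rw [Finset.mem_filter] at this
        exact ha this.2
      have huaS : u a ∉ S := by
        intro h
        have := hS h
        rw [Finset.mem_filter, huu] at this
        exact ha this.2.symm
      rw [Finset.mem_coe, Finset.mem_filter]
      refine ⟨Finset.mem_univ _, ?_, ?_, ?_, ?_, rfl, ?_⟩
      · show (insert a (insert (u a) S)).card = t
        rw [Finset.card_insert_of_notMem, Finset.card_insert_of_notMem huaS, hcard]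
        · omega
        · rw [Finset.mem_insert, not_or]
          exact ⟨Ne.symm ha, haS⟩
      · exact Finset.mem_insert_self _ _
      · exact Finset.mem_insert_of_mem (Finset.mem_insert_self _ _)
      · exact Ne.symm ha
      · intro x hx hxa hxu
        rw [Finset.mem_insert, Finset.mem_insert] at hx
        rcases hx with rfl | rfl | hx
        · exact absurd rfl hxa
        · exact absurd rfl hxu
        · have := hS hx
          rw [Finset.mem_filter] at this
          exact this.2
    · rintro ⟨Γ, a, b⟩ h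
      simp only [Finset.coe_filter, Finset.mem_univ, true_and, Set.mem_ofPred_eq] at h
      obtain ⟨h1, ha, hb, hab, hub, hfix⟩ := h
      refine Prod.ext ?_ (Prod.ext rfl hub)
      show insert a (insert (u a) (Γ \ {a, b})) = Γ
      rw [hub]
      ext x
      simp only [Finset.mem_insert, Finset.mem_sdiff, Finset.mem_singleton, not_or]
      constructor
      · rintro (rfl | rfl | h)
        · exact ha
        · exact hb
        · exact h.1
      · intro hx
        by_cases hxa : x = a
        · exact Or.inl hxa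
        · by_cases hxb : x = b
          · exact Or.inr (Or.inl hxb)
          · exact Or.inr (Or.inr ⟨hx, hxa, hxb⟩)
    · rintro ⟨a, S⟩ h
      simp only [Finset.coe_product, Set.mem_prod, Finset.mem_coe, Finset.mem_filter, Finset.mem_univ,
        true_and, Finset.mem_powersetCard] at h
      obtain ⟨ha, hS, hcard⟩ := h
      have haS : a ∉ S := by
        intro h
        have := hS h
        rw [Finset.mem_filter] at this
        exact ha this.2
      have huaS : u a ∉ S := by
        intro h
        have := hS h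
        rw [Finset.mem_filter, huu] at this
        exact ha this.2.symm
      refine Prod.ext rfl ?_
      show insert a (insert (u a) S) \ {a, u a} = S
      ext x
      simp only [Finset.mem_insert, Finset.mem_sdiff, Finset.mem_singleton, not_or]
      constructor
      · rintro ⟨(rfl | rfl | h), h2, h3⟩
        · exact absurd rfl h2
        · exact absurd rfl h3
        · exact h
      · intro hx
        refine ⟨Or.inr (Or.inr hx), ?_, ?_⟩
        · rintro rfl; exact haS hx
        · rintro rfl; exact huaS hx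
  rw [key, Finset.card_product, Finset.card_powersetCard, PUREA_aux_card_supp]
  rfl

open Classical in
/-- PUREB -/
theorem pure_countB (u : Perm α) (hu : u ^ 2 = 1) (t : ℕ) (ht : 4 ≤ t) :
    (Finset.univ.filter fun τ : Finset α × α × α × α × α =>
      τ.1.card = t ∧ τ.2.1 ∈ τ.1 ∧ τ.2.2.1 ∈ τ.1 ∧ τ.2.2.2.1 ∈ τ.1 ∧ τ.2.2.2.2 ∈ τ.1 ∧
        τ.2.1 ≠ τ.2.2.1 ∧ τ.2.1 ≠ τ.2.2.2.1 ∧ τ.2.1 ≠ τ.2.2.2.2 ∧ τ.2.2.1 ≠ τ.2.2.2.1 ∧
        τ.2.2.1 ≠ τ.2.2.2.2 ∧ τ.2.2.2.1 ≠ τ.2.2.2.2 ∧
        u τ.2.1 = τ.2.2.1 ∧ u τ.2.2.2.1 = τ.2.2.2.2 ∧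
        ∀ x ∈ τ.1, x ≠ τ.2.1 → x ≠ τ.2.2.1 → x ≠ τ.2.2.2.1 → x ≠ τ.2.2.2.2 → u x = x).card
      = (Fintype.card α - nfix u) * (Fintype.card α - nfix u - 2) * (nfix u).choose (t - 4) := by
  have huu := PUREA_aux_invol hu
  set supp : Finset α := Finset.univ.filter fun a : α => u a ≠ a with hsupp
  set Fix : Finset α := Finset.univ.filter fun x : α => u x = x with hFix
  have msupp : ∀ a, a ∈ supp ↔ u a ≠ a := fun a => by rw [hsupp, Finset.mem_filter]; simp
  have mFix : ∀ a, a ∈ Fix ↔ u a = a := fun a => by rw [hFix, Finset.mem_filter]; simp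
  have key : (Finset.univ.filter fun τ : Finset α × α × α × α × α =>
      τ.1.card = t ∧ τ.2.1 ∈ τ.1 ∧ τ.2.2.1 ∈ τ.1 ∧ τ.2.2.2.1 ∈ τ.1 ∧ τ.2.2.2.2 ∈ τ.1 ∧
        τ.2.1 ≠ τ.2.2.1 ∧ τ.2.1 ≠ τ.2.2.2.1 ∧ τ.2.1 ≠ τ.2.2.2.2 ∧ τ.2.2.1 ≠ τ.2.2.2.1 ∧
        τ.2.2.1 ≠ τ.2.2.2.2 ∧ τ.2.2.2.1 ≠ τ.2.2.2.2 ∧
        u τ.2.1 = τ.2.2.1 ∧ u τ.2.2.2.1 = τ.2.2.2.2 ∧
        ∀ x ∈ τ.1, x ≠ τ.2.1 → x ≠ τ.2.2.1 → x ≠ τ.2.2.2.1 → x ≠ τ.2.2.2.2 → u x = x).card =
      ((supp.sigma fun a => (supp.erase a).erase (u a)) ×ˢ Finset.powersetCard (t - 4) Fix).card := by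
    refine Finset.card_nbij'
      (fun τ => (⟨τ.2.1, τ.2.2.2.1⟩, τ.1 \ {τ.2.1, τ.2.2.1, τ.2.2.2.1, τ.2.2.2.2}))
      (fun σ => (insert σ.1.1 (insert (u σ.1.1) (insert σ.1.2 (insert (u σ.1.2) σ.2))),
        σ.1.1, u σ.1.1, σ.1.2, u σ.1.2)) ?_ ?_ ?_ ?_
    · rintro ⟨Γ, a, b, d, e⟩ h
      rw [Finset.mem_coe, Finset.mem_filter] at h
      obtain ⟨-, h1, ha, hb, hd, he, hab, had, hae, hbd, hbe, hde, hub, hue, hfix⟩ := h
      rw [Finset.mem_coe, Finset.mem_product, Finset.mem_sigma, Finset.mem_erase, Finset.mem_erase,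
        Finset.mem_powersetCard, msupp, msupp]
      refine ⟨⟨?_, ?_, ?_, ?_⟩, ?_, ?_⟩
      · show u a ≠ a
        rw [hub]; exact Ne.symm hab
      · show d ≠ u a
        rw [hub]; exact Ne.symm hbd
      · exact Ne.symm had
      · show u d ≠ d
        rw [hue]; exact Ne.symm hde
      · intro x hx
        rw [Finset.mem_sdiff, Finset.mem_insert, Finset.mem_insert, Finset.mem_insert,
          Finset.mem_singleton, not_or, not_or, not_or] at hx
        rw [mFix]
        exact hfix x hx.1 hx.2.1 hx.2.2.1 hx.2.2.2.1 hx.2.2.2.2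
      · have hsub : ({a, b, d, e} : Finset α) ⊆ Γ := by
          intro x hx
          rw [Finset.mem_insert, Finset.mem_insert, Finset.mem_insert, Finset.mem_singleton] at hx
          rcases hx with rfl | rfl | rfl | rfl
          · exact ha
          · exact hb
          · exact hd
          · exact he
        have h4 : ({a, b, d, e} : Finset α).card = 4 := by
          rw [Finset.card_insert_of_notMem, Finset.card_insert_of_notMem, Finset.card_pair hde]
          · rw [Finset.mem_insert, Finset.mem_singleton, not_or]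
            exact ⟨hbd, hbe⟩
          · rw [Finset.mem_insert, Finset.mem_insert, Finset.mem_singleton, not_or, not_or]
            exact ⟨hab, had, hae⟩
        show (Γ \ {a, b, d, e}).card = t - 4
        rw [Finset.card_sdiff_of_subset hsub, h1, h4]
    · rintro ⟨⟨a, d⟩, S⟩ h
      rw [Finset.mem_coe, Finset.mem_product, Finset.mem_sigma, Finset.mem_erase, Finset.mem_erase,
        Finset.mem_powersetCard, msupp, msupp] at h
      obtain ⟨⟨ha, hdua, hda, hd⟩, hS, hcard⟩ := h
      change u a ≠ a at ha
      change d ≠ u a at hdua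
      change d ≠ a at hda
      change u d ≠ d at hd
      change S ⊆ Fix at hS
      change S.card = t - 4 at hcard
      have hnS : ∀ y, u y ≠ y → y ∉ S := fun y hy h => hy ((mFix y).1 (hS h))
      have huad : u a ≠ u d := fun h => hda (u.injective h).symm
      have haud : a ≠ u d := fun h => hdua (by rw [h, huu])
      have huua : u (u a) ≠ u a := by rw [huu]; exact Ne.symm ha
      have huud : u (u d) ≠ u d := by rw [huu]; exact Ne.symm hd
      rw [Finset.mem_coe, Finset.mem_filter]
      refine ⟨Finset.mem_univ _, ?_, ?_, ?_, ?_, ?_, Ne.symm ha, Ne.symm hda, haud, Ne.symm hdua, huad,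
        Ne.symm hd, rfl, rfl, ?_⟩
      · show (insert a (insert (u a) (insert d (insert (u d) S)))).card = t
        rw [Finset.card_insert_of_notMem, Finset.card_insert_of_notMem, Finset.card_insert_of_notMem,
          Finset.card_insert_of_notMem (hnS _ huud), hcard]
        · omega
        · rw [Finset.mem_insert, not_or]
          exact ⟨Ne.symm hd, hnS _ hd⟩
        · rw [Finset.mem_insert, Finset.mem_insert, not_or, not_or]
          exact ⟨Ne.symm hdua, huad, hnS _ huua⟩
        · rw [Finset.mem_insert, Finset.mem_insert, Finset.mem_insert, not_or, not_or, not_or]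
          exact ⟨Ne.symm ha, Ne.symm hda, haud, hnS _ ha⟩
      · exact Finset.mem_insert_self _ _
      · exact Finset.mem_insert_of_mem (Finset.mem_insert_self _ _)
      · exact Finset.mem_insert_of_mem (Finset.mem_insert_of_mem (Finset.mem_insert_self _ _))
      · exact Finset.mem_insert_of_mem (Finset.mem_insert_of_mem
          (Finset.mem_insert_of_mem (Finset.mem_insert_self _ _)))
      · intro x hx h1 h2 h3 h4
        rw [Finset.mem_insert, Finset.mem_insert, Finset.mem_insert, Finset.mem_insert] at hx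
        rcases hx with rfl | rfl | rfl | rfl | hx
        · exact absurd rfl h1
        · exact absurd rfl h2
        · exact absurd rfl h3
        · exact absurd rfl h4
        · exact (mFix x).1 (hS hx)
    · rintro ⟨Γ, a, b, d, e⟩ h
      rw [Finset.mem_coe, Finset.mem_filter] at h
      obtain ⟨-, h1, ha, hb, hd, he, hab, had, hae, hbd, hbe, hde, hub, hue, hfix⟩ := h
      change u a = b at hub
      change u d = e at hue
      refine Prod.ext ?_ (Prod.ext rfl (Prod.ext hub (Prod.ext rfl hue)))
      show insert a (insert (u a) (insert d (insert (u d) (Γ \ {a, b, d, e})))) = Γ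
      rw [hub, hue]
      ext x
      simp only [Finset.mem_insert, Finset.mem_sdiff, Finset.mem_singleton, not_or]
      constructor
      · rintro (rfl | rfl | rfl | rfl | h)
        · exact ha
        · exact hb
        · exact hd
        · exact he
        · exact h.1
      · intro hx
        by_cases hxa : x = a
        · exact Or.inl hxa
        by_cases hxb : x = b
        · exact Or.inr (Or.inl hxb)
        by_cases hxd : x = d
        · exact Or.inr (Or.inr (Or.inl hxd))
        by_cases hxe : x = e
        · exact Or.inr (Or.inr (Or.inr (Or.inl hxe)))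
        exact Or.inr (Or.inr (Or.inr (Or.inr ⟨hx, hxa, hxb, hxd, hxe⟩)))
    · rintro ⟨⟨a, d⟩, S⟩ h
      rw [Finset.mem_coe, Finset.mem_product, Finset.mem_sigma, Finset.mem_erase, Finset.mem_erase,
        Finset.mem_powersetCard, msupp, msupp] at h
      obtain ⟨⟨ha, hdua, hda, hd⟩, hS, hcard⟩ := h
      change u a ≠ a at ha
      change u d ≠ d at hd
      change S ⊆ Fix at hS
      have hnS : ∀ y, u y ≠ y → y ∉ S := fun y hy h => hy ((mFix y).1 (hS h))
      have huua : u (u a) ≠ u a := by rw [huu]; exact Ne.symm ha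
      have huud : u (u d) ≠ u d := by rw [huu]; exact Ne.symm hd
      refine Prod.ext rfl ?_
      show insert a (insert (u a) (insert d (insert (u d) S))) \ {a, u a, d, u d} = S
      ext x
      simp only [Finset.mem_insert, Finset.mem_sdiff, Finset.mem_singleton, not_or]
      constructor
      · rintro ⟨(rfl | rfl | rfl | rfl | h), h1, h2, h3, h4⟩
        · exact absurd rfl h1
        · exact absurd rfl h2
        · exact absurd rfl h3
        · exact absurd rfl h4
        · exact h
      · intro hx
        refine ⟨Or.inr (Or.inr (Or.inr (Or.inr hx))), ?_, ?_, ?_, ?_⟩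
        · rintro rfl; exact hnS _ ha hx
        · rintro rfl; exact hnS _ huua hx
        · rintro rfl; exact hnS _ hd hx
        · rintro rfl; exact hnS _ huud hx
  rw [key, Finset.card_product, Finset.card_powersetCard, Finset.card_sigma]
  have hm : supp.card = Fintype.card α - nfix u := PUREA_aux_card_supp u
  have h2 : ∀ a ∈ supp, ((supp.erase a).erase (u a)).card = Fintype.card α - nfix u - 2 := by
    intro a ha
    have ha' := (msupp a).1 ha
    have hua : u a ∈ supp.erase a := by
      rw [Finset.mem_erase, msupp, huu]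
      exact ⟨ha', Ne.symm ha'⟩
    rw [Finset.card_erase_of_mem hua, Finset.card_erase_of_mem ha, hm]
    omega
  rw [Finset.sum_congr rfl h2, Finset.sum_const, hm, smul_eq_mul]
  rfl

end Cfsg.Agent.S0745P
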