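import Mathlib
import Cfsg.Prelude.Def_Characters
import Cfsg.Agent.Helper24.Regular
import Cfsg.Agent.Helper24.Linear
import Cfsg.Agent.Helper23.Schur
import Cfsg.Agent.Helper10.PGroupBasic

/-!
A finite `p`-group has a faithful irreducible complex representation iff its centre is cyclic.
-/

namespace Cfsg.Agent.Helper24

open Representation Module

universe u v

section FaithfulPGroup

/-- In a finite cyclic group, any element killed by `p` lies in the subgroup generated by an
element of order `p`. -/
theorem mem_zpowers_of_orderOf_eq {Z : Type*} [Group Z] [Finite Z] [IsCyclic Z] {p : ℕ}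
    (hp : 0 < p) (a b : Z) (ha : orderOf a = p) (hb : b ^ p = 1) : b ∈ Subgroup.zpowers a := by
  classical
  haveI := Fintype.ofFinite Z
  have h1 := IsCyclic.card_pow_eq_one_le (α := Z) hp
  have h2 : (Finset.univ.filter (fun x : Z => x ∈ Subgroup.zpowers a)) ⊆
      Finset.univ.filter (fun x : Z => x ^ p = 1) := by
    intro x hx
    simp only [Finset.mem_filter, Finset.mem_univ, true_and] at hx ⊢
    obtain ⟨k, rfl⟩ := hx
    rw [← zpow_natCast, ← zpow_mul, mul_comm, zpow_mul, zpow_natCast, ← ha, pow_orderOf_eq_one,
      one_zpow]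
  have h3 : (Finset.univ.filter (fun x : Z => x ∈ Subgroup.zpowers a)).card = p := by
    rw [← ha, ← Nat.card_zpowers, Nat.card_eq_fintype_card, Fintype.card_subtype]
  have h4 := Finset.eq_of_subset_of_card_le h2 (by rw [h3]; exact h1)
  have : b ∈ Finset.univ.filter (fun x : Z => x ^ p = 1) := by simp [hb]
  rw [← h4] at this
  simpa using this

/-- The centre of a finite group with a faithful irreducible complex representation is cyclic. -/
theorem isCyclic_center_of_faithful_irr {G : Type u} [Group G] [Finite G] {V : Type v}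
    [AddCommGroup V] [Module ℂ V] [FiniteDimensional ℂ V] (ρ : Representation ℂ G V)
    [ρ.IsIrreducible] (hinj : Function.Injective ρ) : IsCyclic (Subgroup.center G) := by
  haveI : Nontrivial V := Module.finrank_pos_iff.mp (finrank_pos_of_isIrreducible ρ)
  choose c hc using fun z : Subgroup.center G => Helper23.exists_scalar_of_mem_center ρ z z.2
  have hid : (LinearMap.id : V →ₗ[ℂ] V) ≠ 0 := by
    obtain ⟨v, hv⟩ := exists_ne (0 : V)
    intro h
    apply hv
    have := LinearMap.congr_fun h v
    simpa using this
  have hmul : ∀ a b, c (a * b) = c a * c b := by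
    intro a b
    have h := hc (a * b)
    rw [Subgroup.coe_mul, map_mul, hc a, hc b] at h
    have : (c a * c b) • (LinearMap.id : V →ₗ[ℂ] V) = c (a * b) • LinearMap.id := by
      rw [← h]
      ext v
      simp only [mul_smul, Module.End.mul_apply, LinearMap.smul_apply, LinearMap.id_coe, id_eq,
        map_smul]
      exact smul_comm _ _ _
    exact (smul_left_injective ℂ hid this).symm
  have hone : c 1 = 1 := by
    have h := hc 1
    rw [Subgroup.coe_one, map_one] at h
    have : (c 1) • (LinearMap.id : V →ₗ[ℂ] V) = (1 : ℂ) • LinearMap.id := by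
      rw [← h, one_smul]
      rfl
    exact smul_left_injective ℂ hid this
  let f : Subgroup.center G →* ℂ := ⟨⟨c, hone⟩, hmul⟩
  have hf : Function.Injective f := by
    intro a b hab
    have hab' : c a = c b := hab
    have : ρ a = ρ b := by rw [hc a, hc b, hab']
    exact Subtype.ext (hinj this)
  exact isCyclic_of_injective_ringHom f hf

/-- A finite `p`-group with cyclic centre has a faithful irreducible complex representation. -/
theorem exists_faithful_irr_of_isCyclic_center {G : Type u} [Group G] [Finite G] (p : ℕ)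
    [Fact p.Prime] (hG : IsPGroup p G) (hZ : IsCyclic (Subgroup.center G)) :
    ∃ (n : ℕ) (ρ : Representation ℂ G (Fin n → ℂ)), ρ.IsIrreducible ∧ Function.Injective ρ := by
  classical
  haveI := Fintype.ofFinite G
  haveI : Fintype (IrrCharacter G) := Fintype.ofFinite _
  by_contra hcon
  push Not at hcon
  rcases subsingleton_or_nontrivial G with hs | hnt
  · obtain ⟨n, ρ, hρ, _⟩ := (trivIrr G).2
    exact hcon n ρ hρ (fun a b _ => Subsingleton.elim a b)
  · haveI := IsPGroup.center_nontrivial hG
    have hZp : IsPGroup p (Subgroup.center G) := hG.to_subgroup _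
    obtain ⟨k, hk0, hk⟩ := (IsPGroup.nontrivial_iff_card hZp).mp inferInstance
    have hdvd : p ∣ Nat.card (Subgroup.center G) := by
      rw [hk]; exact dvd_pow_self p hk0.ne'
    obtain ⟨z₀, hz₀⟩ := exists_prime_orderOf_dvd_card' p hdvd
    have hp : p.Prime := Fact.out
    have hz₀1 : (z₀ : G) ≠ 1 := by
      intro h
      have : z₀ = 1 := Subtype.ext h
      rw [this, orderOf_one] at hz₀
      exact hp.one_lt.ne hz₀
    have key : ∀ χ : IrrCharacter G, (χ : G → ℂ) z₀ = (χ : G → ℂ) 1 := by
      intro χ
      obtain ⟨n, ρ, hρ, hχ⟩ := χ.2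
      have hni := hcon n ρ hρ
      have hker : (ρ : G →* _).ker ≠ ⊥ := fun h => hni ((MonoidHom.ker_eq_bot_iff _).mp h)
      obtain ⟨w, hwK, hw1, hwZ⟩ := Helper10.exists_ne_one_mem_inf_center hG _ hker
      obtain ⟨j, hj⟩ := (IsPGroup.iff_orderOf.mp hG) w
      have hj0 : j ≠ 0 := by
        rintro rfl
        rw [pow_zero, orderOf_eq_one_iff] at hj
        exact hw1 hj
      have hw'ord : orderOf ((⟨w, hwZ⟩ : Subgroup.center G) ^ (p ^ (j - 1))) = p := by
        rw [orderOf_pow_of_dvd (pow_ne_zero _ hp.ne_zero), Subgroup.orderOf_mk, hj]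
        · rw [Nat.pow_div (by omega) hp.pos]
          have : j - (j - 1) = 1 := by omega
          rw [this, pow_one]
        · rw [Subgroup.orderOf_mk, hj]
          exact pow_dvd_pow p (by omega)
      have hmem := mem_zpowers_of_orderOf_eq hp.pos _ z₀ hw'ord
        (by rw [← hz₀, pow_orderOf_eq_one])
      obtain ⟨m, hm⟩ := hmem
      have hz₀K : (z₀ : G) ∈ (ρ : G →* _).ker := by
        have h1 : (z₀ : G) = (w ^ (p ^ (j - 1))) ^ m := by
          rw [← hm]
          simp
        rw [h1]
        exact Subgroup.zpow_mem _ (Subgroup.pow_mem _ hwK _) _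
      rw [← hχ]
      unfold character
      rw [MonoidHom.mem_ker.mp hz₀K, map_one ρ]
    have h1 := sum_irr_one_mul_eq_zero hz₀1
    simp_rw [key] at h1
    have h2 : ∀ χ : IrrCharacter G, (χ : G → ℂ) 1 * (χ : G → ℂ) 1 = (χ : G → ℂ) 1 ^ 2 := by
      intro χ; ring
    simp_rw [h2] at h1
    rw [sum_sq_irr_one] at h1
    have : (Nat.card G : ℂ) ≠ 0 := by
      have := Nat.card_pos (α := G)
      exact_mod_cast this.ne'
    exact this h1

end FaithfulPGroup

end Cfsg.Agent.Helper24
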