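import Mathlib
import Cfsg.Agent.Helper5.ABDefs
import Cfsg.Agent.Helper29.CdpD
import Cfsg.Agent.Lead.TDNFA

set_option autoImplicit false

/-! S4463 piece A1: the structure of a minimal nonabelian quotient with nontrivial centre. -/

namespace Cfsg.Agent.Helper24.AB

open Cfsg Cfsg.Agent.Helper24 Cfsg.Agent.Helper29.TwoDeg Cfsg.Agent.Helper5.AB
open scoped ComplexConjugate commutatorElement

universe u

variable {G : Type u} [Group G] [Finite G]

theorem caseA_struct {X : Type u} [Group X] [Finite X]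
    (hmin : ∀ L : Subgroup X, L.Normal → L ≠ ⊥ → commutator X ≤ L)
    (hZ : Subgroup.center X ≠ ⊥) (β : IrrCharacter X) (hβ : irrDeg β ≠ 1) :
    (∀ x : X, x ∉ Subgroup.center X → (β : X → ℂ) x = 0) ∧
    (∀ z ∈ Subgroup.center X, ‖(β : X → ℂ) z‖ = (irrDeg β : ℝ)) ∧
    (Subgroup.center X).index = irrDeg β ^ 2 := by
  have hcZ : commutator X ≤ Subgroup.center X := hmin _ inferInstance hZ
  have hfaith := Cfsg.Agent.Lead.TD.faithful_of_min hmin β hβ
  have hvan : ∀ x : X, x ∉ Subgroup.center X → (β : X → ℂ) x = 0 := by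
    intro x hx
    rw [Subgroup.mem_center_iff] at hx
    push Not at hx
    obtain ⟨y, hy⟩ := hx
    have hne : ⁅y, x⁆ ≠ 1 := by
      intro h1
      exact hy (commutatorElement_eq_one_iff_commute.mp h1)
    have hmem : ⁅y, x⁆ ∈ commutator X := by
      rw [commutator_def]
      exact Subgroup.commutator_mem_commutator (Subgroup.mem_top y) (Subgroup.mem_top x)
    exact Cfsg.Agent.Helper29.GalConj.irr_eq_zero_of_comm β y x (hcZ hmem)
      (fun hk => hne (hfaith _ hk))
  refine ⟨hvan, ?_, ?_⟩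
  · intro z hz
    have h1 := Cfsg.Agent.Helper29.Cdp.irr_mul_conj_central β z hz
    rw [Complex.mul_conj, Complex.normSq_eq_norm_sq] at h1
    have h2 : ‖(β : X → ℂ) z‖ ^ 2 = (irrDeg β : ℝ) ^ 2 := by exact_mod_cast h1
    exact (sq_eq_sq₀ (norm_nonneg _) (Nat.cast_nonneg _)).mp h2
  · have h1 := Cfsg.Agent.Helper29.GalConj.irrDeg_sq_mul_card_center_eq β hvan
    have h2 := Subgroup.card_mul_index (Subgroup.center X)
    rw [← h1, mul_comm] at h2
    exact Nat.eq_of_mul_eq_mul_right Nat.card_pos h2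

end Cfsg.Agent.Helper24.AB
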