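import Mathlib
import Cfsg.Agent.Helper5.ABDefs
import Cfsg.Agent.Helper29.CdpD

set_option autoImplicit false

/-! S4463 piece A2: case A of the step (the preimage of the centre of `G/K`). -/

namespace Cfsg.Agent.Helper24.AB

open Cfsg Cfsg.Agent.Helper24 Cfsg.Agent.Helper29.TwoDeg Cfsg.Agent.Helper5.AB
open scoped ComplexConjugate commutatorElement

universe u

variable {G : Type u} [Group G] [Finite G]

theorem caseA {b : ℕ} (hb : DegLe G b) (K : Subgroup G) [K.Normal]
    (β : IrrCharacter (G ⧸ K)) (hβ1 : irrDeg β ≠ 1)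
    (hvan : ∀ x : G ⧸ K, x ∉ Subgroup.center (G ⧸ K) → (β : G ⧸ K → ℂ) x = 0)
    (hnorm : ∀ z ∈ Subgroup.center (G ⧸ K), ‖(β : G ⧸ K → ℂ) z‖ = (irrDeg β : ℝ))
    (hidx : (Subgroup.center (G ⧸ K)).index = irrDeg β ^ 2)
    (hext : ∀ (H : Subgroup G) (θ : IrrCharacter H), irrDeg θ = b →
      ∃ χ : IrrCharacter G, ∀ x : H, (χ : G → ℂ) x = (θ : H → ℂ) x) :
    ∃ H : Subgroup G, H.index ≤ b ^ 2 ∧ DegLe H (b - 1) := by
  classical
  haveI : Fintype G := Fintype.ofFinite G
  set H : Subgroup G := (Subgroup.center (G ⧸ K)).comap (QuotientGroup.mk' K) with hH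
  haveI : Fintype H := Fintype.ofFinite _
  haveI : Fintype (IrrCharacter G) := Fintype.ofFinite _
  have hβb : irrDeg β ≤ b := (DegLe.quot hb K) β
  have hb1 : 1 ≤ b := DegLe.one_le hb
  have hβpos : 0 < irrDeg β := irrDeg_pos β
  have hidxH : H.index = irrDeg β ^ 2 := by
    rw [hH, Subgroup.index_comap_of_surjective _ (QuotientGroup.mk'_surjective K), hidx]
  refine ⟨H, ?_, ?_⟩
  · rw [hidxH]
    exact Nat.pow_le_pow_left hβb 2
  · intro θ
    have h1 : irrDeg θ ≤ b := (DegLe.subgroup hb H) θ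
    by_contra hcon
    have hθb : irrDeg θ = b := by omega
    obtain ⟨χ, hχ⟩ := hext H θ hθb
    set βt : IrrCharacter G := irrInflate K β with hβt
    have hβt_apply : ∀ g : G, (βt : G → ℂ) g = (β : G ⧸ K → ℂ) (QuotientGroup.mk g) := fun g => rfl
    have hprod : IsCharacter G ((χ : G → ℂ) * (βt : G → ℂ)) :=
      IsCharacter.mul (IsIrrCharacter.isCharacter χ.2) (IsIrrCharacter.isCharacter βt.2)
    have hcardG : (Nat.card G : ℂ) = (Nat.card H : ℂ) * ((irrDeg β : ℂ) ^ 2) := by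
      rw [← Subgroup.card_mul_index H, hidxH]
      push_cast
      ring
    have hβH : ∀ g : G, g ∈ H →
        (βt : G → ℂ) g * conj ((βt : G → ℂ) g) = (irrDeg β : ℂ) ^ 2 := by
      intro g hg
      have hz : (QuotientGroup.mk g : G ⧸ K) ∈ Subgroup.center (G ⧸ K) := hg
      rw [hβt_apply, Complex.mul_conj, Complex.normSq_eq_norm_sq, hnorm _ hz]
      push_cast
      rfl
    have hβnH : ∀ g : G, g ∉ H → (βt : G → ℂ) g = 0 := by
      intro g hg
      rw [hβt_apply]
      exact hvan _ hg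
    have hinner : classInner ((χ : G → ℂ) * (βt : G → ℂ)) ((χ : G → ℂ) * (βt : G → ℂ)) = 1 := by
      unfold classInner
      have e1 : ∑ g : G, ((χ : G → ℂ) * (βt : G → ℂ)) g * conj (((χ : G → ℂ) * (βt : G → ℂ)) g) =
          ∑ g ∈ Finset.univ.filter (fun g : G => g ∈ H),
            ((χ : G → ℂ) g * conj ((χ : G → ℂ) g)) * (irrDeg β : ℂ) ^ 2 := by
        rw [Finset.sum_filter]
        refine Finset.sum_congr rfl fun g _ => ?_
        by_cases hg : g ∈ H
        · rw [if_pos hg, Pi.mul_apply, map_mul, ← hβH g hg]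
          ring
        · rw [if_neg hg, Pi.mul_apply, hβnH g hg, mul_zero, zero_mul]
      have e2 : ∑ g ∈ Finset.univ.filter (fun g : G => g ∈ H),
            ((χ : G → ℂ) g * conj ((χ : G → ℂ) g)) * (irrDeg β : ℂ) ^ 2 =
          ∑ z : H, ((χ : G → ℂ) z * conj ((χ : G → ℂ) z)) * (irrDeg β : ℂ) ^ 2 := by
        apply Finset.sum_subtype
        intro x
        simp
      have e3 : ∑ z : H, (χ : G → ℂ) z * conj ((χ : G → ℂ) z) = (Nat.card H : ℂ) := by
        have h4 := classInner_irr_self θ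
        unfold classInner at h4
        have hZ0 : (Nat.card H : ℂ) ≠ 0 := Nat.cast_ne_zero.mpr Nat.card_pos.ne'
        have h5 : ∑ z : H, (χ : G → ℂ) z * conj ((χ : G → ℂ) z) =
            ∑ z : H, (θ : H → ℂ) z * conj ((θ : H → ℂ) z) :=
          Finset.sum_congr rfl (fun z _ => by rw [hχ z])
        rw [h5]
        field_simp at h4
        exact h4
      rw [e1, e2, ← Finset.sum_mul, e3, hcardG]
      have hZ0 : (Nat.card H : ℂ) ≠ 0 := Nat.cast_ne_zero.mpr Nat.card_pos.ne'
      have hp0 : (irrDeg β : ℂ) ≠ 0 := Nat.cast_ne_zero.mpr hβpos.ne'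
      field_simp
    have hirr := IsCharacter.isIrrCharacter_of_classInner_self hprod hinner
    have hdeg := hb ⟨_, hirr⟩
    have hχdeg : irrDeg χ = b := by
      have e1 := irrDeg_spec χ
      have e2 := irrDeg_spec θ
      have e3 := hχ 1
      rw [Subgroup.coe_one, e1, e2, hθb] at e3
      exact_mod_cast e3
    have hval : irrDeg (⟨_, hirr⟩ : IrrCharacter G) = b * irrDeg β := by
      have e1 := irrDeg_spec (⟨_, hirr⟩ : IrrCharacter G)
      have e2 : ((χ : G → ℂ) * (βt : G → ℂ)) 1 = ((b * irrDeg β : ℕ) : ℂ) := by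
        rw [Pi.mul_apply, irrDeg_spec χ, hχdeg, hβt_apply, QuotientGroup.mk_one, irrDeg_spec β]
        push_cast
        rfl
      have e3 : ((irrDeg (⟨_, hirr⟩ : IrrCharacter G) : ℕ) : ℂ) = ((b * irrDeg β : ℕ) : ℂ) := by
        rw [← e1]
        exact e2
      exact_mod_cast e3
    rw [hval] at hdeg
    have h2 : 2 ≤ irrDeg β := by omega
    have h3 : b * 2 ≤ b * irrDeg β := Nat.mul_le_mul_left b h2
    omega

end Cfsg.Agent.Helper24.AB
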