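import Mathlib

set_option autoImplicit false

/-!
# S1083 piece GRP2: a perfect-central-extension style identification `G ≃* W ⧸ Z(W)`
-/

namespace Cfsg.Agent.Helper24.B2

theorem equiv_center_quotient {St G W : Type*} [Group St] [Group G] [Group W]
    (θ : St →* G) (hθ : Function.Surjective θ) (hker : θ.ker = Subgroup.center St)
    (hG : IsSimpleGroup G) (hGna : ¬ IsMulCommutative G)
    (ψ : St →* W) (hψ : Function.Surjective ψ) (hW : ∃ a b : W, a * b ≠ b * a) :
    Nonempty (G ≃* W ⧸ Subgroup.center W) := by
  haveI := hG
  -- the image of `ker ψ` under `θ` is normal in `G`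
  have hnorm : (ψ.ker.map θ).Normal := Subgroup.Normal.map inferInstance θ hθ
  -- `ker ψ ≤ ker θ`
  have hK : ψ.ker ≤ θ.ker := by
    rcases hnorm.eq_bot_or_eq_top with h | h
    · intro k hk
      rw [MonoidHom.mem_ker]
      have : θ k ∈ ψ.ker.map θ := Subgroup.mem_map_of_mem θ hk
      rw [h, Subgroup.mem_bot] at this
      exact this
    · exfalso
      obtain ⟨a, b, hab⟩ := hW
      -- every element of `W` is the image of a central element
      have hcent : ∀ w : W, ∃ z ∈ Subgroup.center St, ψ z = w := by
        intro w
        obtain ⟨s, rfl⟩ := hψ w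
        have hs : θ s ∈ ψ.ker.map θ := by rw [h]; exact Subgroup.mem_top _
        obtain ⟨k, hk, hks⟩ := Subgroup.mem_map.mp hs
        refine ⟨s * k⁻¹, ?_, ?_⟩
        · rw [← hker, MonoidHom.mem_ker, map_mul, map_inv, hks, mul_inv_cancel]
        · rw [map_mul, map_inv, MonoidHom.mem_ker.mp hk, inv_one, mul_one]
      obtain ⟨z₁, hz₁, rfl⟩ := hcent a
      obtain ⟨z₂, hz₂, rfl⟩ := hcent b
      apply hab
      rw [← map_mul, ← map_mul]
      congr 1
      exact (Subgroup.mem_center_iff.mp hz₁ z₂).symm
  -- the centre of `G` is trivial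
  have hZG : Subgroup.center G = ⊥ := by
    rcases (inferInstance : (Subgroup.center G).Normal).eq_bot_or_eq_top with h | h
    · exact h
    · exfalso
      apply hGna
      refine ⟨⟨fun a b => ?_⟩⟩
      have : a ∈ Subgroup.center G := by rw [h]; exact Subgroup.mem_top _
      exact (Subgroup.mem_center_iff.mp this b).symm
  set φ : St →* W ⧸ Subgroup.center W := (QuotientGroup.mk' (Subgroup.center W)).comp ψ with hφ
  have hφsurj : Function.Surjective φ := by
    rw [hφ, MonoidHom.coe_comp]
    exact (QuotientGroup.mk'_surjective _).comp hψ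
  have hkerφ : φ.ker = θ.ker := by
    ext x
    rw [MonoidHom.mem_ker, hφ, MonoidHom.comp_apply, QuotientGroup.mk'_apply,
      QuotientGroup.eq_one_iff]
    constructor
    · intro hx
      -- `θ x` is central in `G`
      have hθx : θ x ∈ Subgroup.center G := by
        rw [Subgroup.mem_center_iff]
        intro g
        obtain ⟨y, rfl⟩ := hθ g
        have hcomm : x * y * x⁻¹ * y⁻¹ ∈ ψ.ker := by
          rw [MonoidHom.mem_ker]
          simp only [map_mul, map_inv]
          have := Subgroup.mem_center_iff.mp hx (ψ y)
          rw [← this]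
          group
        have h2 := hK hcomm
        rw [MonoidHom.mem_ker] at h2
        simp only [map_mul, map_inv] at h2
        have h3 : θ x * θ y = θ y * θ x := by
          have := congrArg (fun w => w * θ y * θ x) h2
          beta_reduce at this
          rw [one_mul] at this
          rw [← this]
          group
        exact h3.symm
      rw [hZG, Subgroup.mem_bot] at hθx
      exact MonoidHom.mem_ker.mpr hθx
    · intro hx
      rw [hker] at hx
      rw [Subgroup.mem_center_iff]
      intro w
      obtain ⟨y, rfl⟩ := hψ w
      rw [← map_mul, ← map_mul]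
      congr 1
      exact Subgroup.mem_center_iff.mp hx y
  exact ⟨((QuotientGroup.quotientKerEquivOfSurjective θ hθ).symm.trans
    (QuotientGroup.quotientMulEquivOfEq hkerφ.symm)).trans
    (QuotientGroup.quotientKerEquivOfSurjective φ hφsurj)⟩

end Cfsg.Agent.Helper24.B2
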