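import Mathlib
import Cfsg.Prelude.Def_Characters
import Cfsg.Agent.Helper24.Orthogonality
import Cfsg.Agent.Helper8.GaloisChar

/-!
Blichfeldt's theorem on abelian Hall subgroups of linear groups, part A:
an irreducible character moved by two Galois twists has an element on which both twists act
nontrivially.
-/

set_option autoImplicit false

namespace Cfsg.Agent.Helper24.Blich

open Cfsg

universe u

/-- If the irreducible character `χ` is moved by the twists `g ↦ g ^ k` and `g ↦ g ^ l`, then some
single element witnesses both. -/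
theorem exists_moved_by_both {G : Type u} [Group G] [Finite G] {χ : G → ℂ}
    (hχ : IsIrrCharacter G χ) (k l : ℕ) (hk : k.Coprime (Nat.card G))
    (hl : l.Coprime (Nat.card G)) (hk' : ∃ g, χ (g ^ k) ≠ χ g) (hl' : ∃ g, χ (g ^ l) ≠ χ g) :
    ∃ g : G, χ (g ^ k) ≠ χ g ∧ χ (g ^ l) ≠ χ g := by
  classical
  haveI : Fintype G := Fintype.ofFinite G
  by_contra hcon
  push Not at hcon
  have hχk := Cfsg.Agent.Helper8.isIrrCharacter_pow_of_coprime k hk hχ
  have hχl := Cfsg.Agent.Helper8.isIrrCharacter_pow_of_coprime l hl hχ
  have hnek : (fun g => χ (g ^ k)) ≠ χ := by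
    obtain ⟨g, hg⟩ := hk'
    intro h
    exact hg (congrFun h g)
  have hnel : (fun g => χ (g ^ l)) ≠ χ := by
    obtain ⟨g, hg⟩ := hl'
    intro h
    exact hg (congrFun h g)
  have h0 : classInner (χ - fun g => χ (g ^ k)) (χ - fun g => χ (g ^ l)) = 0 := by
    unfold classInner
    rw [Finset.sum_eq_zero, mul_zero]
    intro g _
    by_cases h : χ (g ^ k) = χ g
    · simp [h]
    · have := hcon g h
      simp [this]
  rw [classInner_sub_left, classInner_sub_right, classInner_sub_right,
    classInner_of_isIrrCharacter hχ hχ, classInner_of_isIrrCharacter hχ hχl,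
    classInner_of_isIrrCharacter hχk hχ, classInner_of_isIrrCharacter hχk hχl,
    if_pos rfl, if_neg (Ne.symm hnel), if_neg hnek] at h0
  by_cases h : (fun g => χ (g ^ k)) = fun g => χ (g ^ l)
  · rw [if_pos h] at h0
    norm_num at h0
  · rw [if_neg h] at h0
    norm_num at h0

end Cfsg.Agent.Helper24.Blich
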