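import Mathlib
import Cfsg.Agent.Helper24.Eigen

/-!
Blichfeldt part B: eigenvalues of endomorphisms of finite order whose power traces are invariant
under `i ↦ i * k`.
-/

set_option autoImplicit false

namespace Cfsg.Agent.Helper24.Blich

open Module

universe v

variable {V : Type v} [AddCommGroup V] [Module ℂ V]

theorem pow_apply_of_mem_eigenspace (f : Module.End ℂ V) {μ : ℂ} {v : V}
    (hv : v ∈ f.eigenspace μ) (i : ℕ) : (f ^ i) v = μ ^ i • v := by
  rw [Module.End.mem_eigenspace_iff] at hv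
  induction i with
  | zero => simp
  | succ k ih => rw [pow_succ', Module.End.mul_apply, ih, map_smul, hv, smul_smul, pow_succ]

/-- sum of the powers of an `N`-th root of unity -/
theorem sum_pow_root {N : ℕ} (ξ : ℂ) (hξ : ξ ^ N = 1) :
    ∑ i ∈ Finset.range N, ξ ^ i = if ξ = 1 then (N : ℂ) else 0 := by
  by_cases h : ξ = 1
  · rw [if_pos h, h]
    simp
  · rw [if_neg h]
    have h1 : (∑ i ∈ Finset.range N, ξ ^ i) * (ξ - 1) = 0 := by
      rw [geom_sum_mul, hξ, sub_self]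
    rcases mul_eq_zero.mp h1 with h2 | h2
    · exact h2
    · exact absurd (sub_eq_zero.mp h2) h

variable [FiniteDimensional ℂ V]

theorem trace_pow_eq_sum (f : Module.End ℂ V) (hf : ⨆ μ, f.eigenspace μ = ⊤) (i : ℕ) :
    LinearMap.trace ℂ V (f ^ i) =
      ∑ μ ∈ eigenFinset f, μ ^ i * (Module.finrank ℂ (f.eigenspace μ) : ℂ) :=
  trace_eq_sum_of_eigen f (f ^ i) hf (fun μ => μ ^ i)
    (fun _ _ hv => pow_apply_of_mem_eigenspace f hv i)

theorem finrank_eigenspace_pos {f : Module.End ℂ V} {μ : ℂ} (hμ : μ ∈ eigenFinset f) :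
    0 < Module.finrank ℂ (f.eigenspace μ) := by
  rw [mem_eigenFinset] at hμ
  haveI : Nontrivial (f.eigenspace μ) := Submodule.nontrivial_iff_ne_bot.mpr hμ
  exact Module.finrank_pos

/-- If the power traces of `f` (of finite order `N`) are invariant under `i ↦ i * k`, then the set
of eigenvalues is closed under `ε ↦ ε ^ k`. -/
theorem pow_mem_eigenFinset (f : Module.End ℂ V) {N : ℕ} (hN : 0 < N) (hfN : f ^ N = 1) (k : ℕ)
    (hk : ∀ i, LinearMap.trace ℂ V (f ^ (i * k)) = LinearMap.trace ℂ V (f ^ i)) {ε : ℂ}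
    (hε : ε ∈ eigenFinset f) : ε ^ k ∈ eigenFinset f := by
  classical
  have hf : ⨆ μ, f.eigenspace μ = ⊤ := iSup_eigenspace_eq_top_of_pow_eq_one f hN hfN
  have hroot : ∀ μ ∈ eigenFinset f, μ ^ N = 1 := fun μ hμ =>
    eigenvalue_pow_eq_one f hfN (mem_eigenFinset.mp hμ)
  have hε0 : ε ≠ 0 := by
    intro h
    have := hroot ε hε
    rw [h, zero_pow hN.ne'] at this
    exact zero_ne_one this
  by_contra hnot
  -- the two Fourier sums
  have key : ∑ i ∈ Finset.range N, LinearMap.trace ℂ V (f ^ (i * k)) * ((ε ^ k)⁻¹) ^ i =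
      ∑ i ∈ Finset.range N, LinearMap.trace ℂ V (f ^ i) * ((ε ^ k)⁻¹) ^ i := by
    refine Finset.sum_congr rfl ?_
    intro i _
    rw [hk i]
  have hL : ∑ i ∈ Finset.range N, LinearMap.trace ℂ V (f ^ (i * k)) * ((ε ^ k)⁻¹) ^ i =
      ((∑ μ ∈ eigenFinset f, Module.finrank ℂ (f.eigenspace μ) *
        (if (μ * ε⁻¹) ^ k = 1 then N else 0) : ℕ) : ℂ) := by
    simp_rw [trace_pow_eq_sum f hf, Finset.sum_mul]
    rw [Finset.sum_comm]
    push_cast
    refine Finset.sum_congr rfl ?_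
    intro μ hμ
    have h1 : ∀ i, μ ^ (i * k) * (Module.finrank ℂ (f.eigenspace μ) : ℂ) * ((ε ^ k)⁻¹) ^ i =
        (Module.finrank ℂ (f.eigenspace μ) : ℂ) * ((μ * ε⁻¹) ^ k) ^ i := by
      intro i
      rw [mul_pow, inv_pow, mul_pow, ← pow_mul, mul_comm k i]
      ring
    simp_rw [h1]
    have hξ : ((μ * ε⁻¹) ^ k) ^ N = 1 := by
      rw [← pow_mul, mul_comm k N, pow_mul, mul_pow, inv_pow, hroot μ hμ, hroot ε hε]
      simp
    rw [← Finset.mul_sum, sum_pow_root _ hξ]
  have hR : ∑ i ∈ Finset.range N, LinearMap.trace ℂ V (f ^ i) * ((ε ^ k)⁻¹) ^ i = 0 := by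
    simp_rw [trace_pow_eq_sum f hf, Finset.sum_mul]
    rw [Finset.sum_comm]
    refine Finset.sum_eq_zero ?_
    intro μ hμ
    have h1 : ∀ i, μ ^ i * (Module.finrank ℂ (f.eigenspace μ) : ℂ) * ((ε ^ k)⁻¹) ^ i =
        (Module.finrank ℂ (f.eigenspace μ) : ℂ) * (μ * (ε ^ k)⁻¹) ^ i := by
      intro i
      rw [mul_pow]
      ring
    simp_rw [h1]
    have hξ : (μ * (ε ^ k)⁻¹) ^ N = 1 := by
      rw [mul_pow, inv_pow, hroot μ hμ, ← pow_mul, mul_comm k N, pow_mul, hroot ε hε]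
      simp
    rw [← Finset.mul_sum, sum_pow_root _ hξ, if_neg, mul_zero]
    intro h
    apply hnot
    have : μ = ε ^ k := by
      have hne : ε ^ k ≠ 0 := pow_ne_zero _ hε0
      field_simp at h
      exact h
    rw [← this]
    exact hμ
  rw [hL, hR] at key
  have hpos : 0 < ∑ μ ∈ eigenFinset f, Module.finrank ℂ (f.eigenspace μ) *
      (if (μ * ε⁻¹) ^ k = 1 then N else 0) := by
    refine lt_of_lt_of_le ?_ (Finset.single_le_sum (f := fun μ =>
      Module.finrank ℂ (f.eigenspace μ) * (if (μ * ε⁻¹) ^ k = 1 then N else 0))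
      (fun _ _ => Nat.zero_le _) hε)
    show 0 < Module.finrank ℂ (f.eigenspace ε) * (if (ε * ε⁻¹) ^ k = 1 then N else 0)
    rw [mul_inv_cancel₀ hε0, one_pow, if_pos rfl]
    exact Nat.mul_pos (finrank_eigenspace_pos hε) hN
  have : (∑ μ ∈ eigenFinset f, Module.finrank ℂ (f.eigenspace μ) *
      (if (μ * ε⁻¹) ^ k = 1 then N else 0)) = 0 := by exact_mod_cast key
  omega

/-- The number of eigenvalues is at most the dimension. -/
theorem card_eigenFinset_le (f : Module.End ℂ V) (hf : ⨆ μ, f.eigenspace μ = ⊤) :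
    (eigenFinset f).card ≤ Module.finrank ℂ V := by
  have h := sum_finrank_eigenspace f hf
  have h' : Module.finrank ℂ V = ∑ μ ∈ eigenFinset f, Module.finrank ℂ (f.eigenspace μ) := by
    exact_mod_cast h
  rw [h', Finset.card_eq_sum_ones]
  refine Finset.sum_le_sum ?_
  intro μ hμ
  exact finrank_eigenspace_pos hμ

/-- If every eigenvalue has `μ ^ s = 1` then `f ^ s = 1`. -/
theorem pow_eq_one_of_forall_eigen (f : Module.End ℂ V) (hf : ⨆ μ, f.eigenspace μ = ⊤) (s : ℕ)
    (h : ∀ μ ∈ eigenFinset f, μ ^ s = 1) : f ^ s = 1 := by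
  have htop : (f ^ s).eigenspace 1 = ⊤ := by
    rw [eq_top_iff, ← hf]
    refine iSup_le ?_
    intro μ
    by_cases hμ : f.eigenspace μ = ⊥
    · rw [hμ]; exact bot_le
    · intro v hv
      rw [Module.End.mem_eigenspace_iff, pow_apply_of_mem_eigenspace f hv,
        h μ (mem_eigenFinset.mpr hμ)]
  ext v
  have : v ∈ (f ^ s).eigenspace 1 := by rw [htop]; trivial
  simpa using Module.End.mem_eigenspace_iff.mp this

end Cfsg.Agent.Helper24.Blich
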