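import Mathlib
import Cfsg.Agent.Helper24.BlichB
import Cfsg.Agent.Helper24.CharBasic

/-!
Blichfeldt part C: a faithful representation of degree `< p - 1` is moved by a suitable Galois
twist `g ↦ g ^ (1 + j * (e * p ^ d))` as soon as the group has an element of order `p ^ (d + 1)`.
-/

set_option autoImplicit false

namespace Cfsg.Agent.Helper24.Blich

open Module

universe u v

variable {G : Type u} [Group G] [Finite G]
variable {V : Type v} [AddCommGroup V] [Module ℂ V] [FiniteDimensional ℂ V]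

theorem exists_twist_moves (ρ : Representation ℂ G V) (hinj : Function.Injective ρ) (p : ℕ)
    [hp : Fact p.Prime] (hdim : finrank ℂ V + 2 ≤ p) (v : G) (d : ℕ)
    (hv : orderOf v = p ^ (d + 1)) (e a : ℕ) (hcard : Nat.card G = e * p ^ a) (hep : ¬ p ∣ e) :
    ∃ j < p, (1 + j * (e * p ^ d)).Coprime (Nat.card G) ∧
      ∃ g : G, ρ.character (g ^ (1 + j * (e * p ^ d))) ≠ ρ.character g := by
  classical
  set T : Module.End ℂ V := ρ v with hT
  set N : ℕ := p ^ (d + 1) with hN
  have hNpos : 0 < N := pow_pos hp.out.pos _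
  have hTN : T ^ N = 1 := by
    rw [hT, ← hv]
    exact rho_pow_orderOf ρ v
  have hf : ⨆ μ, T.eigenspace μ = ⊤ := iSup_eigenspace_eq_top_of_pow_eq_one T hNpos hTN
  have hroot : ∀ μ ∈ eigenFinset T, μ ^ N = 1 := fun μ hμ =>
    eigenvalue_pow_eq_one T hTN (mem_eigenFinset.mp hμ)
  -- an eigenvalue of full order
  obtain ⟨ε, hε, hεd⟩ : ∃ ε ∈ eigenFinset T, ε ^ (p ^ d) ≠ 1 := by
    by_contra hcon
    push Not at hcon
    have h1 : T ^ (p ^ d) = 1 := pow_eq_one_of_forall_eigen T hf _ hcon
    have h2 : ρ (v ^ (p ^ d)) = ρ 1 := by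
      rw [map_pow, map_one]
      exact h1
    have h3 : v ^ (p ^ d) = 1 := hinj h2
    have h4 : orderOf v ∣ p ^ d := orderOf_dvd_of_pow_eq_one h3
    rw [hv, hN] at h4
    have h5 := Nat.le_of_dvd (pow_pos hp.out.pos _) h4
    have h6 : p ^ d < p ^ (d + 1) := Nat.pow_lt_pow_right hp.out.one_lt (Nat.lt_succ_self d)
    omega
  have hε0 : ε ≠ 0 := by
    intro h
    have := hroot ε hε
    rw [h, zero_pow hNpos.ne'] at this
    exact zero_ne_one this
  set E : ℕ := e * p ^ d with hE
  set ζ : ℂ := ε ^ E with hζ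
  have hηp : (ε ^ (p ^ d)) ^ p = 1 := by
    rw [← pow_mul, ← pow_succ]
    exact hroot ε hε
  have hζp : ζ ^ p = 1 := by
    rw [hζ, hE, mul_comm e, pow_mul, ← pow_mul, mul_comm e p, pow_mul, hηp, one_pow]
  have hζ1 : ζ ≠ 1 := by
    intro h
    rw [hζ, hE, mul_comm e, pow_mul] at h
    have hg := (pow_gcd_eq_one (a := ε ^ (p ^ d))).mpr ⟨h, hηp⟩
    have hcop : Nat.gcd e p = 1 := by
      rw [Nat.gcd_comm]
      exact (Nat.Prime.coprime_iff_not_dvd hp.out).mpr hep
    rw [hcop, pow_one] at hg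
    exact hεd hg
  have hordζ : orderOf ζ = p := orderOf_eq_prime hζp hζ1
  by_contra hall
  push Not at hall
  -- good indices give eigenvalues
  have hgood : ∀ j < p, (1 + j * E).Coprime (Nat.card G) → ε * ζ ^ j ∈ eigenFinset T := by
    intro j hj hcop
    have h1 : ∀ i, LinearMap.trace ℂ V (T ^ (i * (1 + j * E))) = LinearMap.trace ℂ V (T ^ i) := by
      intro i
      have := hall j hj hcop (v ^ i)
      unfold Representation.character at this
      rw [← pow_mul, map_pow ρ, map_pow ρ] at this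
      exact this
    have h2 := pow_mem_eigenFinset T hNpos hTN (1 + j * E) h1 hε
    rw [pow_add, pow_one, mul_comm j E, pow_mul] at h2
    exact h2
  -- at most one bad index
  set B : Finset ℕ := (Finset.range p).filter (fun j => ¬ (1 + j * E).Coprime (Nat.card G)) with hB
  have hbad : ∀ j ∈ B, p ∣ 1 + j * E := by
    intro j hj
    rw [hB, Finset.mem_filter] at hj
    by_contra hnd
    apply hj.2
    rw [hcard]
    refine Nat.Coprime.mul_right ?_ ?_
    · have : 1 + j * E = 1 + (j * p ^ d) * e := by rw [hE]; ring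
      rw [this, Nat.Coprime, Nat.gcd_add_mul_right_left]
      exact Nat.gcd_one_left e
    · exact Nat.Coprime.pow_right _ ((Nat.Coprime.symm
        ((Nat.Prime.coprime_iff_not_dvd hp.out).mpr hnd)))
  have hBcard : B.card ≤ 1 := by
    rw [Finset.card_le_one]
    intro j₁ h₁ j₂ h₂
    have hl₁ : j₁ < p := by
      rw [hB, Finset.mem_filter, Finset.mem_range] at h₁; exact h₁.1
    have hl₂ : j₂ < p := by
      rw [hB, Finset.mem_filter, Finset.mem_range] at h₂; exact h₂.1
    have hd₁ := hbad j₁ h₁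
    have hd₂ := hbad j₂ h₂
    have hnE : ¬ p ∣ E := by
      intro hpE
      have : p ∣ 1 := by
        have h := (Nat.dvd_add_right (Dvd.dvd.mul_left hpE j₁)).mp (by rw [add_comm]; exact hd₁)
        exact h
      exact hp.out.one_lt.ne' (Nat.dvd_one.mp this)
    by_contra hne
    rcases Nat.lt_or_gt_of_ne hne with hlt | hlt
    · have h : p ∣ (1 + j₂ * E) - (1 + j₁ * E) := Nat.dvd_sub hd₂ hd₁
      have h' : (1 + j₂ * E) - (1 + j₁ * E) = (j₂ - j₁) * E := by
        rw [Nat.sub_mul]; omega
      rw [h'] at h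
      rcases (Nat.Prime.dvd_mul hp.out).mp h with h | h
      · have := Nat.le_of_dvd (by omega) h
        omega
      · exact hnE h
    · have h : p ∣ (1 + j₁ * E) - (1 + j₂ * E) := Nat.dvd_sub hd₁ hd₂
      have h' : (1 + j₁ * E) - (1 + j₂ * E) = (j₁ - j₂) * E := by
        rw [Nat.sub_mul]; omega
      rw [h'] at h
      rcases (Nat.Prime.dvd_mul hp.out).mp h with h | h
      · have := Nat.le_of_dvd (by omega) h
        omega
      · exact hnE h
  -- the good indices inject into the eigenvalues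
  set Gd : Finset ℕ := (Finset.range p) \ B with hGd
  have hGdcard : p - 1 ≤ Gd.card := by
    have h1 : Gd.card = (Finset.range p).card - B.card := by
      rw [hGd]
      exact Finset.card_sdiff_of_subset (Finset.filter_subset _ _)
    rw [h1, Finset.card_range]
    omega
  have hinjmap : Set.InjOn (fun j : ℕ => ε * ζ ^ j) (Gd : Set ℕ) := by
    intro j₁ h₁ j₂ h₂ h
    have hl₁ : j₁ < p := by
      have := (Finset.mem_sdiff.mp (Finset.mem_coe.mp h₁)).1
      exact Finset.mem_range.mp this
    have hl₂ : j₂ < p := by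
      have := (Finset.mem_sdiff.mp (Finset.mem_coe.mp h₂)).1
      exact Finset.mem_range.mp this
    have h' : ζ ^ j₁ = ζ ^ j₂ := mul_left_cancel₀ hε0 h
    have hζ0 : ζ ≠ 0 := by
      intro h0
      rw [h0, zero_pow hp.out.ne_zero] at hζp
      exact zero_ne_one hζp
    have hu : (Units.mk0 ζ hζ0) ^ j₁ = (Units.mk0 ζ hζ0) ^ j₂ := by
      apply Units.ext
      rw [Units.val_pow_eq_pow_val, Units.val_pow_eq_pow_val]
      exact h'
    have hou : orderOf (Units.mk0 ζ hζ0) = p := by
      rw [← orderOf_units]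
      exact hordζ
    rw [pow_inj_mod, hou, Nat.mod_eq_of_lt hl₁, Nat.mod_eq_of_lt hl₂] at hu
    exact hu
  have hsub : Gd.image (fun j : ℕ => ε * ζ ^ j) ⊆ eigenFinset T := by
    intro μ hμ
    obtain ⟨j, hj, rfl⟩ := Finset.mem_image.mp hμ
    have hj' := Finset.mem_sdiff.mp hj
    have hl : j < p := Finset.mem_range.mp hj'.1
    refine hgood j hl ?_
    by_contra hnc
    apply hj'.2
    rw [hB, Finset.mem_filter]
    exact ⟨hj'.1, hnc⟩
  have h1 := Finset.card_le_card hsub
  rw [Finset.card_image_of_injOn hinjmap] at h1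
  have h2 := card_eigenFinset_le T hf
  omega

end Cfsg.Agent.Helper24.Blich
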