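import Mathlib

/-!
Blichfeldt part D: arithmetic of "large-prime" numbers, abelian Hall subgroups for the primes
exceeding `m + 1`, and the group-theoretic core of the argument.
-/

set_option autoImplicit false

namespace Cfsg.Agent.Helper24.Blich

universe u

/-- all prime divisors exceed `m + 1` -/
def Big (m k : ℕ) : Prop := ∀ q : ℕ, q.Prime → q ∣ k → m + 1 < q

/-- all prime divisors are at most `m + 1` -/
def Small (m k : ℕ) : Prop := ∀ q : ℕ, q.Prime → q ∣ k → q ≤ m + 1

theorem Big.of_dvd {m a b : ℕ} (h : Big m b) (hab : a ∣ b) : Big m a :=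
  fun q hq hqa => h q hq (hqa.trans hab)

theorem Small.of_dvd {m a b : ℕ} (h : Small m b) (hab : a ∣ b) : Small m a :=
  fun q hq hqa => h q hq (hqa.trans hab)

theorem Big.mul {m a b : ℕ} (ha : Big m a) (hb : Big m b) : Big m (a * b) := by
  intro q hq hqab
  rcases (Nat.Prime.dvd_mul hq).mp hqab with h | h
  · exact ha q hq h
  · exact hb q hq h

theorem Small.mul {m a b : ℕ} (ha : Small m a) (hb : Small m b) : Small m (a * b) := by
  intro q hq hqab
  rcases (Nat.Prime.dvd_mul hq).mp hqab with h | h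
  · exact ha q hq h
  · exact hb q hq h

theorem Big.one (m : ℕ) : Big m 1 := by
  intro q hq h
  exact absurd (Nat.dvd_one.mp h) hq.one_lt.ne'

theorem Small.one (m : ℕ) : Small m 1 := by
  intro q hq h
  exact absurd (Nat.dvd_one.mp h) hq.one_lt.ne'

theorem Big.prime_pow {m p : ℕ} (hp : p.Prime) (hmp : m + 1 < p) (k : ℕ) : Big m (p ^ k) := by
  intro q hq h
  have := (Nat.prime_dvd_prime_iff_eq hq hp).mp (hq.dvd_of_dvd_pow h)
  rw [this]
  exact hmp

theorem Big.coprime {m a b : ℕ} (ha : Big m a) (hb : Small m b) : Nat.Coprime a b := by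
  rw [Nat.coprime_iff_gcd_eq_one]
  by_contra h
  obtain ⟨q, hq, hqd⟩ := Nat.exists_prime_and_dvd h
  have h1 := ha q hq (hqd.trans (Nat.gcd_dvd_left a b))
  have h2 := hb q hq (hqd.trans (Nat.gcd_dvd_right a b))
  omega

/-- `G` has an abelian Hall subgroup for the set of primes exceeding `m + 1`. -/
def HasAbHall (m : ℕ) (G : Type u) [Group G] : Prop :=
  ∃ A : Subgroup G, (∀ x ∈ A, ∀ y ∈ A, x * y = y * x) ∧ Big m (Nat.card A) ∧ Small m A.index

section

variable {G : Type u} [Group G]

theorem HasAbHall.of_subgroup {m : ℕ} (M : Subgroup G) (hM : Small m M.index)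
    (h : HasAbHall m M) : HasAbHall m G := by
  obtain ⟨A, hab, hbig, hsmall⟩ := h
  refine ⟨A.map M.subtype, ?_, ?_, ?_⟩
  · rintro x ⟨a, ha, rfl⟩ y ⟨b, hb, rfl⟩
    have := hab a ha b hb
    simp only [Subgroup.coe_subtype]
    rw [← Subgroup.coe_mul, this, Subgroup.coe_mul]
  · rw [Subgroup.card_map_of_injective M.subtype_injective]
    exact hbig
  · rw [Subgroup.index_map_subtype]
    exact hsmall.mul hM

theorem card_sup_dvd_of_commute (H K : Subgroup G)
    (hcomm : ∀ h ∈ H, ∀ k ∈ K, h * k = k * h) :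
    Nat.card (H ⊔ K : Subgroup G) ∣ Nat.card H * Nat.card K := by
  have hc : ∀ (h : H) (k : K), Commute (H.subtype h) (K.subtype k) :=
    fun h k => hcomm h h.2 k k.2
  have h1 := MonoidHom.noncommCoprod_range H.subtype K.subtype hc
  rw [Subgroup.range_subtype, Subgroup.range_subtype] at h1
  rw [← h1, ← Nat.card_prod]
  exact Subgroup.card_range_dvd _

theorem comm_sup_of_comm (H K : Subgroup G) (hH : ∀ x ∈ H, ∀ y ∈ H, x * y = y * x)
    (hK : ∀ x ∈ K, ∀ y ∈ K, x * y = y * x) (hHK : ∀ h ∈ H, ∀ k ∈ K, h * k = k * h) :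
    ∀ x ∈ H ⊔ K, ∀ y ∈ H ⊔ K, x * y = y * x := by
  have h1 : H ⊔ K ≤ Subgroup.centralizer ((H ⊔ K : Subgroup G) : Set G) := by
    rw [sup_le_iff]
    constructor
    · rw [Subgroup.le_centralizer_iff, sup_le_iff]
      constructor
      · intro x hx
        rw [Subgroup.mem_centralizer_iff]
        intro y hy
        exact hH y hy x hx
      · intro k hk
        rw [Subgroup.mem_centralizer_iff]
        intro h hh
        exact hHK h hh k hk
    · rw [Subgroup.le_centralizer_iff, sup_le_iff]
      constructor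
      · intro h hh
        rw [Subgroup.mem_centralizer_iff]
        intro k hk
        exact (hHK h hh k hk).symm
      · intro x hx
        rw [Subgroup.mem_centralizer_iff]
        intro y hy
        exact hK y hy x hx
  intro x hx y hy
  have := h1 hx
  rw [Subgroup.mem_centralizer_iff] at this
  exact (this y hy).symm

end

end Cfsg.Agent.Helper24.Blich
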