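import Mathlib
import Cfsg.Agent.Helper24.BlichD

/-!
Blichfeldt part E: the maximal abelian `π`-subgroup argument.
-/

set_option autoImplicit false

namespace Cfsg.Agent.Helper24.Blich

universe u

variable {G : Type u} [Group G] [Finite G]

/-- a Sylow subgroup for a prime dividing the index of `H` cannot have order dividing `|H|` -/
theorem not_card_sylow_dvd (H : Subgroup G) (s : ℕ) [hs : Fact s.Prime] (hsd : s ∣ H.index)
    (R : Sylow s G) : ¬ Nat.card R ∣ Nat.card H := by
  intro h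
  rw [Sylow.card_eq_multiplicity] at h
  have hH0 : Nat.card H ≠ 0 := Nat.card_pos.ne'
  have hi0 : H.index ≠ 0 := Subgroup.index_ne_zero_of_finite
  have h1 := (Nat.Prime.pow_dvd_iff_le_factorization hs.out hH0).mp h
  have h2 : Nat.card G = Nat.card H * H.index := (Subgroup.card_mul_index H).symm
  rw [h2, Nat.factorization_mul hH0 hi0] at h1
  have h3 : 1 ≤ (H.index).factorization s :=
    (Nat.Prime.dvd_iff_one_le_factorization hs.out hi0).mp hsd
  simp only [Finsupp.coe_add, Pi.add_apply] at h1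
  omega

theorem isPGroup_zpowers {p : ℕ} {z : G} (hz : ∃ k, orderOf z = p ^ k) :
    IsPGroup p (Subgroup.zpowers z) := by
  obtain ⟨k, hk⟩ := hz
  refine IsPGroup.of_card (n := k) ?_
  rw [Nat.card_zpowers, hk]

theorem step3 (m : ℕ)
    (hsyl : ∀ (q : ℕ) [Fact q.Prime], m + 1 < q → ∀ R : Sylow q G,
      ∀ x ∈ R, ∀ y ∈ R, x * y = y * x)
    (hsub : ∀ M : Subgroup G, M ≠ ⊤ → HasAbHall m M)
    (hpair : ∀ p r : ℕ, p.Prime → r.Prime → m + 1 < p → m + 1 < r → p ≠ r →
      p ∣ Nat.card G → r ∣ Nat.card G →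
      ∃ u y : G, Commute u y ∧ (∃ k, orderOf u = p ^ k) ∧ (∃ k, orderOf y = r ^ k) ∧
        u ∉ Subgroup.center G ∧ y ∉ Subgroup.center G) :
    HasAbHall m G := by
  classical
  let S : Set (Subgroup G) := {H | (∀ x ∈ H, ∀ y ∈ H, x * y = y * x) ∧ Big m (Nat.card H)}
  have hSne : S.Nonempty := by
    refine ⟨⊥, ?_, ?_⟩
    · intro x hx y hy
      rw [Subgroup.mem_bot] at hx hy
      rw [hx, hy]
    · rw [Subgroup.card_bot]
      exact Big.one m
  obtain ⟨H, hHS, hmax⟩ := Set.exists_max_image S (fun H : Subgroup G => Nat.card H)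
    (Set.toFinite S) hSne
  have hHab : ∀ x ∈ H, ∀ y ∈ H, x * y = y * x := hHS.1
  have hHbig : Big m (Nat.card H) := hHS.2
  refine ⟨H, hHab, hHbig, ?_⟩
  intro r hr hrdvd
  by_contra hbig
  push Not at hbig
  haveI : Fact r.Prime := ⟨hr⟩
  -- L1
  have L1 : ∀ M : Subgroup G, M ≠ ⊤ → H ≤ M → ∀ B : Subgroup G, B ≤ M → Big m (Nat.card B) →
      Nat.card B ∣ Nat.card H := by
    intro M hM hHM B hBM hB
    obtain ⟨A, hAab, hAbig, hAsmall⟩ := hsub M hM
    have hA₀ : A.map M.subtype ∈ S := by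
      refine ⟨?_, ?_⟩
      · rintro x ⟨a, ha, rfl⟩ y ⟨b, hb, rfl⟩
        have := hAab a ha b hb
        simp only [Subgroup.coe_subtype]
        rw [← Subgroup.coe_mul, this, Subgroup.coe_mul]
      · rw [Subgroup.card_map_of_injective M.subtype_injective]
        exact hAbig
    have hle := hmax _ hA₀
    rw [Subgroup.card_map_of_injective M.subtype_injective] at hle
    have hMcard : Nat.card M = Nat.card A * A.index := (Subgroup.card_mul_index A).symm
    have hdiv : ∀ B : Subgroup G, B ≤ M → Big m (Nat.card B) → Nat.card B ∣ Nat.card A := by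
      intro B hBM hB
      have h1 : Nat.card B ∣ Nat.card M := Subgroup.card_dvd_of_le hBM
      rw [hMcard] at h1
      exact (Big.coprime hB hAsmall).dvd_of_dvd_mul_right h1
    have hHA : Nat.card H ∣ Nat.card A := hdiv H hHM hHbig
    have hAH : Nat.card A = Nat.card H :=
      le_antisymm hle (Nat.le_of_dvd Nat.card_pos hHA)
    rw [← hAH]
    exact hdiv B hBM hB
  -- (3')
  have L3 : ∀ (s : ℕ) [Fact s.Prime], m + 1 < s → s ∣ H.index → ∀ z ∈ H,
      (∃ k, orderOf z = s ^ k) → z ∈ Subgroup.center G := by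
    intro s hs hms hsd z hz hzs
    by_contra hzc
    have hM : Subgroup.centralizer ({z} : Set G) ≠ ⊤ := by
      intro h
      rw [Subgroup.centralizer_eq_top_iff_subset] at h
      exact hzc (h (Set.mem_singleton z))
    have hHM : H ≤ Subgroup.centralizer ({z} : Set G) := by
      intro x hx
      rw [Subgroup.mem_centralizer_iff]
      intro y hy
      rw [Set.mem_singleton_iff] at hy
      rw [hy]
      exact hHab z hz x hx
    obtain ⟨R, hR⟩ := (isPGroup_zpowers hzs).exists_le_sylow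
    have hRM : (R : Subgroup G) ≤ Subgroup.centralizer ({z} : Set G) := by
      intro x hx
      rw [Subgroup.mem_centralizer_iff]
      intro y hy
      rw [Set.mem_singleton_iff] at hy
      rw [hy]
      exact hsyl s hms R z (hR (Subgroup.mem_zpowers z)) x hx
    have hRbig : Big m (Nat.card R) := by
      rw [Sylow.card_eq_multiplicity]
      exact Big.prime_pow hs.out hms _
    exact not_card_sylow_dvd H s hsd R (L1 _ hM hHM R hRM hRbig)
  -- (4a) H is not central
  have L4 : ¬ H ≤ Subgroup.center G := by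
    intro hHc
    obtain ⟨R⟩ : Nonempty (Sylow r G) := inferInstance
    have hcomm : ∀ h ∈ H, ∀ k ∈ (R : Subgroup G), h * k = k * h := by
      intro h hh k _
      exact ((Subgroup.mem_center_iff.mp (hHc hh)) k).symm
    have hB : H ⊔ (R : Subgroup G) ∈ S := by
      refine ⟨comm_sup_of_comm H R hHab (hsyl r hbig R) hcomm, ?_⟩
      refine Big.of_dvd ?_ (card_sup_dvd_of_commute H R hcomm)
      refine Big.mul hHbig ?_
      rw [Sylow.card_eq_multiplicity]
      exact Big.prime_pow hr hbig _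
    have hle := hmax _ hB
    have heq : H = H ⊔ (R : Subgroup G) := Subgroup.eq_of_le_of_card_ge le_sup_left hle
    have hRH : (R : Subgroup G) ≤ H := by
      rw [heq]
      exact le_sup_right
    exact not_card_sylow_dvd H r hrdvd R (Subgroup.card_dvd_of_le hRH)
  -- a noncentral element of prime power order in `H`
  obtain ⟨p, hp, x, hxH, hxp, hxc⟩ : ∃ p : ℕ, p.Prime ∧ ∃ x ∈ H, (∃ k, orderOf x = p ^ k) ∧
      x ∉ Subgroup.center G := by
    set H₀ : Subgroup H := (Subgroup.center G).subgroupOf H with hH₀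
    have hne : H₀ ≠ ⊤ := by
      intro h
      apply L4
      intro x hx
      have : (⟨x, hx⟩ : H) ∈ H₀ := by rw [h]; trivial
      exact this
    have hidx : H₀.index ≠ 1 := fun h => hne (Subgroup.index_eq_one.mp h)
    obtain ⟨p, hp, hpd⟩ := Nat.exists_prime_and_dvd hidx
    haveI : Fact p.Prime := ⟨hp⟩
    obtain ⟨P⟩ : Nonempty (Sylow p H) := inferInstance
    have hPn : ¬ (P : Subgroup H) ≤ H₀ := by
      intro hle
      have h1 : H₀.index ∣ (P : Subgroup H).index := Subgroup.index_dvd_of_le hle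
      exact P.not_dvd_index (hpd.trans h1)
    obtain ⟨x, hxP, hxn⟩ := SetLike.not_le_iff_exists.mp hPn
    refine ⟨p, hp, (x : G), x.2, ?_, ?_⟩
    · obtain ⟨k, hk⟩ := (IsPGroup.iff_orderOf.mp P.2) ⟨x, hxP⟩
      refine ⟨k, ?_⟩
      rw [← hk]
      have h1 : orderOf (⟨x, hxP⟩ : (P : Subgroup H)) = orderOf x := Subgroup.orderOf_mk x hxP
      rw [h1, Subgroup.orderOf_coe]
    · intro hc
      exact hxn hc
  haveI : Fact p.Prime := ⟨hp⟩
  have hx1 : x ≠ 1 := by
    intro h
    rw [h] at hxc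
    exact hxc (Subgroup.one_mem _)
  have hpH : p ∣ Nat.card H := by
    obtain ⟨k, hk⟩ := hxp
    have hk0 : k ≠ 0 := by
      intro h0
      rw [h0, pow_zero, orderOf_eq_one_iff] at hk
      exact hx1 hk
    have h1 : orderOf x ∣ Nat.card H := by
      have := orderOf_dvd_natCard (⟨x, hxH⟩ : H)
      rwa [Subgroup.orderOf_mk] at this
    rw [hk] at h1
    exact (dvd_pow_self p hk0).trans h1
  have hmp : m + 1 < p := hHbig p hp hpH
  have hpidx : ¬ p ∣ H.index := by
    intro h
    exact hxc (L3 p hmp h x hxH hxp)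
  have hpr : p ≠ r := by
    intro h
    rw [h] at hpidx
    exact hpidx hrdvd
  have hpG : p ∣ Nat.card G := hpH.trans (Subgroup.card_subgroup_dvd_card H)
  have hrG : r ∣ Nat.card G := hrdvd.trans (Subgroup.index_dvd_card H)
  obtain ⟨u, y, huy, hup, hyr, huc, hyc⟩ := hpair p r hp hr hmp hbig hpr hpG hrG
  -- conjugate `u` into `H`
  obtain ⟨g, hg⟩ : ∃ g : G, g⁻¹ * u * g ∈ H := by
    have hP : IsPGroup p (Subgroup.zpowers u) := isPGroup_zpowers hup
    have hcard : ¬ p ∣ Nat.card (G ⧸ H) := by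
      rw [← Subgroup.index_eq_card]
      exact hpidx
    obtain ⟨q, hq⟩ := hP.nonempty_fixed_point_of_prime_not_dvd_card (G ⧸ H) hcard
    induction q using QuotientGroup.induction_on with
    | H g =>
      refine ⟨g, ?_⟩
      have h1 := hq ⟨u, Subgroup.mem_zpowers u⟩
      have h2 : ((u * g : G) : G ⧸ H) = (g : G ⧸ H) := h1
      rw [QuotientGroup.eq] at h2
      have h3 : g⁻¹ * u * g = ((u * g)⁻¹ * g)⁻¹ := by group
      rw [h3]
      exact H.inv_mem h2
  set u' : G := g⁻¹ * u * g with hu'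
  set y' : G := g⁻¹ * y * g with hy'
  have hu'c : u' ∉ Subgroup.center G := by
    intro h
    apply huc
    have h1 : u = g * u' * g⁻¹ := by rw [hu']; group
    rw [h1]
    exact (inferInstance : (Subgroup.center G).Normal).conj_mem u' h g
  have hy'c : y' ∉ Subgroup.center G := by
    intro h
    apply hyc
    have h1 : y = g * y' * g⁻¹ := by rw [hy']; group
    rw [h1]
    exact (inferInstance : (Subgroup.center G).Normal).conj_mem y' h g
  have hy'r : ∃ k, orderOf y' = r ^ k := by
    obtain ⟨k, hk⟩ := hyr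
    refine ⟨k, ?_⟩
    rw [← hk]
    have hsc : SemiconjBy g⁻¹ y y' := by
      unfold SemiconjBy
      rw [hy']
      group
    exact (SemiconjBy.orderOf_eq g⁻¹ hsc).symm
  have hcomm' : u' * y' = y' * u' := by
    rw [hu', hy']
    have := huy.eq
    calc g⁻¹ * u * g * (g⁻¹ * y * g) = g⁻¹ * (u * y) * g := by group
      _ = g⁻¹ * (y * u) * g := by rw [this]
      _ = g⁻¹ * y * g * (g⁻¹ * u * g) := by group
  have hM : Subgroup.centralizer ({u'} : Set G) ≠ ⊤ := by
    intro h
    rw [Subgroup.centralizer_eq_top_iff_subset] at h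
    exact hu'c (h (Set.mem_singleton u'))
  have hHM : H ≤ Subgroup.centralizer ({u'} : Set G) := by
    intro z hz
    rw [Subgroup.mem_centralizer_iff]
    intro w hw
    rw [Set.mem_singleton_iff] at hw
    rw [hw]
    exact hHab u' hg z hz
  have hyM : y' ∈ Subgroup.centralizer ({u'} : Set G) := by
    rw [Subgroup.mem_centralizer_iff]
    intro w hw
    rw [Set.mem_singleton_iff] at hw
    rw [hw]
    exact hcomm'
  -- the Sylow `r`-subgroup of `H`
  obtain ⟨RH⟩ : Nonempty (Sylow r H) := inferInstance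
  set Hr : Subgroup G := (RH : Subgroup H).map H.subtype with hHr
  have hHrH : Hr ≤ H := by
    rintro z ⟨a, _, rfl⟩
    exact a.2
  have hHrcard : Nat.card Hr = r ^ (Nat.card H).factorization r := by
    rw [hHr, Subgroup.card_map_of_injective H.subtype_injective, Sylow.card_eq_multiplicity]
  have hHrc : Hr ≤ Subgroup.center G := by
    rintro z ⟨a, ha, rfl⟩
    refine L3 r hbig hrdvd a a.2 ?_
    obtain ⟨k, hk⟩ := (IsPGroup.iff_orderOf.mp RH.2) ⟨a, ha⟩
    refine ⟨k, ?_⟩
    rw [← hk]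
    have h1 : orderOf (⟨a, ha⟩ : (RH : Subgroup H)) = orderOf a := Subgroup.orderOf_mk a ha
    rw [h1]
    exact (Subgroup.orderOf_coe a)
  set T : Subgroup G := Subgroup.zpowers y' with hT
  have hcommB : ∀ h ∈ Hr, ∀ k ∈ T, h * k = k * h := by
    intro h hh k _
    exact ((Subgroup.mem_center_iff.mp (hHrc hh)) k).symm
  have hBdvd : Nat.card (Hr ⊔ T : Subgroup G) ∣ Nat.card Hr * Nat.card T :=
    card_sup_dvd_of_commute Hr T hcommB
  obtain ⟨k, hk⟩ := hy'r
  have hTcard : Nat.card T = r ^ k := by rw [hT, Nat.card_zpowers, hk]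
  rw [hHrcard, hTcard, ← pow_add] at hBdvd
  obtain ⟨j, _, hj⟩ := (Nat.dvd_prime_pow hr).mp hBdvd
  have hBM : Hr ⊔ T ≤ Subgroup.centralizer ({u'} : Set G) := by
    rw [sup_le_iff]
    refine ⟨hHrH.trans hHM, ?_⟩
    rw [hT, Subgroup.zpowers_le]
    exact hyM
  have hBbig : Big m (Nat.card (Hr ⊔ T : Subgroup G)) := by
    rw [hj]
    exact Big.prime_pow hr hbig _
  have h1 := L1 _ hM hHM _ hBM hBbig
  rw [hj] at h1
  have h2 := (Nat.Prime.pow_dvd_iff_le_factorization hr Nat.card_pos.ne').mp h1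
  have h3 : Nat.card (Hr ⊔ T : Subgroup G) ≤ Nat.card Hr := by
    rw [hj, hHrcard]
    exact Nat.pow_le_pow_right hr.pos h2
  have h4 : Hr = Hr ⊔ T := Subgroup.eq_of_le_of_card_ge le_sup_left h3
  have h5 : y' ∈ Hr := by
    rw [h4]
    exact Subgroup.mem_sup_right (Subgroup.mem_zpowers y')
  exact hy'c (hHrc h5)

end Cfsg.Agent.Helper24.Blich
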