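import Mathlib
import Cfsg.Agent.Helper24.BlichA
import Cfsg.Agent.Helper24.BlichC
import Cfsg.Agent.Helper24.Rep

/-!
Blichfeldt part F: a commuting pair of noncentral `p`- and `r`-elements.
-/

set_option autoImplicit false

namespace Cfsg.Agent.Helper24.Blich

open Module Cfsg

universe u v

variable {G : Type u} [Group G] [Finite G]
variable {V : Type v} [AddCommGroup V] [Module ℂ V] [FiniteDimensional ℂ V]

theorem exists_card_eq_mul_pow (p : ℕ) [hp : Fact p.Prime] :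
    ∃ e a : ℕ, Nat.card G = e * p ^ a ∧ ¬ p ∣ e := by
  obtain ⟨a, e, he, h⟩ := Nat.exists_eq_pow_mul_and_not_dvd (Nat.card_pos (α := G)).ne' p
    hp.out.ne_one
  exact ⟨e, a, by rw [h, mul_comm], he⟩

/-- the `p`-part `g ^ e` of an element, where `|G| = e * p ^ a` -/
theorem exists_orderOf_pow_eq (p : ℕ) [hp : Fact p.Prime] (e a : ℕ)
    (hcard : Nat.card G = e * p ^ a) (g : G) : ∃ k, orderOf (g ^ e) = p ^ k := by
  have h1 : (g ^ e) ^ (p ^ a) = 1 := by
    rw [← pow_mul, ← hcard, pow_card_eq_one']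
  obtain ⟨k, _, hk⟩ := (Nat.dvd_prime_pow hp.out).mp (orderOf_dvd_of_pow_eq_one h1)
  exact ⟨k, hk⟩

theorem exists_noncentral_pair (ρ : Representation ℂ G V) (hirr : ρ.IsIrreducible)
    (hinj : Function.Injective ρ) (p r : ℕ) [hp : Fact p.Prime] [hr : Fact r.Prime]
    (hdimp : finrank ℂ V + 2 ≤ p) (hdimr : finrank ℂ V + 2 ≤ r)
    (v w : G) (d d' : ℕ) (hv : orderOf v = p ^ (d + 1)) (hw : orderOf w = r ^ (d' + 1))
    (hcp : ∀ z ∈ Subgroup.center G, (∃ k, orderOf z = p ^ k) → z ^ (p ^ d) = 1)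
    (hcr : ∀ z ∈ Subgroup.center G, (∃ k, orderOf z = r ^ k) → z ^ (r ^ d') = 1) :
    ∃ u y : G, Commute u y ∧ (∃ k, orderOf u = p ^ k) ∧ (∃ k, orderOf y = r ^ k) ∧
      u ∉ Subgroup.center G ∧ y ∉ Subgroup.center G := by
  obtain ⟨e, a, hcard, hep⟩ := exists_card_eq_mul_pow (G := G) p
  obtain ⟨e', b, hcard', her⟩ := exists_card_eq_mul_pow (G := G) r
  have hχ : IsIrrCharacter G ρ.character := Cfsg.Agent.Helper24.isIrrCharacter_character ρ hirr
  obtain ⟨j, _, hcop, g₁, hg₁⟩ := exists_twist_moves ρ hinj p hdimp v d hv e a hcard hep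
  obtain ⟨j', _, hcop', g₂, hg₂⟩ := exists_twist_moves ρ hinj r hdimr w d' hw e' b hcard' her
  obtain ⟨g, hgk, hgl⟩ := exists_moved_by_both hχ _ _ hcop hcop' ⟨g₁, hg₁⟩ ⟨g₂, hg₂⟩
  refine ⟨g ^ e, g ^ e', (Commute.refl g).pow_pow e e', exists_orderOf_pow_eq p e a hcard g,
    exists_orderOf_pow_eq r e' b hcard' g, ?_, ?_⟩
  · intro hc
    apply hgk
    have h1 := hcp (g ^ e) hc (exists_orderOf_pow_eq p e a hcard g)
    have h2 : g ^ (1 + j * (e * p ^ d)) = g := by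
      rw [pow_add, pow_one, mul_comm j, pow_mul, pow_mul, h1, one_pow, mul_one]
    rw [h2]
  · intro hc
    apply hgl
    have h1 := hcr (g ^ e') hc (exists_orderOf_pow_eq r e' b hcard' g)
    have h2 : g ^ (1 + j' * (e' * r ^ d')) = g := by
      rw [pow_add, pow_one, mul_comm j', pow_mul, pow_mul, h1, one_pow, mul_one]
    rw [h2]

end Cfsg.Agent.Helper24.Blich
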