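import Mathlib
import Cfsg.Agent.Helper24.BlichD
import Cfsg.Agent.Helper24.BlichF
import Cfsg.Agent.Helper24.Regular
import Cfsg.Agent.Helper5.Central

/-!
Blichfeldt part G: splitting off a central cyclic `p`-subgroup of maximal exponent
(by means of the determinant).
-/

set_option autoImplicit false

namespace Cfsg.Agent.Helper24.Blich

open Module Cfsg

universe u v

section

variable {G : Type u} [Group G]

theorem card_sup_eq_mul_of_commute (H K : Subgroup G)
    (hcomm : ∀ h ∈ H, ∀ k ∈ K, h * k = k * h) (hdisj : H ⊓ K = ⊥) :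
    Nat.card (H ⊔ K : Subgroup G) = Nat.card H * Nat.card K := by
  have hc : ∀ (h : H) (k : K), Commute (H.subtype h) (K.subtype k) :=
    fun h k => hcomm h h.2 k k.2
  have h1 := MonoidHom.noncommCoprod_range H.subtype K.subtype hc
  rw [Subgroup.range_subtype, Subgroup.range_subtype] at h1
  have hinj : Function.Injective (MonoidHom.noncommCoprod H.subtype K.subtype hc) := by
    rw [MonoidHom.noncommCoprod_injective]
    refine ⟨H.subtype_injective, K.subtype_injective, ?_⟩
    rw [Subgroup.range_subtype, Subgroup.range_subtype, disjoint_iff]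
    exact hdisj
  rw [← h1, ← Nat.card_prod]
  exact (Nat.card_congr (Equiv.ofInjective _ hinj)).symm

end

variable {G : Type u} [Group G] [Finite G]
variable {V : Type v} [AddCommGroup V] [Module ℂ V] [FiniteDimensional ℂ V]

theorem step1 (m : ℕ) (ρ : Representation ℂ G V) (hirr : ρ.IsIrreducible)
    (hinj : Function.Injective ρ) (p : ℕ) [hp : Fact p.Prime] (hmp : m + 1 < p)
    (hdim : finrank ℂ V + 2 ≤ p) (z₀ : G) (hz₀ : z₀ ∈ Subgroup.center G) (c : ℕ)
    (hc : orderOf z₀ = p ^ (c + 1))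
    (hexp : ∀ g : G, (∃ k, orderOf g = p ^ k) → g ^ (p ^ (c + 1)) = 1)
    (hsub : ∀ M : Subgroup G, M ≠ ⊤ → HasAbHall m M) : HasAbHall m G := by
  classical
  haveI := hirr
  set n := finrank ℂ V with hn
  have hnpos : 0 < n := finrank_pos_of_isIrreducible ρ
  haveI : Nontrivial V := Module.nontrivial_of_finrank_pos hnpos
  obtain ⟨e, a, hcard, hep⟩ := exists_card_eq_mul_pow (G := G) p
  -- the determinant, raised to the power `e`
  let lam : G →* ℂ := (LinearMap.det : (V →ₗ[ℂ] V) →* ℂ).comp (ρ : G →* (V →ₗ[ℂ] V))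
  let φ : G →* ℂ := (powMonoidHom e).comp lam
  have hφ : ∀ g : G, φ g = lam (g ^ e) := by
    intro g
    show (lam g) ^ e = lam (g ^ e)
    rw [map_pow]
  -- central elements are scalars
  have hscal : ∀ z ∈ Subgroup.center G, ∃ s : ℂ, ρ z = s • (LinearMap.id : V →ₗ[ℂ] V) := by
    intro z hz
    refine Cfsg.Agent.Helper5.schur_scalar ρ (ρ z) ?_
    intro g
    rw [← Module.End.mul_eq_comp, ← Module.End.mul_eq_comp, ← map_mul, ← map_mul,
      (Subgroup.mem_center_iff.mp hz g)]
  set Z : Subgroup G := Subgroup.zpowers z₀ with hZ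
  have hZc : Z ≤ Subgroup.center G := by
    rw [hZ, Subgroup.zpowers_le]
    exact hz₀
  have hZexp : ∀ z ∈ Z, z ^ (p ^ (c + 1)) = 1 := by
    intro z hz
    obtain ⟨i, rfl⟩ := Subgroup.mem_zpowers_iff.mp hz
    rw [← zpow_natCast, ← zpow_mul, mul_comm, zpow_mul, zpow_natCast, ← hc, pow_orderOf_eq_one,
      one_zpow]
  -- (b) `φ` is injective on `Z`
  have hb : ∀ z ∈ Z, φ z = 1 → z = 1 := by
    intro z hz h1
    obtain ⟨s, hs⟩ := hscal z (hZc hz)
    have h2 : lam z = s ^ n := by
      show LinearMap.det (ρ z) = s ^ n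
      rw [hs, LinearMap.det_smul, LinearMap.det_id, mul_one]
    have h3 : s ^ (n * e) = 1 := by
      have : φ z = (lam z) ^ e := rfl
      rw [this, h2, ← pow_mul] at h1
      exact h1
    have h4 : s ^ (p ^ (c + 1)) = 1 := by
      have h5 : ρ (z ^ (p ^ (c + 1))) = 1 := by rw [hZexp z hz, map_one]
      rw [map_pow, hs, smul_pow] at h5
      have h6 : (LinearMap.id : V →ₗ[ℂ] V) ^ (p ^ (c + 1)) = LinearMap.id := by
        rw [← Module.End.one_eq_id, one_pow]
      rw [h6] at h5
      obtain ⟨v, hv⟩ := exists_ne (0 : V)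
      have h7 := congrArg (fun f : V →ₗ[ℂ] V => f v) h5
      simp only [LinearMap.smul_apply, LinearMap.id_apply, Module.End.one_apply] at h7
      have h8 : (s ^ (p ^ (c + 1)) - 1) • v = 0 := by rw [sub_smul, one_smul, h7, sub_self]
      rcases smul_eq_zero.mp h8 with h | h
      · exact sub_eq_zero.mp h
      · exact absurd h hv
    have hcop : Nat.Coprime (n * e) (p ^ (c + 1)) := by
      refine Nat.Coprime.pow_right _ ?_
      refine Nat.Coprime.mul_left ?_ ?_
      · refine (Nat.Coprime.symm ((Nat.Prime.coprime_iff_not_dvd hp.out).mpr ?_))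
        intro h
        have := Nat.le_of_dvd hnpos h
        omega
      · exact (Nat.Coprime.symm ((Nat.Prime.coprime_iff_not_dvd hp.out).mpr hep))
    have h5 : s = 1 := by
      have := (pow_gcd_eq_one (a := s)).mpr ⟨h3, h4⟩
      rw [hcop, pow_one] at this
      exact this
    rw [h5, one_smul] at hs
    apply hinj
    rw [hs, map_one]
    rfl
  -- `φ z₀` is a primitive root of unity
  have hord : orderOf (φ z₀) = p ^ (c + 1) := by
    rw [← hc]
    have hinjZ : Function.Injective (φ.comp Z.subtype) := by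
      rw [injective_iff_map_eq_one]
      intro z hz
      exact Subtype.ext (hb z z.2 hz)
    have := orderOf_injective (φ.comp Z.subtype) hinjZ ⟨z₀, Subgroup.mem_zpowers z₀⟩
    rw [Subgroup.orderOf_mk] at this
    exact this
  have hprim : IsPrimitiveRoot (φ z₀) (p ^ (c + 1)) := by
    rw [← hord]
    exact IsPrimitiveRoot.orderOf (φ z₀)
  -- (c) every value of `φ` is attained on `Z`
  have hcc : ∀ g : G, ∃ z ∈ Z, φ g = φ z := by
    intro g
    have h1 : (φ g) ^ (p ^ (c + 1)) = 1 := by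
      rw [hφ, ← map_pow, hexp (g ^ e) (exists_orderOf_pow_eq p e a hcard g), map_one]
    obtain ⟨i, _, hi⟩ := hprim.eq_pow_of_pow_eq_one h1
    refine ⟨z₀ ^ i, Subgroup.pow_mem _ (Subgroup.mem_zpowers z₀) i, ?_⟩
    rw [map_pow, hi]
  -- the kernel
  set N : Subgroup G := φ.ker with hN
  have hNZ : N ⊓ Z = ⊥ := by
    rw [eq_bot_iff]
    rintro z ⟨hzN, hzZ⟩
    rw [Subgroup.mem_bot]
    exact hb z hzZ (MonoidHom.mem_ker.mp hzN)
  have hz₀1 : z₀ ≠ 1 := by
    intro h
    rw [h, orderOf_one] at hc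
    have h1 : 1 < p ^ (c + 1) := Nat.one_lt_pow (Nat.succ_ne_zero c) hp.out.one_lt
    rw [← hc] at h1
    exact lt_irrefl _ h1
  have hNtop : N ≠ ⊤ := by
    intro h
    have h1 : z₀ ∈ N := by rw [h]; trivial
    exact hz₀1 (hb z₀ (Subgroup.mem_zpowers z₀) (MonoidHom.mem_ker.mp h1))
  have hNsup : N ⊔ Z = ⊤ := by
    rw [eq_top_iff]
    intro g _
    obtain ⟨z, hz, hgz⟩ := hcc g
    have hz0 : φ z ≠ 0 := by
      intro h0
      have h1 : (φ z) ^ (p ^ (c + 1)) = 1 := by rw [← map_pow, hZexp z hz, map_one]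
      rw [h0, zero_pow (pow_pos hp.out.pos _).ne'] at h1
      exact zero_ne_one h1
    have h1 : g * z⁻¹ ∈ N := by
      rw [hN, MonoidHom.mem_ker, map_mul, hgz]
      have h2 : φ z * φ z⁻¹ = 1 := by rw [← map_mul, mul_inv_cancel, map_one]
      exact h2
    have h2 : g = g * z⁻¹ * z := by group
    rw [h2]
    exact Subgroup.mul_mem _ (Subgroup.mem_sup_left h1) (Subgroup.mem_sup_right hz)
  have hZcomm : ∀ h : G, ∀ k ∈ Z, h * k = k * h := by
    intro h k hk
    exact (Subgroup.mem_center_iff.mp (hZc hk)) h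
  have hGcard : Nat.card G = Nat.card N * Nat.card Z := by
    rw [← card_sup_eq_mul_of_commute N Z (fun h _ k hk => hZcomm h k hk) hNZ, hNsup,
      Subgroup.card_top]
  -- induction
  obtain ⟨A, hAab, hAbig, hAsmall⟩ := hsub N hNtop
  set A₀ : Subgroup G := A.map N.subtype with hA₀
  have hA₀N : A₀ ≤ N := by
    rintro x ⟨a, _, rfl⟩
    exact a.2
  have hA₀card : Nat.card A₀ = Nat.card A := Subgroup.card_map_of_injective N.subtype_injective
  have hA₀ab : ∀ x ∈ A₀, ∀ y ∈ A₀, x * y = y * x := by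
    rintro x ⟨a, ha, rfl⟩ y ⟨b, hb', rfl⟩
    have := hAab a ha b hb'
    simp only [Subgroup.coe_subtype]
    rw [← Subgroup.coe_mul, this, Subgroup.coe_mul]
  have hA₀Z : A₀ ⊓ Z = ⊥ := by
    rw [eq_bot_iff, ← hNZ]
    exact inf_le_inf_right Z hA₀N
  have hZab : ∀ x ∈ Z, ∀ y ∈ Z, x * y = y * x := fun x _ y hy => hZcomm x y hy
  have hZcard : Nat.card Z = p ^ (c + 1) := by rw [hZ, Nat.card_zpowers, hc]
  have hA'card : Nat.card (A₀ ⊔ Z : Subgroup G) = Nat.card A₀ * Nat.card Z :=
    card_sup_eq_mul_of_commute A₀ Z (fun h _ k hk => hZcomm h k hk) hA₀Z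
  refine ⟨A₀ ⊔ Z, comm_sup_of_comm A₀ Z hA₀ab hZab (fun h _ k hk => hZcomm h k hk), ?_, ?_⟩
  · rw [hA'card, hA₀card, hZcard]
    exact Big.mul hAbig (Big.prime_pow hp.out hmp _)
  · have h1 : (A₀ ⊔ Z : Subgroup G).index * Nat.card (A₀ ⊔ Z : Subgroup G) = Nat.card G :=
      Subgroup.index_mul_card _
    have h2 : Nat.card N = Nat.card A * A.index := (Subgroup.card_mul_index A).symm
    rw [hA'card, hGcard, hA₀card, h2] at h1
    have hZpos : 0 < Nat.card Z := Nat.card_pos
    have hApos : 0 < Nat.card A := Nat.card_pos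
    have h3 : (A₀ ⊔ Z : Subgroup G).index = A.index := by
      have h4 : (A₀ ⊔ Z : Subgroup G).index * (Nat.card A * Nat.card Z) =
          A.index * (Nat.card A * Nat.card Z) := by
        rw [h1]; ring
      exact Nat.eq_of_mul_eq_mul_right (Nat.mul_pos hApos hZpos) h4
    rw [h3]
    exact hAsmall

end Cfsg.Agent.Helper24.Blich
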