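import Mathlib
import Cfsg.Agent.Helper24.BlichE
import Cfsg.Agent.Helper24.BlichG
import Cfsg.Agent.Helper24.SmallDegree

/-!
Blichfeldt part H: the irreducible case.
-/

set_option autoImplicit false

namespace Cfsg.Agent.Helper24.Blich

open Module Cfsg

universe u v

variable {G : Type u} [Group G] [Finite G]
variable {V : Type v} [AddCommGroup V] [Module ℂ V] [FiniteDimensional ℂ V]

omit [Finite G] [FiniteDimensional ℂ V] in
theorem injective_restrict (ρ : Representation ℂ G V) (hinj : Function.Injective ρ)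
    (M : Subgroup G) :
    Function.Injective ((MonoidHom.comp ρ M.subtype : Representation ℂ M V)) := by
  intro a b h
  exact Subtype.ext (hinj h)

theorem sylow_comm (m : ℕ) (ρ : Representation ℂ G V) (hinj : Function.Injective ρ)
    (hdim : finrank ℂ V ≤ m) (q : ℕ) [hq : Fact q.Prime] (hmq : m + 1 < q) (R : Sylow q G) :
    ∀ x ∈ R, ∀ y ∈ R, x * y = y * x := by
  intro x hx y hy
  have h := comm_of_faithful_small_degree
    (MonoidHom.comp ρ (R : Subgroup G).subtype : Representation ℂ (R : Subgroup G) V)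
    (injective_restrict ρ hinj R) ?_ ⟨x, hx⟩ ⟨y, hy⟩
  · exact congrArg Subtype.val h
  · intro p hp hpd
    rw [Sylow.card_eq_multiplicity] at hpd
    have := (Nat.prime_dvd_prime_iff_eq hp hq.out).mp (hp.dvd_of_dvd_pow hpd)
    rw [this]
    omega

/-- the irreducible case -/
theorem blich_irr (m : ℕ) (ρ : Representation ℂ G V) (hirr : ρ.IsIrreducible)
    (hinj : Function.Injective ρ) (hdim : finrank ℂ V ≤ m)
    (hsub : ∀ M : Subgroup G, M ≠ ⊤ → HasAbHall m M) : HasAbHall m G := by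
  classical
  by_cases hgood : ∀ p : ℕ, p.Prime → m + 1 < p → p ∣ Nat.card G →
      ∃ (v : G) (d : ℕ), orderOf v = p ^ (d + 1) ∧
        ∀ z ∈ Subgroup.center G, (∃ k, orderOf z = p ^ k) → z ^ (p ^ d) = 1
  · refine step3 m (fun q _ hmq R => sylow_comm m ρ hinj hdim q hmq R) hsub ?_
    intro p r hp hr hmp hmr _ hpG hrG
    haveI : Fact p.Prime := ⟨hp⟩
    haveI : Fact r.Prime := ⟨hr⟩
    obtain ⟨v, d, hv, hcp⟩ := hgood p hp hmp hpG
    obtain ⟨w, d', hw, hcr⟩ := hgood r hr hmr hrG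
    exact exists_noncentral_pair ρ hirr hinj p r (by omega) (by omega) v w d d' hv hw hcp hcr
  · push Not at hgood
    obtain ⟨p, hp, hmp, hpG, hbad⟩ := hgood
    haveI : Fact p.Prime := ⟨hp⟩
    -- a `p`-element of maximal order
    let S : Set G := {g | ∃ k, orderOf g = p ^ k}
    have hSne : S.Nonempty := ⟨1, 0, by simp⟩
    obtain ⟨v, hvS, hvmax⟩ := Set.exists_max_image S (fun g : G => orderOf g) (Set.toFinite S) hSne
    obtain ⟨k, hk⟩ := hvS
    -- `k ≥ 1` by Cauchy
    obtain ⟨g₀, hg₀⟩ := exists_prime_orderOf_dvd_card' p hpG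
    have hk1 : 1 ≤ k := by
      have h1 := hvmax g₀ ⟨1, by rw [hg₀, pow_one]⟩
      rw [hg₀, hk] at h1
      by_contra h0
      have : k = 0 := by omega
      rw [this, pow_zero] at h1
      have := hp.one_lt
      omega
    obtain ⟨d, rfl⟩ : ∃ d, k = d + 1 := ⟨k - 1, by omega⟩
    obtain ⟨z₀, hz₀c, ⟨j, hj⟩, hz₀d⟩ := hbad v d hk
    -- the order of `z₀` is exactly `p ^ (d + 1)`
    have hjle : j ≤ d + 1 := by
      have h1 := hvmax z₀ ⟨j, hj⟩
      rw [hj, hk] at h1
      exact (Nat.pow_le_pow_iff_right hp.one_lt).mp h1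
    have hjge : d + 1 ≤ j := by
      by_contra hlt
      push Not at hlt
      apply hz₀d
      have h1 : j ≤ d := by omega
      obtain ⟨t, ht⟩ := Nat.exists_eq_add_of_le h1
      rw [ht, pow_add, pow_mul, ← hj, pow_orderOf_eq_one, one_pow]
    have hjeq : j = d + 1 := le_antisymm hjle hjge
    rw [hjeq] at hj
    refine step1 m ρ hirr hinj p hmp (by omega) z₀ hz₀c d hj ?_ hsub
    rintro g ⟨i, hi⟩
    have h1 := hvmax g ⟨i, hi⟩
    rw [hi, hk] at h1
    have h2 : i ≤ d + 1 := (Nat.pow_le_pow_iff_right hp.one_lt).mp h1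
    obtain ⟨t, ht⟩ := Nat.exists_eq_add_of_le h2
    rw [ht, pow_add, pow_mul, ← hi, pow_orderOf_eq_one, one_pow]

end Cfsg.Agent.Helper24.Blich
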