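import Mathlib
import Cfsg.Agent.Helper24.BlichH
import Cfsg.Agent.Helper24.Decomp

/-!
Blichfeldt part I: the reducible case and the main induction.
-/

set_option autoImplicit false

namespace Cfsg.Agent.Helper24.Blich

open Module Cfsg Representation

universe u v

section Quot

variable {G : Type u} [Group G] [Finite G]
variable {W : Type v} [AddCommGroup W] [Module ℂ W] [FiniteDimensional ℂ W]

/-- Passing to the quotient by the kernel of a constituent. -/
theorem quot_step (m : ℕ) (σ : Representation ℂ G W)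
    (hK : (σ : G →* (W →ₗ[ℂ] W)).ker ≠ ⊥)
    (ih : ∀ (Q : Type u) [Group Q] [Finite Q] (τ : Representation ℂ Q W),
      Function.Injective τ → Nat.card Q < Nat.card G → HasAbHall m Q)
    (hsub : ∀ M : Subgroup G, M ≠ ⊤ → HasAbHall m M) :
    HasAbHall m G ∨ ((∀ x y : G, (x * y)⁻¹ * (y * x) ∈ (σ : G →* (W →ₗ[ℂ] W)).ker) ∧
      Big m ((σ : G →* (W →ₗ[ℂ] W)).ker.index)) := by
  classical
  set K : Subgroup G := (σ : G →* (W →ₗ[ℂ] W)).ker with hKdef
  let τ : Representation ℂ (G ⧸ K) W := QuotientGroup.lift K (σ : G →* (W →ₗ[ℂ] W)) le_rfl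
  have hτ : Function.Injective τ := by
    intro a b hab
    induction a using QuotientGroup.induction_on with
    | H g =>
    induction b using QuotientGroup.induction_on with
    | H h =>
    have h1 : σ g = σ h := hab
    rw [QuotientGroup.eq, hKdef, MonoidHom.mem_ker, map_mul, ← h1, ← map_mul, inv_mul_cancel,
      map_one]
  have hcard : Nat.card (G ⧸ K) < Nat.card G := by
    rw [← Subgroup.index_eq_card]
    have h1 : K.index * Nat.card K = Nat.card G := Subgroup.index_mul_card K
    have h2 : 1 < Nat.card K := K.one_lt_card_iff_ne_bot.mpr hK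
    have h3 : 0 < K.index := Nat.pos_of_ne_zero Subgroup.index_ne_zero_of_finite
    nlinarith
  obtain ⟨A, hAab, hAbig, hAsmall⟩ := ih (G ⧸ K) τ hτ hcard
  set H : Subgroup G := A.comap (QuotientGroup.mk' K) with hH
  have hHidx : H.index = A.index :=
    Subgroup.index_comap_of_surjective A (QuotientGroup.mk'_surjective K)
  by_cases hHtop : H = ⊤
  · right
    have hAtop : ∀ q : G ⧸ K, q ∈ A := by
      intro q
      induction q using QuotientGroup.induction_on with
      | H g =>
      have : g ∈ H := by rw [hHtop]; trivial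
      exact this
    constructor
    · intro x y
      have h1 := hAab (x : G ⧸ K) (hAtop _) (y : G ⧸ K) (hAtop _)
      rw [← QuotientGroup.eq]
      exact h1
    · have h1 : A = ⊤ := by
        rw [eq_top_iff]
        intro q _
        exact hAtop q
      rw [h1, Subgroup.card_top, ← Subgroup.index_eq_card] at hAbig
      exact hAbig
  · left
    refine HasAbHall.of_subgroup H ?_ (hsub H hHtop)
    rw [hHidx]
    exact hAsmall

end Quot

theorem blich_main (m : ℕ) : ∀ (N : ℕ) (G : Type u) [Group G] [Finite G] (V : Type v)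
    [AddCommGroup V] [Module ℂ V] [FiniteDimensional ℂ V] (ρ : Representation ℂ G V),
    Function.Injective ρ → finrank ℂ V ≤ m → Nat.card G + finrank ℂ V = N → HasAbHall m G := by
  intro N
  induction N using Nat.strong_induction_on with
  | _ N ih =>
  intro G _ _ V _ _ _ ρ hinj hdim hN
  classical
  have hsub : ∀ M : Subgroup G, M ≠ ⊤ → HasAbHall m M := by
    intro M hM
    have hlt : Nat.card M < Nat.card G :=
      lt_of_le_of_ne (Subgroup.card_le_card_group M)
        (fun h => hM ((Subgroup.card_eq_iff_eq_top M).mp h))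
    exact ih (Nat.card M + finrank ℂ V) (by omega) M V (MonoidHom.comp ρ M.subtype)
      (injective_restrict ρ hinj M) hdim rfl
  by_cases hirr : ρ.IsIrreducible
  · exact blich_irr m ρ hirr hinj hdim hsub
  by_cases hV : finrank ℂ V = 0
  · -- the trivial group
    have hVs : Subsingleton V := Module.finrank_zero_iff.mp hV
    have hG : ∀ g : G, g = 1 := by
      intro g
      apply hinj
      ext v
      exact Subsingleton.elim _ _
    refine ⟨⊤, ?_, ?_, ?_⟩
    · intro x _ y _
      rw [hG x, hG y]
    · have : Nat.card (⊤ : Subgroup G) = 1 := by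
        rw [Subgroup.card_top]
        haveI : Subsingleton G := ⟨fun a b => by rw [hG a, hG b]⟩
        exact Nat.card_of_subsingleton 1
      rw [this]
      exact Big.one m
    · rw [Subgroup.index_top]
      exact Small.one m
  have hVpos : 0 < finrank ℂ V := Nat.pos_of_ne_zero hV
  haveI : Nontrivial V := Module.nontrivial_of_finrank_pos hVpos
  -- a proper nonzero subrepresentation
  obtain ⟨W, hWbot, hWtop⟩ : ∃ W : Subrepresentation ρ, W ≠ ⊥ ∧ W ≠ ⊤ := by
    by_contra hcon
    push Not at hcon
    apply hirr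
    refine { exists_pair_ne := ⟨⊥, ⊤, ?_⟩, eq_bot_or_eq_top := ?_ }
    · intro h
      have h' := congrArg Subrepresentation.toSubmodule h
      change (⊥ : Submodule ℂ V) = ⊤ at h'
      exact bot_ne_top h'
    · intro W
      by_cases h : W = ⊥
      · left; exact h
      · right; exact hcon W h
  haveI : NeZero (Nat.card G : ℂ) := ⟨by
    have : 0 < Nat.card G := Nat.card_pos
    exact_mod_cast this.ne'⟩
  obtain ⟨W', hc⟩ := exists_isCompl W
  have hc' : IsCompl W.toSubmodule W'.toSubmodule := by
    constructor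
    · rw [disjoint_iff]
      have := congrArg Subrepresentation.toSubmodule hc.inf_eq_bot
      exact this
    · rw [codisjoint_iff]
      have := congrArg Subrepresentation.toSubmodule hc.sup_eq_top
      exact this
  have hdimsum : finrank ℂ W.toSubmodule + finrank ℂ W'.toSubmodule = finrank ℂ V :=
    Submodule.finrank_add_eq_of_isCompl hc'
  have hWsub : W.toSubmodule ≠ ⊥ := by
    intro h
    exact hWbot (Subrepresentation.toSubmodule_injective h)
  have hW'sub : W'.toSubmodule ≠ ⊥ := by
    intro h
    apply hWtop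
    apply Subrepresentation.toSubmodule_injective
    have h1 := hc'.sup_eq_top
    rw [h, sup_bot_eq] at h1
    exact h1
  have hWpos : 0 < finrank ℂ W.toSubmodule := by
    haveI : Nontrivial W.toSubmodule := Submodule.nontrivial_iff_ne_bot.mpr hWsub
    exact Module.finrank_pos
  have hW'pos : 0 < finrank ℂ W'.toSubmodule := by
    haveI : Nontrivial W'.toSubmodule := Submodule.nontrivial_iff_ne_bot.mpr hW'sub
    exact Module.finrank_pos
  set ρ₁ : Representation ℂ G W.toSubmodule := W.toRepresentation with hρ₁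
  set ρ₂ : Representation ℂ G W'.toSubmodule := W'.toRepresentation with hρ₂
  set K₁ : Subgroup G := (ρ₁ : G →* _).ker with hK₁
  set K₂ : Subgroup G := (ρ₂ : G →* _).ker with hK₂
  have hK12 : K₁ ⊓ K₂ = ⊥ := by
    rw [eq_bot_iff]
    rintro g ⟨hg1, hg2⟩
    rw [Subgroup.mem_bot]
    apply hinj
    rw [map_one]
    ext v
    have hv : v ∈ W.toSubmodule ⊔ W'.toSubmodule := by
      rw [hc'.sup_eq_top]; trivial
    obtain ⟨w, hw, w', hw', rfl⟩ := Submodule.mem_sup.mp hv
    have h1 : ρ₁ g ⟨w, hw⟩ = ⟨w, hw⟩ := by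
      have := MonoidHom.mem_ker.mp hg1
      rw [this]; rfl
    have h2 : ρ₂ g ⟨w', hw'⟩ = ⟨w', hw'⟩ := by
      have := MonoidHom.mem_ker.mp hg2
      rw [this]; rfl
    have h1' : ρ g w = w := congrArg Subtype.val h1
    have h2' : ρ g w' = w' := congrArg Subtype.val h2
    rw [map_add, h1', h2']
    rfl
  by_cases hK₁bot : K₁ = ⊥
  · have hinj₁ : Function.Injective ρ₁ := (MonoidHom.ker_eq_bot_iff _).mp hK₁bot
    exact ih (Nat.card G + finrank ℂ W.toSubmodule) (by omega) G W.toSubmodule ρ₁ hinj₁
      (by omega) rfl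
  by_cases hK₂bot : K₂ = ⊥
  · have hinj₂ : Function.Injective ρ₂ := (MonoidHom.ker_eq_bot_iff _).mp hK₂bot
    exact ih (Nat.card G + finrank ℂ W'.toSubmodule) (by omega) G W'.toSubmodule ρ₂ hinj₂
      (by omega) rfl
  have ih₁ : ∀ (Q : Type u) [Group Q] [Finite Q] (τ : Representation ℂ Q W.toSubmodule),
      Function.Injective τ → Nat.card Q < Nat.card G → HasAbHall m Q := by
    intro Q _ _ τ hτ hQ
    exact ih (Nat.card Q + finrank ℂ W.toSubmodule) (by omega) Q W.toSubmodule τ hτ
      (by omega) rfl
  have ih₂ : ∀ (Q : Type u) [Group Q] [Finite Q] (τ : Representation ℂ Q W'.toSubmodule),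
      Function.Injective τ → Nat.card Q < Nat.card G → HasAbHall m Q := by
    intro Q _ _ τ hτ hQ
    exact ih (Nat.card Q + finrank ℂ W'.toSubmodule) (by omega) Q W'.toSubmodule τ hτ
      (by omega) rfl
  rcases quot_step m ρ₁ hK₁bot ih₁ hsub with h | ⟨hab₁, hbig₁⟩
  · exact h
  rcases quot_step m ρ₂ hK₂bot ih₂ hsub with h | ⟨hab₂, hbig₂⟩
  · exact h
  -- `G` is an abelian `π`-group
  have hab : ∀ x y : G, x * y = y * x := by
    intro x y
    have h1 : (x * y)⁻¹ * (y * x) ∈ K₁ ⊓ K₂ := ⟨hab₁ x y, hab₂ x y⟩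
    rw [hK12, Subgroup.mem_bot] at h1
    exact (inv_mul_eq_one.mp h1)
  have hK₁card : Nat.card K₁ ∣ K₂.index := by
    rw [Subgroup.index_eq_card]
    have hinjK : Function.Injective ((QuotientGroup.mk' K₂).comp K₁.subtype) := by
      rw [injective_iff_map_eq_one]
      intro a ha
      have h1 : (a : G) ∈ K₂ := by
        have := (QuotientGroup.eq_one_iff (a : G)).mp ha
        exact this
      have h2 : (a : G) ∈ K₁ ⊓ K₂ := ⟨a.2, h1⟩
      rw [hK12, Subgroup.mem_bot] at h2
      exact Subtype.ext h2
    exact Subgroup.card_dvd_of_injective _ hinjK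
  have hGbig : Big m (Nat.card G) := by
    rw [← Subgroup.index_mul_card K₁]
    exact Big.mul hbig₁ (hbig₂.of_dvd hK₁card)
  refine ⟨⊤, fun x _ y _ => hab x y, ?_, ?_⟩
  · rw [Subgroup.card_top]
    exact hGbig
  · rw [Subgroup.index_top]
    exact Small.one m

end Cfsg.Agent.Helper24.Blich
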