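import Mathlib
import Cfsg.Prelude.Def_Characters
import Cfsg.Prelude.Def_Blocks
import Cfsg.Agent.Helper24.BlichI

/-!
Blichfeldt part J: character-level statement.
-/

set_option autoImplicit false

namespace Cfsg.Agent.Helper24.Blich

open Module Cfsg

universe u

/-- From a faithful character to a faithful representation of the same degree. -/
theorem exists_faithful_rep {G : Type u} [Group G] [Finite G] (χ : G → ℂ)
    (hχ : Cfsg.IsCharacter G χ) (hfaith : ∀ g : G, χ g = χ 1 → g = 1) (n : ℕ)
    (hn : Cfsg.charDegree χ = n) :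
    ∃ ρ : Representation ℂ G (Fin n → ℂ), Function.Injective ρ ∧ ρ.character = χ := by
  obtain ⟨n', ρ, rfl⟩ := hχ
  have h1 : ρ.character 1 = (n' : ℂ) := by
    rw [Representation.char_one]; simp
  have h2 : Cfsg.charDegree ρ.character = n' := by
    unfold Cfsg.charDegree
    rw [h1]
    simp
  have h3 : n' = n := by rw [← h2, hn]
  subst h3
  refine ⟨ρ, ?_, rfl⟩
  intro g h hgh
  have h4 : ρ (h⁻¹ * g) = 1 := by
    rw [map_mul, hgh, ← map_mul, inv_mul_cancel, map_one]
  have h5 : ρ.character (h⁻¹ * g) = ρ.character 1 := by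
    unfold Representation.character
    rw [h4, map_one (f := ρ)]
  have h6 := hfaith _ h5
  exact (inv_mul_eq_one.mp h6).symm

theorem blichfeldt {G : Type u} [Group G] [Finite G] (χ : G → ℂ) (hχ : Cfsg.IsCharacter G χ)
    (hfaith : ∀ g : G, χ g = χ 1 → g = 1) (n : ℕ) (hn : Cfsg.charDegree χ = n) :
    HasAbHall n G := by
  obtain ⟨ρ, hinj, _⟩ := exists_faithful_rep χ hχ hfaith n hn
  refine blich_main n _ G (Fin n → ℂ) ρ hinj ?_ rfl
  simp

end Cfsg.Agent.Helper24.Blich
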