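import Mathlib
import Cfsg.Prelude.Def_Characters
import Cfsg.Agent.Helper24.Monomial
import Cfsg.Agent.Helper24.Taketa
import Cfsg.Agent.Helper24.SmallDegree
import Cfsg.Agent.Helper5.IndFun

/-!
Blichfeldt/Jordan part K: a nilpotent linear group of degree `n` has an abelian normal subgroup
of index dividing `n!`.
-/

set_option autoImplicit false

namespace Cfsg.Agent.Helper24.Blich

open Module Cfsg
open scoped commutatorElement

universe u v

section

variable {P : Type u} [Group P]

theorem index_normalCore_dvd_factorial [Finite P] (H : Subgroup P) :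
    H.normalCore.index ∣ (H.index).factorial := by
  classical
  haveI : Fintype (P ⧸ H) := Fintype.ofFinite _
  rw [Subgroup.normalCore_eq_ker, Subgroup.index_ker]
  have h1 : Nat.card (MulAction.toPermHom P (P ⧸ H)).range ∣ Nat.card (Equiv.Perm (P ⧸ H)) :=
    Subgroup.card_subgroup_dvd_card _
  have h2 : Nat.card (Equiv.Perm (P ⧸ H)) = (H.index).factorial := by
    rw [Nat.card_eq_fintype_card, Fintype.card_perm, ← Nat.card_eq_fintype_card,
      ← Subgroup.index_eq_card]
  rw [h2] at h1
  exact h1

theorem index_inf_dvd_mul (H K : Subgroup P) [K.Normal] :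
    (H ⊓ K).index ∣ H.index * K.index := by
  have h1 : (H ⊓ K).relIndex H * H.index = (H ⊓ K).index :=
    Subgroup.relIndex_mul_index inf_le_left
  rw [Subgroup.inf_relIndex_left] at h1
  rw [← h1, mul_comm]
  exact Nat.mul_dvd_mul_left _ (Subgroup.relIndex_dvd_index_of_normal K H)

end

section

variable {P : Type u} [Group P] [Finite P] [Group.IsNilpotent P]

/-- For an irreducible character of a nilpotent group, a normal subgroup of index dividing
`ψ(1)!` on whose commutators `ψ` is trivial. -/
theorem exists_core_of_irr (ψ : IrrCharacter P) :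
    ∃ B : Subgroup P, B.Normal ∧ B.index ∣ (irrDeg ψ).factorial ∧
      ∀ a ∈ B, ∀ b ∈ B, (ψ : P → ℂ) (a * b * a⁻¹ * b⁻¹) = (ψ : P → ℂ) 1 := by
  classical
  haveI : Fintype P := Fintype.ofFinite P
  obtain ⟨H, lam, hψ⟩ := isMonomial_of_nilpotent_aux _ P rfl (ψ : P → ℂ) ψ.2
  have hdeg : irrDeg ψ = H.index := by
    have h1 := irrDeg_spec ψ
    rw [hψ, Cfsg.Agent.Helper5.indFun_apply_one, map_one, Units.val_one, mul_one] at h1
    exact_mod_cast h1.symm
  refine ⟨H.normalCore, inferInstance, ?_, ?_⟩
  · rw [hdeg]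
    exact index_normalCore_dvd_factorial H
  · intro a ha b hb
    have hg : a * b * a⁻¹ * b⁻¹ ∈ ⁅H.normalCore, H.normalCore⁆ := by
      rw [← commutatorElement_def]
      exact Subgroup.commutator_mem_commutator ha hb
    rw [hψ]
    refine indFun_eq_of_conj_mem_ker H lam _ ?_
    intro x
    have hx : x⁻¹ * (a * b * a⁻¹ * b⁻¹) * x ∈ ⁅H.normalCore, H.normalCore⁆ := by
      have := (inferInstance : (⁅H.normalCore, H.normalCore⁆).Normal).conj_mem _ hg x⁻¹
      rwa [inv_inv] at this
    exact lam_eq_one_of_mem_commutator H H.normalCore H.normalCore_le lam _ hx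

theorem exists_core_of_multiset (m : Multiset (IrrCharacter P)) :
    ∃ B : Subgroup P, B.Normal ∧ B.index ∣ ((m.map (fun ψ => irrDeg ψ)).sum).factorial ∧
      ∀ ψ ∈ m, ∀ a ∈ B, ∀ b ∈ B, (ψ : P → ℂ) (a * b * a⁻¹ * b⁻¹) = (ψ : P → ℂ) 1 := by
  induction m using Multiset.induction_on with
  | empty =>
    refine ⟨⊤, inferInstance, ?_, ?_⟩
    · simp
    · intro ψ hψ
      simp at hψ
  | cons ψ s ih =>
    obtain ⟨B', hB'n, hB'i, hB'c⟩ := ih
    obtain ⟨B₀, hB₀n, hB₀i, hB₀c⟩ := exists_core_of_irr ψ
    haveI := hB'n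
    haveI := hB₀n
    refine ⟨B₀ ⊓ B', inferInstance, ?_, ?_⟩
    · rw [Multiset.map_cons, Multiset.sum_cons]
      refine (index_inf_dvd_mul B₀ B').trans ?_
      exact (Nat.mul_dvd_mul hB₀i hB'i).trans (Nat.factorial_mul_factorial_dvd_factorial_add _ _)
    · intro φ hφ a ha b hb
      rcases Multiset.mem_cons.mp hφ with h | h
      · rw [h]
        exact hB₀c a ha.1 b hb.1
      · exact hB'c φ h a ha.2 b hb.2

variable {V : Type v} [AddCommGroup V] [Module ℂ V] [FiniteDimensional ℂ V]

/-- A nilpotent group with a faithful representation of degree `n` has an abelian normal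
subgroup of index dividing `n!`. -/
theorem exists_abelian_index_dvd_factorial (ρ : Representation ℂ P V)
    (hinj : Function.Injective ρ) :
    ∃ B : Subgroup P, B.Normal ∧ (∀ a ∈ B, ∀ b ∈ B, a * b = b * a) ∧
      B.index ∣ (finrank ℂ V).factorial := by
  obtain ⟨m, hm⟩ := exists_multiset_irr ρ
  have hsum := multiset_map_irr_sum_apply m
  have hone : finrank ℂ V = (m.map (fun χ : IrrCharacter P => irrDeg χ)).sum := by
    have h : (finrank ℂ V : ℂ) = ((m.map (fun χ : IrrCharacter P => irrDeg χ)).sum : ℕ) := by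
      rw [← Representation.char_one ρ, hm, hsum]
      push_cast
      rw [Multiset.map_map]
      congr 1
      refine Multiset.map_congr rfl ?_
      intro ψ _
      simp [irrDeg_spec]
    exact_mod_cast h
  obtain ⟨B, hBn, hBi, hBc⟩ := exists_core_of_multiset m
  refine ⟨B, hBn, ?_, ?_⟩
  · intro a ha b hb
    have h1 : ρ.character (a * b * a⁻¹ * b⁻¹) = ρ.character 1 := by
      rw [hm, hsum, hsum]
      congr 1
      refine Multiset.map_congr rfl ?_
      intro ψ hψ
      exact hBc ψ hψ a ha b hb
    have h2 : ρ (a * b * a⁻¹ * b⁻¹) = LinearMap.id := by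
      rw [← char_eq_finrank_iff, h1, Representation.char_one]
    have h3 : ρ (a * b * a⁻¹ * b⁻¹) = ρ 1 := by rw [h2, map_one]; rfl
    have h4 := hinj h3
    calc a * b = (a * b * a⁻¹ * b⁻¹) * (b * a) := by group
      _ = b * a := by rw [h4, one_mul]
  · rw [hone]
    exact hBi

end

end Cfsg.Agent.Helper24.Blich
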