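import Cfsg.Agent.Helper24.JordanD
import Cfsg.Prelude.Def_Characters
import Cfsg.Prelude.Def_Blocks

/-!
# Jordan's theorem toolkit, part E: invariant inner product and the character form
-/

namespace Cfsg.Agent.Helper24.Jordan

open scoped ComplexConjugate

variable {G : Type*} [Group G] [Fintype G] {n : ℕ}

/-- the standard hermitian form on `Fin n → ℂ`. -/
def sf (u v : Fin n → ℂ) : ℂ := ∑ i, conj (u i) * v i

theorem sf_conj (u v : Fin n → ℂ) : conj (sf v u) = sf u v := by
  unfold sf
  rw [map_sum]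
  apply Finset.sum_congr rfl
  intro i _
  rw [map_mul, Complex.conj_conj, mul_comm]

theorem sf_add_left (u v w : Fin n → ℂ) : sf (u + v) w = sf u w + sf v w := by
  unfold sf
  rw [← Finset.sum_add_distrib]
  apply Finset.sum_congr rfl
  intro i _
  rw [Pi.add_apply, map_add, add_mul]

theorem sf_smul_left (u v : Fin n → ℂ) (r : ℂ) : sf (r • u) v = conj r * sf u v := by
  unfold sf
  rw [Finset.mul_sum]
  apply Finset.sum_congr rfl
  intro i _
  rw [Pi.smul_apply, smul_eq_mul, map_mul, mul_assoc]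

theorem sf_self_re (u : Fin n → ℂ) : (sf u u).re = ∑ i, Complex.normSq (u i) := by
  unfold sf
  rw [Complex.re_sum]
  apply Finset.sum_congr rfl
  intro i _
  rw [← Complex.normSq_eq_conj_mul_self, Complex.ofReal_re]

theorem sf_self_im (u : Fin n → ℂ) : (sf u u).im = 0 := by
  unfold sf
  rw [Complex.im_sum]
  apply Finset.sum_eq_zero
  intro i _
  rw [← Complex.normSq_eq_conj_mul_self, Complex.ofReal_im]

theorem sf_self_nonneg (u : Fin n → ℂ) : 0 ≤ (sf u u).re := by
  rw [sf_self_re]
  exact Finset.sum_nonneg (fun i _ => Complex.normSq_nonneg _)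

theorem sf_self_eq_zero {u : Fin n → ℂ} (h : (sf u u).re = 0) : u = 0 := by
  rw [sf_self_re] at h
  have h1 := (Finset.sum_eq_zero_iff_of_nonneg (fun i _ => Complex.normSq_nonneg (u i))).mp h
  funext i
  exact Complex.normSq_eq_zero.mp (h1 i (Finset.mem_univ i))

/-- a copy of `Fin n → ℂ` without any norm, to carry the invariant inner product. -/
def IV (n : ℕ) : Type := Fin n → ℂ

instance : AddCommGroup (IV n) := inferInstanceAs (AddCommGroup (Fin n → ℂ))
instance : Module ℂ (IV n) := inferInstanceAs (Module ℂ (Fin n → ℂ))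
instance : Module.Finite ℂ (IV n) := inferInstanceAs (Module.Finite ℂ (Fin n → ℂ))

theorem finrank_IV : Module.finrank ℂ (IV n) = n := by
  show Module.finrank ℂ (Fin n → ℂ) = n
  exact Module.finrank_fin_fun ℂ

variable (ρ : G →* (IV n →ₗ[ℂ] IV n))

/-- the averaged (invariant) hermitian form. -/
def gf (u v : IV n) : ℂ := ∑ g : G, sf (ρ g u) (ρ g v)

theorem gf_map (g : G) (u v : IV n) : gf ρ (ρ g u) (ρ g v) = gf ρ u v := by
  unfold gf
  rw [← Fintype.sum_equiv (Equiv.mulRight g) (fun h => sf (ρ h (ρ g u)) (ρ h (ρ g v)))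
    (fun h' => sf (ρ h' u) (ρ h' v))]
  intro h
  rw [Equiv.coe_mulRight, map_mul, Module.End.mul_apply, Module.End.mul_apply]

/-- the invariant inner product as a `Core`. -/
noncomputable def core : InnerProductSpace.Core ℂ (IV n) where
  inner u v := gf ρ u v
  conj_inner_symm u v := by
    show conj (gf ρ v u) = gf ρ u v
    unfold gf
    rw [map_sum]
    exact Finset.sum_congr rfl (fun g _ => sf_conj _ _)
  re_inner_nonneg u := by
    show 0 ≤ RCLike.re (gf ρ u u)
    unfold gf
    rw [map_sum]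
    exact Finset.sum_nonneg (fun g _ => sf_self_nonneg _)
  add_left u v w := by
    show gf ρ (u + v) w = gf ρ u w + gf ρ v w
    unfold gf
    rw [← Finset.sum_add_distrib]
    apply Finset.sum_congr rfl
    intro g _
    rw [map_add]
    exact sf_add_left _ _ _
  smul_left u v r := by
    show gf ρ (r • u) v = conj r * gf ρ u v
    unfold gf
    rw [Finset.mul_sum]
    apply Finset.sum_congr rfl
    intro g _
    rw [map_smul]
    exact sf_smul_left _ _ _
  definite u h := by
    have h0 : gf ρ u u = 0 := h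
    have h1 : (gf ρ u u).re = 0 := by rw [h0]; rfl
    unfold gf at h1
    rw [Complex.re_sum] at h1
    have h2 := (Finset.sum_eq_zero_iff_of_nonneg (fun g _ => sf_self_nonneg (ρ g u))).mp h1
    have h3 := sf_self_eq_zero (h2 1 (Finset.mem_univ 1))
    rwa [map_one, Module.End.one_apply] at h3

end Cfsg.Agent.Helper24.Jordan

namespace Cfsg.Agent.Helper24.Jordan

open scoped ComplexConjugate

/-- **Jordan's theorem, abelian-subgroup form**, for a faithful representation on `Fin n → ℂ`. -/
theorem jordan_rep {G : Type*} [Group G] [Finite G] {n : ℕ} (ρ : Representation ℂ G (Fin n → ℂ))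
    (hinj : Function.Injective ρ) :
    ∃ A : Subgroup G, A.Normal ∧ (∀ x ∈ A, ∀ y ∈ A, x * y = y * x) ∧
      ∀ H : Subgroup G, (∀ x ∈ H, ∀ y ∈ H, x * y = y * x) →
        (A.subgroupOf H).index ≤ 12 ^ n := by
  classical
  letI : Fintype G := Fintype.ofFinite G
  let ρ' : G →* (IV n →ₗ[ℂ] IV n) := ρ
  have hinj' : Function.Injective ρ' := hinj
  letI c : InnerProductSpace.Core ℂ (IV n) := core ρ'
  letI i1 : NormedAddCommGroup (IV n) := c.toNormedAddCommGroup
  letI i2 : InnerProductSpace ℂ (IV n) := InnerProductSpace.ofCore c.toCore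
  have hu : ∀ (g : G) (v : IV n), ‖ρ' g v‖ = ‖v‖ := by
    intro g v
    have h1 : ‖ρ' g v‖ ^ 2 = ‖v‖ ^ 2 := by
      rw [@norm_sq_eq_re_inner ℂ (IV n) _ _ _ (ρ' g v), @norm_sq_eq_re_inner ℂ (IV n) _ _ _ v]
      congr 1
      exact gf_map ρ' g v v
    exact (sq_eq_sq₀ (norm_nonneg _) (norm_nonneg _)).mp h1
  have := jordan_unitary (V := IV n) ρ' hu hinj'
  rwa [finrank_IV] at this

end Cfsg.Agent.Helper24.Jordan
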