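import Mathlib
import Cfsg.Agent.Helper24.BlichJ
import Cfsg.Agent.Helper24.BlichK
import Cfsg.Agent.Helper24.JordanE

/-!
Jordan's theorem with the explicit bound `n! * 12 ^ (n * (π(n+1) + 1))`.
-/

set_option autoImplicit false

namespace Cfsg.Agent.Helper24.Blich

open Module Cfsg

universe u

variable {G : Type u} [Group G] [Finite G]

/-- the `q`-part of the index of the Jordan subgroup -/
theorem pow_factorization_index_le {n : ℕ} (ρ : Representation ℂ G (Fin n → ℂ))
    (hinj : Function.Injective ρ) (A : Subgroup G) [hAn : A.Normal]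
    (hA : ∀ H : Subgroup G, (∀ x ∈ H, ∀ y ∈ H, x * y = y * x) → (A.subgroupOf H).index ≤ 12 ^ n)
    (q : ℕ) [hq : Fact q.Prime] :
    q ^ (A.index).factorization q ≤ q ^ (n.factorial).factorization q * 12 ^ n := by
  classical
  obtain ⟨S⟩ : Nonempty (Sylow q G) := inferInstance
  haveI : Group.IsNilpotent (S : Subgroup G) := S.isPGroup'.isNilpotent
  obtain ⟨B', hB'n, hB'ab, hB'i⟩ := exists_abelian_index_dvd_factorial
    (MonoidHom.comp ρ (S : Subgroup G).subtype : Representation ℂ (S : Subgroup G) (Fin n → ℂ))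
    (injective_restrict ρ hinj S)
  rw [Module.finrank_fin_fun] at hB'i
  set B : Subgroup G := B'.map (S : Subgroup G).subtype with hB
  have hBS : B ≤ S := Subgroup.map_subtype_le B'
  have hBab : ∀ x ∈ B, ∀ y ∈ B, x * y = y * x := by
    rintro x ⟨a, ha, rfl⟩ y ⟨b, hb, rfl⟩
    have := hB'ab a ha b hb
    simp only [Subgroup.coe_subtype]
    rw [← Subgroup.coe_mul, this, Subgroup.coe_mul]
  have hBrel : B.relIndex S = B'.index := by
    unfold Subgroup.relIndex Subgroup.subgroupOf
    rw [hB, Subgroup.comap_map_eq_self_of_injective (Subgroup.subtype_injective _)]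
  -- `q ^ v_q(index)` divides `A.relIndex S`
  have h1 : A.relIndex (A ⊔ S) * (A ⊔ (S : Subgroup G)).index = A.index :=
    Subgroup.relIndex_mul_index le_sup_left
  rw [Subgroup.relIndex_sup_left] at h1
  have hidx0 : A.index ≠ 0 := Subgroup.index_ne_zero_of_finite
  have h2 : q ^ (A.index).factorization q ∣ A.relIndex S * (A ⊔ (S : Subgroup G)).index := by
    rw [h1]
    exact Nat.ordProj_dvd _ _
  have h3 : Nat.Coprime (q ^ (A.index).factorization q) (A ⊔ (S : Subgroup G)).index := by
    refine Nat.Coprime.pow_left _ ?_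
    rw [Nat.Prime.coprime_iff_not_dvd hq.out]
    intro h
    exact S.not_dvd_index (h.trans (Subgroup.index_dvd_of_le le_sup_right))
  have h4 : q ^ (A.index).factorization q ∣ A.relIndex S := h3.dvd_of_dvd_mul_right h2
  have hrel0 : A.relIndex S ≠ 0 := by
    intro h
    rw [h, zero_mul] at h1
    exact hidx0 h1.symm
  have h5 : q ^ (A.index).factorization q ≤ A.relIndex S :=
    Nat.le_of_dvd (Nat.pos_of_ne_zero hrel0) h4
  -- `A.relIndex S ≤ A.relIndex B * B.relIndex S`
  have h6 : A.relIndex (B ⊓ S) * B.relIndex S = (A ⊓ B).relIndex S :=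
    Subgroup.relIndex_inf_mul_relIndex A B S
  rw [inf_eq_left.mpr hBS] at h6
  have hAB0 : (A ⊓ B).relIndex (S : Subgroup G) ≠ 0 := by
    intro h
    have := Subgroup.relIndex_dvd_card (A ⊓ B) (S : Subgroup G)
    rw [h] at this
    have hpos : 0 < Nat.card (S : Subgroup G) := Nat.card_pos
    rw [zero_dvd_iff] at this
    omega
  have h7 : A.relIndex S ≤ (A ⊓ B).relIndex S :=
    Subgroup.relIndex_le_of_le_left inf_le_left hAB0
  have h8 : A.relIndex B ≤ 12 ^ n := hA B hBab
  -- `B.relIndex S` is a `q`-power dividing `n!`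
  have h9 : B.relIndex S ∣ n.factorial := by rw [hBrel]; exact hB'i
  have h10 : B.relIndex S ∣ Nat.card (S : Subgroup G) := Subgroup.relIndex_dvd_card B S
  rw [Sylow.card_eq_multiplicity] at h10
  obtain ⟨j, _, hj⟩ := (Nat.dvd_prime_pow hq.out).mp h10
  have h11 : B.relIndex S ≤ q ^ (n.factorial).factorization q := by
    rw [hj] at h9 ⊢
    exact Nat.pow_le_pow_right hq.out.pos
      ((Nat.Prime.pow_dvd_iff_le_factorization hq.out (Nat.factorial_ne_zero n)).mp h9)
  calc q ^ (A.index).factorization q ≤ A.relIndex S := h5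
    _ ≤ (A ⊓ B).relIndex S := h7
    _ = A.relIndex B * B.relIndex S := h6.symm
    _ ≤ 12 ^ n * q ^ (n.factorial).factorization q := Nat.mul_le_mul h8 h11
    _ = q ^ (n.factorial).factorization q * 12 ^ n := mul_comm _ _

/-- a product of prime powers `q ^ v_q(N)` over a set of primes is at most `N` -/
theorem prod_pow_factorization_le (N : ℕ) (hN : N ≠ 0) (T : Finset ℕ) :
    ∏ q ∈ T, q ^ N.factorization q ≤ N := by
  classical
  have h1 : ∏ q ∈ T, q ^ N.factorization q ∣ ∏ q ∈ T ∪ N.primeFactors, q ^ N.factorization q :=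
    Finset.prod_dvd_prod_of_subset _ _ _ Finset.subset_union_left
  have h2 : ∏ q ∈ N.primeFactors, q ^ N.factorization q =
      ∏ q ∈ T ∪ N.primeFactors, q ^ N.factorization q := by
    refine Finset.prod_subset Finset.subset_union_right ?_
    intro q _ hq
    rw [← Nat.support_factorization, Finsupp.mem_support_iff, not_not] at hq
    rw [hq, pow_zero]
  have h3 : ∏ q ∈ N.primeFactors, q ^ N.factorization q = N := by
    have := Nat.prod_factorization_pow_eq_self hN
    rw [Finsupp.prod, Nat.support_factorization] at this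
    exact this
  rw [← h2, h3] at h1
  exact Nat.le_of_dvd (Nat.pos_of_ne_zero hN) h1

theorem card_primeFactors_le_primeCounting (m s : ℕ) (hs : Small m s) :
    s.primeFactors.card ≤ Nat.primeCounting (m + 1) := by
  have h1 : s.primeFactors ⊆ (Finset.range (m + 2)).filter Nat.Prime := by
    intro q hq
    rw [Finset.mem_filter, Finset.mem_range]
    have hq' := Nat.mem_primeFactors.mp hq
    have := hs q hq'.1 hq'.2.1
    exact ⟨by omega, hq'.1⟩
  have h2 := Finset.card_le_card h1
  have h3 : ((Finset.range (m + 2)).filter Nat.Prime).card = Nat.primeCounting (m + 1) := by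
    unfold Nat.primeCounting Nat.primeCounting'
    rw [Nat.count_eq_card_filter_range]
  rw [h3] at h2
  exact h2

/-- Jordan's theorem with explicit bound, for representations. -/
theorem jordan_explicit {n : ℕ} (ρ : Representation ℂ G (Fin n → ℂ))
    (hinj : Function.Injective ρ) :
    ∃ A : Subgroup G, A.Normal ∧ (∀ x ∈ A, ∀ y ∈ A, x * y = y * x) ∧
      A.index ≤ n.factorial * 12 ^ (n * (Nat.primeCounting (n + 1) + 1)) := by
  classical
  obtain ⟨A, hAn, hAab, hA⟩ := Cfsg.Agent.Helper24.Jordan.jordan_rep ρ hinj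
  haveI := hAn
  refine ⟨A, hAn, hAab, ?_⟩
  obtain ⟨H, hHab, hHbig, hHsmall⟩ : HasAbHall n G :=
    blich_main n _ G (Fin n → ℂ) ρ hinj (by simp) rfl
  have h1 : A.relIndex (A ⊔ H) * (A ⊔ H).index = A.index :=
    Subgroup.relIndex_mul_index le_sup_left
  rw [Subgroup.relIndex_sup_left] at h1
  have hr : A.relIndex H ≤ 12 ^ n := hA H hHab
  set s : ℕ := (A ⊔ H).index with hs
  have hs0 : s ≠ 0 := Subgroup.index_ne_zero_of_finite
  have hidx0 : A.index ≠ 0 := Subgroup.index_ne_zero_of_finite
  have hsSmall : Small n s := hHsmall.of_dvd (Subgroup.index_dvd_of_le le_sup_right)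
  have hsdvd : s ∣ A.index := by rw [← h1]; exact dvd_mul_left _ _
  -- bound `s`
  have hsprod : s = ∏ q ∈ s.primeFactors, q ^ s.factorization q := by
    have := Nat.prod_factorization_pow_eq_self hs0
    rw [Finsupp.prod, Nat.support_factorization] at this
    exact this.symm
  have hsle : s ≤ ∏ q ∈ s.primeFactors, (q ^ (n.factorial).factorization q * 12 ^ n) := by
    conv_lhs => rw [hsprod]
    refine Finset.prod_le_prod (fun _ _ => Nat.zero_le _) ?_
    intro q hq
    have hqp : q.Prime := (Nat.mem_primeFactors.mp hq).1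
    haveI : Fact q.Prime := ⟨hqp⟩
    have h2 : s.factorization q ≤ (A.index).factorization q :=
      (Nat.factorization_le_iff_dvd hs0 hidx0).mpr hsdvd q
    exact (Nat.pow_le_pow_right hqp.pos h2).trans (pow_factorization_index_le ρ hinj A hA q)
  rw [Finset.prod_mul_distrib, Finset.prod_const] at hsle
  have h3 : ∏ q ∈ s.primeFactors, q ^ (n.factorial).factorization q ≤ n.factorial :=
    prod_pow_factorization_le _ (Nat.factorial_ne_zero n) _
  have h4 : (12 ^ n) ^ s.primeFactors.card ≤ (12 ^ n) ^ Nat.primeCounting (n + 1) :=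
    Nat.pow_le_pow_right (pow_pos (by norm_num) n)
      (card_primeFactors_le_primeCounting n s hsSmall)
  have h5 : s ≤ n.factorial * (12 ^ n) ^ Nat.primeCounting (n + 1) :=
    hsle.trans (Nat.mul_le_mul h3 h4)
  calc A.index = A.relIndex H * s := h1.symm
    _ ≤ 12 ^ n * (n.factorial * (12 ^ n) ^ Nat.primeCounting (n + 1)) := Nat.mul_le_mul hr h5
    _ = n.factorial * 12 ^ (n * (Nat.primeCounting (n + 1) + 1)) := by
      rw [← pow_mul, mul_add, mul_one, pow_add]
      ring

end Cfsg.Agent.Helper24.Blich
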