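import Mathlib
import Cfsg.Prelude.Def_Characters
import Cfsg.Agent.Helper24.PermReal
import Cfsg.Agent.Helper24.Classes
import Cfsg.Agent.Helper24.ColumnOrth
import Cfsg.Agent.Helper24.Codegree

/-!
Brauer–Fowler type bounds from the Frobenius–Schur count of involutions.
-/

set_option autoImplicit false

namespace Cfsg.Agent.Helper24.BrauerFowler

open Cfsg Cfsg.Agent.Helper24

variable {G : Type*} [Group G] [Fintype G]

/-- Frobenius–Schur count: the number of solutions of `x² = 1` is `Σ χ(1) ν(χ)`. -/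
theorem card_sq_eq_one [Fintype (IrrCharacter G)] [DecidableEq G] :
    ((Finset.univ.filter (fun x : G => x * x = 1)).card : ℂ) =
      ∑ χ : IrrCharacter G, (irrDeg χ : ℂ) * fsInd (χ : G → ℂ) := by
  classical
  haveI : Fintype (⊥ : Subgroup G) := Fintype.ofFinite _
  have h1 := fsInd_indFun_one (⊥ : Subgroup G)
  have hchar : IsCharacter G (indFun (⊥ : Subgroup G) (fun _ : (⊥ : Subgroup G) => (1 : ℂ))) :=
    isCharacter_indFun _ (IsIrrCharacter.isCharacter (trivIrr (⊥ : Subgroup G)).2)
  have hexp := IsCharacter.eq_sum_classInner hchar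
  have hcoef : ∀ χ : IrrCharacter G,
      classInner (indFun (⊥ : Subgroup G) (fun _ : (⊥ : Subgroup G) => (1 : ℂ))) (χ : G → ℂ) =
        (irrDeg χ : ℂ) := by
    intro χ
    rw [Cfsg.Agent.Helper8.frobenius_reciprocity _ _ _ (isClassFunction_irr χ)]
    unfold classInner
    rw [Subgroup.card_bot, Nat.cast_one, inv_one, one_mul]
    have huniv : (Finset.univ : Finset (⊥ : Subgroup G)) = {1} := by
      ext x
      simp only [Finset.mem_univ, Finset.mem_singleton, true_iff]
      exact Subsingleton.elim _ _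
    rw [huniv, Finset.sum_singleton, one_mul]
    show (starRingEnd ℂ) ((χ : G → ℂ) 1) = _
    rw [irrDeg_spec, Complex.conj_natCast]
  simp_rw [hcoef] at hexp
  have h2 : fsInd (indFun (⊥ : Subgroup G) (fun _ : (⊥ : Subgroup G) => (1 : ℂ))) =
      ∑ χ : IrrCharacter G, (irrDeg χ : ℂ) * fsInd (χ : G → ℂ) := by
    conv_lhs => rw [hexp]
    exact fsInd_sum Finset.univ _ _
  rw [← h2, h1, Subgroup.card_bot, Nat.cast_one, inv_one, one_mul]
  congr 2
  ext x
  simp only [Finset.mem_filter, Finset.mem_univ, true_and, Subgroup.mem_bot]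

omit [Fintype G] in
theorem ncard_carrier_mk [Finite G] (x : G) :
    (ConjClasses.mk x).carrier.ncard = (Subgroup.centralizer ({x} : Set G)).index := by
  rw [index_centralizer_eq_card_conj, ← Nat.card_coe_set_eq]
  refine Nat.card_congr (Equiv.subtypeEquivRight ?_)
  intro y
  rw [ConjClasses.mem_carrier_iff_mk_eq, ConjClasses.mk_eq_mk_iff_isConj, isConj_comm]

/-- the basic inequalities: `t ≤ Σ_R χ(1)` and `Σ_R χ(1)² + 1 ≤ |G|` where `R` is the set of
nonprincipal real irreducible characters. -/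
theorem real_degree_sums [Fintype (IrrCharacter G)] [DecidableEq (IrrCharacter G)]
    [DecidablePred (fun χ : IrrCharacter G => ∀ g : G, ((χ : G → ℂ) g).im = 0)]
    (t : ℕ) (ht : Nat.card {x : G // orderOf x = 2} = t) :
    t ≤ ∑ χ ∈ Finset.univ.filter (fun χ : IrrCharacter G =>
        χ ≠ trivIrr G ∧ ∀ g : G, ((χ : G → ℂ) g).im = 0), irrDeg χ ∧
    ∑ χ ∈ Finset.univ.filter (fun χ : IrrCharacter G =>
        χ ≠ trivIrr G ∧ ∀ g : G, ((χ : G → ℂ) g).im = 0), irrDeg χ ^ 2 + 1 ≤ Nat.card G := by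
  classical
  have hd1 : irrDeg (trivIrr G) = 1 := by
    rw [irrDeg_eq_one_iff]; rfl
  constructor
  · -- count of solutions of x² = 1
    have hcount : (Finset.univ.filter (fun x : G => x * x = 1)).card = 1 + t := by
      have hsplit : Finset.univ.filter (fun x : G => x * x = 1) =
          insert 1 (Finset.univ.filter (fun x : G => orderOf x = 2)) := by
        ext x
        simp only [Finset.mem_filter, Finset.mem_univ, true_and, Finset.mem_insert]
        constructor
        · intro hx
          by_cases h1 : x = 1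
          · left; exact h1
          · right
            exact orderOf_eq_prime (by rw [pow_two]; exact hx) h1
        · rintro (rfl | hx)
          · simp
          · rw [← pow_two, ← hx]
            exact pow_orderOf_eq_one x
      rw [hsplit, Finset.card_insert_of_notMem, add_comm, ← ht, Nat.card_eq_fintype_card,
        Fintype.card_subtype]
      simp
    have hfs := card_sq_eq_one (G := G)
    rw [hcount] at hfs
    have hre := congrArg Complex.re hfs
    rw [Complex.re_sum] at hre
    have hterm : ∀ χ : IrrCharacter G, ((irrDeg χ : ℂ) * fsInd (χ : G → ℂ)).re ≤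
        if (∀ g : G, ((χ : G → ℂ) g).im = 0) then (irrDeg χ : ℝ) else 0 := by
      intro χ
      have h1 : ((irrDeg χ : ℂ) * fsInd (χ : G → ℂ)).re = (irrDeg χ : ℝ) * (fsInd (χ : G → ℂ)).re := by
        simp
      rw [h1]
      obtain ⟨htri, hreal⟩ := fsInd_irr χ
      have hd0 : (0 : ℝ) ≤ irrDeg χ := Nat.cast_nonneg _
      split_ifs with hr
      · rcases htri with h | h | h <;> rw [h] <;> simp
      · have : fsInd (χ : G → ℂ) = 0 := by
          by_contra h0
          exact hr (hreal h0)
        rw [this]; simp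
    have hsum : ((1 + t : ℕ) : ℝ) ≤ ∑ χ : IrrCharacter G,
        if (∀ g : G, ((χ : G → ℂ) g).im = 0) then (irrDeg χ : ℝ) else 0 := by
      have : (((1 + t : ℕ) : ℂ)).re = ((1 + t : ℕ) : ℝ) := by simp
      rw [← this, hre]
      exact Finset.sum_le_sum (fun χ _ => hterm χ)
    rw [← Finset.sum_filter] at hsum
    have hfil : Finset.univ.filter (fun χ : IrrCharacter G => ∀ g : G, ((χ : G → ℂ) g).im = 0) =
        insert (trivIrr G) (Finset.univ.filter (fun χ : IrrCharacter G =>
          χ ≠ trivIrr G ∧ ∀ g : G, ((χ : G → ℂ) g).im = 0)) := by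
      ext χ
      simp only [Finset.mem_filter, Finset.mem_univ, true_and, Finset.mem_insert]
      constructor
      · intro h
        by_cases h1 : χ = trivIrr G
        · left; exact h1
        · right; exact ⟨h1, h⟩
      · rintro (rfl | h)
        · intro g; simp
        · exact h.2
    rw [hfil, Finset.sum_insert (by simp), hd1] at hsum
    have : ((1 + t : ℕ) : ℝ) ≤ ((1 + ∑ χ ∈ Finset.univ.filter (fun χ : IrrCharacter G =>
        χ ≠ trivIrr G ∧ ∀ g : G, ((χ : G → ℂ) g).im = 0), irrDeg χ : ℕ) : ℝ) := by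
      push_cast
      push_cast at hsum
      exact hsum
    have h2 := Nat.cast_le.mp this
    omega
  · have hsq := sum_irrDeg_sq (G := G)
    rw [← Finset.add_sum_erase Finset.univ _ (Finset.mem_univ (trivIrr G)), hd1] at hsq
    have hsub : Finset.univ.filter (fun χ : IrrCharacter G =>
        χ ≠ trivIrr G ∧ ∀ g : G, ((χ : G → ℂ) g).im = 0) ⊆ Finset.univ.erase (trivIrr G) := by
      intro χ hχ
      rw [Finset.mem_filter] at hχ
      exact Finset.mem_erase.mpr ⟨hχ.2.1, Finset.mem_univ _⟩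
    have := Finset.sum_le_sum_of_subset (f := fun χ : IrrCharacter G => irrDeg χ ^ 2) hsub
    omega

/-- **Brauer–Fowler** bounds (Isaacs 4.11, 4.12). -/
theorem brauer_fowler (heven : Even (Nat.card G)) (t : ℕ)
    (ht : Nat.card {x : G // orderOf x = 2} = t) :
    (∃ x : G, x ≠ 1 ∧ ((Subgroup.centralizer ({x} : Set G)).index : ℚ) ≤
      (((Nat.card G : ℚ) - 1) / t) ^ 2) ∧
    ∃ χ : IrrCharacter G, (χ : G → ℂ) ≠ (fun _ => 1) ∧ (∀ g : G, ((χ : G → ℂ) g).im = 0) ∧
      (charDegree (χ : G → ℂ) : ℚ) ≤ ((Nat.card G : ℚ) - 1) / t := by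
  classical
  haveI : Fintype (IrrCharacter G) := Fintype.ofFinite _
  haveI : Fintype (ConjClasses G) := Fintype.ofFinite _
  -- t ≥ 1
  have ht1 : 1 ≤ t := by
    haveI : Fact (Nat.Prime 2) := ⟨Nat.prime_two⟩
    obtain ⟨x, hx⟩ := exists_prime_orderOf_dvd_card' 2 heven.two_dvd
    rw [← ht]
    haveI : Nonempty {x : G // orderOf x = 2} := ⟨⟨x, hx⟩⟩
    exact Nat.card_pos
  obtain ⟨h1, h2⟩ := real_degree_sums (G := G) t ht
  obtain ⟨R, hR⟩ : ∃ R, R = Finset.univ.filter (fun χ : IrrCharacter G =>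
        χ ≠ trivIrr G ∧ ∀ g : G, ((χ : G → ℂ) g).im = 0) := ⟨_, rfl⟩
  rw [← hR] at h1 h2
  have htQ : (0 : ℚ) < t := by exact_mod_cast ht1
  have hgQ : (1 : ℚ) ≤ Nat.card G := by exact_mod_cast Nat.card_pos
  have h1Q : (t : ℚ) ≤ ∑ χ ∈ R, (irrDeg χ : ℚ) := by exact_mod_cast h1
  have h2Q : ∑ χ ∈ R, (irrDeg χ : ℚ) ^ 2 ≤ (Nat.card G : ℚ) - 1 := by
    have : ((∑ χ ∈ R, irrDeg χ ^ 2 + 1 : ℕ) : ℚ) ≤ (Nat.card G : ℚ) := by exact_mod_cast h2
    push_cast at this
    linarith
  have hα0 : (0 : ℚ) ≤ ((Nat.card G : ℚ) - 1) / t := div_nonneg (by linarith) htQ.le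
  have hαt : ((Nat.card G : ℚ) - 1) / t * t = (Nat.card G : ℚ) - 1 := by
    field_simp
  have hRne : R.Nonempty := by
    by_contra hemp
    rw [Finset.not_nonempty_iff_eq_empty] at hemp
    rw [hemp, Finset.sum_empty] at h1
    omega
  constructor
  · -- Cauchy–Schwarz
    have hcs : (∑ χ ∈ R, (irrDeg χ : ℚ)) ^ 2 ≤ (R.card : ℚ) * ∑ χ ∈ R, (irrDeg χ : ℚ) ^ 2 :=
      sq_sum_le_card_mul_sum_sq
    have hRcard : R.card + 1 ≤ Fintype.card (ConjClasses G) := by
      rw [← Nat.card_eq_fintype_card, ← card_irr_eq_card_conjClasses, Nat.card_eq_fintype_card,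
        ← Finset.card_univ]
      have hsub : R ⊆ Finset.univ.erase (trivIrr G) := by
        intro χ hχ
        rw [hR, Finset.mem_filter] at hχ
        exact Finset.mem_erase.mpr ⟨hχ.2.1, Finset.mem_univ _⟩
      have := Finset.card_le_card hsub
      rw [Finset.card_erase_of_mem (Finset.mem_univ _)] at this
      have hpos : 0 < (Finset.univ : Finset (IrrCharacter G)).card :=
        Finset.card_pos.mpr ⟨trivIrr G, Finset.mem_univ _⟩
      omega
    have hRpos : 0 < R.card := Finset.card_pos.mpr hRne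
    -- t² ≤ s (g-1)
    have hts : (t : ℚ) ^ 2 ≤ (R.card : ℚ) * ((Nat.card G : ℚ) - 1) := by
      calc (t : ℚ) ^ 2 ≤ (∑ χ ∈ R, (irrDeg χ : ℚ)) ^ 2 := by
            exact pow_le_pow_left₀ htQ.le h1Q 2
        _ ≤ (R.card : ℚ) * ∑ χ ∈ R, (irrDeg χ : ℚ) ^ 2 := hcs
        _ ≤ (R.card : ℚ) * ((Nat.card G : ℚ) - 1) := by
            exact mul_le_mul_of_nonneg_left h2Q (Nat.cast_nonneg _)
    by_contra hcon
    push Not at hcon
    -- class equation
    have hce := Group.sum_card_conj_classes_eq_card G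
    rw [finsum_eq_sum_of_fintype] at hce
    rw [← Finset.add_sum_erase Finset.univ _ (Finset.mem_univ (ConjClasses.mk (1 : G)))] at hce
    have hone : (ConjClasses.mk (1 : G)).carrier.ncard = 1 := by
      rw [ncard_carrier_mk]
      have : Subgroup.centralizer ({1} : Set G) = ⊤ := by
        rw [eq_top_iff]
        intro g _
        rw [Subgroup.mem_centralizer_iff]
        intro h hh
        rw [Set.mem_singleton_iff] at hh
        rw [hh]; simp
      rw [this, Subgroup.index_top]
    rw [hone] at hce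
    have hbig : ∀ C ∈ Finset.univ.erase (ConjClasses.mk (1 : G)),
        (((Nat.card G : ℚ) - 1) / t) ^ 2 < (C.carrier.ncard : ℚ) := by
      intro C hC
      obtain ⟨x, rfl⟩ := ConjClasses.mk_surjective C
      have hx1 : x ≠ 1 := by
        rintro rfl
        exact (Finset.mem_erase.mp hC).1 rfl
      rw [ncard_carrier_mk]
      exact hcon x hx1
    have hsumQ : ((Finset.univ.erase (ConjClasses.mk (1 : G))).card : ℚ) *
        (((Nat.card G : ℚ) - 1) / t) ^ 2 < ∑ C ∈ Finset.univ.erase (ConjClasses.mk (1 : G)),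
          (C.carrier.ncard : ℚ) := by
      rw [← nsmul_eq_mul, ← Finset.sum_const]
      apply Finset.sum_lt_sum_of_nonempty
      · rw [← Finset.card_pos, Finset.card_erase_of_mem (Finset.mem_univ _), Finset.card_univ]
        omega
      · exact hbig
    have hceQ : (1 : ℚ) + ∑ C ∈ Finset.univ.erase (ConjClasses.mk (1 : G)),
        (C.carrier.ncard : ℚ) = (Nat.card G : ℚ) := by
      exact_mod_cast hce
    have hk : (R.card : ℚ) ≤ ((Finset.univ.erase (ConjClasses.mk (1 : G))).card : ℚ) := by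
      rw [Finset.card_erase_of_mem (Finset.mem_univ _), Finset.card_univ]
      have : R.card ≤ Fintype.card (ConjClasses G) - 1 := by omega
      exact_mod_cast this
    -- (k-1) α² ≥ g - 1
    have hkey : (Nat.card G : ℚ) - 1 ≤ (R.card : ℚ) * (((Nat.card G : ℚ) - 1) / t) ^ 2 := by
      rw [div_pow, mul_div_assoc']
      rw [le_div_iff₀ (by positivity)]
      have hg0 : (0 : ℚ) ≤ (Nat.card G : ℚ) - 1 := by linarith
      nlinarith [mul_le_mul_of_nonneg_left hts hg0]
    have hα2 : (0 : ℚ) ≤ (((Nat.card G : ℚ) - 1) / t) ^ 2 := sq_nonneg _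
    nlinarith [mul_le_mul_of_nonneg_right hk hα2]
  · by_contra hcon
    push Not at hcon
    have hbig : ∀ χ ∈ R, ((Nat.card G : ℚ) - 1) / t * (irrDeg χ : ℚ) < (irrDeg χ : ℚ) ^ 2 := by
      intro χ hχ
      rw [hR, Finset.mem_filter] at hχ
      have hne : (χ : G → ℂ) ≠ fun _ => 1 := by
        intro h
        apply hχ.2.1
        apply Subtype.ext
        rw [h]
        rfl
      have := hcon χ hne hχ.2.2
      rw [charDegree_irr] at this
      have hd : (0 : ℚ) < irrDeg χ := by exact_mod_cast irrDeg_pos χ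
      rw [pow_two]
      exact mul_lt_mul_of_pos_right this hd
    have hsum := Finset.sum_lt_sum_of_nonempty hRne hbig
    rw [← Finset.mul_sum] at hsum
    have : ((Nat.card G : ℚ) - 1) / t * (t : ℚ) ≤
        ((Nat.card G : ℚ) - 1) / t * ∑ χ ∈ R, (irrDeg χ : ℚ) :=
      mul_le_mul_of_nonneg_left h1Q hα0
    rw [hαt] at this
    linarith

end Cfsg.Agent.Helper24.BrauerFowler
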