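import Mathlib
import Cfsg.Prelude.Def_Characters
import Cfsg.Agent.Helper24.BrauerMain
import Cfsg.Agent.Helper24.Elementary
import Cfsg.Agent.Helper24.Monomial
import Cfsg.Agent.Helper24.Artin
import Cfsg.Agent.Helper24.Product

/-!
Brauer's induction theorem in list form: every character is an integer combination of
characters induced from linear characters of elementary subgroups.
-/

namespace Cfsg.Agent.Helper24

open Representation Module

universe u

section BrauerList

variable {G : Type u} [Group G] [Fintype G]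

/-- `f` is an integer combination (given by a list) of functions induced from linear characters
of elementary subgroups. -/
def IsBrauerComb (f : G → ℂ) : Prop :=
  ∃ l : List ((E : Subgroup G) × ((E →* ℂˣ) × ℤ)),
    (∀ t ∈ l, ∃ p : ℕ, p.Prime ∧ IsElementary p t.1) ∧
    f = (l.map fun t => (t.2.2 : ℂ) • indFun t.1 (fun e => (t.2.1 e : ℂ))).sum

theorem isBrauerComb_zero : IsBrauerComb (0 : G → ℂ) :=
  ⟨[], by simp, by simp⟩

theorem IsBrauerComb.add {f g : G → ℂ} (hf : IsBrauerComb f) (hg : IsBrauerComb g) :
    IsBrauerComb (f + g) := by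
  obtain ⟨l, hl, rfl⟩ := hf
  obtain ⟨l', hl', rfl⟩ := hg
  refine ⟨l ++ l', ?_, ?_⟩
  · intro t ht
    rcases List.mem_append.mp ht with h | h
    · exact hl t h
    · exact hl' t h
  · rw [List.map_append, List.sum_append]

theorem IsBrauerComb.neg {f : G → ℂ} (hf : IsBrauerComb f) : IsBrauerComb (-f) := by
  obtain ⟨l, hl, rfl⟩ := hf
  refine ⟨l.map (fun t => ⟨t.1, (t.2.1, -t.2.2)⟩), ?_, ?_⟩
  · intro t ht
    obtain ⟨s, hs, rfl⟩ := List.mem_map.mp ht
    exact hl s hs
  · rw [List.map_map]
    have : ∀ l : List ((E : Subgroup G) × ((E →* ℂˣ) × ℤ)),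
        -(l.map fun t => (t.2.2 : ℂ) • indFun t.1 (fun e => (t.2.1 e : ℂ))).sum =
        (l.map ((fun t : (E : Subgroup G) × ((E →* ℂˣ) × ℤ) =>
          (t.2.2 : ℂ) • indFun t.1 (fun e => (t.2.1 e : ℂ))) ∘
            (fun t => ⟨t.1, (t.2.1, -t.2.2)⟩))).sum := by
      intro l
      induction l with
      | nil => simp
      | cons a l ih =>
        rw [List.map_cons, List.sum_cons, neg_add, ih, List.map_cons, List.sum_cons]
        congr 1
        simp
    exact this l

theorem IsBrauerComb.nsmul {f : G → ℂ} (hf : IsBrauerComb f) (n : ℕ) :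
    IsBrauerComb ((n : ℂ) • f) := by
  induction n with
  | zero => simpa using isBrauerComb_zero (G := G)
  | succ n ih =>
    have : ((n + 1 : ℕ) : ℂ) • f = (n : ℂ) • f + f := by
      push_cast
      rw [add_smul, one_smul]
    rw [this]
    exact ih.add hf

theorem isBrauerComb_sum {ι : Type*} (s : Finset ι) (f : ι → G → ℂ)
    (h : ∀ i ∈ s, IsBrauerComb (f i)) : IsBrauerComb (∑ i ∈ s, f i) := by
  classical
  induction s using Finset.induction_on with
  | empty => simpa using isBrauerComb_zero (G := G)
  | insert a s ha ih =>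
    rw [Finset.sum_insert ha]
    exact (h a (Finset.mem_insert_self a s)).add
      (ih fun i hi => h i (Finset.mem_insert_of_mem hi))

/-- Induction in stages from a linear character of a subgroup of an elementary subgroup. -/
theorem isBrauerComb_indFun_indFun (p : ℕ) (hp : p.Prime) (E : Subgroup G) [Fintype E]
    (hE : IsElementary p E) (K : Subgroup E) (lam : K →* ℂˣ) :
    IsBrauerComb (indFun E (indFun K (fun k => ((lam k : ℂˣ) : ℂ)))) := by
  set e := Subgroup.equivMapOfInjective K E.subtype (Subgroup.subtype_injective _) with he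
  refine ⟨[⟨K.map E.subtype, (lam.comp e.symm.toMonoidHom, 1)⟩], ?_, ?_⟩
  · intro t ht
    rw [List.mem_singleton] at ht
    subst ht
    exact ⟨p, hp, IsElementary.of_mulEquiv e (IsElementary.subgroup hp hE K)⟩
  · simp only [List.map_cons, List.map_nil, List.sum_cons, List.sum_nil, add_zero, Int.cast_one,
      one_smul]
    have hfun : (fun k : K => ((lam k : ℂˣ) : ℂ)) = fun k : K =>
        (((lam.comp e.symm.toMonoidHom)
          ⟨((k : E) : G), Subgroup.mem_map_of_mem _ k.2⟩ : ℂˣ) : ℂ) := by
      funext k
      have : e.symm ⟨((k : E) : G), Subgroup.mem_map_of_mem _ k.2⟩ = k := by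
        rw [MulEquiv.symm_apply_eq]
        apply Subtype.ext
        rfl
      simp only [MonoidHom.comp_apply, MulEquiv.coe_toMonoidHom, this]
    rw [← indFun_trans_map E K, hfun]

/-- A character induced from an elementary subgroup is a Brauer combination. -/
theorem isBrauerComb_indFun_of_isCharacter (p : ℕ) (hp : p.Prime) (E : Subgroup G)
    (hE : IsElementary p E) (ψ : E → ℂ) (hψ : IsCharacter E ψ) :
    IsBrauerComb (indFun E ψ) := by
  classical
  haveI : Fintype E := Fintype.ofFinite _
  haveI : Fintype (IrrCharacter E) := Fintype.ofFinite _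
  haveI : Group.IsNilpotent E := IsElementary.isNilpotent hp hE
  obtain ⟨n, hn⟩ := IsCharacter.exists_nat_coeff hψ
  rw [hn, Helper8.indFun_sum]
  apply isBrauerComb_sum
  intro μ _
  rw [Helper8.indFun_smul]
  apply IsBrauerComb.nsmul
  obtain ⟨K, lam, hK⟩ := isMonomial_of_nilpotent_aux _ E rfl (μ : E → ℂ) μ.2
  rw [hK]
  exact isBrauerComb_indFun_indFun p hp E hE K lam

/-- **Brauer's induction theorem.** -/
theorem brauer_induction (χ : G → ℂ) (hχ : IsCharacter G χ) : IsBrauerComb χ := by
  have hcf := IsCharacter.isClassFunction hχ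
  have key : ∀ f ∈ AddSubgroup.closure (brauerIndSet G), IsBrauerComb (f * χ) := by
    intro f hf
    induction hf using AddSubgroup.closure_induction with
    | mem φ hφ =>
      obtain ⟨p, E, ψ, hp, hEl, hψ, rfl⟩ := hφ
      rw [← indFun_mul_restrict E ψ χ hcf]
      exact isBrauerComb_indFun_of_isCharacter p hp E hEl _
        (IsCharacter.mul hψ (Helper8.isCharacter_restrict E hχ))
    | zero => rw [zero_mul]; exact isBrauerComb_zero
    | add x y _ _ hx hy => rw [add_mul]; exact hx.add hy
    | neg x _ hx => rw [neg_mul]; exact hx.neg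
  have := key _ (one_mem_closure_brauerIndSet (G := G))
  have h1 : (fun _ : G => (1 : ℂ)) * χ = χ := by
    funext g
    simp
  rwa [h1] at this

end BrauerList

end Cfsg.Agent.Helper24
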