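import Mathlib
import Cfsg.Prelude.Def_Characters
import Cfsg.Agent.S4574
import Cfsg.Agent.Helper24.Rep

/-!
Burnside's theorem on zeros of nonlinear irreducible characters.
-/

namespace Cfsg.Agent.Helper24

open Representation Module

universe u v

/-- Burnside: an irreducible character of degree greater than one vanishes somewhere. -/
theorem exists_char_eq_zero_of_one_lt {G : Type u} [Group G] [Finite G] {V : Type v}
    [AddCommGroup V] [Module ℂ V] [FiniteDimensional ℂ V] (ρ : Representation ℂ G V)
    [ρ.IsIrreducible] (hdeg : 1 < finrank ℂ V) : ∃ g : G, ρ.character g = 0 := by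
  classical
  haveI : Fintype G := Fintype.ofFinite G
  have hχ : IsIrrCharacter G ρ.character := isIrrCharacter_character ρ inferInstance
  have h := (Cfsg.Agent.S4574.result ρ.character hχ).1
  have hd : Cfsg.charDegree ρ.character = finrank ℂ V := by
    unfold Cfsg.charDegree
    rw [Representation.char_one]
    simp
  rw [hd] at h
  have h1 : (1 : G) ∈ Finset.univ.filter (fun g : G => ‖ρ.character g‖ = (finrank ℂ V : ℝ)) := by
    rw [Finset.mem_filter]
    refine ⟨Finset.mem_univ _, ?_⟩
    rw [Representation.char_one, Complex.norm_natCast]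
  have h2 : 0 < (Finset.univ.filter
      (fun g : G => ‖ρ.character g‖ = (finrank ℂ V : ℝ))).card := Finset.card_pos.mpr ⟨1, h1⟩
  have h3 : 0 < finrank ℂ V ^ 2 - 1 := by
    have : 2 ≤ finrank ℂ V := hdeg
    have : 4 ≤ finrank ℂ V ^ 2 := by nlinarith
    omega
  have h4 : 0 < (Finset.univ.filter (fun g : G => ρ.character g = 0)).card :=
    lt_of_lt_of_le (Nat.mul_pos h3 h2) h
  obtain ⟨g, hg⟩ := Finset.card_pos.mp h4
  exact ⟨g, (Finset.mem_filter.mp hg).2⟩

end Cfsg.Agent.Helper24
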