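import Mathlib

/-!
Camina pairs, part A: elementary consequences of the hypothesis
`∀ g ∉ N, ∀ n ∈ N, g * n` is conjugate to `g`.
-/

set_option autoImplicit false

namespace Cfsg.Agent.Helper24.Cam

open Subgroup

variable {G : Type*} [Group G]

/-- the Camina hypothesis -/
def Hyp (N : Subgroup G) : Prop :=
  ∀ g : G, g ∉ N → ∀ n ∈ N, ∃ x : G, x * g * x⁻¹ = g * n

variable {N : Subgroup G}

theorem Hyp.orderOf_mul (h : Hyp N) {g n : G} (hg : g ∉ N) (hn : n ∈ N) :
    orderOf (g * n) = orderOf g := by
  obtain ⟨x, hx⟩ := h g hg n hn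
  rw [← hx]
  have : x * g * x⁻¹ = MulAut.conj x g := by simp [MulAut.conj_apply]
  rw [this, MulEquiv.orderOf_eq]

/-- an element of `N` commuting with `g ∉ N` and of order coprime to that of `g` is trivial -/
theorem Hyp.eq_one_of_commute [Finite G] (h : Hyp N) {g n : G} (hg : g ∉ N) (hn : n ∈ N)
    (hc : Commute g n) (hcop : Nat.Coprime (orderOf g) (orderOf n)) : n = 1 := by
  have h1 := h.orderOf_mul hg hn
  rw [hc.orderOf_mul_eq_mul_orderOf_of_coprime hcop] at h1
  have hpos : 0 < orderOf g := orderOf_pos g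
  have h2 : orderOf n = 1 := by
    have : orderOf g * orderOf n = orderOf g * 1 := by rw [h1, mul_one]
    exact Nat.eq_of_mul_eq_mul_left hpos this
  exact orderOf_eq_one_iff.mp h2

/-- the coprime case: `N` contains the centralizers of its nonidentity elements -/
theorem Hyp.centralizer_le_of_coprime [Finite G] (h : Hyp N) [hN : N.Normal]
    (hcop : Nat.Coprime (Nat.card N) N.index) {x : G} (hx : x ∈ N) (hx1 : x ≠ 1) :
    centralizer ({x} : Set G) ≤ N := by
  intro g hg
  by_contra hgN
  rw [mem_centralizer_singleton_iff] at hg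
  -- hg : g * x = x * g
  set a := Nat.card N with ha
  set d := N.index with hd
  have hG : a * d = Nat.card G := by rw [ha, hd]; exact N.card_mul_index
  -- h := g ^ a is outside N
  have hpow : g ^ a ∉ N := by
    intro hmem
    apply hgN
    have h1 : g ^ d ∈ N := by
      rw [hd]
      exact N.pow_index_mem g
    obtain ⟨u, v, huv⟩ : ∃ u v : ℤ, (a : ℤ) * u + (d : ℤ) * v = 1 := by
      have := Nat.Coprime.isCoprime hcop
      obtain ⟨u, v, huv⟩ := this
      exact ⟨u, v, by linarith⟩
    have : g = (g ^ a) ^ u * (g ^ d) ^ v := by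
      rw [← zpow_natCast, ← zpow_natCast, ← zpow_mul, ← zpow_mul, ← zpow_add, huv, zpow_one]
    rw [this]
    exact N.mul_mem (N.zpow_mem hmem u) (N.zpow_mem h1 v)
  have hord : orderOf (g ^ a) ∣ d := by
    apply orderOf_dvd_of_pow_eq_one
    rw [← pow_mul, hG]
    exact pow_card_eq_one'
  have hxord : orderOf x ∣ a := by
    have := Subgroup.orderOf_dvd_natCard N hx
    exact this
  have hc : Commute (g ^ a) x := by
    apply Commute.pow_left
    exact hg
  have hcop' : Nat.Coprime (orderOf (g ^ a)) (orderOf x) :=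
    Nat.Coprime.coprime_dvd_left hord (Nat.Coprime.coprime_dvd_right hxord hcop.symm)
  exact hx1 (h.eq_one_of_commute hpow hx hc hcop')

end Cfsg.Agent.Helper24.Cam
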