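import Mathlib
import Cfsg.Prelude.Def_Characters
import Cfsg.Agent.Helper24.CamA
import Cfsg.Agent.Helper24.Vanish
import Cfsg.Agent.Helper24.GoingDown
import Cfsg.Agent.Helper24.FullyRamified
import Cfsg.Agent.Helper24.Linear

/-!
Camina pairs, part B: characters not containing `N` in their kernel vanish off `N`; the
ramification index `e` of such a character satisfies `e² · [G : T] = [G : N]`.
-/

set_option autoImplicit false

namespace Cfsg.Agent.Helper24.Cam

open Representation Module Cfsg Cfsg.Agent.Helper24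

universe u v

section Vanish

variable {G : Type u} [Group G] [Fintype G]
variable {V : Type v} [AddCommGroup V] [Module ℂ V] [FiniteDimensional ℂ V]

/-- In a Camina pair, an irreducible character whose kernel does not contain `N` vanishes
off `N`. -/
theorem char_eq_zero_of_hyp (ρ : Representation ℂ G V) [ρ.IsIrreducible]
    (N : Subgroup G) [hN : N.Normal] (hcam : Hyp N) (hker : ∃ h ∈ N, ρ h ≠ LinearMap.id) (g : G)
    (hg : g ∉ N) : ρ.character g = 0 := by
  classical
  have h0 := sum_char_normal_eq_zero ρ N hker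
  have h1 := sum_mul_char_mul ρ _ (isClassFunction_indicator_normal N) g
  rw [h0, mul_zero] at h1
  have h2 : ∑ x : G, (if x ∈ N then (1 : ℂ) else 0) * ρ.character (x * g) =
      ∑ x : G, (if x ∈ N then (1 : ℂ) else 0) * ρ.character g := by
    refine Finset.sum_congr rfl ?_
    intro x _
    by_cases hx : x ∈ N
    · have hx' : g⁻¹ * x * g⁻¹⁻¹ ∈ N := hN.conj_mem x hx g⁻¹
      obtain ⟨y, hy⟩ := hcam g hg _ hx'
      have h3 : x * g = y * g * y⁻¹ := by
        rw [hy]; group
      rw [h3, Representation.char_conj]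
    · simp [hx]
  rw [h2, ← Finset.sum_mul] at h1
  have h3 : ∑ x : G, (if x ∈ N then (1 : ℂ) else 0) = (Nat.card N : ℂ) := by
    rw [Finset.sum_ite, Finset.sum_const_zero, add_zero, Finset.sum_const, nsmul_eq_mul, mul_one]
    congr 1
    rw [Nat.card_eq_fintype_card, Fintype.card_subtype]
  rw [h3] at h1
  have hn : (finrank ℂ V : ℂ) ≠ 0 := by
    exact_mod_cast (finrank_pos_of_isIrreducible ρ).ne'
  have hH : (Nat.card N : ℂ) ≠ 0 := by
    exact_mod_cast (Nat.card_pos (α := N)).ne'
  rcases mul_eq_zero.mp h1 with h | h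
  · exact absurd h hn
  · rcases mul_eq_zero.mp h with h | h
    · exact absurd h hH
    · exact h

/-- character form: an irreducible character of `G` lying over a nontrivial irreducible
character of `N` vanishes off `N`. -/
theorem irr_eq_zero_of_hyp (N : Subgroup G) [hN : N.Normal] [Fintype N] (hcam : Hyp N)
    {χ : G → ℂ} (hχ : IsIrrCharacter G χ) {θ : N → ℂ} (hθ : IsIrrCharacter N θ)
    (hθ1 : θ ≠ fun _ => 1) (hcon : classInner (fun n : N => χ n) θ ≠ 0) (g : G) (hg : g ∉ N) :
    χ g = 0 := by
  classical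
  obtain ⟨n, ρ, hρ, rfl⟩ := hχ
  haveI := hρ
  apply char_eq_zero_of_hyp ρ N hcam _ g hg
  by_contra hker
  push Not at hker
  apply hcon
  have h1 : (fun m : N => ρ.character m) = (n : ℂ) • (fun _ : N => (1 : ℂ)) := by
    funext m
    simp only [Pi.smul_apply, smul_eq_mul, mul_one]
    unfold Representation.character
    rw [hker m m.2]
    simp
  rw [h1, classInner_smul_left,
    classInner_of_isIrrCharacter (isIrrCharacter_const_one (G := N)) hθ, if_neg (Ne.symm hθ1),
    mul_zero]

end Vanish

section Ramification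

variable {G : Type u} [Group G] [Fintype G]

/-- the ramification index: `e² · [G : T] = [G : N]` for a character vanishing off `N`. -/
theorem sq_mul_index_inertia (N : Subgroup G) [hN : N.Normal] [Fintype N]
    {χ : G → ℂ} (hχ : IsIrrCharacter G χ) {θ : N → ℂ} (hθ : IsIrrCharacter N θ)
    (hvan : ∀ g : G, g ∉ N → χ g = 0) (e : ℕ)
    (he : classInner (fun n : N => χ n) θ = e) (he0 : e ≠ 0) :
    e ^ 2 * (inertiaSubgroup N θ).index = N.index := by
  classical
  haveI : Fintype (IrrCharacter N) := Fintype.ofFinite _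
  haveI : Fintype (IrrCharacter G) := Fintype.ofFinite _
  have hcon : classInner (fun n : N => χ n) θ ≠ 0 := by
    rw [he]; exact_mod_cast he0
  have hcl := clifford_finset N hχ hθ hcon
  rw [he] at hcl
  obtain ⟨Ω, hΩ⟩ : ∃ Ω, Ω = Finset.univ.image (conjFun N θ) := ⟨_, rfl⟩
  rw [← hΩ] at hcl
  have hΩirr : ∀ ψ ∈ Ω, IsIrrCharacter N ψ := by
    intro ψ hψ
    rw [hΩ] at hψ
    obtain ⟨k, _, rfl⟩ := Finset.mem_image.mp hψ
    exact isIrrCharacter_conjFun N hθ k
  have hΩcard : Ω.card = (inertiaSubgroup N θ).index := by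
    haveI : Fintype (⊤ : Subgroup G) := Fintype.ofFinite _
    have hcard := GoingDown.card_image_conjFun (⊤ : Subgroup G) N θ
    rw [Subgroup.relIndex_top_right] at hcard
    rw [← hcard, hΩ]
    congr 1
    ext ψ
    simp only [Finset.mem_image, Finset.mem_univ, true_and]
    constructor
    · rintro ⟨g, rfl⟩
      exact ⟨⟨g, Subgroup.mem_top g⟩, rfl⟩
    · rintro ⟨k, rfl⟩
      exact ⟨k, rfl⟩
  have hnorm : classInner (fun n : N => χ n) (fun n : N => χ n) = ((e ^ 2 * Ω.card : ℕ) : ℂ) := by
    rw [hcl, classInner_smul_left, classInner_smul_right, classInner_sum_left]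
    simp_rw [classInner_sum_right]
    have : ∀ ψ ∈ Ω, ∑ ψ' ∈ Ω, classInner ψ ψ' = 1 := by
      intro ψ hψ
      rw [Finset.sum_eq_single ψ]
      · rw [classInner_of_isIrrCharacter (hΩirr ψ hψ) (hΩirr ψ hψ), if_pos rfl]
      · intro ψ' hψ' hne
        rw [classInner_of_isIrrCharacter (hΩirr ψ hψ) (hΩirr ψ' hψ'), if_neg (Ne.symm hne)]
      · intro h
        exact absurd hψ h
    rw [Finset.sum_congr rfl this]
    simp only [Complex.conj_natCast, Finset.sum_const, nsmul_eq_mul, mul_one]
    push_cast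
    ring
  have hsplit := card_mul_classInner_split N χ
  rw [(isIrrCharacter_iff_classInner_self.mp hχ).2, mul_one, hnorm,
    (sum_off_eq_zero_iff N χ).mpr hvan, add_zero] at hsplit
  have h1 : Nat.card G = Nat.card N * (e ^ 2 * Ω.card) := by exact_mod_cast hsplit
  have h2 : Nat.card N * N.index = Nat.card G := N.card_mul_index
  rw [← h2] at h1
  have hNpos : 0 < Nat.card N := Nat.card_pos
  have h3 := Nat.eq_of_mul_eq_mul_left hNpos h1
  rw [← hΩcard, ← h3]

/-- the number of conjugates is the index of the inertia group -/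
theorem card_image_conjFun_eq_index (N : Subgroup G) [hN : N.Normal] (θ : N → ℂ)
    [DecidableEq (N → ℂ)] :
    (Finset.univ.image (conjFun N θ)).card = (inertiaSubgroup N θ).index := by
  haveI : Fintype (⊤ : Subgroup G) := Fintype.ofFinite _
  have hcard := GoingDown.card_image_conjFun (⊤ : Subgroup G) N θ
  rw [Subgroup.relIndex_top_right] at hcard
  rw [← hcard]
  congr 1
  ext ψ
  simp only [Finset.mem_image, Finset.mem_univ, true_and]
  constructor
  · rintro ⟨g, rfl⟩
    exact ⟨⟨g, Subgroup.mem_top g⟩, rfl⟩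
  · rintro ⟨k, rfl⟩
    exact ⟨k, rfl⟩

/-- the degree in Clifford's theorem: `χ(1) = e · [G : T] · θ(1)`. -/
theorem apply_one_eq_mul_index (N : Subgroup G) [hN : N.Normal] [Fintype N]
    {χ : G → ℂ} (hχ : IsIrrCharacter G χ) {θ : N → ℂ} (hθ : IsIrrCharacter N θ) (e : ℕ)
    (he : classInner (fun n : N => χ n) θ = e) (he0 : e ≠ 0) :
    χ 1 = (e : ℂ) * ((inertiaSubgroup N θ).index : ℂ) * θ 1 := by
  classical
  haveI : Fintype (IrrCharacter N) := Fintype.ofFinite _
  have hcon : classInner (fun n : N => χ n) θ ≠ 0 := by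
    rw [he]; exact_mod_cast he0
  have hcl := clifford_finset N hχ hθ hcon
  rw [he] at hcl
  have h1 := congrFun hcl 1
  simp only [OneMemClass.coe_one, Pi.smul_apply, Finset.sum_apply, smul_eq_mul] at h1
  have h2 : ∀ ψ ∈ Finset.univ.image (conjFun N θ), ψ 1 = θ 1 := by
    intro ψ hψ
    obtain ⟨g, -, rfl⟩ := Finset.mem_image.mp hψ
    rw [conjFun_apply]
    congr 1
    apply Subtype.ext
    simp
  rw [Finset.sum_congr rfl h2, Finset.sum_const, card_image_conjFun_eq_index N θ, nsmul_eq_mul]
    at h1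
  rw [h1]
  ring

end Ramification

end Cfsg.Agent.Helper24.Cam
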