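import Mathlib
import Cfsg.Prelude.Def_Characters
import Cfsg.Prelude.Def_CharExt
import Cfsg.Agent.Helper24.CamB
import Cfsg.Agent.Helper24.GallagherDet
import Cfsg.Agent.Helper8.IndTrans
import Cfsg.Agent.Helper29.TwoDegB

/-!
Camina pairs, part C: a character of `G` vanishing off `N` has ramification index over an
`S`-invariant `θ ∈ Irr(N)` divisible by `[S : N]` whenever `θ` extends to `S` (in particular when
`[S : N]` is coprime to `o(θ)θ(1)`).  Consequently every prime dividing `[T_θ : N]` divides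
`o(θ)θ(1)`.
-/

set_option autoImplicit false

namespace Cfsg.Agent.Helper24.Cam

open Representation Module Cfsg Cfsg.Agent.Helper24

universe u

section Ext

variable {G : Type u} [Group G] [Fintype G]

/-- the determinantal order is invariant under transport along an isomorphism -/
theorem detOrder_comp_equiv {H K : Type u} [Group H] [Group K] [Finite H] [Finite K] (ε : H ≃* K)
    {θ : K → ℂ} (hθ : IsIrrCharacter K θ) :
    detOrder (fun h : H => θ (ε h)) = detOrder θ := by
  have hθ' : IsIrrCharacter H (fun h : H => θ (ε h)) :=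
    Helper8.isIrrCharacter_comp_surjective ε.toMonoidHom ε.surjective hθ
  have h1 : detChar (fun h : H => θ (ε h)) = fun h => detChar θ (ε h) := by
    funext h
    exact detChar_comp ε.toMonoidHom hθ hθ' h
  unfold detOrder
  rw [h1]
  apply orderOf_eq_orderOf_iff.mpr
  intro n
  constructor
  · intro h
    funext k
    have := congrFun h (ε.symm k)
    simpa using this
  · intro h
    funext x
    have := congrFun h (ε x)
    simpa using this

/-- if `θ` extends to `S` then `[S : N]` divides the multiplicity of `θ` in any character of `G`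
vanishing off `N`. -/
theorem relIndex_dvd_of_extension (N S : Subgroup G) [hN : N.Normal] [Fintype N] (hNS : N ≤ S)
    {χ : G → ℂ} (hχ : IsCharacter G χ) (hvan : ∀ g : G, g ∉ N → χ g = 0) {θ : N → ℂ}
    (χ' : S → ℂ) (hχ' : IsIrrCharacter S χ')
    (hext : ∀ x : N.subgroupOf S, χ' (x : S) = θ (Subgroup.subgroupOfEquivOfLe hNS x))
    (e : ℕ) (he : classInner (fun n : N => χ n) θ = e) : N.relIndex S ∣ e := by
  classical
  haveI : Fintype S := Fintype.ofFinite _
  haveI : Fintype (N.subgroupOf S) := Fintype.ofFinite _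
  haveI : Fintype (IrrCharacter S) := Fintype.ofFinite _
  obtain ⟨m, hm⟩ := IsCharacter.classInner_irr_nat (Helper8.isCharacter_restrict S hχ) ⟨χ', hχ'⟩
  simp only at hm
  refine ⟨m, ?_⟩
  -- compute the inner product
  have hsum : ∑ s : S, χ (s : G) * (starRingEnd ℂ) (χ' s) =
      ∑ n : N, χ (n : G) * (starRingEnd ℂ) (θ n) := by
    have h1 : ∑ s : S, χ (s : G) * (starRingEnd ℂ) (χ' s) =
        ∑ s ∈ Finset.univ.filter (fun s : S => s ∈ N.subgroupOf S),
          χ (s : G) * (starRingEnd ℂ) (χ' s) := by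
      symm
      apply Finset.sum_subset (Finset.filter_subset _ _)
      intro s _ hs
      have hsN : (s : G) ∉ N := by
        intro h
        apply hs
        exact Finset.mem_filter.mpr ⟨Finset.mem_univ _, Subgroup.mem_subgroupOf.mpr h⟩
      rw [hvan _ hsN, zero_mul]
    rw [h1, Finset.sum_subtype (Finset.univ.filter (fun s : S => s ∈ N.subgroupOf S))
      (p := fun s => s ∈ N.subgroupOf S) (fun s => by simp)]
    refine Fintype.sum_equiv (Subgroup.subgroupOfEquivOfLe hNS).toEquiv _ _ ?_
    intro x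
    rw [hext x]
    rfl
  have hS0 : (Nat.card S : ℂ) ≠ 0 := by exact_mod_cast (Nat.card_pos (α := S)).ne'
  have hN0 : (Nat.card N : ℂ) ≠ 0 := by exact_mod_cast (Nat.card_pos (α := N)).ne'
  have h2 : (Nat.card S : ℂ) * (m : ℂ) = (Nat.card N : ℂ) * (e : ℂ) := by
    rw [← hm, ← he]
    unfold classInner
    rw [← mul_assoc, mul_inv_cancel₀ hS0, one_mul, ← mul_assoc, mul_inv_cancel₀ hN0, one_mul]
    exact hsum
  have h3 : Nat.card S * m = Nat.card N * e := by exact_mod_cast h2
  have h4 : Nat.card N * N.relIndex S = Nat.card S := by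
    have h5 := (N.subgroupOf S).card_mul_index
    rw [Helper8.card_subgroupOf_of_le hNS] at h5
    exact h5
  rw [← h4, mul_assoc] at h3
  exact (Nat.eq_of_mul_eq_mul_left Nat.card_pos h3).symm

/-- the coprime case -/
theorem relIndex_dvd_of_coprime (N S : Subgroup G) [hN : N.Normal] [Fintype N] (hNS : N ≤ S)
    {χ : G → ℂ} (hχ : IsCharacter G χ) (hvan : ∀ g : G, g ∉ N → χ g = 0) {θ : N → ℂ}
    (hθ : IsIrrCharacter N θ)
    (hinv : ∀ g ∈ S, ∀ n : N, θ ⟨g * n * g⁻¹, hN.conj_mem (n : G) n.2 g⟩ = θ n)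
    (d : ℕ) (hd : θ 1 = d) (hcop : Nat.Coprime (N.relIndex S) (detOrder θ * d))
    (e : ℕ) (he : classInner (fun n : N => χ n) θ = e) : N.relIndex S ∣ e := by
  classical
  haveI : Finite S := inferInstance
  let ε : N.subgroupOf S ≃* N := Subgroup.subgroupOfEquivOfLe hNS
  have hε : ∀ x : N.subgroupOf S, ((ε x : N) : G) = ((x : S) : G) := fun x => rfl
  obtain ⟨θ', hθ'def⟩ : ∃ θ' : N.subgroupOf S → ℂ, θ' = fun x => θ (ε x) := ⟨_, rfl⟩
  have hθ'val : ∀ x, θ' x = θ (ε x) := fun x => by rw [hθ'def]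
  have hθ' : IsIrrCharacter (N.subgroupOf S) θ' := by
    rw [hθ'def]
    exact Helper8.isIrrCharacter_comp_surjective ε.toMonoidHom ε.surjective hθ
  have hinv' : ∀ (g : S) (n : N.subgroupOf S),
      θ' ⟨g * n * g⁻¹, (inferInstance : (N.subgroupOf S).Normal).conj_mem (n : S) n.2 g⟩ =
        θ' n := by
    intro g n
    have := hinv (g : G) g.2 (ε n)
    rw [hθ'val, hθ'val, ← this]
    congr 1
  have hd' : θ' 1 = d := by rw [hθ'val, map_one]; exact hd
  have hdet : detOrder θ' = detOrder θ := by
    rw [hθ'def]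
    exact detOrder_comp_equiv ε hθ
  have hcop' : Nat.Coprime (N.subgroupOf S).index (detOrder θ' * d) := by
    rw [hdet]
    exact hcop
  obtain ⟨χ', ⟨hχ', hχ'N, -⟩, -⟩ := coprime_unique_extension (N.subgroupOf S) θ' hθ' hinv' d hd' hcop'
  refine relIndex_dvd_of_extension N S hNS hχ hvan χ' hχ' ?_ e he
  intro x
  rw [hχ'N x, hθ'val]

end Ext

section Primes

variable {G : Type u} [Group G] [Fintype G]

/-- transport of the multiplicity to the inertia group as ambient group -/
theorem classInner_toSubgroupOf (N T : Subgroup G) [Fintype N] (hNT : N ≤ T)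
    [Fintype (N.subgroupOf T)] (χ : G → ℂ) (θ : N → ℂ) :
    classInner (fun x : N.subgroupOf T => χ ((x : T) : G)) (Helper8.toSubgroupOf N T θ) =
      classInner (fun n : N => χ n) θ := by
  unfold classInner
  rw [Helper8.card_subgroupOf_of_le hNT]
  congr 1
  exact Fintype.sum_equiv (Subgroup.subgroupOfEquivOfLe hNT).toEquiv _ _ (fun n => rfl)

/-- In a Camina pair, every prime dividing `[T_θ : N]` divides `o(θ)θ(1)`. -/
theorem prime_dvd_of_dvd_relIndex (N : Subgroup G) [hN : N.Normal] [Fintype N] (hcam : Hyp N)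
    {θ : N → ℂ} (hθ : IsIrrCharacter N θ) (hθ1 : θ ≠ fun _ => 1) (d : ℕ) (hd : θ 1 = d)
    (s : ℕ) (hs : s.Prime) (hdvd : s ∣ N.relIndex (inertiaSubgroup N θ)) :
    s ∣ detOrder θ * d := by
  classical
  haveI : Fact s.Prime := ⟨hs⟩
  haveI : Fintype (IrrCharacter N) := Fintype.ofFinite _
  obtain ⟨χ, hχcon⟩ := Helper29.TwoDeg.exists_irr_over N ⟨θ, hθ⟩
  simp only at hχcon
  have hvan := irr_eq_zero_of_hyp N hcam χ.2 hθ hθ1 hχcon
  obtain ⟨e, he⟩ := IsCharacter.classInner_irr_nat
    (Helper8.isCharacter_restrict N (IsIrrCharacter.isCharacter χ.2)) ⟨θ, hθ⟩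
  simp only at he
  have he0 : e ≠ 0 := by
    rintro rfl
    exact hχcon (by rw [he]; simp)
  set T := inertiaSubgroup N θ with hT
  have hNT : N ≤ T := le_inertiaSubgroup N θ
    (IsCharacter.isClassFunction (IsIrrCharacter.isCharacter hθ))
  have hsq := sq_mul_index_inertia N χ.2 hθ hvan e he he0
  have hrel := Subgroup.relIndex_mul_index hNT
  have hTi : 0 < T.index := Nat.pos_of_ne_zero Subgroup.index_ne_zero_of_finite
  have hesq : e ^ 2 = N.relIndex T := by
    rw [← hrel] at hsq
    exact Nat.eq_of_mul_eq_mul_right hTi hsq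
  by_contra hns
  have hcop1 : Nat.Coprime s (detOrder θ * d) := (Nat.Prime.coprime_iff_not_dvd hs).mpr hns
  -- work in the ambient group `T`
  haveI : Fintype T := Fintype.ofFinite _
  haveI : Fintype (N.subgroupOf T) := Fintype.ofFinite _
  let Q := T ⧸ N.subgroupOf T
  have hQcard : Nat.card Q = N.relIndex T := rfl
  obtain ⟨Sy⟩ : Nonempty (Sylow s Q) := inferInstance
  set S' : Subgroup T := (Sy : Subgroup Q).comap (QuotientGroup.mk' (N.subgroupOf T)) with hS'
  have hNS' : N.subgroupOf T ≤ S' := by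
    intro x hx
    rw [hS', Subgroup.mem_comap]
    have : QuotientGroup.mk' (N.subgroupOf T) x = 1 := by
      rw [QuotientGroup.mk'_apply, QuotientGroup.eq_one_iff]
      exact hx
    rw [this]
    exact Subgroup.one_mem _
  have hS'idx : S'.index = (Sy : Subgroup Q).index :=
    Subgroup.index_comap_of_surjective _ (QuotientGroup.mk'_surjective _)
  have hrel' : (N.subgroupOf T).relIndex S' * S'.index = (N.subgroupOf T).index :=
    Subgroup.relIndex_mul_index hNS'
  have hSycard : Nat.card (Sy : Subgroup Q) = s ^ (Nat.card Q).factorization s :=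
    Sy.card_eq_multiplicity
  have hSy := (Sy : Subgroup Q).card_mul_index
  have hidx : (N.subgroupOf T).index = Nat.card Q := rfl
  have hSyi : 0 < (Sy : Subgroup Q).index := Nat.pos_of_ne_zero Subgroup.index_ne_zero_of_finite
  have hrelS : (N.subgroupOf T).relIndex S' = s ^ (Nat.card Q).factorization s := by
    rw [hS'idx, hidx, ← hSy] at hrel'
    rw [← hSycard]
    exact Nat.eq_of_mul_eq_mul_right hSyi hrel'
  -- apply the extension lemma in `T`
  have hχT : IsCharacter T (fun t : T => (χ : G → ℂ) t) :=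
    Helper8.isCharacter_restrict T (IsIrrCharacter.isCharacter χ.2)
  have hvanT : ∀ t : T, t ∉ N.subgroupOf T → (fun t : T => (χ : G → ℂ) t) t = 0 := by
    intro t ht
    exact hvan (t : G) (fun h => ht (Subgroup.mem_subgroupOf.mpr h))
  have hθ' : IsIrrCharacter (N.subgroupOf T) (Helper8.toSubgroupOf N T θ) :=
    Helper8.isIrrCharacter_comp_surjective (Subgroup.subgroupOfEquivOfLe hNT).toMonoidHom
      (Subgroup.subgroupOfEquivOfLe hNT).surjective hθ
  have hinv' : ∀ g ∈ S', ∀ n : N.subgroupOf T,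
      Helper8.toSubgroupOf N T θ
        ⟨g * n * g⁻¹, (inferInstance : (N.subgroupOf T).Normal).conj_mem (n : T) n.2 g⟩ =
      Helper8.toSubgroupOf N T θ n := by
    intro g _ n
    have h1 := (mem_inertiaSubgroup N θ (g : G)).mp g.2
      ⟨((n : T) : G), Subgroup.mem_subgroupOf.mp n.2⟩
    unfold Helper8.toSubgroupOf
    rw [← h1]
    congr 1
  have hd' : Helper8.toSubgroupOf N T θ 1 = d := by
    unfold Helper8.toSubgroupOf
    rw [← hd]
    congr 1
  have hdet : detOrder (Helper8.toSubgroupOf N T θ) = detOrder θ :=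
    detOrder_comp_equiv (Subgroup.subgroupOfEquivOfLe hNT) hθ
  have hcop' : Nat.Coprime ((N.subgroupOf T).relIndex S')
      (detOrder (Helper8.toSubgroupOf N T θ) * d) := by
    rw [hrelS, hdet]
    exact Nat.Coprime.pow_left _ hcop1
  have he' : classInner (fun x : N.subgroupOf T => (fun t : T => (χ : G → ℂ) t) x)
      (Helper8.toSubgroupOf N T θ) = e := by
    rw [← he]
    exact classInner_toSubgroupOf N T hNT (χ : G → ℂ) θ
  have hdiv := relIndex_dvd_of_coprime (N.subgroupOf T) S' hNS' hχT hvanT hθ' hinv' d hd' hcop' e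
    he'
  rw [hrelS] at hdiv
  -- the numerical contradiction
  set a := (Nat.card Q).factorization s with ha
  have h2 : s ^ (2 * a) ∣ Nat.card Q := by
    rw [hQcard, ← hesq, mul_comm, pow_mul]
    exact pow_dvd_pow_of_dvd hdiv 2
  have hQ0 : Nat.card Q ≠ 0 := Nat.card_pos.ne'
  have h3 : 2 * a ≤ a := (hs.pow_dvd_iff_le_factorization hQ0).mp h2
  have ha0 : a = 0 := by omega
  have h4 : 1 ≤ a := by
    rw [ha]
    apply (hs.dvd_iff_one_le_factorization hQ0).mp
    rw [hQcard]
    exact hdvd
  omega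

end Primes

end Cfsg.Agent.Helper24.Cam
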