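import Mathlib
import Cfsg.Prelude.Def_Characters
import Cfsg.Prelude.Def_CharExt
import Cfsg.Agent.Helper24.CamC
import Cfsg.Agent.Helper24.OrbitSum
import Cfsg.Agent.Helper24.RealOrbits
import Cfsg.Agent.Helper24.PResidualCount
import Cfsg.Agent.Helper24.LinUnits

/-!
Camina pairs, part D: if a prime `p` divides both `|N|` and `[G : N]` then `N` has a linear
character of order `p` whose inertia group has index divisible by `p` over `N`.
-/

set_option autoImplicit false

namespace Cfsg.Agent.Helper24.Cam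

open Representation Module Cfsg Cfsg.Agent.Helper24

universe u

section Det

variable {G : Type u} [Group G] [Finite G]

/-- an element fixing `θ` fixes its determinantal character -/
theorem detChar_conj_of_inv (N : Subgroup G) [hN : N.Normal] {θ : N → ℂ} (hθ : IsIrrCharacter N θ)
    (g : G) (hinv : ∀ n : N, θ ⟨g * n * g⁻¹, hN.conj_mem (n : G) n.2 g⟩ = θ n) (n : N) :
    detChar θ ⟨g * n * g⁻¹, hN.conj_mem (n : G) n.2 g⟩ = detChar θ n := by
  have hfun : (fun y : N => θ ((MulAut.conjNormal g : N ≃* N).toMonoidHom y)) = θ := by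
    funext y
    rw [← hinv y]
    congr 1
  have h1 := detChar_comp (MulAut.conjNormal g : N ≃* N).toMonoidHom hθ (by rw [hfun]; exact hθ) n
  rw [hfun] at h1
  rw [h1]
  congr 1

end Det

section Main

variable {G : Type u} [Group G] [Finite G]

theorem exists_hom_of_prime_dvd (N : Subgroup G) [hN : N.Normal] (hcam : Hyp N) (p : ℕ)
    (hp : p.Prime) (hpN : p ∣ Nat.card N) (hpI : p ∣ N.index) :
    ∃ L : N →* ℂˣ, orderOf L = p ∧
      p ∣ N.relIndex (inertiaSubgroup N (fun n : N => ((L n : ℂˣ) : ℂ))) := by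
  classical
  haveI : Fintype G := Fintype.ofFinite G
  haveI : Fintype N := Fintype.ofFinite N
  haveI : Fintype (IrrCharacter N) := Fintype.ofFinite _
  haveI : Fact p.Prime := ⟨hp⟩
  letI := irrConjAction N
  obtain ⟨P⟩ : Nonempty (Sylow p G) := inferInstance
  have hsm : ∀ (q : (P : Subgroup G)) (x : IrrCharacter N),
      q • x = (irrConjAction N).smul (q : G) x := fun _ _ => rfl
  have hQ : ∀ q : (P : Subgroup G), ∃ a : ℕ, ∀ x : IrrCharacter N, q ^ (p ^ a) • x = x := by
    intro q
    obtain ⟨a, ha⟩ := P.isPGroup' q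
    exact ⟨a, fun x => by rw [ha, one_smul]⟩
  have key := sum_modEq_sum_fixed' (Q := (P : Subgroup G)) (X := IrrCharacter N) hQ
    (fun θ => (irrDeg θ : ℤ) ^ 2) (by
      intro q x
      show ((irrDeg (q • x) : ℕ) : ℤ) ^ 2 = _
      rw [hsm, irrDeg_smul])
  have htot : ∑ θ : IrrCharacter N, (irrDeg θ : ℤ) ^ 2 = (Nat.card N : ℤ) := by
    have := sum_irrDeg_sq (G := N)
    exact_mod_cast this
  rw [htot] at key
  set F := Finset.univ.filter (fun x : IrrCharacter N => ∀ q : (P : Subgroup G), q • x = x) with hF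
  have hpF : (p : ℤ) ∣ ∑ θ ∈ F, (irrDeg θ : ℤ) ^ 2 := by
    have h1 : (p : ℤ) ∣ (Nat.card N : ℤ) := by exact_mod_cast hpN
    exact (Int.ModEq.dvd_iff key).mp h1
  -- the trivial character is fixed
  have htriv : trivIrr N ∈ F := by
    rw [hF, Finset.mem_filter]
    refine ⟨Finset.mem_univ _, fun q => ?_⟩
    apply Subtype.ext
    funext k
    rw [hsm, irrConjAction_apply]
    rfl
  have hdeg1 : irrDeg (trivIrr N) = 1 := by
    rw [irrDeg_eq_one_iff]
    rfl
  obtain ⟨θ, hθF, hθ1, hθp⟩ : ∃ θ ∈ F, θ ≠ trivIrr N ∧ ¬ p ∣ irrDeg θ := by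
    by_contra hcon
    push Not at hcon
    have h2 := Finset.add_sum_erase F (fun θ => (irrDeg θ : ℤ) ^ 2) htriv
    rw [hdeg1] at h2
    have h3 : (p : ℤ) ∣ ∑ θ ∈ F.erase (trivIrr N), (irrDeg θ : ℤ) ^ 2 := by
      apply Finset.dvd_sum
      intro θ hθ
      have hne := Finset.ne_of_mem_erase hθ
      have hmem := Finset.mem_of_mem_erase hθ
      have := hcon θ hmem hne
      have h4 : (p : ℤ) ∣ (irrDeg θ : ℤ) := by exact_mod_cast this
      exact Dvd.dvd.pow h4 (by norm_num)
    rw [← h2] at hpF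
    have h5 : (p : ℤ) ∣ ((1 : ℕ) : ℤ) ^ 2 := (Int.dvd_add_left h3).mp hpF
    have h6 : (p : ℤ) ∣ 1 := by simpa using h5
    have h7 : p ∣ 1 := by exact_mod_cast h6
    exact hp.one_lt.ne' (Nat.dvd_one.mp h7)
  -- the inertia group of θ contains P
  set T := inertiaSubgroup N (θ : N → ℂ) with hT
  have hθcf : IsClassFunction N (θ : N → ℂ) :=
    IsCharacter.isClassFunction (IsIrrCharacter.isCharacter θ.2)
  have hNT : N ≤ T := le_inertiaSubgroup N _ hθcf
  have hPT : (P : Subgroup G) ≤ T := by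
    intro g hg
    rw [hT, mem_inertiaSubgroup]
    intro n
    have hfix := (Finset.mem_filter.mp hθF).2 ⟨g⁻¹, (P : Subgroup G).inv_mem hg⟩
    have h1 := congrFun (congrArg Subtype.val hfix) n
    rw [hsm, irrConjAction_apply] at h1
    rw [← h1]
    refine congrArg (θ : N → ℂ) (Subtype.ext ?_)
    simp [MulAut.conjNormal_apply]
  -- p divides [T : N]
  have hcardT : Nat.card N * N.relIndex T = Nat.card T := by
    have h5 := (N.subgroupOf T).card_mul_index
    rw [Helper8.card_subgroupOf_of_le hNT] at h5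
    exact h5
  have hcardG : Nat.card N * N.index = Nat.card G := N.card_mul_index
  have hPcard : Nat.card (P : Subgroup G) = p ^ (Nat.card G).factorization p :=
    P.card_eq_multiplicity
  have hpT : p ∣ N.relIndex T := by
    by_contra hnd
    have hN0 : Nat.card N ≠ 0 := Nat.card_pos.ne'
    have hr0 : N.relIndex T ≠ 0 := by
      intro h
      rw [h, mul_zero] at hcardT
      exact (Nat.card_pos (α := T)).ne' hcardT.symm
    have hi0 : N.index ≠ 0 := Subgroup.index_ne_zero_of_finite
    have h1 : p ^ (Nat.card G).factorization p ∣ Nat.card T := by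
      rw [← hPcard]
      exact Subgroup.card_dvd_of_le hPT
    have hT0 : Nat.card T ≠ 0 := Nat.card_pos.ne'
    have h2 := (hp.pow_dvd_iff_le_factorization hT0).mp h1
    rw [← hcardT, ← hcardG, Nat.factorization_mul hN0 hr0, Nat.factorization_mul hN0 hi0,
      Finsupp.add_apply, Finsupp.add_apply, Nat.factorization_eq_zero_of_not_dvd hnd] at h2
    have h3 := (hp.dvd_iff_one_le_factorization hi0).mp hpI
    omega
  -- hence p divides o(θ)
  have hθne : (θ : N → ℂ) ≠ fun _ => 1 := by
    intro h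
    apply hθ1
    exact Subtype.ext h
  have hdvd := prime_dvd_of_dvd_relIndex N hcam θ.2 hθne (irrDeg θ) (irrDeg_spec θ) p hp hpT
  have hpo : p ∣ detOrder (θ : N → ℂ) := by
    rcases (Nat.Prime.dvd_mul hp).mp hdvd with h | h
    · exact h
    · exact absurd h hθp
  -- the linear character
  obtain ⟨hδc, hδ1⟩ := isLin_detChar θ.2
  set L0 : N →* ℂˣ := linUnits hδc hδ1 with hL0
  have hL0val : ∀ n : N, ((L0 n : ℂˣ) : ℂ) = detChar (θ : N → ℂ) n := fun n => rfl
  have hord0 : orderOf L0 = detOrder (θ : N → ℂ) := orderOf_linUnits hδc hδ1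
  have hL0card : orderOf L0 ∣ Nat.card N := by
    apply orderOf_dvd_of_pow_eq_one
    refine MonoidHom.ext fun k => ?_
    rw [MonoidHom.pow_apply, ← map_pow, pow_card_eq_one', map_one, MonoidHom.one_apply]
  have hm0 : orderOf L0 ≠ 0 := by
    intro h0
    rw [h0, Nat.zero_dvd] at hL0card
    exact Nat.card_pos.ne' hL0card
  obtain ⟨m', hm'⟩ : p ∣ orderOf L0 := by rw [hord0]; exact hpo
  have hm'0 : m' ≠ 0 := by
    rintro rfl
    rw [mul_zero] at hm'
    exact hm0 hm'
  refine ⟨L0 ^ m', ?_, ?_⟩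
  · rw [orderOf_pow_of_dvd hm'0 ⟨p, by rw [hm', mul_comm]⟩, hm']
    exact Nat.mul_div_cancel _ (Nat.pos_of_ne_zero hm'0)
  · have hTL : T ≤ inertiaSubgroup N (fun n : N => (((L0 ^ m') n : ℂˣ) : ℂ)) := by
      intro g hg
      rw [mem_inertiaSubgroup]
      intro n
      have hinv := (mem_inertiaSubgroup N (θ : N → ℂ) g).mp hg
      have h1 := detChar_conj_of_inv N θ.2 g hinv n
      simp only [MonoidHom.pow_apply, Units.val_pow_eq_pow_val]
      rw [hL0val, hL0val, h1]
    have h2 := Subgroup.relIndex_mul_relIndex N T _ hNT hTL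
    rw [← h2]
    exact Dvd.dvd.mul_right hpT _

end Main

end Cfsg.Agent.Helper24.Cam
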