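import Mathlib
import Cfsg.Prelude.Def_Characters
import Cfsg.Prelude.Def_CharExt
import Cfsg.Agent.Helper24.CamD
import Cfsg.Agent.Helper24.ThompsonDegrees
import Cfsg.Agent.Helper17.SolvExtPrim

/-!
Camina pairs, part E: linear characters of prime order have inertia quotient a group of that
prime; the quotient `T/N` of the inertia group of a linear character of order `p` acts freely on
the linear characters of order `q ≠ p`, hence has a unique subgroup of order `p`.
-/

set_option autoImplicit false

namespace Cfsg.Agent.Helper24.Cam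

open Representation Module Cfsg Cfsg.Agent.Helper24 Cfsg.Agent.Helper17

universe u

section Abstract

/-- a group acting freely on a nontrivial abelian group without `p`-torsion: every element of
order dividing `p` is a power of any central element of order `p`. -/
theorem mem_zpowers_of_fpf {Q A : Type*} [Group Q] [Finite Q] [CommGroup A]
    [MulDistribMulAction Q A] {p : ℕ} [hp : Fact p.Prime]
    (hfpf : ∀ m : Q, m ≠ 1 → ∀ n : A, m • n = n → n = 1) (hA : ∃ n : A, n ≠ 1)
    (hAp : ∀ n : A, n ^ p = 1 → n = 1)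
    (z : Q) (hz : z ∈ Subgroup.center Q) (hzo : orderOf z = p) (a : Q) (ha : a ^ p = 1) :
    a ∈ Subgroup.zpowers z := by
  classical
  set P' : Subgroup Q := Subgroup.closure ({z, a} : Set Q) with hP'
  have hzP : z ∈ P' := Subgroup.subset_closure (by simp)
  have haP : a ∈ P' := Subgroup.subset_closure (by simp)
  have hza : z * a = a * z := (Subgroup.mem_center_iff.mp hz a).symm
  have hcomm : ∀ x ∈ ({z, a} : Set Q), ∀ y ∈ ({z, a} : Set Q), x * y = y * x := by
    intro x hx y hy
    simp only [Set.mem_insert_iff, Set.mem_singleton_iff] at hx hy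
    rcases hx with rfl | rfl <;> rcases hy with rfl | rfl
    · rfl
    · exact hza
    · exact hza.symm
    · rfl
  have hmc : IsMulCommutative P' := Subgroup.isMulCommutative_closure hcomm
  have hPab : ∀ x y : P', x * y = y * x := fun x y => mul_comm' x y
  have hzp : z ^ p = 1 := by rw [← hzo]; exact pow_orderOf_eq_one z
  have hPexp : ∀ x : P', x ^ p = 1 := by
    rintro ⟨x, hx⟩
    apply Subtype.ext
    rw [Subgroup.coe_pow, Subgroup.coe_one]
    induction hx using Subgroup.closure_induction with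
    | mem y hy =>
      simp only [Set.mem_insert_iff, Set.mem_singleton_iff] at hy
      rcases hy with rfl | rfl
      · exact hzp
      · exact ha
    | one => exact one_pow _
    | mul x y hx hy ihx ihy =>
      have hc : Commute x y := by
        have := hPab ⟨x, hx⟩ ⟨y, hy⟩
        exact congrArg Subtype.val this
      rw [hc.mul_pow, ihx, ihy, one_mul]
    | inv x hx ihx => rw [inv_pow, ihx, inv_one]
  have hz1 : z ≠ 1 := by
    intro h
    rw [h, orderOf_one] at hzo
    exact hp.out.one_lt.ne' hzo.symm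
  haveI : Nontrivial P' := ⟨⟨⟨z, hzP⟩, 1, fun h => hz1 (congrArg Subtype.val h)⟩⟩
  have hcard := card_eq_prime_of_fpf (P := P') (A := A) (q := p) hPab hPexp
    (fun m hm n hn => hfpf (m : Q) (fun h => hm (Subtype.ext h)) n hn) hA hAp
  have h1 : Nat.card (Subgroup.zpowers (⟨z, hzP⟩ : P')) = Nat.card P' := by
    rw [Nat.card_zpowers, hcard, ← hzo]
    exact Subgroup.orderOf_mk z hzP
  have h2 := Subgroup.eq_top_of_card_eq _ h1
  have h3 : (⟨a, haP⟩ : P') ∈ Subgroup.zpowers (⟨z, hzP⟩ : P') := by
    rw [h2]; exact Subgroup.mem_top _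
  obtain ⟨k, hk⟩ := Subgroup.mem_zpowers_iff.mp h3
  refine Subgroup.mem_zpowers_iff.mpr ⟨k, ?_⟩
  have := congrArg Subtype.val hk
  simpa using this

end Abstract

section Linear

variable {G : Type u} [Group G] [Finite G] (N : Subgroup G)

/-- the function attached to a homomorphism to `ℂˣ` -/
def coeFun (L : N →* ℂˣ) : N → ℂ := fun n => ((L n : ℂˣ) : ℂ)

omit [Finite G] in
theorem coeFun_apply (L : N →* ℂˣ) (n : N) : coeFun N L n = ((L n : ℂˣ) : ℂ) := rfl

theorem isIrr_coeFun (L : N →* ℂˣ) : IsIrrCharacter N (coeFun N L) :=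
  isIrrCharacter_of_monoidHom ((Units.coeHom ℂ).comp L)

omit [Finite G] in
theorem coeFun_one (L : N →* ℂˣ) : coeFun N L 1 = 1 := by
  rw [coeFun_apply, map_one, Units.val_one]

omit [Finite G] in
theorem coeFun_ne_one (L : N →* ℂˣ) (hL : L ≠ 1) : coeFun N L ≠ fun _ => 1 := by
  intro h
  apply hL
  ext n
  have := congrFun h n
  rw [coeFun_apply] at this
  rw [this, MonoidHom.one_apply, Units.val_one]

theorem detOrder_coeFun (L : N →* ℂˣ) : detOrder (coeFun N L) = orderOf L := by
  unfold detOrder
  rw [detChar_of_linear (isIrr_coeFun N L) (coeFun_one N L)]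
  exact orderOf_coe_fun L

variable [hN : N.Normal]

/-- the inertia quotient of a linear character of prime order `r` is an `r`-group -/
theorem prime_eq_of_dvd_relIndex (hcam : Hyp N) (r : ℕ) (hr : r.Prime) (L : N →* ℂˣ)
    (hL : orderOf L = r) (s : ℕ) (hs : s.Prime)
    (hdvd : s ∣ N.relIndex (inertiaSubgroup N (coeFun N L))) : s = r := by
  haveI : Fintype G := Fintype.ofFinite G
  haveI : Fintype N := Fintype.ofFinite N
  have hL1 : L ≠ 1 := by
    intro h
    rw [h, orderOf_one] at hL
    exact hr.one_lt.ne' hL.symm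
  have h1 := prime_dvd_of_dvd_relIndex N hcam (isIrr_coeFun N L) (coeFun_ne_one N L hL1) 1
    (by rw [coeFun_one]; simp) s hs hdvd
  rw [detOrder_coeFun, hL, mul_one] at h1
  exact (Nat.prime_dvd_prime_iff_eq hs hr).mp h1

theorem exists_relIndex_eq_pow (hcam : Hyp N) (r : ℕ) (hr : r.Prime) (L : N →* ℂˣ)
    (hL : orderOf L = r) : ∃ a : ℕ, N.relIndex (inertiaSubgroup N (coeFun N L)) = r ^ a := by
  refine ⟨_, Nat.eq_prime_pow_of_unique_prime_dvd ?_ ?_⟩
  · intro h
    have hNT : N ≤ inertiaSubgroup N (coeFun N L) := le_inertiaSubgroup N _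
      (IsCharacter.isClassFunction (IsIrrCharacter.isCharacter (isIrr_coeFun N L)))
    have := Subgroup.relIndex_mul_index hNT
    rw [h, zero_mul] at this
    exact Subgroup.index_ne_zero_of_finite this.symm
  · intro d hd hdvd
    exact prime_eq_of_dvd_relIndex N hcam r hr L hL d hd hdvd

omit [Finite G] in
/-- powers by the relative index land in `N` -/
theorem pow_relIndex_mem (T : Subgroup G) {x : G} (hx : x ∈ T) :
    x ^ N.relIndex T ∈ N := by
  have h := (N.subgroupOf T).pow_index_mem (⟨x, hx⟩ : T)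
  rw [Subgroup.mem_subgroupOf, Subgroup.coe_pow] at h
  exact h

/-- an element fixing linear characters of distinct prime orders lies in `N` -/
theorem mem_of_mem_inertia_inf (hcam : Hyp N) (p q : ℕ) (hp : p.Prime) (hq : q.Prime)
    (hpq : p ≠ q) (L M : N →* ℂˣ) (hL : orderOf L = p) (hM : orderOf M = q) (x : G)
    (hx1 : x ∈ inertiaSubgroup N (coeFun N L)) (hx2 : x ∈ inertiaSubgroup N (coeFun N M)) :
    x ∈ N := by
  obtain ⟨a, ha⟩ := exists_relIndex_eq_pow N hcam p hp L hL
  obtain ⟨b, hb⟩ := exists_relIndex_eq_pow N hcam q hq M hM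
  have h1 := pow_relIndex_mem N _ hx1
  have h2 := pow_relIndex_mem N _ hx2
  rw [ha] at h1
  rw [hb] at h2
  have hcop : Nat.Coprime (p ^ a) (q ^ b) :=
    Nat.Coprime.pow _ _ ((Nat.coprime_primes hp hq).mpr hpq)
  obtain ⟨u, v, huv⟩ : ∃ u v : ℤ, ((p ^ a : ℕ) : ℤ) * u + ((q ^ b : ℕ) : ℤ) * v = 1 := by
    obtain ⟨u, v, huv⟩ := Nat.Coprime.isCoprime hcop
    exact ⟨u, v, by linarith⟩
  have : x = (x ^ (p ^ a)) ^ u * (x ^ (q ^ b)) ^ v := by
    rw [← zpow_natCast, ← zpow_natCast, ← zpow_mul, ← zpow_mul, ← zpow_add, huv, zpow_one]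
  rw [this]
  exact N.mul_mem (N.zpow_mem h1 u) (N.zpow_mem h2 v)

end Linear

section Action

variable {G : Type u} [Group G] (N : Subgroup G) [hN : N.Normal] (C : Type*) [CommGroup C]

/-- precomposition with conjugation by `g⁻¹` -/
def precompEquiv (g : G) : (N →* C) ≃* (N →* C) where
  toFun φ := φ.comp (MulAut.conjNormal g⁻¹ : N ≃* N).toMonoidHom
  invFun φ := φ.comp (MulAut.conjNormal g : N ≃* N).toMonoidHom
  left_inv φ := by
    ext n
    simp only [MonoidHom.comp_apply, MulEquiv.coe_toMonoidHom]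
    rw [← MulAut.mul_apply, ← map_mul, inv_mul_cancel, map_one, MulAut.one_apply]
  right_inv φ := by
    ext n
    simp only [MonoidHom.comp_apply, MulEquiv.coe_toMonoidHom]
    rw [← MulAut.mul_apply, ← map_mul, mul_inv_cancel, map_one, MulAut.one_apply]
  map_mul' φ ψ := MonoidHom.mul_comp _ _ _

theorem precompEquiv_apply (g : G) (φ : N →* C) (n : N) :
    precompEquiv N C g φ n = φ (MulAut.conjNormal g⁻¹ n) := rfl

/-- the action of `G` on `Hom(N, C)` -/
def precompHom : G →* MulAut (N →* C) where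
  toFun := precompEquiv N C
  map_one' := by
    ext φ n
    rw [precompEquiv_apply, inv_one, map_one]
    rfl
  map_mul' g h := by
    ext φ n
    rw [MulAut.mul_apply, precompEquiv_apply, precompEquiv_apply, precompEquiv_apply, mul_inv_rev,
      map_mul, MulAut.mul_apply]

theorem precompHom_apply (g : G) (φ : N →* C) (n : N) :
    precompHom N C g φ n = φ (MulAut.conjNormal g⁻¹ n) := rfl

theorem precompHom_of_mem {g : G} (hg : g ∈ N) : precompHom N C g = 1 := by
  ext φ n
  rw [precompHom_apply, MulAut.one_apply]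
  have h1 : (MulAut.conjNormal g⁻¹ n : N) = (⟨g, hg⟩ : N)⁻¹ * n * ⟨g, hg⟩ := by
    apply Subtype.ext
    simp [MulAut.conjNormal_apply]
  rw [h1, map_mul, map_mul, map_inv, mul_comm (φ ⟨g, hg⟩)⁻¹, mul_assoc, inv_mul_cancel, mul_one]

/-- the induced action of `T/N` -/
def quotHom (T : Subgroup G) : T ⧸ N.subgroupOf T →* MulAut (N →* C) :=
  QuotientGroup.lift (N.subgroupOf T) ((precompHom N C).comp T.subtype) (by
    intro t ht
    rw [MonoidHom.mem_ker, MonoidHom.comp_apply]
    exact precompHom_of_mem N C (Subgroup.mem_subgroupOf.mp ht))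

theorem quotHom_mk (T : Subgroup G) (t : T) (φ : N →* C) (n : N) :
    quotHom N C T (QuotientGroup.mk t) φ n = φ (MulAut.conjNormal (t : G)⁻¹ n) := rfl

end Action

section Unique

variable {G : Type u} [Group G] [Finite G] (N : Subgroup G) [hN : N.Normal]

/-- the quotient `T/N` of the inertia group of a linear character of order `p` has at most one
subgroup of order `p`, as soon as `N` has a linear character of prime order `q ≠ p`. -/
theorem quotient_mem_zpowers (hcam : Hyp N) (p q : ℕ) (hp : p.Prime) (hq : q.Prime) (hpq : p ≠ q)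
    (L M : N →* ℂˣ) (hL : orderOf L = p) (hM : orderOf M = q)
    (T : Subgroup G) (hT : T = inertiaSubgroup N (coeFun N L))
    (z : T ⧸ N.subgroupOf T) (hz : z ∈ Subgroup.center (T ⧸ N.subgroupOf T))
    (hzo : orderOf z = p) (a : T ⧸ N.subgroupOf T) (ha : a ^ p = 1) :
    a ∈ Subgroup.zpowers z := by
  classical
  haveI : Fact p.Prime := ⟨hp⟩
  let A := N →* rootsOfUnity q ℂ
  letI : MulDistribMulAction (T ⧸ N.subgroupOf T) A :=
    MulDistribMulAction.compHom A (quotHom N (rootsOfUnity q ℂ) T)
  have hsm : ∀ (m : T ⧸ N.subgroupOf T) (φ : A), m • φ = quotHom N (rootsOfUnity q ℂ) T m φ :=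
    fun _ _ => rfl
  have hMq : M ^ q = 1 := by rw [← hM]; exact pow_orderOf_eq_one M
  have hM1 : M ≠ 1 := by
    intro h
    rw [h, orderOf_one] at hM
    exact hq.one_lt.ne' hM.symm
  -- every element of `A` has order dividing `q`
  have hAq : ∀ φ : A, φ ^ q = 1 := by
    intro φ
    refine MonoidHom.ext fun n => ?_
    rw [MonoidHom.pow_apply, MonoidHom.one_apply]
    have := (φ n).2
    rw [mem_rootsOfUnity] at this
    apply Subtype.ext
    rw [Subgroup.coe_pow, Subgroup.coe_one]
    exact this
  refine mem_zpowers_of_fpf (A := A) ?_ ?_ ?_ z hz hzo a ha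
  · -- freeness
    intro m hm φ hφ
    by_contra hφ1
    obtain ⟨t, rfl⟩ := QuotientGroup.mk_surjective m
    apply hm
    rw [QuotientGroup.eq_one_iff, Subgroup.mem_subgroupOf]
    set M' : N →* ℂˣ := (rootsOfUnity q ℂ).subtype.comp φ with hM'
    have hM'val : ∀ n : N, M' n = ((φ n : rootsOfUnity q ℂ) : ℂˣ) := fun n => rfl
    have hM'1 : M' ≠ 1 := by
      intro h
      apply hφ1
      refine MonoidHom.ext fun n => ?_
      have h1 := DFunLike.congr_fun h n
      rw [hM'val, MonoidHom.one_apply] at h1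
      rw [MonoidHom.one_apply]
      exact Subtype.ext h1
    have hM'o : orderOf M' = q := by
      have h1 : orderOf M' ∣ q := by
        apply orderOf_dvd_of_pow_eq_one
        refine MonoidHom.ext fun n => ?_
        rw [MonoidHom.pow_apply, MonoidHom.one_apply, hM'val, ← Subgroup.coe_pow]
        have h2 := DFunLike.congr_fun (hAq φ) n
        rw [MonoidHom.pow_apply, MonoidHom.one_apply] at h2
        rw [h2, Subgroup.coe_one]
      rcases (Nat.dvd_prime hq).mp h1 with h2 | h2
      · exact absurd (orderOf_eq_one_iff.mp h2) hM'1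
      · exact h2
    apply mem_of_mem_inertia_inf N hcam p q hp hq hpq L M' hL hM'o (t : G) (hT ▸ t.2)
    rw [hsm] at hφ
    have hinv : (t : G)⁻¹ ∈ inertiaSubgroup N (coeFun N M') := by
      rw [mem_inertiaSubgroup]
      intro n
      have h1 := DFunLike.congr_fun hφ n
      rw [quotHom_mk] at h1
      rw [coeFun_apply, coeFun_apply, hM'val, hM'val, ← h1]
      rfl
    simpa using (inertiaSubgroup N (coeFun N M')).inv_mem hinv
  · -- nontriviality
    have hmem : ∀ n : N, M n ∈ rootsOfUnity q ℂ := by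
      intro n
      rw [mem_rootsOfUnity, ← MonoidHom.pow_apply, hMq, MonoidHom.one_apply]
    refine ⟨M.codRestrict (rootsOfUnity q ℂ) hmem, ?_⟩
    intro h
    apply hM1
    refine MonoidHom.ext fun n => ?_
    have h1 := DFunLike.congr_fun h n
    rw [MonoidHom.one_apply] at h1
    have h2 := congrArg Subtype.val h1
    rw [MonoidHom.one_apply]
    exact h2
  · -- no `p`-torsion
    intro φ hφ
    have h1 : orderOf φ ∣ p := orderOf_dvd_of_pow_eq_one hφ
    have h2 : orderOf φ ∣ q := by
      apply orderOf_dvd_of_pow_eq_one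
      exact hAq φ
    have h3 : orderOf φ ∣ Nat.gcd p q := Nat.dvd_gcd h1 h2
    rw [(Nat.coprime_primes hp hq).mpr hpq] at h3
    exact orderOf_eq_one_iff.mp (Nat.dvd_one.mp h3)

end Unique

end Cfsg.Agent.Helper24.Cam
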