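import Mathlib
import Cfsg.Prelude.Def_Characters
import Cfsg.Prelude.Def_CharExt
import Cfsg.Agent.Helper24.CamE
import Cfsg.Agent.Helper24.CliffordCorr
import Cfsg.Agent.Helper24.CyclicExtension
import Cfsg.Agent.Helper24.CharBasic
import Cfsg.Agent.Helper5.DLSylA

/-!
Camina pairs, part F: if a prime `p` divides both `|N|` and `[G : N]`, then `N` has no linear
character of prime order `q ≠ p`.
-/

set_option autoImplicit false

namespace Cfsg.Agent.Helper24.Cam

open Representation Module Cfsg Cfsg.Agent.Helper24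

universe u v

section Central

variable {Γ : Type u} [Group Γ] [Finite Γ]
variable {V : Type v} [AddCommGroup V] [Module ℂ V] [FiniteDimensional ℂ V]

/-- an irreducible representation which is scalar on `K` and whose character vanishes off `K`
admits no element `z ∉ K` which is, modulo `K`, a power of every element outside `K`. -/
theorem false_of_central (ρ : Representation ℂ Γ V) [ρ.IsIrreducible] (K : Subgroup Γ)
    (hsc : ∀ k ∈ K, ∃ c : ℂ, ρ k = c • (LinearMap.id : V →ₗ[ℂ] V))
    (hvan : ∀ g : Γ, g ∉ K → ρ.character g = 0) (z : Γ) (hz : z ∉ K)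
    (hw : ∀ v : Γ, v ∉ K → ∃ w : Γ, Commute v w ∧ z⁻¹ * w ∈ K) : False := by
  have hpos := finrank_pos_of_isIrreducible ρ
  haveI : Nontrivial V := Module.finrank_pos_iff.mp hpos
  have hcomm : ∀ v : Γ, ρ z ∘ₗ ρ v = ρ v ∘ₗ ρ z := by
    intro v
    by_cases hv : v ∈ K
    · obtain ⟨c, hc⟩ := hsc v hv
      rw [hc, LinearMap.comp_smul, LinearMap.smul_comp, LinearMap.comp_id, LinearMap.id_comp]
    · obtain ⟨w, hcw, hzw⟩ := hw v hv
      obtain ⟨c, hc⟩ := hsc _ hzw
      have hρw : ρ w = c • ρ z := by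
        have : w = z * (z⁻¹ * w) := by group
        rw [this, map_mul, hc, Module.End.mul_eq_comp, LinearMap.comp_smul, LinearMap.comp_id]
      have hc0 : c ≠ 0 := by
        intro h0
        rw [h0, zero_smul] at hρw
        have h1 : ρ w * ρ w⁻¹ = 1 := by rw [← map_mul, mul_inv_cancel, map_one]
        rw [hρw, zero_mul] at h1
        have h2 : (0 : V →ₗ[ℂ] V) = LinearMap.id := h1
        obtain ⟨x, hx⟩ := exists_ne (0 : V)
        have := congrArg (fun f : V →ₗ[ℂ] V => f x) h2
        simp only [LinearMap.zero_apply, LinearMap.id_apply] at this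
        exact hx this.symm
      have h1 : ρ v * ρ w = ρ w * ρ v := by
        rw [← map_mul, ← map_mul, hcw.eq]
      rw [hρw, Module.End.mul_eq_comp, Module.End.mul_eq_comp, LinearMap.comp_smul,
        LinearMap.smul_comp] at h1
      have h2 := smul_right_injective (V →ₗ[ℂ] V) hc0 h1
      exact h2.symm
  obtain ⟨c, hc⟩ := exists_scalar_of_commute ρ (ρ z) hcomm
  have h1 := (norm_char_eq_iff ρ z).mpr ⟨c, hc⟩
  rw [hvan z hz, norm_zero] at h1
  have h2 : (finrank ℂ V : ℝ) ≠ 0 := by exact_mod_cast hpos.ne'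
  exact h2 h1.symm

end Central

section PGroup

/-- in a finite `p`-group in which the elements of order dividing `p` all lie in the cyclic
subgroup generated by `z` (of order `p`), `z` is a power of every nonidentity element. -/
theorem mem_zpowers_of_unique {Q : Type*} [Group Q] [Finite Q] {p : ℕ} [hp : Fact p.Prime]
    (hQ : IsPGroup p Q) (z : Q) (hzo : orderOf z = p)
    (huniq : ∀ a : Q, a ^ p = 1 → a ∈ Subgroup.zpowers z) (v : Q) (hv : v ≠ 1) :
    z ∈ Subgroup.zpowers v := by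
  obtain ⟨k, hk⟩ := (IsPGroup.iff_orderOf.mp hQ) v
  have hk0 : k ≠ 0 := by
    rintro rfl
    rw [pow_zero] at hk
    exact hv (orderOf_eq_one_iff.mp hk)
  obtain ⟨k', rfl⟩ := Nat.exists_eq_succ_of_ne_zero hk0
  set a := v ^ (p ^ k') with ha
  have hao : orderOf a = p := by
    rw [ha, orderOf_pow_of_dvd (pow_ne_zero _ hp.out.ne_zero) (by rw [hk]; exact ⟨p, pow_succ p k'⟩),
      hk, pow_succ]
    exact Nat.mul_div_cancel_left _ (pow_pos hp.out.pos _)
  have hap : a ^ p = 1 := by rw [← hao]; exact pow_orderOf_eq_one a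
  have haz : a ∈ Subgroup.zpowers z := huniq a hap
  have hle : Subgroup.zpowers a ≤ Subgroup.zpowers z := by
    rw [Subgroup.zpowers_le]
    exact haz
  have hcard : Nat.card (Subgroup.zpowers z) ≤ Nat.card (Subgroup.zpowers a) := by
    rw [Nat.card_zpowers, Nat.card_zpowers, hao, hzo]
  have heq := Subgroup.eq_of_le_of_card_ge hle hcard
  have hz : z ∈ Subgroup.zpowers a := by
    rw [heq]
    exact Subgroup.mem_zpowers z
  have hav : Subgroup.zpowers a ≤ Subgroup.zpowers v := by
    rw [Subgroup.zpowers_le, ha]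
    exact Subgroup.pow_mem _ (Subgroup.mem_zpowers v) _
  exact hav hz

end PGroup

section Main

variable {G : Type u} [Group G] [Finite G]

/-- **Main lemma.** In a Camina pair `(G, N)`, if the prime `p` divides both `|N|` and `[G : N]`
then `N` has no linear character of prime order `q ≠ p`. -/
theorem no_linear_of_prime_dvd (N : Subgroup G) [hN : N.Normal] (hcam : Hyp N) (p q : ℕ)
    (hp : p.Prime) (hq : q.Prime) (hpq : p ≠ q) (hpN : p ∣ Nat.card N) (hpI : p ∣ N.index)
    (M : N →* ℂˣ) (hM : orderOf M = q) : False := by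
  classical
  haveI : Fintype G := Fintype.ofFinite G
  haveI : Fintype N := Fintype.ofFinite N
  haveI : Fact p.Prime := ⟨hp⟩
  obtain ⟨L, hL, hpT⟩ := exists_hom_of_prime_dvd N hcam p hp hpN hpI
  have hL1 : L ≠ 1 := by
    intro h
    rw [h, orderOf_one] at hL
    exact hp.one_lt.ne' hL.symm
  have hLirr := isIrr_coeFun N L
  obtain ⟨T, hT⟩ : ∃ T, T = inertiaSubgroup N (coeFun N L) := ⟨_, rfl⟩
  have hpT' : p ∣ N.relIndex T := by rw [hT]; exact hpT
  have hNT : N ≤ T := by
    rw [hT]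
    exact le_inertiaSubgroup N _ (IsCharacter.isClassFunction (IsIrrCharacter.isCharacter hLirr))
  obtain ⟨a, ha⟩ := exists_relIndex_eq_pow N hcam p hp L hL
  have ha' : N.relIndex T = p ^ a := by rw [hT]; exact ha
  have ha0 : a ≠ 0 := by
    rintro rfl
    rw [pow_zero] at ha'
    rw [ha'] at hpT'
    exact hp.one_lt.ne' (Nat.dvd_one.mp hpT')
  haveI : Fintype T := Fintype.ofFinite _
  haveI : Fintype (N.subgroupOf T) := Fintype.ofFinite _
  have hQcard : Nat.card (T ⧸ N.subgroupOf T) = p ^ a := ha'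
  have hQp : IsPGroup p (T ⧸ N.subgroupOf T) := IsPGroup.of_card hQcard
  haveI : Nontrivial (T ⧸ N.subgroupOf T) := by
    apply (Finite.one_lt_card_iff_nontrivial).mp
    rw [hQcard]
    exact Nat.one_lt_pow ha0 hp.one_lt
  -- a central element of order `p`
  haveI hcen : Nontrivial (Subgroup.center (T ⧸ N.subgroupOf T)) := hQp.center_nontrivial
  have hpc : p ∣ Nat.card (Subgroup.center (T ⧸ N.subgroupOf T)) := by
    obtain ⟨k, hk⟩ := (IsPGroup.iff_card).mp (hQp.to_subgroup (Subgroup.center (T ⧸ N.subgroupOf T)))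
    rw [hk]
    have hk0 : k ≠ 0 := by
      rintro rfl
      rw [pow_zero] at hk
      have := (Finite.one_lt_card_iff_nontrivial).mpr hcen
      omega
    exact dvd_pow_self p hk0
  obtain ⟨⟨z, hzc⟩, hzo⟩ := exists_prime_orderOf_dvd_card' p hpc
  have hzo' : orderOf z = p := by
    rw [← hzo]
    exact (Subgroup.orderOf_mk z hzc).symm
  have huniq : ∀ b : T ⧸ N.subgroupOf T, b ^ p = 1 → b ∈ Subgroup.zpowers z := fun b hb =>
    quotient_mem_zpowers N hcam p q hp hq hpq L M hL hM T hT z hzc hzo' b hb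
  obtain ⟨z0, rfl⟩ := QuotientGroup.mk_surjective z
  have hz0 : z0 ∉ N.subgroupOf T := by
    intro h
    have h1 : (QuotientGroup.mk z0 : T ⧸ N.subgroupOf T) = 1 := (QuotientGroup.eq_one_iff z0).mpr h
    rw [h1, orderOf_one] at hzo'
    exact hp.one_lt.ne hzo'
  have hw : ∀ v : T, v ∉ N.subgroupOf T → ∃ w : T, Commute v w ∧ z0⁻¹ * w ∈ N.subgroupOf T := by
    intro v hv
    have hv1 : (QuotientGroup.mk v : T ⧸ N.subgroupOf T) ≠ 1 := fun h =>
      hv ((QuotientGroup.eq_one_iff v).mp h)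
    have h1 := mem_zpowers_of_unique hQp _ hzo' huniq _ hv1
    obtain ⟨m, hm⟩ := Subgroup.mem_zpowers_iff.mp h1
    refine ⟨v ^ m, (Commute.refl v).zpow_right m, ?_⟩
    rw [← QuotientGroup.eq, QuotientGroup.mk_zpow]
    exact hm.symm
  -- the character of `T` over `λ`
  obtain ⟨lam', hlam'⟩ : ∃ lam', lam' = Helper8.toSubgroupOf N T (coeFun N L) := ⟨_, rfl⟩
  have hlam'val : ∀ x : N.subgroupOf T,
      lam' x = coeFun N L ⟨((x : T) : G), Subgroup.mem_subgroupOf.mp x.2⟩ := fun x => by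
    rw [hlam']; rfl
  have hlam'irr : IsIrrCharacter (N.subgroupOf T) lam' := by
    rw [hlam']
    exact Helper8.isIrrCharacter_comp_surjective (Subgroup.subgroupOfEquivOfLe hNT).toMonoidHom
      (Subgroup.subgroupOfEquivOfLe hNT).surjective hLirr
  have hlam'1 : lam' 1 = 1 := by
    rw [hlam'val]
    exact coeFun_one N L
  obtain ⟨ψ, hψcon⟩ := Helper29.TwoDeg.exists_irr_over (G := T) (N.subgroupOf T) ⟨lam', hlam'irr⟩
  simp only at hψcon
  have hTmem : ∀ g : G, g ∈ T ↔ ∀ h : N,
      coeFun N L ⟨g * h * g⁻¹, hN.conj_mem h h.2 g⟩ = coeFun N L h := by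
    rw [hT]
    exact mem_inertiaSubgroup N _
  have hξ : classInner (indFun (N.subgroupOf T) (Helper8.toSubgroupOf N T (coeFun N L)))
      (ψ : T → ℂ) ≠ 0 := by
    rw [← hlam', Helper8.frobenius_reciprocity (N.subgroupOf T) lam' (ψ : T → ℂ)
      (isClassFunction_irr ψ), ← classInner_conj_symm]
    exact (map_ne_zero _).mpr hψcon
  obtain ⟨hχirr, hχcon⟩ := Helper5.DLS.ind_over N T ⟨coeFun N L, hLirr⟩ hTmem hNT ψ hξ
  simp only at hχcon
  obtain ⟨χ', hχ'⟩ : ∃ χ', χ' = indFun T (ψ : T → ℂ) := ⟨_, rfl⟩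
  rw [← hχ'] at hχirr hχcon
  have hvan := irr_eq_zero_of_hyp N hcam hχirr hLirr (coeFun_ne_one N L hL1) hχcon
  haveI : Fintype (IrrCharacter N) := Fintype.ofFinite _
  obtain ⟨e, he⟩ := IsCharacter.classInner_irr_nat
    (Helper8.isCharacter_restrict N (IsIrrCharacter.isCharacter hχirr)) ⟨coeFun N L, hLirr⟩
  simp only at he
  have he0 : e ≠ 0 := by
    rintro rfl
    exact hχcon (by rw [he]; simp)
  have hsq := sq_mul_index_inertia N hχirr hLirr hvan e he he0
  rw [← hT] at hsq
  have hrel := Subgroup.relIndex_mul_index hNT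
  have hTi : 0 < T.index := Nat.pos_of_ne_zero Subgroup.index_ne_zero_of_finite
  have hesq : e ^ 2 = N.relIndex T := by
    rw [← hrel] at hsq
    exact Nat.eq_of_mul_eq_mul_right hTi hsq
  have hdeg := apply_one_eq_mul_index N hχirr hLirr e he he0
  rw [← hT, coeFun_one, mul_one] at hdeg
  have hind : χ' 1 = (T.index : ℂ) * (ψ : T → ℂ) 1 := by
    rw [hχ', Helper5.indFun_apply_one]
  have hψ1 : (ψ : T → ℂ) 1 = e := by
    have hTi' : (T.index : ℂ) ≠ 0 := by exact_mod_cast hTi.ne'
    have : (T.index : ℂ) * (ψ : T → ℂ) 1 = (T.index : ℂ) * e := by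
      rw [← hind, hdeg]; ring
    exact mul_left_cancel₀ hTi' this
  -- `ψ` is fully ramified over `λ'`
  have hinv' : ∀ (g : T) (n : N.subgroupOf T),
      lam' ⟨g * n * g⁻¹, (inferInstance : (N.subgroupOf T).Normal).conj_mem (n : T) n.2 g⟩ =
        lam' n := by
    intro g n
    have h1 := (hTmem (g : G)).mp g.2 ⟨((n : T) : G), Subgroup.mem_subgroupOf.mp n.2⟩
    rw [hlam'val, hlam'val, ← h1]
    congr 1
  obtain ⟨e', he'0, he'res, -⟩ := exists_restrict_eq_smul_of_invariant (N.subgroupOf T)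
    (ψ : T → ℂ) lam' ψ.2 hlam'irr hψcon hinv'
  have he'e : e' = e := by
    have h1 := congrFun he'res 1
    simp only [OneMemClass.coe_one, Pi.smul_apply, smul_eq_mul] at h1
    rw [hψ1, hlam'1, mul_one] at h1
    exact_mod_cast h1.symm
  have hfr := ((fully_ramified_iff (N.subgroupOf T) (ψ : T → ℂ) lam' ψ.2 hlam'irr hψcon).1.mp
    ⟨e', he'res, by rw [he'e, hesq]; rfl⟩).1
  -- the representation
  obtain ⟨n, ρ, hρirr, hρχ⟩ := ψ.2
  haveI := hρirr
  have htop : inertiaSubgroup (N.subgroupOf T) lam' = ⊤ := by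
    rw [eq_top_iff]
    intro g _
    rw [mem_inertiaSubgroup]
    exact hinv' g
  have hlamρ : classInner (fun x : N.subgroupOf T => ρ.character x) lam' ≠ 0 := by
    rw [hρχ]
    exact hψcon
  have hsc := scalar_of_inertia_eq_top ρ (N.subgroupOf T) lam' hlam'irr hlam'1 hlamρ htop
  refine false_of_central ρ (N.subgroupOf T) hsc ?_ z0 hz0 hw
  intro g hg
  rw [hρχ]
  exact hfr g hg

end Main

end Cfsg.Agent.Helper24.Cam
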