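import Mathlib
import Cfsg.Agent.Helper24.CamF
import Cfsg.Agent.Helper1.RankOneQ

/-!
# Camina pairs, part G: linear characters of prime order on nilpotent groups, and the assembly
-/

set_option autoImplicit false
set_option linter.style.haveILetI false
set_option linter.unusedSectionVars false
set_option linter.unusedVariables false

namespace Cfsg.Agent.Helper24.Cam

universe u

section Nilpotent

variable {H : Type u} [Group H] [Finite H]

/-- A nontrivial homomorphism to `ℂˣ` killed by a power of the prime `q` yields one of order `q`. -/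
theorem exists_orderOf_eq_prime_of_pow (q : ℕ) (hq : q.Prime) (M0 : H →* ℂˣ) (hM0 : M0 ≠ 1)
    (k : ℕ) (hk : M0 ^ (q ^ k) = 1) : ∃ M : H →* ℂˣ, orderOf M = q := by
  have hdvd : orderOf M0 ∣ q ^ k := orderOf_dvd_of_pow_eq_one hk
  obtain ⟨j, hjk, hj⟩ := (Nat.dvd_prime_pow hq).mp hdvd
  have hj0 : j ≠ 0 := by
    rintro rfl
    rw [pow_zero, orderOf_eq_one_iff] at hj
    exact hM0 hj
  obtain ⟨i, rfl⟩ := Nat.exists_eq_succ_of_ne_zero hj0
  refine ⟨M0 ^ (q ^ i), ?_⟩
  have hd : q ^ i ∣ orderOf M0 := by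
    rw [hj]
    exact pow_dvd_pow q (Nat.le_succ i)
  rw [orderOf_pow_of_dvd (pow_ne_zero _ hq.ne_zero) hd, hj, pow_succ,
    Nat.mul_div_cancel_left _ (pow_pos hq.pos i)]

/-- A nontrivial finite `q`-group has a linear character of order `q`. -/
theorem exists_orderOf_eq_prime_of_pGroup (q : ℕ) (hq : q.Prime) (hP : IsPGroup q H)
    [Nontrivial H] : ∃ M : H →* ℂˣ, orderOf M = q := by
  haveI : Fact q.Prime := ⟨hq⟩
  haveI : Group.IsNilpotent H := hP.isNilpotent
  have hlt : commutator H < ⊤ := Group.IsSolvable.commutator_lt_top_of_nontrivial H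
  obtain ⟨x, -, hx⟩ := SetLike.exists_of_lt hlt
  have hne : Abelianization.of x ≠ 1 := fun h1 => hx ((QuotientGroup.eq_one_iff x).mp h1)
  haveI : NeZero ((Monoid.exponent (Abelianization H) : ℕ) : ℂ) :=
    ⟨by exact_mod_cast Monoid.exponent_ne_zero_of_finite⟩
  obtain ⟨φ, hφ⟩ := CommGroup.exists_apply_ne_one_of_hasEnoughRootsOfUnity (Abelianization H) ℂ hne
  obtain ⟨k, hk⟩ := IsPGroup.iff_card.mp hP
  refine exists_orderOf_eq_prime_of_pow q hq (φ.comp Abelianization.of) ?_ k ?_
  · intro h
    apply hφ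
    have := DFunLike.congr_fun h x
    simpa using this
  · refine MonoidHom.ext fun y => ?_
    rw [MonoidHom.pow_apply, ← map_pow, ← hk, pow_card_eq_one', map_one, MonoidHom.one_apply]

/-- A finite nilpotent group whose order is divisible by the prime `q` has a linear character of
order `q`. -/
theorem exists_orderOf_eq_prime_of_nilpotent [hnil : Group.IsNilpotent H] (q : ℕ) (hq : q.Prime)
    (hqH : q ∣ Nat.card H) : ∃ M : H →* ℂˣ, orderOf M = q := by
  haveI : Fact q.Prime := ⟨hq⟩
  obtain ⟨e⟩ := ((Group.isNilpotent_of_finite_tfae (G := H)).out 0 4).mp hnil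
  have hqm : q ∈ (Nat.card H).primeFactors :=
    Nat.mem_primeFactors.mpr ⟨hq, hqH, Nat.card_pos.ne'⟩
  obtain ⟨P⟩ : Nonempty (Sylow q H) := inferInstance
  haveI : Nontrivial (P : Subgroup H) := by
    rw [Subgroup.nontrivial_iff_ne_bot]
    exact P.ne_bot_of_dvd_card hqH
  obtain ⟨M1, hM1⟩ := exists_orderOf_eq_prime_of_pGroup (H := (P : Subgroup H)) q hq P.isPGroup'
  let π : H →* (P : Subgroup H) :=
    ((Pi.evalMonoidHom _ P).comp (Pi.evalMonoidHom
      (fun p : (Nat.card H).primeFactors => ∀ P : Sylow p H, (↑P : Subgroup H)) ⟨q, hqm⟩)).comp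
      e.symm.toMonoidHom
  have hπ : Function.Surjective π := by
    intro y
    obtain ⟨f1, hf1⟩ := Function.surjective_eval
      (β := fun P : Sylow q H => (↑P : Subgroup H)) P y
    obtain ⟨f2, hf2⟩ := Function.surjective_eval
      (β := fun p : (Nat.card H).primeFactors => ∀ P : Sylow p H, (↑P : Subgroup H))
      (⟨q, hqm⟩ : (Nat.card H).primeFactors) f1
    refine ⟨e f2, ?_⟩
    change (e.symm (e f2)) ⟨q, hqm⟩ P = y
    rw [MulEquiv.symm_apply_apply]
    change Function.eval P (Function.eval (⟨q, hqm⟩ : (Nat.card H).primeFactors) f2) = y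
    rw [hf2, hf1]
  refine ⟨M1.comp π, ?_⟩
  refine Eq.trans ?_ hM1
  refine orderOf_injective (MonoidHom.compHom' π) ?_ M1
  intro a b hab
  refine MonoidHom.ext fun y => ?_
  obtain ⟨x, rfl⟩ := hπ y
  exact DFunLike.congr_fun hab x

end Nilpotent

section Main

variable {G : Type u} [Group G] [Finite G]

/-- In a Camina pair `(G, N)`, if the prime `p` divides `|N|` and `[G : N]` and some prime `r ≠ p`
divides `[G : N]`, then every prime dividing `|N|` equals `p`. -/
theorem prime_eq_of_dvd_card (N : Subgroup G) [hN : N.Normal] (hcam : Hyp N) (p r q : ℕ)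
    (hp : p.Prime) (hr : r.Prime) (hq : q.Prime) (hpN : p ∣ Nat.card N) (hpI : p ∣ N.index)
    (hrp : r ≠ p) (hrI : r ∣ N.index) (hqN : q ∣ Nat.card N) : q = p := by
  by_contra hqp
  by_cases hrN : r ∣ Nat.card N
  · obtain ⟨L, hL, -⟩ := exists_hom_of_prime_dvd N hcam r hr hrN hrI
    exact no_linear_of_prime_dvd N hcam p r hp hr (Ne.symm hrp) hpN hpI L hL
  · haveI : Fact r.Prime := ⟨hr⟩
    have hrG : r ∣ Nat.card G := by
      rw [← N.card_mul_index]
      exact dvd_mul_of_dvd_right hrI _
    obtain ⟨y, hy⟩ := exists_prime_orderOf_dvd_card' r hrG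
    have hordN : ∀ n : G, n ∈ N → orderOf n ∣ Nat.card N := by
      intro n hn
      have := orderOf_dvd_natCard (⟨n, hn⟩ : N)
      rwa [Subgroup.orderOf_mk] at this
    have hyN : y ∉ N := by
      intro h
      apply hrN
      rw [← hy]
      exact hordN y h
    have hfpf : N ⊓ Subgroup.centralizer {y} = ⊥ := by
      rw [eq_bot_iff]
      intro n hn
      obtain ⟨hnN, hnc⟩ := Subgroup.mem_inf.mp hn
      rw [Subgroup.mem_bot]
      rw [Subgroup.mem_centralizer_singleton_iff] at hnc
      refine hcam.eq_one_of_commute hyN hnN ?_ ?_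
      · exact hnc.symm
      · rw [hy, Nat.Prime.coprime_iff_not_dvd hr]
        intro h
        exact hrN (h.trans (hordN n hnN))
    have hnil : Group.IsNilpotent N :=
      Cfsg.Agent.Helper1.RankOneQ.nilpotent_of_fpf_conj N hr
        (by rw [Subgroup.normalizer_eq_top]; exact Subgroup.mem_top y)
        (by rw [← hy]; exact pow_orderOf_eq_one y) hfpf
    obtain ⟨M, hM⟩ := exists_orderOf_eq_prime_of_nilpotent (H := N) q hq hqN
    exact no_linear_of_prime_dvd N hcam p q hp hq (Ne.symm hqp) hpN hpI M hM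

/-- **Camina's trichotomy.** -/
theorem trichotomy (N : Subgroup G) [hN : N.Normal] (hN1 : N ≠ ⊥) (hN2 : N ≠ ⊤) (hcam : Hyp N) :
    (∀ x ∈ N, x ≠ 1 → Subgroup.centralizer ({x} : Set G) ≤ N) ∨
      IsPrimePow (Nat.card N) ∨ IsPrimePow N.index := by
  by_cases hcop : Nat.Coprime (Nat.card N) N.index
  · left
    intro x hx hx1
    exact hcam.centralizer_le_of_coprime hcop hx hx1
  · right
    obtain ⟨p, hp, hpN, hpI⟩ := Nat.Prime.not_coprime_iff_dvd.mp hcop
    by_cases hall : ∀ r : ℕ, r.Prime → r ∣ N.index → r = p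
    · right
      have hidx : N.index ≠ 0 := Subgroup.index_ne_zero_of_finite
      have hk := Nat.eq_prime_pow_of_unique_prime_dvd hidx (fun {d} hd hdi => hall d hd hdi)
      rw [hk]
      refine hp.isPrimePow.pow ?_
      intro h0
      rw [h0, pow_zero] at hk
      exact hN2 (Subgroup.index_eq_one.mp hk)
    · left
      push Not at hall
      obtain ⟨r, hr, hrI, hrp⟩ := hall
      have hcard : Nat.card N ≠ 0 := Nat.card_pos.ne'
      have hk := Nat.eq_prime_pow_of_unique_prime_dvd hcard (fun {d} hd hdN =>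
        prime_eq_of_dvd_card N hcam p r d hp hr hd hpN hpI hrp hrI hdN)
      rw [hk]
      refine hp.isPrimePow.pow ?_
      intro h0
      rw [h0, pow_zero] at hk
      exact hN1 (Subgroup.card_eq_one.mp hk)

end Main

end Cfsg.Agent.Helper24.Cam
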