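import Mathlib
import Cfsg.Prelude.Def_Characters
import Cfsg.Agent.Helper5.BlockSupport
import Cfsg.Agent.Helper24.ColumnOrth
import Cfsg.Agent.Helper24.Span

/-!
A conjugacy class equal to a difference `M \ N` of normal subgroups, in terms of characters.
-/

namespace Cfsg.Agent.Helper24

open Cfsg

universe u

section ClassDiff

variable {G : Type u} [Group G] [Fintype G]

/-- If `N ⊴ G` is not in the kernel of the irreducible character `χ` then
`∑_{n ∈ N} χ (n x) = 0` for all `x`. -/
theorem sum_coset_eq_zero_of_not_le_ker (N : Subgroup G) [N.Normal] (χ : IrrCharacter G)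
    (h : ∃ x ∈ N, (χ : G → ℂ) x ≠ (χ : G → ℂ) 1) (x : G) [DecidablePred (· ∈ N)] :
    ∑ n : G, (if n ∈ N then (χ : G → ℂ) (n * x) else 0) = 0 := by
  classical
  haveI : Fintype N := Fintype.ofFinite _
  have h0 : classInner (fun n : N => (χ : G → ℂ) n) (fun _ : N => (1 : ℂ)) = 0 := by
    by_contra hne
    obtain ⟨y, hy, hyne⟩ := h
    exact hyne (Helper5.CC.eq_one_of_trivial_constituent N χ hne y hy)
  have hsumN : ∑ n : G, (if n ∈ N then (1 : ℂ) else 0) * (χ : G → ℂ) n = 0 := by
    rw [classInner] at h0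
    have hN : (Nat.card N : ℂ)⁻¹ ≠ 0 := inv_ne_zero (by exact_mod_cast Nat.card_pos.ne')
    have h1 := (mul_eq_zero.mp h0).resolve_left hN
    have h1' : ∑ n : N, (χ : G → ℂ) n = 0 := by simpa using h1
    have h5 : ∑ n : G, (if n ∈ N then (1 : ℂ) else 0) * (χ : G → ℂ) n =
        ∑ n : N, (χ : G → ℂ) n := by
      simp_rw [ite_mul, one_mul, zero_mul]
      rw [← Finset.sum_filter]
      rw [← Finset.sum_subtype (Finset.univ.filter (· ∈ N)) (fun g => by simp)
        (fun g => (χ : G → ℂ) g)]
    rw [h5]; exact h1'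
  have hcf : IsClassFunction G (fun n : G => if n ∈ N then (1 : ℂ) else 0) := by
    intro g k
    have : k * g * k⁻¹ ∈ N ↔ g ∈ N := by
      constructor
      · intro hk
        have := ‹N.Normal›.conj_mem _ hk k⁻¹
        simpa [mul_assoc] using this
      · intro hg
        exact ‹N.Normal›.conj_mem _ hg k
    simp only [this]
  have h2 := irr_sum_mul_char_mul χ _ hcf x
  rw [hsumN, mul_zero] at h2
  have h3 := (mul_eq_zero.mp h2).resolve_left (irr_one_ne_zero χ)
  have h4 : ∑ n : G, (if n ∈ N then (χ : G → ℂ) (n * x) else 0) =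
      ∑ g : G, (if g ∈ N then (1 : ℂ) else 0) * (χ : G → ℂ) (g * x) :=
    Finset.sum_congr rfl fun n _ => by split_ifs <;> simp
  rw [h4]; exact h3

/-- The class of `g ∈ M \ N` is `M \ N` iff characters with `N` in the kernel are constant on
`M \ N` and the others vanish at `g`. -/
theorem class_eq_diff_iff (N M : Subgroup G) [hNn : N.Normal] [hMn : M.Normal] (hNM : N ≤ M)
    (g : G) (hgM : g ∈ M) (hgN : g ∉ N) :
    {h : G | IsConj g h} = (M : Set G) \ (N : Set G) ↔
      ((∀ χ : IrrCharacter G, (∀ x ∈ N, (χ : G → ℂ) x = (χ : G → ℂ) 1) →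
        ∀ x ∈ M, x ∉ N → ∀ y ∈ M, y ∉ N → (χ : G → ℂ) x = (χ : G → ℂ) y) ∧
      (∀ χ : IrrCharacter G, (∃ x ∈ N, (χ : G → ℂ) x ≠ (χ : G → ℂ) 1) →
        (χ : G → ℂ) g = 0)) := by
  classical
  haveI : Fintype (IrrCharacter G) := Fintype.ofFinite _
  constructor
  · intro hcl
    have hconj : ∀ x ∈ M, x ∉ N → IsConj g x := by
      intro x hxM hxN
      have : x ∈ (M : Set G) \ (N : Set G) := ⟨hxM, hxN⟩
      rw [← hcl] at this
      exact this
    refine ⟨?_, ?_⟩
    · intro χ _ x hxM hxN y hyM hyN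
      rw [← IsClassFunction.eq_of_isConj (isClassFunction_irr χ) (hconj x hxM hxN),
        ← IsClassFunction.eq_of_isConj (isClassFunction_irr χ) (hconj y hyM hyN)]
    · intro χ hχ
      have h0 := sum_coset_eq_zero_of_not_le_ker N χ hχ g
      have h1 : ∀ n : G, (if n ∈ N then (χ : G → ℂ) (n * g) else 0) =
          (if n ∈ N then (χ : G → ℂ) g else 0) := by
        intro n
        by_cases hn : n ∈ N
        · rw [if_pos hn, if_pos hn]
          have hM' : n * g ∈ M := M.mul_mem (hNM hn) hgM
          exact (IsClassFunction.eq_of_isConj (isClassFunction_irr χ)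
            (hconj (n * g) hM' (by
              intro h'
              apply hgN
              have := N.mul_mem (N.inv_mem hn) h'
              simpa using this))).symm
        · rw [if_neg hn, if_neg hn]
      simp_rw [h1] at h0
      rw [← Finset.sum_filter, Finset.sum_const, nsmul_eq_mul] at h0
      have hcard : ((Finset.univ.filter (· ∈ N)).card : ℂ) ≠ 0 := by
        have : 0 < (Finset.univ.filter (· ∈ N)).card :=
          Finset.card_pos.mpr ⟨1, Finset.mem_filter.mpr ⟨Finset.mem_univ _, N.one_mem⟩⟩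
        exact_mod_cast this.ne'
      exact (mul_eq_zero.mp h0).resolve_left hcard
  · rintro ⟨ha, hb⟩
    ext h
    simp only [Set.mem_ofPred_eq, Set.mem_sdiff, SetLike.mem_coe]
    constructor
    · intro hc
      obtain ⟨c, hc⟩ := isConj_iff.mp hc
      rw [← hc]
      refine ⟨hMn.conj_mem _ hgM c, ?_⟩
      intro h'
      apply hgN
      have := hNn.conj_mem _ h' c⁻¹
      simpa [mul_assoc] using this
    · rintro ⟨hhM, hhN⟩
      by_contra hnc
      have h1 := sum_irr_mul_conj g h
      rw [if_neg hnc] at h1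
      have h2 := sum_irr_mul_conj g g
      rw [if_pos (IsConj.refl g)] at h2
      have h3 : ∀ χ : IrrCharacter G, (χ : G → ℂ) g * (starRingEnd ℂ) ((χ : G → ℂ) h) =
          (χ : G → ℂ) g * (starRingEnd ℂ) ((χ : G → ℂ) g) := by
        intro χ
        by_cases hχ : ∀ x ∈ N, (χ : G → ℂ) x = (χ : G → ℂ) 1
        · rw [ha χ hχ h hhM hhN g hgM hgN]
        · push Not at hχ
          rw [hb χ hχ, zero_mul, zero_mul]
      simp_rw [h3] at h1
      rw [h1] at h2
      have : (Nat.card (Subgroup.centralizer ({g} : Set G)) : ℂ) ≠ 0 := by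
        exact_mod_cast Nat.card_pos.ne'
      exact this h2.symm

end ClassDiff

end Cfsg.Agent.Helper24
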