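import Mathlib

/-!
Integer vectors on a finite type: signed elements, coefficients, Bessel inequality, peeling.
Combinatorial preliminaries for the cyclic TI-subgroup theorem (Peterfalvi 3.2/3.5).
-/

set_option autoImplicit false

namespace Cfsg.Agent.Helper24.CycTI

variable {X : Type*} [Fintype X] [DecidableEq X]

/-- integer inner product -/
def ip (v w : X → ℤ) : ℤ := ∑ x, v x * w x

theorem ip_comm (v w : X → ℤ) : ip v w = ip w v := by
  unfold ip
  exact Finset.sum_congr rfl (fun x _ => mul_comm _ _)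

theorem ip_add_left (u v w : X → ℤ) : ip (u + v) w = ip u w + ip v w := by
  unfold ip
  rw [← Finset.sum_add_distrib]
  exact Finset.sum_congr rfl (fun x _ => by simp [add_mul])

theorem ip_add_right (u v w : X → ℤ) : ip u (v + w) = ip u v + ip u w := by
  rw [ip_comm, ip_add_left, ip_comm v, ip_comm w]

theorem ip_sub_left (u v w : X → ℤ) : ip (u - v) w = ip u w - ip v w := by
  unfold ip
  rw [← Finset.sum_sub_distrib]
  exact Finset.sum_congr rfl (fun x _ => by simp [sub_mul])

theorem ip_sub_right (u v w : X → ℤ) : ip u (v - w) = ip u v - ip u w := by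
  rw [ip_comm, ip_sub_left, ip_comm v, ip_comm w]

theorem ip_self_nonneg (v : X → ℤ) : 0 ≤ ip v v := by
  unfold ip
  exact Finset.sum_nonneg (fun x _ => mul_self_nonneg _)

theorem eq_zero_of_ip_self (v : X → ℤ) (h : ip v v = 0) : v = 0 := by
  unfold ip at h
  funext x
  have := (Finset.sum_eq_zero_iff_of_nonneg (fun x _ => mul_self_nonneg (v x))).mp h x
    (Finset.mem_univ x)
  exact mul_self_eq_zero.mp this

theorem sq_le_ip_self (v : X → ℤ) (x : X) : v x * v x ≤ ip v v := by
  unfold ip
  exact Finset.single_le_sum (f := fun x => v x * v x) (fun x _ => mul_self_nonneg _)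
    (Finset.mem_univ x)

/-- a signed element: a point with a sign -/
structure SE (X : Type*) where
  pt : X
  sg : ℤ
  hsg : sg = 1 ∨ sg = -1

theorem SE.ext' {e f : SE X} (h1 : e.pt = f.pt) (h2 : e.sg = f.sg) : e = f := by
  cases e; cases f; simp_all

theorem SE.sg_mul_self (e : SE X) : e.sg * e.sg = 1 := by
  rcases e.hsg with h | h <;> rw [h] <;> norm_num

/-- the vector of a signed element -/
def SE.vec (e : SE X) : X → ℤ := Pi.single e.pt e.sg

/-- coefficient of a vector at a signed element -/
def cf (v : X → ℤ) (e : SE X) : ℤ := e.sg * v e.pt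

/-- square of the coefficient -/
def sqc (v : X → ℤ) (e : SE X) : ℤ := cf v e * cf v e

theorem ip_vec (v : X → ℤ) (e : SE X) : ip v e.vec = cf v e := by
  unfold ip SE.vec cf
  rw [Finset.sum_eq_single e.pt]
  · rw [Pi.single_eq_same, mul_comm]
  · intro x _ hx
    rw [Pi.single_eq_of_ne hx, mul_zero]
  · intro h; exact absurd (Finset.mem_univ _) h

theorem cf_add (v w : X → ℤ) (e : SE X) : cf (v + w) e = cf v e + cf w e := by
  unfold cf; simp [mul_add]

theorem cf_sub (v w : X → ℤ) (e : SE X) : cf (v - w) e = cf v e - cf w e := by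
  unfold cf; simp [mul_sub]

theorem cf_zero (e : SE X) : cf (0 : X → ℤ) e = 0 := by
  unfold cf; simp

theorem cf_vec_self (e : SE X) : cf e.vec e = 1 := by
  unfold cf SE.vec
  rw [Pi.single_eq_same, e.sg_mul_self]

theorem cf_vec_of_ne {e f : SE X} (h : e.pt ≠ f.pt) : cf e.vec f = 0 := by
  unfold cf SE.vec
  rw [Pi.single_eq_of_ne (Ne.symm h), mul_zero]

theorem sqc_eq (v : X → ℤ) (e : SE X) : sqc v e = v e.pt * v e.pt := by
  unfold sqc cf
  have := e.sg_mul_self
  calc e.sg * v e.pt * (e.sg * v e.pt) = (e.sg * e.sg) * (v e.pt * v e.pt) := by ring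
    _ = v e.pt * v e.pt := by rw [this, one_mul]

theorem cf_le_sqc (v : X → ℤ) (e : SE X) : cf v e ≤ sqc v e ∧ -cf v e ≤ sqc v e := by
  unfold sqc
  constructor <;> nlinarith [mul_self_nonneg (cf v e - 1), mul_self_nonneg (cf v e + 1),
    mul_self_nonneg (cf v e)]

theorem sqc_nonneg (v : X → ℤ) (e : SE X) : 0 ≤ sqc v e := by
  unfold sqc; exact mul_self_nonneg _

/-- same point implies same square -/
theorem sqc_eq_of_pt_eq (v : X → ℤ) {e f : SE X} (h : e.pt = f.pt) : sqc v e = sqc v f := by
  rw [sqc_eq, sqc_eq, h]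

theorem pt_ne_of_sqc_ne {v : X → ℤ} {e f : SE X} (h : sqc v e ≠ sqc v f) : e.pt ≠ f.pt :=
  fun h' => h (sqc_eq_of_pt_eq v h')

/-- Bessel inequality for a list of signed elements at distinct points -/
theorem bessel (v : X → ℤ) (l : List (SE X)) (h : (l.map SE.pt).Nodup) :
    (l.map (sqc v)).sum ≤ ip v v := by
  have h1 : (l.map (sqc v)).sum = ((l.map SE.pt).map (fun x => v x * v x)).sum := by
    rw [List.map_map]
    congr 1
    apply List.map_congr_left
    intro e _
    exact sqc_eq v e
  rw [h1, ← List.sum_toFinset _ h]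
  unfold ip
  exact Finset.sum_le_sum_of_subset_of_nonneg (Finset.subset_univ _)
    (fun x _ _ => mul_self_nonneg _)

/-- If the named coefficients exhaust the norm, inner products are computed on the names. -/
theorem ip_of_full (s w : X → ℤ) (l : List (SE X)) (h : (l.map SE.pt).Nodup)
    (hfull : (l.map (sqc s)).sum = ip s s) :
    ip w s = (l.map (fun e => cf s e * cf w e)).sum := by
  have h1 : (l.map (sqc s)).sum = ((l.map SE.pt).map (fun x => s x * s x)).sum := by
    rw [List.map_map]
    congr 1
    apply List.map_congr_left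
    intro e _
    exact sqc_eq s e
  rw [h1, ← List.sum_toFinset _ h] at hfull
  set F := (l.map SE.pt).toFinset with hF
  have hzero : ∀ x, x ∉ F → s x = 0 := by
    intro x hx
    unfold ip at hfull
    have h2 : ∑ x ∈ Fᶜ, s x * s x = 0 := by
      have := Finset.sum_add_sum_compl F (fun x => s x * s x)
      linarith
    have := (Finset.sum_eq_zero_iff_of_nonneg (fun x _ => mul_self_nonneg (s x))).mp h2 x
      (Finset.mem_compl.mpr hx)
    exact mul_self_eq_zero.mp this
  have h3 : (l.map (fun e => cf s e * cf w e)).sum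
      = ((l.map SE.pt).map (fun x => w x * s x)).sum := by
    rw [List.map_map]
    congr 1
    apply List.map_congr_left
    intro e _
    unfold cf
    have := e.sg_mul_self
    show e.sg * s e.pt * (e.sg * w e.pt) = w e.pt * s e.pt
    calc e.sg * s e.pt * (e.sg * w e.pt) = (e.sg * e.sg) * (w e.pt * s e.pt) := by ring
      _ = w e.pt * s e.pt := by rw [this, one_mul]
  rw [h3, ← List.sum_toFinset _ h]
  unfold ip
  symm
  apply Finset.sum_subset (Finset.subset_univ _)
  intro x _ hx
  rw [hzero x hx, mul_zero]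

/-- residual bound: if the names carry all but norm one of `s`, the inner product differs from
the named part by at most one (for `w` of norm at most three). -/
theorem ip_resid (s w : X → ℤ) (l : List (SE X)) (h : (l.map SE.pt).Nodup)
    (hs : (l.map (sqc s)).sum + 1 = ip s s) (hw : ip w w ≤ 3) :
    ip w s - (l.map (fun e => cf s e * cf w e)).sum ≤ 1 ∧
      -1 ≤ ip w s - (l.map (fun e => cf s e * cf w e)).sum := by
  have h1 : (l.map (sqc s)).sum = ((l.map SE.pt).map (fun x => s x * s x)).sum := by
    rw [List.map_map]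
    congr 1
    apply List.map_congr_left
    intro e _
    exact sqc_eq s e
  rw [h1, ← List.sum_toFinset _ h] at hs
  set F := (l.map SE.pt).toFinset with hF
  have h3 : (l.map (fun e => cf s e * cf w e)).sum
      = ((l.map SE.pt).map (fun x => w x * s x)).sum := by
    rw [List.map_map]
    congr 1
    apply List.map_congr_left
    intro e _
    unfold cf
    have := e.sg_mul_self
    show e.sg * s e.pt * (e.sg * w e.pt) = w e.pt * s e.pt
    calc e.sg * s e.pt * (e.sg * w e.pt) = (e.sg * e.sg) * (w e.pt * s e.pt) := by ring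
      _ = w e.pt * s e.pt := by rw [this, one_mul]
  rw [h3, ← List.sum_toFinset _ h]
  have h4 : ip w s - ∑ x ∈ F, w x * s x = ∑ x ∈ Fᶜ, w x * s x := by
    unfold ip
    have := Finset.sum_add_sum_compl F (fun x => w x * s x)
    linarith
  rw [h4]
  have h5 : ∑ x ∈ Fᶜ, s x * s x = 1 := by
    unfold ip at hs
    have := Finset.sum_add_sum_compl F (fun x => s x * s x)
    linarith
  have h6 : ∑ x ∈ Fᶜ, w x * w x ≤ 3 := by
    refine le_trans ?_ hw
    unfold ip
    exact Finset.sum_le_sum_of_subset_of_nonneg (Finset.subset_univ _)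
      (fun x _ _ => mul_self_nonneg _)
  have hcs := Finset.sum_mul_sq_le_sq_mul_sq Fᶜ w s
  have h7 : (∑ x ∈ Fᶜ, w x * s x) ^ 2 ≤ 3 := by
    calc (∑ x ∈ Fᶜ, w x * s x) ^ 2 ≤ (∑ x ∈ Fᶜ, w x ^ 2) * ∑ x ∈ Fᶜ, s x ^ 2 := hcs
      _ = (∑ x ∈ Fᶜ, w x * w x) * ∑ x ∈ Fᶜ, s x * s x := by simp only [pow_two]
      _ ≤ 3 := by rw [h5, mul_one]; exact h6
  constructor <;> nlinarith

end Cfsg.Agent.Helper24.CycTI
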