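import Cfsg.Agent.Helper24.CycTIa

/-!
Norm-three integer vectors: decompositions into signed elements, sharing lemma.
-/

set_option autoImplicit false

namespace Cfsg.Agent.Helper24.CycTI

variable {X : Type*} [Fintype X] [DecidableEq X]

theorem ip_vec_left (v : X → ℤ) (e : SE X) : ip e.vec v = cf v e := by
  rw [ip_comm, ip_vec]

theorem ip_sub_vec (v : X → ℤ) (e : SE X) :
    ip (v - e.vec) (v - e.vec) = ip v v - 2 * cf v e + 1 := by
  rw [ip_sub_left, ip_sub_right, ip_sub_right, ip_vec, ip_vec_left, ip_vec, cf_vec_self]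
  ring

theorem cf_bound {s : X → ℤ} (hs : ip s s ≤ 3) (e : SE X) : -1 ≤ cf s e ∧ cf s e ≤ 1 := by
  have h1 : sqc s e ≤ 3 := by
    rw [sqc_eq]
    exact le_trans (sq_le_ip_self s e.pt) hs
  unfold sqc at h1
  constructor <;> nlinarith

/-- peeling a signed element off a small vector -/
theorem exists_cf_one (v : X → ℤ) (h0 : 0 < ip v v) (h3 : ip v v ≤ 3) :
    ∃ e : SE X, cf v e = 1 ∧ ip (v - e.vec) (v - e.vec) = ip v v - 1 := by
  have hne : v ≠ 0 := by
    rintro rfl
    unfold ip at h0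
    simp at h0
  obtain ⟨x, hx⟩ : ∃ x, v x ≠ 0 := by
    by_contra hcon
    push Not at hcon
    exact hne (funext hcon)
  have h1 : v x * v x ≤ 3 := le_trans (sq_le_ip_self v x) h3
  have h2 : v x = 1 ∨ v x = -1 := by
    have h4 : -1 ≤ v x := by nlinarith
    have h5 : v x ≤ 1 := by nlinarith
    omega
  refine ⟨⟨x, v x, h2⟩, ?_, ?_⟩
  · unfold cf
    rcases h2 with h | h <;> simp [h]
  · rw [ip_sub_vec]
    have : cf v ⟨x, v x, h2⟩ = 1 := by
      unfold cf
      rcases h2 with h | h <;> simp [h]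
    rw [this]; ring

theorem cf_three (a b c : SE X) (e : SE X) :
    cf (a.vec + b.vec + c.vec) e = cf a.vec e + cf b.vec e + cf c.vec e := by
  rw [cf_add, cf_add]

theorem ip_three (w : X → ℤ) (a b c : SE X) :
    ip w (a.vec + b.vec + c.vec) = cf w a + cf w b + cf w c := by
  rw [ip_add_right, ip_add_right, ip_vec, ip_vec, ip_vec]

/-- completing a shared element to a decomposition -/
theorem second_third (v : X → ℤ) (h3 : ip v v = 3) (a : SE X) (ha : cf v a = 1) :
    ∃ b c : SE X, a.pt ≠ b.pt ∧ a.pt ≠ c.pt ∧ b.pt ≠ c.pt ∧ v = a.vec + b.vec + c.vec := by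
  have h1 : ip (v - a.vec) (v - a.vec) = 2 := by rw [ip_sub_vec, h3, ha]; norm_num
  obtain ⟨b, hb, h2⟩ := exists_cf_one (v - a.vec) (by omega) (by omega)
  rw [h1] at h2
  obtain ⟨c, hc, h4⟩ := exists_cf_one (v - a.vec - b.vec) (by omega) (by omega)
  rw [h2] at h4
  have h5 := eq_zero_of_ip_self _ (by simpa using h4)
  have hab : a.pt ≠ b.pt := by
    apply pt_ne_of_sqc_ne (v := v - a.vec)
    unfold sqc
    rw [hb, cf_sub, ha, cf_vec_self]; norm_num
  have hca : cf (v - a.vec - b.vec) a = 0 := by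
    rw [cf_sub, cf_sub, ha, cf_vec_self, cf_vec_of_ne (Ne.symm hab)]; norm_num
  have hcb : cf (v - a.vec - b.vec) b = 0 := by
    rw [cf_sub, hb, cf_vec_self]; norm_num
  refine ⟨b, c, hab, ?_, ?_, ?_⟩
  · apply pt_ne_of_sqc_ne (v := v - a.vec - b.vec)
    unfold sqc
    rw [hc, hca]; norm_num
  · apply pt_ne_of_sqc_ne (v := v - a.vec - b.vec)
    unfold sqc
    rw [hc, hcb]; norm_num
  · have : v = a.vec + b.vec + c.vec + (v - a.vec - b.vec - c.vec) := by abel
    rw [h5, add_zero] at this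
    exact this

theorem third_elt (v : X → ℤ) (h3 : ip v v = 3) (a b : SE X) (ha : cf v a = 1) (hb : cf v b = 1)
    (hab : a.pt ≠ b.pt) :
    ∃ c : SE X, a.pt ≠ c.pt ∧ b.pt ≠ c.pt ∧ v = a.vec + b.vec + c.vec := by
  have h1 : ip (v - a.vec) (v - a.vec) = 2 := by rw [ip_sub_vec, h3, ha]; norm_num
  have hb' : cf (v - a.vec) b = 1 := by
    rw [cf_sub, hb, cf_vec_of_ne hab]; norm_num
  have h2 : ip (v - a.vec - b.vec) (v - a.vec - b.vec) = 1 := by
    rw [ip_sub_vec, h1, hb']; norm_num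
  obtain ⟨c, hc, h4⟩ := exists_cf_one (v - a.vec - b.vec) (by omega) (by omega)
  rw [h2] at h4
  have h5 := eq_zero_of_ip_self _ (by simpa using h4)
  have hca : cf (v - a.vec - b.vec) a = 0 := by
    rw [cf_sub, cf_sub, ha, cf_vec_self, cf_vec_of_ne (Ne.symm hab)]; norm_num
  have hcb : cf (v - a.vec - b.vec) b = 0 := by
    rw [cf_sub, hb', cf_vec_self]; norm_num
  refine ⟨c, ?_, ?_, ?_⟩
  · apply pt_ne_of_sqc_ne (v := v - a.vec - b.vec)
    unfold sqc
    rw [hc, hca]; norm_num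
  · apply pt_ne_of_sqc_ne (v := v - a.vec - b.vec)
    unfold sqc
    rw [hc, hcb]; norm_num
  · have : v = a.vec + b.vec + c.vec + (v - a.vec - b.vec - c.vec) := by abel
    rw [h5, add_zero] at this
    exact this

theorem decomp3 (v : X → ℤ) (h3 : ip v v = 3) :
    ∃ a b c : SE X, a.pt ≠ b.pt ∧ a.pt ≠ c.pt ∧ b.pt ≠ c.pt ∧ v = a.vec + b.vec + c.vec := by
  obtain ⟨a, ha, -⟩ := exists_cf_one v (by omega) (by omega)
  obtain ⟨b, c, h⟩ := second_third v h3 a ha
  exact ⟨a, b, c, h⟩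

/-- coefficients of a decomposed vector at its own elements -/
theorem cf_dec (a b c : SE X) (hab : a.pt ≠ b.pt) (hac : a.pt ≠ c.pt) (hbc : b.pt ≠ c.pt) :
    cf (a.vec + b.vec + c.vec) a = 1 ∧ cf (a.vec + b.vec + c.vec) b = 1 ∧
      cf (a.vec + b.vec + c.vec) c = 1 := by
  refine ⟨?_, ?_, ?_⟩
  · rw [cf_add, cf_add, cf_vec_self, cf_vec_of_ne (Ne.symm hab), cf_vec_of_ne (Ne.symm hac)]
    norm_num
  · rw [cf_add, cf_add, cf_vec_self, cf_vec_of_ne hab, cf_vec_of_ne (Ne.symm hbc)]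
    norm_num
  · rw [cf_add, cf_add, cf_vec_self, cf_vec_of_ne hac, cf_vec_of_ne hbc]
    norm_num

theorem ip_dec (a b c : SE X) (hab : a.pt ≠ b.pt) (hac : a.pt ≠ c.pt) (hbc : b.pt ≠ c.pt) :
    ip (a.vec + b.vec + c.vec) (a.vec + b.vec + c.vec) = 3 := by
  rw [ip_three]
  obtain ⟨h1, h2, h3⟩ := cf_dec a b c hab hac hbc
  rw [h1, h2, h3]; norm_num

/-- same point and same (nonzero) coefficient: equal signed elements -/
theorem eq_of_pt_eq_of_cf {v : X → ℤ} {e f : SE X} (h : e.pt = f.pt) (he : cf v e = 1)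
    (hf : cf v f = 1) : e = f := by
  apply SE.ext' h
  unfold cf at he hf
  rw [h] at he
  have h1 := e.sg_mul_self
  have h2 := f.sg_mul_self
  have : e.sg = e.sg * (f.sg * v f.pt) := by rw [hf, mul_one]
  calc e.sg = e.sg * (f.sg * v f.pt) := this
    _ = f.sg * (e.sg * v f.pt) := by ring
    _ = f.sg := by rw [he, mul_one]

/-- A norm three vector with inner product one with `r = e1 + e2 + e3` and the same degree shares
exactly one signed element with it. -/
theorem share_one (D : X → ℤ) (hD : ∀ x, D x ≠ 0) (r s : X → ℤ) (e1 e2 e3 : SE X)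
    (h12 : e1.pt ≠ e2.pt) (h13 : e1.pt ≠ e3.pt) (h23 : e2.pt ≠ e3.pt)
    (hr : r = e1.vec + e2.vec + e3.vec) (hs : ip s s = 3) (hsr : ip s r = 1)
    (hdeg : ip s D = ip r D) :
    (cf s e1 = 1 ∧ cf s e2 = 0 ∧ cf s e3 = 0) ∨ (cf s e1 = 0 ∧ cf s e2 = 1 ∧ cf s e3 = 0) ∨
      (cf s e1 = 0 ∧ cf s e2 = 0 ∧ cf s e3 = 1) := by
  have hsum : cf s e1 + cf s e2 + cf s e3 = 1 := by rw [← ip_three, ← hr, hsr]
  have hnd : ([e1, e2, e3].map SE.pt).Nodup := by
    simp only [List.map, List.nodup_cons, List.mem_cons, List.not_mem_nil, or_false, not_or,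
      List.nodup_nil, and_true, not_false_eq_true]
    exact ⟨⟨h12, h13⟩, h23⟩
  have hb := bessel s [e1, e2, e3] hnd
  simp only [List.map, List.sum_cons, List.sum_nil, add_zero] at hb
  obtain ⟨b1l, b1u⟩ := cf_bound (le_of_eq hs) e1
  obtain ⟨b2l, b2u⟩ := cf_bound (le_of_eq hs) e2
  obtain ⟨b3l, b3u⟩ := cf_bound (le_of_eq hs) e3
  by_cases hall : cf s e1 ≠ 0 ∧ cf s e2 ≠ 0 ∧ cf s e3 ≠ 0
  · exfalso
    obtain ⟨n1, n2, n3⟩ := hall
    have q1 : sqc s e1 = 1 := by
      unfold sqc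
      have : cf s e1 = 1 ∨ cf s e1 = -1 := by omega
      rcases this with h | h <;> rw [h] <;> norm_num
    have q2 : sqc s e2 = 1 := by
      unfold sqc
      have : cf s e2 = 1 ∨ cf s e2 = -1 := by omega
      rcases this with h | h <;> rw [h] <;> norm_num
    have q3 : sqc s e3 = 1 := by
      unfold sqc
      have : cf s e3 = 1 ∨ cf s e3 = -1 := by omega
      rcases this with h | h <;> rw [h] <;> norm_num
    have hfull : ([e1, e2, e3].map (sqc s)).sum = ip s s := by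
      simp only [List.map, List.sum_cons, List.sum_nil, add_zero]
      rw [q1, q2, q3, hs]; norm_num
    have hD1 := ip_of_full s D [e1, e2, e3] hnd hfull
    simp only [List.map, List.sum_cons, List.sum_nil, add_zero] at hD1
    have hD2 : ip D r = cf D e1 + cf D e2 + cf D e3 := by rw [hr, ip_three]
    rw [ip_comm s D, ip_comm r D, hD2, hD1] at hdeg
    have d1 : cf D e1 ≠ 0 := by
      unfold cf
      rcases e1.hsg with h | h <;> rw [h] <;> simpa using hD e1.pt
    have d2 : cf D e2 ≠ 0 := by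
      unfold cf
      rcases e2.hsg with h | h <;> rw [h] <;> simpa using hD e2.pt
    have d3 : cf D e3 ≠ 0 := by
      unfold cf
      rcases e3.hsg with h | h <;> rw [h] <;> simpa using hD e3.pt
    have c1 : cf s e1 = 1 ∨ cf s e1 = -1 := by omega
    have c2 : cf s e2 = 1 ∨ cf s e2 = -1 := by omega
    have c3 : cf s e3 = 1 ∨ cf s e3 = -1 := by omega
    rcases c1 with c1 | c1 <;> rcases c2 with c2 | c2 <;> rcases c3 with c3 | c3 <;>
      rw [c1, c2, c3] at hdeg hsum <;> omega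
  · have hb1 := cf_le_sqc s e1
    have hb2 := cf_le_sqc s e2
    have hb3 := cf_le_sqc s e3
    omega

end Cfsg.Agent.Helper24.CycTI
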