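import Cfsg.Agent.Helper24.CycTIb

/-!
Two rows of an array of norm-three vectors: each row is a sunflower.
-/

set_option autoImplicit false

namespace Cfsg.Agent.Helper24.CycTI

variable {X : Type*} [Fintype X] [DecidableEq X]

/-- all elementary bounds on a coefficient of a norm three vector -/
theorem allb {s : X → ℤ} (hs : ip s s = 3) (e : SE X) :
    cf s e ≤ sqc s e ∧ -cf s e ≤ sqc s e ∧ -1 ≤ cf s e ∧ cf s e ≤ 1 :=
  ⟨(cf_le_sqc s e).1, (cf_le_sqc s e).2, (cf_bound (le_of_eq hs) e).1, (cf_bound (le_of_eq hs) e).2⟩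

theorem sqc_of_cf_zero {s : X → ℤ} {e : SE X} (h : cf s e = 0) : sqc s e = 0 := by
  unfold sqc; rw [h]; norm_num

theorem sqc_of_cf_one {s : X → ℤ} {e : SE X} (h : cf s e = 1) : sqc s e = 1 := by
  unfold sqc; rw [h]; norm_num

theorem sqc_of_cf_neg_one {s : X → ℤ} {e : SE X} (h : cf s e = -1) : sqc s e = 1 := by
  unfold sqc; rw [h]; norm_num

theorem pt_ne_of_cf {v : X → ℤ} {e f : SE X} (he : cf v e = 0) (hf : cf v f = 1) :
    e.pt ≠ f.pt := by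
  apply pt_ne_of_sqc_ne (v := v)
  rw [sqc_of_cf_zero he, sqc_of_cf_one hf]; norm_num

/-- The hypotheses on two rows of the array. -/
structure TwoRows {J : Type*} (D : X → ℤ) (r s : J → X → ℤ) : Prop where
  hD : ∀ x, D x ≠ 0
  r3 : ∀ j, ip (r j) (r j) = 3
  s3 : ∀ j, ip (s j) (s j) = 3
  rr : ∀ j l, j ≠ l → ip (r j) (r l) = 1
  ss : ∀ j l, j ≠ l → ip (s j) (s l) = 1
  sr : ∀ j, ip (s j) (r j) = 1
  sr0 : ∀ j l, j ≠ l → ip (s j) (r l) = 0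
  dr : ∀ j l, ip (r j) D = ip (r l) D
  ds : ∀ j l, ip (s j) D = ip (r l) D

variable {J : Type*} {D : X → ℤ} {r s : J → X → ℤ}

/-- two vectors of a row share an element -/
theorem TwoRows.exists_common (h : TwoRows D r s) {j l : J} (hjl : j ≠ l) :
    ∃ a : SE X, cf (r j) a = 1 ∧ cf (r l) a = 1 := by
  obtain ⟨e1, e2, e3, h12, h13, h23, hr⟩ := decomp3 (r j) (h.r3 j)
  have hc := cf_dec e1 e2 e3 h12 h13 h23
  rw [← hr] at hc
  rcases share_one D h.hD (r j) (r l) e1 e2 e3 h12 h13 h23 hr (h.r3 l)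
    (h.rr l j (Ne.symm hjl)) (h.dr l j) with ⟨c, -, -⟩ | ⟨-, c, -⟩ | ⟨-, -, c⟩
  · exact ⟨e1, hc.1, c⟩
  · exact ⟨e2, hc.2.1, c⟩
  · exact ⟨e3, hc.2.2, c⟩

/-- sharing pattern of another row vector against a decomposed one -/
theorem TwoRows.share_rr (h : TwoRows D r s) {j l : J} (hjl : j ≠ l) (e1 e2 e3 : SE X)
    (h12 : e1.pt ≠ e2.pt) (h13 : e1.pt ≠ e3.pt) (h23 : e2.pt ≠ e3.pt)
    (hr : r j = e1.vec + e2.vec + e3.vec) :
    (cf (r l) e1 = 1 ∧ cf (r l) e2 = 0 ∧ cf (r l) e3 = 0) ∨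
      (cf (r l) e1 = 0 ∧ cf (r l) e2 = 1 ∧ cf (r l) e3 = 0) ∨
      (cf (r l) e1 = 0 ∧ cf (r l) e2 = 0 ∧ cf (r l) e3 = 1) :=
  share_one D h.hD (r j) (r l) e1 e2 e3 h12 h13 h23 hr (h.r3 l) (h.rr l j (Ne.symm hjl)) (h.dr l j)

theorem TwoRows.share_sr (h : TwoRows D r s) (j : J) (e1 e2 e3 : SE X)
    (h12 : e1.pt ≠ e2.pt) (h13 : e1.pt ≠ e3.pt) (h23 : e2.pt ≠ e3.pt)
    (hr : r j = e1.vec + e2.vec + e3.vec) :
    (cf (s j) e1 = 1 ∧ cf (s j) e2 = 0 ∧ cf (s j) e3 = 0) ∨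
      (cf (s j) e1 = 0 ∧ cf (s j) e2 = 1 ∧ cf (s j) e3 = 0) ∨
      (cf (s j) e1 = 0 ∧ cf (s j) e2 = 0 ∧ cf (s j) e3 = 1) :=
  share_one D h.hD (r j) (s j) e1 e2 e3 h12 h13 h23 hr (h.s3 j) (h.sr j) (h.ds j j)

/-- The K4 configuration is impossible (parity). -/
theorem TwoRows.no_K4 (h : TwoRows D r s) {j1 j2 j3 j4 : J} (h12 : j1 ≠ j2) (h13 : j1 ≠ j3)
    (h14 : j1 ≠ j4) (a b1 b2 c1 c2 d : SE X)
    (hr1 : r j1 = a.vec + b1.vec + c1.vec) (hr2 : r j2 = a.vec + b2.vec + c2.vec)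
    (hr3 : r j3 = b1.vec + b2.vec + d.vec) (hr4 : r j4 = c1.vec + c2.vec + d.vec) : False := by
  have e1 := h.sr j1
  have e2 := h.sr0 j1 j2 h12
  have e3 := h.sr0 j1 j3 h13
  have e4 := h.sr0 j1 j4 h14
  rw [hr1, ip_three] at e1
  rw [hr2, ip_three] at e2
  rw [hr3, ip_three] at e3
  rw [hr4, ip_three] at e4
  omega

end Cfsg.Agent.Helper24.CycTI
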