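import Cfsg.Agent.Helper24.CycTIc

/-!
The configuration "three concurrent vectors and a transversal" is impossible in a row.
-/

set_option autoImplicit false

namespace Cfsg.Agent.Helper24.CycTI

variable {X : Type*} [Fintype X] [DecidableEq X]

section seven

variable (a b1 b2 b3 c1 c2 c3 : SE X)

theorem facts7 (hnd : ([a, b1, b2, b3, c1, c2, c3].map SE.pt).Nodup) (t : X → ℤ)
    (ht : ip t t = 3) :
    sqc t a + (sqc t b1 + (sqc t b2 + (sqc t b3 + (sqc t c1 + (sqc t c2 + sqc t c3))))) ≤ 3 ∧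
      (cf t a ≤ sqc t a ∧ -cf t a ≤ sqc t a ∧ -1 ≤ cf t a ∧ cf t a ≤ 1) ∧
      (cf t b1 ≤ sqc t b1 ∧ -cf t b1 ≤ sqc t b1 ∧ -1 ≤ cf t b1 ∧ cf t b1 ≤ 1) ∧
      (cf t b2 ≤ sqc t b2 ∧ -cf t b2 ≤ sqc t b2 ∧ -1 ≤ cf t b2 ∧ cf t b2 ≤ 1) ∧
      (cf t b3 ≤ sqc t b3 ∧ -cf t b3 ≤ sqc t b3 ∧ -1 ≤ cf t b3 ∧ cf t b3 ≤ 1) ∧
      (cf t c1 ≤ sqc t c1 ∧ -cf t c1 ≤ sqc t c1 ∧ -1 ≤ cf t c1 ∧ cf t c1 ≤ 1) ∧
      (cf t c2 ≤ sqc t c2 ∧ -cf t c2 ≤ sqc t c2 ∧ -1 ≤ cf t c2 ∧ cf t c2 ≤ 1) ∧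
      (cf t c3 ≤ sqc t c3 ∧ -cf t c3 ≤ sqc t c3 ∧ -1 ≤ cf t c3 ∧ cf t c3 ≤ 1) := by
  have hb := bessel t [a, b1, b2, b3, c1, c2, c3] hnd
  simp only [List.map, List.sum_cons, List.sum_nil, add_zero, ht] at hb
  exact ⟨hb, allb ht a, allb ht b1, allb ht b2, allb ht b3, allb ht c1, allb ht c2, allb ht c3⟩

theorem full7 (hnd : ([a, b1, b2, b3, c1, c2, c3].map SE.pt).Nodup) (t w : X → ℤ)
    (ht : ip t t = 3)
    (hf : sqc t a + (sqc t b1 + (sqc t b2 + (sqc t b3 + (sqc t c1 + (sqc t c2 + sqc t c3)))))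
      = 3) :
    ip w t = cf t a * cf w a + (cf t b1 * cf w b1 + (cf t b2 * cf w b2 + (cf t b3 * cf w b3 +
      (cf t c1 * cf w c1 + (cf t c2 * cf w c2 + cf t c3 * cf w c3))))) := by
  have := ip_of_full t w [a, b1, b2, b3, c1, c2, c3] hnd (by
    simp only [List.map, List.sum_cons, List.sum_nil, add_zero, ht]; exact hf)
  simpa only [List.map, List.sum_cons, List.sum_nil, add_zero] using this

theorem resid7 (hnd : ([a, b1, b2, b3, c1, c2, c3].map SE.pt).Nodup) (t w : X → ℤ)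
    (ht : ip t t = 3) (hw : ip w w = 3)
    (hf : sqc t a + (sqc t b1 + (sqc t b2 + (sqc t b3 + (sqc t c1 + (sqc t c2 + sqc t c3)))))
      = 2) :
    ip w t - (cf t a * cf w a + (cf t b1 * cf w b1 + (cf t b2 * cf w b2 + (cf t b3 * cf w b3 +
      (cf t c1 * cf w c1 + (cf t c2 * cf w c2 + cf t c3 * cf w c3)))))) ≤ 1 := by
  have := (ip_resid t w [a, b1, b2, b3, c1, c2, c3] hnd (by
    simp only [List.map, List.sum_cons, List.sum_nil, add_zero, ht]; omega) (le_of_eq hw)).1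
  simpa only [List.map, List.sum_cons, List.sum_nil, add_zero] using this

end seven

variable {J : Type*} {D : X → ℤ} {r s : J → X → ℤ}

/-- distinctness across two petals through a common element -/
theorem TwoRows.petal_ne (h : TwoRows D r s) {k l : J} (hkl : k ≠ l) (a bk ck bl cl : SE X)
    (abk : a.pt ≠ bk.pt) (ack : a.pt ≠ ck.pt) (bck : bk.pt ≠ ck.pt)
    (abl : a.pt ≠ bl.pt) (acl : a.pt ≠ cl.pt) (bcl : bl.pt ≠ cl.pt)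
    (hrk : r k = a.vec + bk.vec + ck.vec) (hrl : r l = a.vec + bl.vec + cl.vec) :
    bk.pt ≠ bl.pt ∧ bk.pt ≠ cl.pt ∧ ck.pt ≠ bl.pt ∧ ck.pt ≠ cl.pt := by
  have hl := cf_dec a bl cl abl acl bcl
  rw [← hrl] at hl
  have hp := h.share_rr hkl a bk ck abk ack bck hrk
  have hb : cf (r l) bk = 0 := by omega
  have hc : cf (r l) ck = 0 := by omega
  exact ⟨pt_ne_of_cf hb hl.2.1, pt_ne_of_cf hb hl.2.2, pt_ne_of_cf hc hl.2.1, pt_ne_of_cf hc hl.2.2⟩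

/-- the seven elements of the configuration lie at distinct points -/
theorem TwoRows.B_nd (h : TwoRows D r s) {p1 p2 p3 : J}
    (h12 : p1 ≠ p2) (h13 : p1 ≠ p3) (h23 : p2 ≠ p3) (a b1 b2 b3 c1 c2 c3 : SE X)
    (ab1 : a.pt ≠ b1.pt) (ab2 : a.pt ≠ b2.pt) (ab3 : a.pt ≠ b3.pt)
    (ac1 : a.pt ≠ c1.pt) (ac2 : a.pt ≠ c2.pt) (ac3 : a.pt ≠ c3.pt)
    (bc1 : b1.pt ≠ c1.pt) (bc2 : b2.pt ≠ c2.pt) (bc3 : b3.pt ≠ c3.pt)
    (hr1 : r p1 = a.vec + b1.vec + c1.vec)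
    (hr2 : r p2 = a.vec + b2.vec + c2.vec) (hr3 : r p3 = a.vec + b3.vec + c3.vec) :
    ([a, b1, b2, b3, c1, c2, c3].map SE.pt).Nodup := by
  obtain ⟨b12, b1c2, c1b2, c12⟩ := h.petal_ne h12 a b1 c1 b2 c2 ab1 ac1 bc1 ab2 ac2 bc2 hr1 hr2
  obtain ⟨b13, b1c3, c1b3, c13⟩ := h.petal_ne h13 a b1 c1 b3 c3 ab1 ac1 bc1 ab3 ac3 bc3 hr1 hr3
  obtain ⟨b23, b2c3, c2b3, c23⟩ := h.petal_ne h23 a b2 c2 b3 c3 ab2 ac2 bc2 ab3 ac3 bc3 hr2 hr3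
  simp only [List.map, List.nodup_cons, List.mem_cons, List.not_mem_nil, or_false, not_or,
    List.nodup_nil, and_true, not_false_eq_true]
  exact ⟨⟨ab1, ab2, ab3, ac1, ac2, ac3⟩, ⟨b12, b13, bc1, b1c2, b1c3⟩,
    ⟨b23, Ne.symm c1b2, bc2, b2c3⟩, ⟨Ne.symm c1b3, Ne.symm c2b3, bc3⟩, ⟨c12, c13⟩, c23⟩

/-- innermost case: the vector of the second row in column `p1` is `b1 - b2 + c2`. -/
theorem TwoRows.no_B_aux2 (h : TwoRows D r s) {p0 p1 p2 p3 : J}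
    (h03 : p0 ≠ p3) (h12 : p1 ≠ p2) (h13 : p1 ≠ p3)
    (h23 : p2 ≠ p3) (a b1 b2 b3 c1 c2 c3 : SE X)
    (ab1 : a.pt ≠ b1.pt) (ab2 : a.pt ≠ b2.pt) (ab3 : a.pt ≠ b3.pt)
    (ac1 : a.pt ≠ c1.pt) (ac2 : a.pt ≠ c2.pt) (ac3 : a.pt ≠ c3.pt)
    (bc1 : b1.pt ≠ c1.pt) (bc2 : b2.pt ≠ c2.pt) (bc3 : b3.pt ≠ c3.pt)
    (hr0 : r p0 = b1.vec + b2.vec + b3.vec) (hr1 : r p1 = a.vec + b1.vec + c1.vec)
    (hr2 : r p2 = a.vec + b2.vec + c2.vec) (hr3 : r p3 = a.vec + b3.vec + c3.vec)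
    (vA : cf (s p1) a = 0) (vB1 : cf (s p1) b1 = 1) (vB2 : cf (s p1) b2 = -1)
    (vB3 : cf (s p1) b3 = 0) (vC1 : cf (s p1) c1 = 0) (vC2 : cf (s p1) c2 = 1)
    (vC3 : cf (s p1) c3 = 0) : False := by
  have hnd := h.B_nd h12 h13 h23 a b1 b2 b3 c1 c2 c3 ab1 ab2 ab3 ac1 ac2 ac3 bc1 bc2 bc3 hr1 hr2 hr3
  have F3 := facts7 a b1 b2 b3 c1 c2 c3 hnd (s p3) (h.s3 p3)
  have hf : sqc (s p1) a + (sqc (s p1) b1 + (sqc (s p1) b2 + (sqc (s p1) b3 + (sqc (s p1) c1 +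
      (sqc (s p1) c2 + sqc (s p1) c3))))) = 3 := by
    rw [sqc_of_cf_zero vA, sqc_of_cf_one vB1, sqc_of_cf_neg_one vB2, sqc_of_cf_zero vB3,
      sqc_of_cf_zero vC1, sqc_of_cf_one vC2, sqc_of_cf_zero vC3]
    norm_num
  have h31 := full7 a b1 b2 b3 c1 c2 c3 hnd (s p1) (s p3) (h.s3 p1) hf
  rw [h.ss p3 p1 (Ne.symm h13), vA, vB1, vB2, vB3, vC1, vC2, vC3] at h31
  have E0 := h.sr0 p3 p0 (Ne.symm h03)
  have E1 := h.sr0 p3 p1 (Ne.symm h13)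
  have E2 := h.sr0 p3 p2 (Ne.symm h23)
  rw [hr0, ip_three] at E0
  rw [hr1, ip_three] at E1
  rw [hr2, ip_three] at E2
  have P3 := h.share_sr p3 a b3 c3 ab3 ac3 bc3 hr3
  omega

/-- middle case: the vector of the second row in the transversal column contains `b1`. -/
theorem TwoRows.no_B_aux (h : TwoRows D r s) {p0 p1 p2 p3 : J}
    (h01 : p0 ≠ p1) (h02 : p0 ≠ p2) (h03 : p0 ≠ p3) (h12 : p1 ≠ p2) (h13 : p1 ≠ p3)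
    (h23 : p2 ≠ p3) (a b1 b2 b3 c1 c2 c3 : SE X)
    (ab1 : a.pt ≠ b1.pt) (ab2 : a.pt ≠ b2.pt) (ab3 : a.pt ≠ b3.pt)
    (ac1 : a.pt ≠ c1.pt) (ac2 : a.pt ≠ c2.pt) (ac3 : a.pt ≠ c3.pt)
    (bc1 : b1.pt ≠ c1.pt) (bc2 : b2.pt ≠ c2.pt) (bc3 : b3.pt ≠ c3.pt)
    (hr0 : r p0 = b1.vec + b2.vec + b3.vec) (hr1 : r p1 = a.vec + b1.vec + c1.vec)
    (hr2 : r p2 = a.vec + b2.vec + c2.vec) (hr3 : r p3 = a.vec + b3.vec + c3.vec)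
    (w1 : cf (s p0) b1 = 1) (w2 : cf (s p0) b2 = 0) (w3 : cf (s p0) b3 = 0) : False := by
  have hnd := h.B_nd h12 h13 h23 a b1 b2 b3 c1 c2 c3 ab1 ab2 ab3 ac1 ac2 ac3 bc1 bc2 bc3 hr1 hr2 hr3
  have F0 := facts7 a b1 b2 b3 c1 c2 c3 hnd (s p0) (h.s3 p0)
  have F1 := facts7 a b1 b2 b3 c1 c2 c3 hnd (s p1) (h.s3 p1)
  -- the vector in the transversal column
  have E01 := h.sr0 p0 p1 h01
  have E02 := h.sr0 p0 p2 h02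
  have E03 := h.sr0 p0 p3 h03
  rw [hr1, ip_three] at E01
  rw [hr2, ip_three] at E02
  rw [hr3, ip_three] at E03
  obtain ⟨wA, wC1, wC2, wC3⟩ : cf (s p0) a = 0 ∧ cf (s p0) c1 = -1 ∧ cf (s p0) c2 = 0 ∧
      cf (s p0) c3 = 0 := by omega
  -- the vector in column `p1`
  have E10 := h.sr0 p1 p0 (Ne.symm h01)
  have E12 := h.sr0 p1 p2 h12
  have E13 := h.sr0 p1 p3 h13
  rw [hr0, ip_three] at E10
  rw [hr2, ip_three] at E12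
  rw [hr3, ip_three] at E13
  have h10 := h.ss p0 p1 h01
  have h10' := h.ss p1 p0 (Ne.symm h01)
  rcases h.share_sr p1 a b1 c1 ab1 ac1 bc1 hr1 with ⟨vA, vB1, vC1⟩ | ⟨vA, vB1, vC1⟩ |
    ⟨vA, vB1, vC1⟩
  · -- `a - c2 - c3`
    obtain ⟨vB2, vB3, vC2, vC3⟩ : cf (s p1) b2 = 0 ∧ cf (s p1) b3 = 0 ∧ cf (s p1) c2 = -1 ∧
        cf (s p1) c3 = -1 := by omega
    have hf : sqc (s p1) a + (sqc (s p1) b1 + (sqc (s p1) b2 + (sqc (s p1) b3 + (sqc (s p1) c1 +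
        (sqc (s p1) c2 + sqc (s p1) c3))))) = 3 := by
      rw [sqc_of_cf_one vA, sqc_of_cf_zero vB1, sqc_of_cf_zero vB2, sqc_of_cf_zero vB3,
        sqc_of_cf_zero vC1, sqc_of_cf_neg_one vC2, sqc_of_cf_neg_one vC3]
      norm_num
    have h31 := full7 a b1 b2 b3 c1 c2 c3 hnd (s p1) (s p0) (h.s3 p1) hf
    rw [h10, vA, vB1, vB2, vB3, vC1, vC2, vC3, wA, w1, w2, w3, wC1, wC2, wC3] at h31
    omega
  · -- `b1 - b2 + c2` or `b1 - b3 + c3`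
    have hcase : (cf (s p1) b2 = -1 ∧ cf (s p1) c2 = 1 ∧ cf (s p1) b3 = 0 ∧ cf (s p1) c3 = 0) ∨
        (cf (s p1) b3 = -1 ∧ cf (s p1) c3 = 1 ∧ cf (s p1) b2 = 0 ∧ cf (s p1) c2 = 0) := by
      omega
    rcases hcase with ⟨vB2, vC2, vB3, vC3⟩ | ⟨vB3, vC3, vB2, vC2⟩
    · exact h.no_B_aux2 h03 h12 h13 h23 a b1 b2 b3 c1 c2 c3 ab1 ab2 ab3 ac1 ac2 ac3 bc1 bc2 bc3
        hr0 hr1 hr2 hr3 vA vB1 vB2 vB3 vC1 vC2 vC3
    · exact h.no_B_aux2 h02 h13 h12 (Ne.symm h23) a b1 b3 b2 c1 c3 c2 ab1 ab3 ab2 ac1 ac3 ac2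
        bc1 bc3 bc2 (by rw [hr0]; abel) hr1 hr3 hr2 vA vB1 vB3 vB2 vC1 vC3 vC2
  · -- only `c1` among the names
    obtain ⟨vB2, vB3, vC2, vC3⟩ : cf (s p1) b2 = 0 ∧ cf (s p1) b3 = 0 ∧ cf (s p1) c2 = 0 ∧
        cf (s p1) c3 = 0 := by omega
    have hf : sqc (s p0) a + (sqc (s p0) b1 + (sqc (s p0) b2 + (sqc (s p0) b3 + (sqc (s p0) c1 +
        (sqc (s p0) c2 + sqc (s p0) c3))))) = 2 := by
      rw [sqc_of_cf_zero wA, sqc_of_cf_one w1, sqc_of_cf_zero w2, sqc_of_cf_zero w3,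
        sqc_of_cf_neg_one wC1, sqc_of_cf_zero wC2, sqc_of_cf_zero wC3]
      norm_num
    have h31 := resid7 a b1 b2 b3 c1 c2 c3 hnd (s p0) (s p1) (h.s3 p0) (h.s3 p1) hf
    rw [h10', vA, vB1, vB2, vB3, vC1, vC2, vC3, wA, w1, w2, w3, wC1, wC2, wC3] at h31
    omega

/-- Three vectors of a row through a common element `a` and a transversal: impossible. -/
theorem TwoRows.no_B (h : TwoRows D r s) {p0 p1 p2 p3 : J}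
    (h01 : p0 ≠ p1) (h02 : p0 ≠ p2) (h03 : p0 ≠ p3) (h12 : p1 ≠ p2) (h13 : p1 ≠ p3)
    (h23 : p2 ≠ p3) (a b1 b2 b3 c1 c2 c3 : SE X)
    (ab1 : a.pt ≠ b1.pt) (ab2 : a.pt ≠ b2.pt) (ab3 : a.pt ≠ b3.pt)
    (ac1 : a.pt ≠ c1.pt) (ac2 : a.pt ≠ c2.pt) (ac3 : a.pt ≠ c3.pt)
    (bc1 : b1.pt ≠ c1.pt) (bc2 : b2.pt ≠ c2.pt) (bc3 : b3.pt ≠ c3.pt)
    (hr0 : r p0 = b1.vec + b2.vec + b3.vec) (hr1 : r p1 = a.vec + b1.vec + c1.vec)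
    (hr2 : r p2 = a.vec + b2.vec + c2.vec) (hr3 : r p3 = a.vec + b3.vec + c3.vec) : False := by
  have hnd := h.B_nd h12 h13 h23 a b1 b2 b3 c1 c2 c3 ab1 ab2 ab3 ac1 ac2 ac3 bc1 bc2 bc3 hr1 hr2 hr3
  have b12 : b1.pt ≠ b2.pt := by
    simp only [List.map, List.nodup_cons, List.mem_cons, List.not_mem_nil, or_false, not_or,
      List.nodup_nil, and_true, not_false_eq_true] at hnd
    exact hnd.2.1.1
  have b13 : b1.pt ≠ b3.pt := by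
    simp only [List.map, List.nodup_cons, List.mem_cons, List.not_mem_nil, or_false, not_or,
      List.nodup_nil, and_true, not_false_eq_true] at hnd
    exact hnd.2.1.2.1
  have b23 : b2.pt ≠ b3.pt := by
    simp only [List.map, List.nodup_cons, List.mem_cons, List.not_mem_nil, or_false, not_or,
      List.nodup_nil, and_true, not_false_eq_true] at hnd
    exact hnd.2.2.1.1
  rcases h.share_sr p0 b1 b2 b3 b12 b13 b23 hr0 with ⟨w1, w2, w3⟩ | ⟨w1, w2, w3⟩ | ⟨w1, w2, w3⟩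
  · exact h.no_B_aux h01 h02 h03 h12 h13 h23 a b1 b2 b3 c1 c2 c3 ab1 ab2 ab3 ac1 ac2 ac3
      bc1 bc2 bc3 hr0 hr1 hr2 hr3 w1 w2 w3
  · exact h.no_B_aux h02 h01 h03 (Ne.symm h12) h23 h13 a b2 b1 b3 c2 c1 c3 ab2 ab1 ab3 ac2 ac1 ac3
      bc2 bc1 bc3 (by rw [hr0]; abel) hr2 hr1 hr3 w2 w1 w3
  · exact h.no_B_aux h03 h02 h01 (Ne.symm h23) (Ne.symm h13) (Ne.symm h12) a b3 b2 b1 c3 c2 c1
      ab3 ab2 ab1 ac3 ac2 ac1 bc3 bc2 bc1 (by rw [hr0]; abel) hr3 hr2 hr1 w3 w2 w1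

end Cfsg.Agent.Helper24.CycTI
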