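import Cfsg.Agent.Helper24.CycTId

/-!
Each row of the array is a sunflower.
-/

set_option autoImplicit false

namespace Cfsg.Agent.Helper24.CycTI

variable {X : Type*} [Fintype X] [DecidableEq X]

/-- a norm three vector with three known elements is their sum -/
theorem eq_of_three (v : X → ℤ) (h3 : ip v v = 3) (a b c : SE X) (ha : cf v a = 1)
    (hb : cf v b = 1) (hc : cf v c = 1) (hab : a.pt ≠ b.pt) (hac : a.pt ≠ c.pt)
    (hbc : b.pt ≠ c.pt) : v = a.vec + b.vec + c.vec := by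
  have h1 : ip (v - a.vec) (v - a.vec) = 2 := by rw [ip_sub_vec, h3, ha]; norm_num
  have hb' : cf (v - a.vec) b = 1 := by
    rw [cf_sub, hb, cf_vec_of_ne hab]; norm_num
  have h2 : ip (v - a.vec - b.vec) (v - a.vec - b.vec) = 1 := by
    rw [ip_sub_vec, h1, hb']; norm_num
  have hc' : cf (v - a.vec - b.vec) c = 1 := by
    rw [cf_sub, cf_sub, hc, cf_vec_of_ne hac, cf_vec_of_ne hbc]; norm_num
  have h4 : ip (v - a.vec - b.vec - c.vec) (v - a.vec - b.vec - c.vec) = 0 := by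
    rw [ip_sub_vec, h2, hc']; norm_num
  have h5 := eq_zero_of_ip_self _ h4
  have : v = a.vec + b.vec + c.vec + (v - a.vec - b.vec - c.vec) := by abel
  rw [h5, add_zero] at this
  exact this

variable {J : Type*} {D : X → ℤ} {r s : J → X → ℤ}

/-- A decomposition of `r j` adapted to another vector `r l` of the row not containing `a`. -/
theorem TwoRows.adapted (h : TwoRows D r s) {j l : J} (hjl : j ≠ l) (a : SE X)
    (ha : cf (r j) a = 1) (hal : cf (r l) a ≠ 1) :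
    ∃ b c : SE X, a.pt ≠ b.pt ∧ a.pt ≠ c.pt ∧ b.pt ≠ c.pt ∧ r j = a.vec + b.vec + c.vec ∧
      cf (r l) a = 0 ∧ cf (r l) b = 1 ∧ cf (r l) c = 0 := by
  obtain ⟨x, y, ax, ay, xy, hr⟩ := second_third (r j) (h.r3 j) a ha
  rcases h.share_rr hjl a x y ax ay xy hr with ⟨c, -, -⟩ | ⟨c1, c2, c3⟩ | ⟨c1, c2, c3⟩
  · exact absurd c hal
  · exact ⟨x, y, ax, ay, xy, hr, c1, c2, c3⟩
  · exact ⟨y, x, ay, ax, Ne.symm xy, by rw [hr]; abel, c1, c3, c2⟩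

/-- **Sunflower lemma**: with at least four columns and a second row, all vectors of a row share
a common signed element. -/
theorem TwoRows.sunflower (h : TwoRows D r s) [Nonempty J]
    (hJ : ∀ j1 j2 j3 : J, ∃ j4, j4 ≠ j1 ∧ j4 ≠ j2 ∧ j4 ≠ j3) :
    ∃ a : SE X, ∀ j, cf (r j) a = 1 := by
  obtain ⟨j1⟩ := ‹Nonempty J›
  obtain ⟨j2, h21, -, -⟩ := hJ j1 j1 j1
  obtain ⟨a, ha1, ha2⟩ := h.exists_common (Ne.symm h21)
  refine ⟨a, ?_⟩
  by_contra hcon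
  push Not at hcon
  obtain ⟨j3, ha3⟩ := hcon
  have h31 : j3 ≠ j1 := by rintro rfl; exact ha3 ha1
  have h32 : j3 ≠ j2 := by rintro rfl; exact ha3 ha2
  obtain ⟨b1, c1, ab1, ac1, bc1, hr1, a3, hb1, hc1⟩ := h.adapted (Ne.symm h31) a ha1 ha3
  obtain ⟨b2, c2, ab2, ac2, bc2, hr2, -, hb2, hc2⟩ := h.adapted (Ne.symm h32) a ha2 ha3
  have hd1 := cf_dec a b1 c1 ab1 ac1 bc1
  rw [← hr1] at hd1
  have hd2 := cf_dec a b2 c2 ab2 ac2 bc2
  rw [← hr2] at hd2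
  have Q12 := h.share_rr (Ne.symm h21) a b1 c1 ab1 ac1 bc1 hr1
  have Q21 := h.share_rr h21 a b2 c2 ab2 ac2 bc2 hr2
  have e2b1 : cf (r j2) b1 = 0 := by omega
  have e2c1 : cf (r j2) c1 = 0 := by omega
  have e1b2 : cf (r j1) b2 = 0 := by omega
  have e1c2 : cf (r j1) c2 = 0 := by omega
  have b12 : b1.pt ≠ b2.pt := pt_ne_of_cf e2b1 hd2.2.1
  obtain ⟨d, b1d, b2d, hr3⟩ := third_elt (r j3) (h.r3 j3) b1 b2 hb1 hb2 b12
  have hd3 := cf_dec b1 b2 d b12 b1d b2d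
  rw [← hr3] at hd3
  obtain ⟨j4, h41, h42, h43⟩ := hJ j1 j2 j3
  have P1 := h.share_rr (Ne.symm h41) a b1 c1 ab1 ac1 bc1 hr1
  have P2 := h.share_rr (Ne.symm h42) a b2 c2 ab2 ac2 bc2 hr2
  have P3 := h.share_rr (Ne.symm h43) b1 b2 d b12 b1d b2d hr3
  have ad : a.pt ≠ d.pt := pt_ne_of_cf a3 hd3.2.2
  rcases P1 with ⟨A, B1, C1⟩ | ⟨A, B1, C1⟩ | ⟨A, B1, C1⟩
  · -- `r j4` contains `a` and `d`
    have Dd : cf (r j4) d = 1 := by omega
    obtain ⟨c4, ac4, dc4, hr4⟩ := third_elt (r j4) (h.r3 j4) a d A Dd ad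
    exact h.no_B h31 h32 (Ne.symm h43) (Ne.symm h21) (Ne.symm h41) (Ne.symm h42)
      a b1 b2 d c1 c2 c4 ab1 ab2 ad ac1 ac2 ac4 bc1 bc2 dc4 hr3 hr1 hr2 hr4
  · -- `r j4` contains `b1` and `c2`
    have C2 : cf (r j4) c2 = 1 := by omega
    have b1c2 : b1.pt ≠ c2.pt := Ne.symm (pt_ne_of_cf e1c2 hd1.2.1)
    obtain ⟨y, b1y, c2y, hr4⟩ := third_elt (r j4) (h.r3 j4) b1 c2 B1 C2 b1c2
    exact h.no_B h21 (Ne.symm h32) (Ne.symm h42) (Ne.symm h31) (Ne.symm h41) (Ne.symm h43)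
      b1 a b2 c2 c1 d y (Ne.symm ab1) b12 b1c2 bc1 b1d b1y ac1 b2d c2y hr2
      (by rw [hr1]; abel) hr3 hr4
  · have hsub : (cf (r j4) b2 = 1 ∧ cf (r j4) c2 = 0 ∧ cf (r j4) d = 0) ∨
        (cf (r j4) b2 = 0 ∧ cf (r j4) c2 = 1 ∧ cf (r j4) d = 1) := by omega
    rcases hsub with ⟨B2, C2, Dd⟩ | ⟨B2, C2, Dd⟩
    · -- `r j4` contains `c1` and `b2`
      have b2c1 : b2.pt ≠ c1.pt := Ne.symm (pt_ne_of_cf e2c1 hd2.2.1)
      obtain ⟨y, b2y, c1y, hr4⟩ := third_elt (r j4) (h.r3 j4) b2 c1 B2 C1 b2c1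
      exact h.no_B (Ne.symm h21) (Ne.symm h31) (Ne.symm h41) (Ne.symm h32) (Ne.symm h42)
        (Ne.symm h43) b2 a b1 c1 c2 d y (Ne.symm ab2) (Ne.symm b12) b2c1 bc2 b2d b2y ac2 b1d c1y
        hr1 (by rw [hr2]; abel) (by rw [hr3]; abel) hr4
    · -- the K4 configuration
      have c12 : c1.pt ≠ c2.pt := pt_ne_of_cf e2c1 hd2.2.2
      have c1d : c1.pt ≠ d.pt := pt_ne_of_cf hc1 hd3.2.2
      have c2d : c2.pt ≠ d.pt := pt_ne_of_cf hc2 hd3.2.2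
      have hr4 := eq_of_three (r j4) (h.r3 j4) c1 c2 d C1 C2 Dd c12 c1d c2d
      exact h.no_K4 (Ne.symm h21) (Ne.symm h31) (Ne.symm h41) a b1 b2 c1 c2 d hr1 hr2 hr3 hr4

end Cfsg.Agent.Helper24.CycTI
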