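import Cfsg.Agent.Helper24.CycTIe

/-!
Structure of an array of norm-three vectors with the inner products of the cyclic TI situation.
-/

set_option autoImplicit false

namespace Cfsg.Agent.Helper24.CycTI

variable {X : Type*} [Fintype X] [DecidableEq X]

/-- The hypotheses on the array. -/
structure Arr {I J : Type*} (D : X → ℤ) (β : I → J → X → ℤ) : Prop where
  hD : ∀ x, D x ≠ 0
  n3 : ∀ i j, ip (β i j) (β i j) = 3
  row : ∀ i j l, j ≠ l → ip (β i j) (β i l) = 1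
  col : ∀ i k j, i ≠ k → ip (β i j) (β k j) = 1
  off : ∀ i k j l, i ≠ k → j ≠ l → ip (β i j) (β k l) = 0
  deg : ∀ i j k l, ip (β i j) D = ip (β k l) D

variable {I J : Type*} {D : X → ℤ} {β : I → J → X → ℤ}

theorem Arr.rows (h : Arr D β) {i k : I} (hik : i ≠ k) : TwoRows D (β i) (β k) where
  hD := h.hD
  r3 := h.n3 i
  s3 := h.n3 k
  rr := h.row i
  ss := h.row k
  sr := fun j => h.col k i j (Ne.symm hik)
  sr0 := fun j l hjl => h.off k i j l (Ne.symm hik) hjl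
  dr := fun j l => h.deg i j i l
  ds := fun j l => h.deg k j i l

theorem Arr.cols (h : Arr D β) {j l : J} (hjl : j ≠ l) :
    TwoRows D (fun i => β i j) (fun i => β i l) where
  hD := h.hD
  r3 := fun i => h.n3 i j
  s3 := fun i => h.n3 i l
  rr := fun i k hik => h.col i k j hik
  ss := fun i k hik => h.col i k l hik
  sr := fun i => h.row i l j (Ne.symm hjl)
  sr0 := fun i k hik => h.off i k l j hik (Ne.symm hjl)
  dr := fun i k => h.deg i j k j
  ds := fun i k => h.deg i l k j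

/-- the row kernel is not the column kernel -/
theorem Arr.kernel_ne (h : Arr D β) (hJ : ∀ j1 j2 j3 : J, ∃ j4, j4 ≠ j1 ∧ j4 ≠ j2 ∧ j4 ≠ j3)
    {i k : I} (hik : i ≠ k) (j : J) (u c : SE X) (hu : ∀ l, cf (β i l) u = 1)
    (hc : cf (β i j) c = 1) (hck : cf (β k j) c = 1) : u.pt ≠ c.pt := by
  intro hpt
  have huc : u = c := eq_of_pt_eq_of_cf hpt (hu j) hc
  subst huc
  obtain ⟨l1, h1j, -, -⟩ := hJ j j j
  obtain ⟨l2, h2j, h21, -⟩ := hJ j l1 l1
  obtain ⟨l3, h3j, h31, h32⟩ := hJ j l1 l2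
  obtain ⟨p1, q1, up1, uq1, pq1, hr1⟩ := second_third (β i l1) (h.n3 i l1) u (hu l1)
  obtain ⟨p2, q2, up2, uq2, pq2, hr2⟩ := second_third (β i l2) (h.n3 i l2) u (hu l2)
  obtain ⟨p3, q3, up3, uq3, pq3, hr3⟩ := second_third (β i l3) (h.n3 i l3) u (hu l3)
  have hT := h.rows hik
  have hnd := hT.B_nd (Ne.symm h21) (Ne.symm h31) (Ne.symm h32) u p1 p2 p3 q1 q2 q3
    up1 up2 up3 uq1 uq2 uq3 pq1 pq2 pq3 hr1 hr2 hr3
  have F := facts7 u p1 p2 p3 q1 q2 q3 hnd (β k j) (h.n3 k j)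
  have E1 := h.off k i j l1 (Ne.symm hik) (Ne.symm h1j)
  have E2 := h.off k i j l2 (Ne.symm hik) (Ne.symm h2j)
  have E3 := h.off k i j l3 (Ne.symm hik) (Ne.symm h3j)
  rw [hr1, ip_three] at E1
  rw [hr2, ip_three] at E2
  rw [hr3, ip_three] at E3
  omega

/-- **Structure theorem** for the array. -/
theorem Arr.structure (h : Arr D β) [Nonempty I] [Nonempty J]
    (hJ : ∀ j1 j2 j3 : J, ∃ j4, j4 ≠ j1 ∧ j4 ≠ j2 ∧ j4 ≠ j3)
    (hI : (∀ i1 i2 i3 : I, ∃ i4, i4 ≠ i1 ∧ i4 ≠ i2 ∧ i4 ≠ i3) ∨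
      (∃ i1 i2 : I, i1 ≠ i2 ∧ ∀ i, i = i1 ∨ i = i2)) :
    ∃ (u : I → SE X) (c : J → SE X) (z : I → J → SE X),
      (∀ i j, β i j = (u i).vec + (c j).vec + (z i j).vec) ∧
      (∀ i k, i ≠ k → (u i).pt ≠ (u k).pt) ∧
      (∀ j l, j ≠ l → (c j).pt ≠ (c l).pt) ∧
      (∀ i j, (u i).pt ≠ (c j).pt) ∧
      (∀ i j k, (z i j).pt ≠ (u k).pt) ∧
      (∀ i j l, (z i j).pt ≠ (c l).pt) ∧
      (∀ i j k l, (i ≠ k ∨ j ≠ l) → (z i j).pt ≠ (z k l).pt) := by
  -- another row, another column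
  have hI2 : ∀ i : I, ∃ k, k ≠ i := by
    intro i
    rcases hI with hI | ⟨i1, i2, h12, hI⟩
    · obtain ⟨k, hk, -, -⟩ := hI i i i
      exact ⟨k, hk⟩
    · rcases hI i with rfl | rfl
      · exact ⟨i2, Ne.symm h12⟩
      · exact ⟨i1, h12⟩
  have hJ2 : ∀ j : J, ∃ l, l ≠ j := by
    intro j
    obtain ⟨l, hl, -, -⟩ := hJ j j j
    exact ⟨l, hl⟩
  -- row kernels
  have hrow : ∀ i : I, ∃ u : SE X, ∀ j, cf (β i j) u = 1 := by
    intro i
    obtain ⟨k, hk⟩ := hI2 i
    exact (h.rows (Ne.symm hk)).sunflower hJ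
  choose u hu using hrow
  -- column kernels
  have hcol : ∀ j : J, ∃ c : SE X, ∀ i, cf (β i j) c = 1 := by
    intro j
    obtain ⟨l, hl⟩ := hJ2 j
    rcases hI with hI | ⟨i1, i2, h12, hI⟩
    · exact (h.cols (Ne.symm hl)).sunflower hI
    · obtain ⟨c, hc1, hc2⟩ := (h.cols (Ne.symm hl)).exists_common h12
      refine ⟨c, fun i => ?_⟩
      rcases hI i with rfl | rfl
      · exact hc1
      · exact hc2
  choose c hc using hcol
  have huc : ∀ i j, (u i).pt ≠ (c j).pt := by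
    intro i j
    obtain ⟨k, hk⟩ := hI2 i
    exact h.kernel_ne hJ (Ne.symm hk) j (u i) (c j) (hu i) (hc j i) (hc j k)
  have hz : ∀ i j, ∃ z : SE X, (u i).pt ≠ z.pt ∧ (c j).pt ≠ z.pt ∧
      β i j = (u i).vec + (c j).vec + z.vec :=
    fun i j => third_elt (β i j) (h.n3 i j) (u i) (c j) (hu i j) (hc j i) (huc i j)
  choose z huz hcz hβ using hz
  -- sharing along rows and columns
  have G1 : ∀ i j l, j ≠ l → cf (β i l) (c j) = 0 ∧ cf (β i l) (z i j) = 0 := by
    intro i j l hjl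
    have := share_one D h.hD (β i j) (β i l) (u i) (c j) (z i j) (huc i j) (huz i j) (hcz i j)
      (hβ i j) (h.n3 i l) (h.row i l j (Ne.symm hjl)) (h.deg i l i j)
    have := hu i l
    omega
  have G2 : ∀ i k j, i ≠ k → cf (β k j) (u i) = 0 ∧ cf (β k j) (z i j) = 0 := by
    intro i k j hik
    have := share_one D h.hD (β i j) (β k j) (u i) (c j) (z i j) (huc i j) (huz i j) (hcz i j)
      (hβ i j) (h.n3 k j) (h.col k i j (Ne.symm hik)) (h.deg k j i j)
    have := hc j k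
    omega
  have hdz : ∀ i j, cf (β i j) (z i j) = 1 := by
    intro i j
    have := (cf_dec (u i) (c j) (z i j) (huc i j) (huz i j) (hcz i j)).2.2
    rw [← hβ i j] at this
    exact this
  refine ⟨u, c, z, hβ, ?_, ?_, huc, ?_, ?_, ?_⟩
  · intro i k hik
    obtain ⟨j⟩ := ‹Nonempty J›
    exact pt_ne_of_cf (G2 i k j hik).1 (hu k j)
  · intro j l hjl
    obtain ⟨i⟩ := ‹Nonempty I›
    exact pt_ne_of_cf (G1 i j l hjl).1 (hc l i)
  · intro i j k
    by_cases hik : i = k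
    · subst hik; exact Ne.symm (huz i j)
    · exact pt_ne_of_cf (G2 i k j hik).2 (hu k j)
  · intro i j l
    by_cases hjl : j = l
    · subst hjl; exact Ne.symm (hcz i j)
    · exact pt_ne_of_cf (G1 i j l hjl).2 (hc l i)
  · intro i j k l hne
    apply pt_ne_of_cf (v := β k l) _ (hdz k l)
    by_cases hik : i = k
    · subst hik
      have hjl : j ≠ l := by
        rcases hne with h1 | h1
        · exact absurd rfl h1
        · exact h1
      exact (G1 i j l hjl).2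
    · by_cases hjl : j = l
      · subst hjl
        exact (G2 i k j hik).2
      · have e := h.off k i l j (Ne.symm hik) (Ne.symm hjl)
        rw [hβ i j, ip_three] at e
        have e1 := (G2 i k l hik).1
        have e2 := (G1 k j l hjl).1
        omega

end Cfsg.Agent.Helper24.CycTI
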