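import Cfsg.Agent.Helper24.CycTIf
import Cfsg.Agent.Helper24.Generalized
import Cfsg.Agent.Helper24.Linear
import Cfsg.Agent.Helper8.Inner

/-!
Dictionary between generalized characters and integer vectors on the irreducible characters.
-/

set_option autoImplicit false

namespace Cfsg.Agent.Helper24.CycTI

open Cfsg Cfsg.Agent.Helper24

variable {G : Type*} [Group G] [Fintype G] [Fintype (IrrCharacter G)]

/-- the generalized character with given integer coefficients -/
noncomputable def chOf (n : IrrCharacter G → ℤ) : G → ℂ :=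
  ∑ ψ : IrrCharacter G, (n ψ : ℂ) • (ψ : G → ℂ)

theorem exists_chOf {θ : G → ℂ} (h : IsGeneralizedCharacter G θ) :
    ∃ n : IrrCharacter G → ℤ, θ = chOf n :=
  IsGeneralizedCharacter.exists_int_coeff h

theorem classInner_chOf (n m : IrrCharacter G → ℤ) :
    classInner (chOf n) (chOf m) = ((ip n m : ℤ) : ℂ) := by
  unfold chOf ip
  rw [classInner_sum_sum]
  push_cast
  apply Finset.sum_congr rfl
  intro ψ _
  rw [map_intCast]

theorem classInner_chOf_irr (n : IrrCharacter G → ℤ) (ψ : IrrCharacter G) :
    classInner (chOf n) (ψ : G → ℂ) = (n ψ : ℂ) := by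
  unfold chOf
  rw [classInner_sum_irr]

theorem chOf_add (n m : IrrCharacter G → ℤ) : chOf (n + m) = chOf n + chOf m := by
  unfold chOf
  rw [← Finset.sum_add_distrib]
  apply Finset.sum_congr rfl
  intro ψ _
  rw [Pi.add_apply, Int.cast_add, add_smul]

/-- the signed irreducible character of a signed element -/
noncomputable def sgch (e : SE (IrrCharacter G)) : G → ℂ := (e.sg : ℂ) • (e.pt : G → ℂ)

theorem chOf_vec [DecidableEq (IrrCharacter G)] (e : SE (IrrCharacter G)) :
    chOf e.vec = sgch e := by
  unfold chOf SE.vec sgch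
  rw [Finset.sum_eq_single e.pt]
  · rw [Pi.single_eq_same]
  · intro ψ _ hψ
    rw [Pi.single_eq_of_ne hψ, Int.cast_zero, zero_smul]
  · intro h; exact absurd (Finset.mem_univ _) h

theorem sgch_irr_or_neg (e : SE (IrrCharacter G)) :
    IsIrrCharacter G (sgch e) ∨ IsIrrCharacter G (-sgch e) := by
  unfold sgch
  rcases e.hsg with h | h
  · left
    rw [h]
    simpa using e.pt.2
  · right
    rw [h]
    simpa using e.pt.2

theorem classInner_sgch (e f : SE (IrrCharacter G)) [Decidable (e.pt = f.pt)] :
    classInner (sgch e) (sgch f) = if e.pt = f.pt then ((e.sg * f.sg : ℤ) : ℂ) else 0 := by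
  unfold sgch
  rw [classInner_smul_left, classInner_smul_right, map_intCast]
  split_ifs with hpt
  · rw [hpt, classInner_irr_self]
    push_cast; ring
  · rw [classInner_irr_ne hpt]
    ring

/-- the degree vector -/
noncomputable def degv (G : Type*) [Group G] : IrrCharacter G → ℤ :=
  fun ψ => ((Cfsg.Agent.Helper8.irr_degree_pos ψ.2).choose : ℤ)

theorem degv_ne_zero (ψ : IrrCharacter G) : degv G ψ ≠ 0 := by
  unfold degv
  have := (Cfsg.Agent.Helper8.irr_degree_pos ψ.2).choose_spec.1
  omega

theorem degv_spec (ψ : IrrCharacter G) : (ψ : G → ℂ) 1 = ((degv G ψ : ℤ) : ℂ) := by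
  unfold degv
  have := (Cfsg.Agent.Helper8.irr_degree_pos ψ.2).choose_spec.2
  exact this.trans (by push_cast; rfl)

theorem chOf_apply_one (n : IrrCharacter G → ℤ) :
    chOf n 1 = ((ip n (degv G) : ℤ) : ℂ) := by
  unfold chOf ip
  rw [Finset.sum_apply]
  push_cast
  apply Finset.sum_congr rfl
  intro ψ _
  rw [Pi.smul_apply, smul_eq_mul, degv_spec]

end Cfsg.Agent.Helper24.CycTI
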