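import Cfsg.Agent.Helper24.CycTIg
import Cfsg.Agent.S1505
import Cfsg.Agent.Helper8.DualSplit

/-!
The induced generalized characters of the cyclic TI situation and their coefficient array.
-/

set_option autoImplicit false

namespace Cfsg.Agent.Helper24.CycTI

open Cfsg Cfsg.Agent.Helper24

variable {G : Type*} [Group G] [Fintype G] (W₁ W₂ : Subgroup G)

/-- the function `(1 - φ)(1 - ψ)` on `W` -/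
noncomputable def alphaF (φ ψ : ↥(W₁ ⊔ W₂) →* ℂˣ) : ↥(W₁ ⊔ W₂) → ℂ :=
  fun w => 1 - (φ w : ℂ) - (ψ w : ℂ) + (φ w : ℂ) * (ψ w : ℂ)

/-- its induction to `G` -/
noncomputable def thetaF (φ ψ : ↥(W₁ ⊔ W₂) →* ℂˣ) : G → ℂ :=
  indFun (W₁ ⊔ W₂) (alphaF W₁ W₂ φ ψ)

theorem isCharacter_units {W : Type*} [Group W] (ω : W →* ℂˣ) :
    IsCharacter W (fun w => ((ω w : ℂˣ) : ℂ)) :=
  isCharacter_of_monoidHom ((Units.coeHom ℂ).comp ω)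

theorem alphaF_gen (φ ψ : ↥(W₁ ⊔ W₂) →* ℂˣ) :
    IsGeneralizedCharacter ↥(W₁ ⊔ W₂) (alphaF W₁ W₂ φ ψ) := by
  have h1 : IsGeneralizedCharacter ↥(W₁ ⊔ W₂) (fun _ => (1 : ℂ)) :=
    IsCharacter.isGeneralizedCharacter isCharacter_const_one
  have h2 := IsCharacter.isGeneralizedCharacter (isCharacter_units φ)
  have h3 := IsCharacter.isGeneralizedCharacter (isCharacter_units ψ)
  have h4 := IsCharacter.isGeneralizedCharacter (isCharacter_units (φ * ψ))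
  have : alphaF W₁ W₂ φ ψ = (fun _ => (1 : ℂ)) - (fun w => ((φ w : ℂˣ) : ℂ))
      - (fun w => ((ψ w : ℂˣ) : ℂ)) + (fun w => (((φ * ψ) w : ℂˣ) : ℂ)) := by
    funext w
    simp [alphaF]
  rw [this]
  exact IsGeneralizedCharacter.add (IsGeneralizedCharacter.sub (IsGeneralizedCharacter.sub h1 h2) h3) h4

theorem thetaF_gen (φ ψ : ↥(W₁ ⊔ W₂) →* ℂˣ) : IsGeneralizedCharacter G (thetaF W₁ W₂ φ ψ) :=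
  IsGeneralizedCharacter.indFun _ (alphaF_gen W₁ W₂ φ ψ)

theorem thetaF_one (φ ψ : ↥(W₁ ⊔ W₂) →* ℂˣ) : thetaF W₁ W₂ φ ψ 1 = 0 := by
  unfold thetaF
  rw [Cfsg.Agent.Helper8.indFun_def]
  have : ∀ x : G, extendByZero (W₁ ⊔ W₂) (alphaF W₁ W₂ φ ψ) (x⁻¹ * 1 * x) = 0 := by
    intro x
    have h1 : x⁻¹ * 1 * x = ((1 : ↥(W₁ ⊔ W₂)) : G) := by simp
    rw [h1, Cfsg.Agent.Helper8.ebz_coe]
    simp [alphaF]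
  simp_rw [this]
  simp

variable {W₁ W₂}

theorem thetaF_inner_one (hW : IsSelfNormalizingCyclic W₁ W₂) {φ ψ : ↥(W₁ ⊔ W₂) →* ℂˣ}
    (hφ : φ ≠ 1) (hψ : ψ ≠ 1) (hφ₂ : ∀ w : ↥(W₁ ⊔ W₂), (w : G) ∈ W₂ → φ w = 1)
    (hψ₁ : ∀ w : ↥(W₁ ⊔ W₂), (w : G) ∈ W₁ → ψ w = 1) :
    classInner (thetaF W₁ W₂ φ ψ) (fun _ => (1 : ℂ)) = 1 :=
  (Cfsg.Agent.S1505.result W₁ W₂ hW φ φ ψ ψ hφ hφ hψ hψ (fun w hw => ⟨hφ₂ w hw, hφ₂ w hw⟩)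
    (fun w hw => ⟨hψ₁ w hw, hψ₁ w hw⟩)).1

open Classical in
theorem thetaF_inner (hW : IsSelfNormalizingCyclic W₁ W₂) {φ φ' ψ ψ' : ↥(W₁ ⊔ W₂) →* ℂˣ}
    (hφ : φ ≠ 1) (hφ' : φ' ≠ 1) (hψ : ψ ≠ 1) (hψ' : ψ' ≠ 1)
    (hφ₂ : ∀ w : ↥(W₁ ⊔ W₂), (w : G) ∈ W₂ → φ w = 1)
    (hφ₂' : ∀ w : ↥(W₁ ⊔ W₂), (w : G) ∈ W₂ → φ' w = 1)
    (hψ₁ : ∀ w : ↥(W₁ ⊔ W₂), (w : G) ∈ W₁ → ψ w = 1)
    (hψ₁' : ∀ w : ↥(W₁ ⊔ W₂), (w : G) ∈ W₁ → ψ' w = 1) :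
    classInner (thetaF W₁ W₂ φ ψ) (thetaF W₁ W₂ φ' ψ') =
      1 + (if φ = φ' then 1 else 0) + (if ψ = ψ' then 1 else 0)
        + (if φ = φ' then 1 else 0) * (if ψ = ψ' then 1 else 0) :=
  (Cfsg.Agent.S1505.result W₁ W₂ hW φ φ' ψ ψ' hφ hφ' hψ hψ' (fun w hw => ⟨hφ₂ w hw, hφ₂' w hw⟩)
    (fun w hw => ⟨hψ₁ w hw, hψ₁' w hw⟩)).2

open Classical in
/-- inner products of the `θ - 1` -/
theorem betaF_inner (hW : IsSelfNormalizingCyclic W₁ W₂) {φ φ' ψ ψ' : ↥(W₁ ⊔ W₂) →* ℂˣ}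
    (hφ : φ ≠ 1) (hφ' : φ' ≠ 1) (hψ : ψ ≠ 1) (hψ' : ψ' ≠ 1)
    (hφ₂ : ∀ w : ↥(W₁ ⊔ W₂), (w : G) ∈ W₂ → φ w = 1)
    (hφ₂' : ∀ w : ↥(W₁ ⊔ W₂), (w : G) ∈ W₂ → φ' w = 1)
    (hψ₁ : ∀ w : ↥(W₁ ⊔ W₂), (w : G) ∈ W₁ → ψ w = 1)
    (hψ₁' : ∀ w : ↥(W₁ ⊔ W₂), (w : G) ∈ W₁ → ψ' w = 1) :
    classInner (thetaF W₁ W₂ φ ψ - fun _ => (1 : ℂ)) (thetaF W₁ W₂ φ' ψ' - fun _ => (1 : ℂ)) =
      (if φ = φ' then 1 else 0) + (if ψ = ψ' then 1 else 0)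
        + (if φ = φ' then 1 else 0) * (if ψ = ψ' then 1 else 0) := by
  rw [classInner_sub_left, classInner_sub_right, classInner_sub_right,
    thetaF_inner hW hφ hφ' hψ hψ' hφ₂ hφ₂' hψ₁ hψ₁', thetaF_inner_one hW hφ hψ hφ₂ hψ₁,
    ← classInner_conj_symm (thetaF W₁ W₂ φ' ψ'), thetaF_inner_one hW hφ' hψ' hφ₂' hψ₁']
  have h11 : classInner (fun _ : G => (1 : ℂ)) (fun _ => (1 : ℂ)) = 1 :=
    classInner_irr_self (trivIrr G)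
  rw [h11, map_one]
  ring

end Cfsg.Agent.Helper24.CycTI
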