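import Cfsg.Agent.Helper24.CycTIh
import Cfsg.Agent.S1503

/-!
Functions on `W` orthogonal to all `(1 - φ)(1 - ψ)` vanish off `W₁ ∪ W₂`; the values of an
orthonormal family satisfying the induction identities.
-/

set_option autoImplicit false

namespace Cfsg.Agent.Helper24.CycTI

open Cfsg
open scoped ComplexConjugate

variable {G : Type*} [Group G] [Fintype G] {W₁ W₂ : Subgroup G}

/-- A function on `W` orthogonal to every `(1 - φ)(1 - ψ)` vanishes off `W₁ ∪ W₂`. -/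
theorem vanish_of_orth (hW : IsSelfNormalizingCyclic W₁ W₂) [Fintype ↥(W₁ ⊔ W₂)]
    (f : ↥(W₁ ⊔ W₂) → ℂ)
    (hT : ∀ φ ψ : ↥(W₁ ⊔ W₂) →* ℂˣ, (∀ w : ↥(W₁ ⊔ W₂), (w : G) ∈ W₂ → φ w = 1) →
      (∀ w : ↥(W₁ ⊔ W₂), (w : G) ∈ W₁ → ψ w = 1) →
      ∑ v : ↥(W₁ ⊔ W₂), (1 - ((φ v : ℂˣ) : ℂ)) * (1 - ((ψ v : ℂˣ) : ℂ)) * conj (f v) = 0)
    (w : ↥(W₁ ⊔ W₂)) (hw₁ : (w : G) ∉ W₁) (hw₂ : (w : G) ∉ W₂) : f w = 0 := by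
  classical
  have hc := Cfsg.Agent.Helper8.snc_comm hW
  have hdisj : W₁ ⊓ W₂ = ⊥ := hW.2.2.1
  have : Finite (↥(W₁ ⊔ W₂) →* ℂˣ) := Cfsg.Agent.Helper8.finite_hom_units hc
  have : Fintype (↥(W₁ ⊔ W₂) →* ℂˣ) := Fintype.ofFinite _
  set H₁ : Subgroup ↥(W₁ ⊔ W₂) := W₁.subgroupOf (W₁ ⊔ W₂) with hH₁
  set H₂ : Subgroup ↥(W₁ ⊔ W₂) := W₂.subgroupOf (W₁ ⊔ W₂) with hH₂
  set Φ := Finset.univ.filter (fun φ : ↥(W₁ ⊔ W₂) →* ℂˣ => ∀ y ∈ H₂, φ y = 1) with hΦ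
  set Ψ := Finset.univ.filter (fun φ : ↥(W₁ ⊔ W₂) →* ℂˣ => ∀ y ∈ H₁, φ y = 1) with hΨ
  have hT' : ∀ φ ∈ Φ, ∀ ψ ∈ Ψ,
      ∑ v : ↥(W₁ ⊔ W₂), (1 - ((φ v : ℂˣ) : ℂ)) * (1 - ((ψ v : ℂˣ) : ℂ)) * conj (f v) = 0 := by
    intro φ hφ ψ hψ
    rw [hΦ, Finset.mem_filter] at hφ
    rw [hΨ, Finset.mem_filter] at hψ
    exact hT φ ψ (fun v hv => hφ.2 v (Subgroup.mem_subgroupOf.mpr hv))
      (fun v hv => hψ.2 v (Subgroup.mem_subgroupOf.mpr hv))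
  have hw₁' : w ∉ H₁ := fun h => hw₁ (Subgroup.mem_subgroupOf.mp h)
  have hw₂' : w ∉ H₂ := fun h => hw₂ (Subgroup.mem_subgroupOf.mp h)
  have hsum : ∑ φ ∈ Φ, ∑ ψ ∈ Ψ, conj ((φ w : ℂˣ) : ℂ) * conj ((ψ w : ℂˣ) : ℂ) *
      ∑ v : ↥(W₁ ⊔ W₂), (1 - ((φ v : ℂˣ) : ℂ)) * (1 - ((ψ v : ℂˣ) : ℂ)) * conj (f v) = 0 := by
    apply Finset.sum_eq_zero
    intro φ hφ
    apply Finset.sum_eq_zero
    intro ψ hψ
    rw [hT' φ hφ ψ hψ, mul_zero]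
  rw [Cfsg.Agent.S1503.swap_sum Φ Ψ (fun φ => conj ((φ w : ℂˣ) : ℂ))
    (fun ψ => conj ((ψ w : ℂˣ) : ℂ))
    (fun φ v => 1 - ((φ v : ℂˣ) : ℂ)) (fun ψ v => 1 - ((ψ v : ℂˣ) : ℂ))
    (fun v => conj (f v))] at hsum
  simp only [hΦ, hΨ, Cfsg.Agent.Helper8.sum_annihilator_conj_mul hc H₂ w _ hw₂',
    Cfsg.Agent.Helper8.sum_annihilator_conj_mul hc H₁ w _ hw₁'] at hsum
  rw [Finset.sum_eq_single w] at hsum
  · simp only [inv_mul_cancel, one_mem, if_true] at hsum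
    have h1 := Cfsg.Agent.Helper8.card_annihilator_ne_zero H₁
    have h2 := Cfsg.Agent.Helper8.card_annihilator_ne_zero H₂
    have h3 : conj (f w) = 0 := by
      rcases mul_eq_zero.mp hsum with h | h
      · exact h
      · exfalso
        rcases mul_eq_zero.mp h with h | h
        · exact h2 (neg_eq_zero.mp h)
        · exact h1 (neg_eq_zero.mp h)
    exact (map_eq_zero _).mp h3
  · intro v _ hv
    have : ¬ (w⁻¹ * v ∈ H₂ ∧ w⁻¹ * v ∈ H₁) := by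
      rintro ⟨h2, h1⟩
      apply hv
      have h2' : ((w⁻¹ * v : ↥(W₁ ⊔ W₂)) : G) ∈ W₂ := Subgroup.mem_subgroupOf.mp h2
      have h1' : ((w⁻¹ * v : ↥(W₁ ⊔ W₂)) : G) ∈ W₁ := Subgroup.mem_subgroupOf.mp h1
      have h3 : ((w⁻¹ * v : ↥(W₁ ⊔ W₂)) : G) ∈ W₁ ⊓ W₂ := ⟨h1', h2'⟩
      rw [hdisj, Subgroup.mem_bot] at h3
      have h4 : w⁻¹ * v = 1 := Subtype.ext h3
      exact (inv_mul_eq_one.mp h4).symm
    by_cases h2 : w⁻¹ * v ∈ H₂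
    · have h1 : w⁻¹ * v ∉ H₁ := fun h1 => this ⟨h2, h1⟩
      simp [h1]
    · simp [h2]
  · intro h
    exact absurd (Finset.mem_univ w) h

open Classical in
/-- The values on `W` off `W₁ ∪ W₂` of an orthonormal family of class functions satisfying the
induction identities. -/
theorem eq_on_of (hW : IsSelfNormalizingCyclic W₁ W₂)
    (χ : (↥(W₁ ⊔ W₂) →* ℂˣ) → (G → ℂ)) (hcl : ∀ ω, IsClassFunction G (χ ω))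
    (horth : ∀ ω ω', classInner (χ ω) (χ ω') = @ite ℂ (ω = ω') (Classical.propDecidable _) 1 0)
    (hone : χ 1 = fun _ => 1)
    (hind : ∀ φ ψ : ↥(W₁ ⊔ W₂) →* ℂˣ, φ ≠ 1 → ψ ≠ 1 →
      (∀ w : ↥(W₁ ⊔ W₂), (w : G) ∈ W₂ → φ w = 1) → (∀ w : ↥(W₁ ⊔ W₂), (w : G) ∈ W₁ → ψ w = 1) →
      indFun (W₁ ⊔ W₂) (fun w => 1 - (φ w : ℂ) - (ψ w : ℂ) + (φ w : ℂ) * (ψ w : ℂ)) =
        fun g => 1 - χ φ g - χ ψ g + χ (φ * ψ) g)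
    (ω : ↥(W₁ ⊔ W₂) →* ℂˣ) (w : ↥(W₁ ⊔ W₂)) (hw₁ : (w : G) ∉ W₁) (hw₂ : (w : G) ∉ W₂) :
    χ ω w = (ω w : ℂ) := by
  have : Fintype ↥(W₁ ⊔ W₂) := Fintype.ofFinite _
  have key := vanish_of_orth hW (fun v : ↥(W₁ ⊔ W₂) => χ ω v - ((ω v : ℂˣ) : ℂ)) ?_ w hw₁ hw₂
  · exact sub_eq_zero.mp key
  intro φ ψ hφ₂ hψ₁
  by_cases h1 : φ = 1
  · subst h1; simp
  by_cases h2 : ψ = 1
  · subst h2; simp
  have hlc : ∀ ω ω' : ↥(W₁ ⊔ W₂) →* ℂˣ,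
      classInner (Cfsg.Agent.S1505.lc ω) (Cfsg.Agent.S1505.lc ω') = if ω = ω' then 1 else 0 := by
    intro ω ω'
    have := Cfsg.Agent.Helper8.classInner_hom_units ω ω'
    unfold Cfsg.Agent.S1505.lc
    convert this
  -- the inner product with the restriction of `χ ω`
  have ha : classInner (fun w : ↥(W₁ ⊔ W₂) => 1 - ((φ w : ℂˣ) : ℂ) - ((ψ w : ℂˣ) : ℂ)
      + ((φ w : ℂˣ) : ℂ) * ((ψ w : ℂˣ) : ℂ)) (fun v : ↥(W₁ ⊔ W₂) => χ ω v)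
      = (if (1 : ↥(W₁ ⊔ W₂) →* ℂˣ) = ω then 1 else 0) - (if φ = ω then 1 else 0)
        - (if ψ = ω then 1 else 0) + (if φ * ψ = ω then 1 else 0) := by
    rw [← Cfsg.Agent.Helper8.frobenius_reciprocity _ _ _ (hcl ω), hind φ ψ h1 h2 hφ₂ hψ₁]
    have : (fun g => 1 - χ φ g - χ ψ g + χ (φ * ψ) g) = χ 1 - χ φ - χ ψ + χ (φ * ψ) := by
      funext g
      simp [hone]
    rw [this, Cfsg.Agent.Helper24.classInner_add_left, Cfsg.Agent.Helper24.classInner_sub_left,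
      Cfsg.Agent.Helper24.classInner_sub_left, horth, horth, horth, horth]
    congr!
  have hb : classInner (fun w : ↥(W₁ ⊔ W₂) => 1 - ((φ w : ℂˣ) : ℂ) - ((ψ w : ℂˣ) : ℂ)
      + ((φ w : ℂˣ) : ℂ) * ((ψ w : ℂˣ) : ℂ)) (fun v : ↥(W₁ ⊔ W₂) => ((ω v : ℂˣ) : ℂ))
      = (if (1 : ↥(W₁ ⊔ W₂) →* ℂˣ) = ω then 1 else 0) - (if φ = ω then 1 else 0)
        - (if ψ = ω then 1 else 0) + (if φ * ψ = ω then 1 else 0) := by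
    rw [Cfsg.Agent.S1505.alpha_eq]
    have : (fun v : ↥(W₁ ⊔ W₂) => ((ω v : ℂˣ) : ℂ)) = Cfsg.Agent.S1505.lc ω := rfl
    rw [this, Cfsg.Agent.Helper24.classInner_add_left, Cfsg.Agent.Helper24.classInner_sub_left,
      Cfsg.Agent.Helper24.classInner_sub_left, hlc, hlc, hlc, hlc]
  have hdiff : classInner (fun w : ↥(W₁ ⊔ W₂) => 1 - ((φ w : ℂˣ) : ℂ) - ((ψ w : ℂˣ) : ℂ)
      + ((φ w : ℂˣ) : ℂ) * ((ψ w : ℂˣ) : ℂ))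
      (fun v : ↥(W₁ ⊔ W₂) => χ ω v - ((ω v : ℂˣ) : ℂ)) = 0 := by
    have : (fun v : ↥(W₁ ⊔ W₂) => χ ω v - ((ω v : ℂˣ) : ℂ))
        = (fun v : ↥(W₁ ⊔ W₂) => χ ω v) - (fun v : ↥(W₁ ⊔ W₂) => ((ω v : ℂˣ) : ℂ)) := rfl
    rw [this, Cfsg.Agent.Helper24.classInner_sub_right, ha, hb, sub_self]
  unfold classInner at hdiff
  have hne : (Nat.card ↥(W₁ ⊔ W₂) : ℂ)⁻¹ ≠ 0 :=
    inv_ne_zero (Nat.cast_ne_zero.mpr Nat.card_pos.ne')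
  have h7 := (mul_eq_zero.mp hdiff).resolve_left hne
  rw [← h7]
  apply Finset.sum_congr rfl
  intro v _
  ring

end Cfsg.Agent.Helper24.CycTI
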