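import Cfsg.Agent.Helper24.CycTIi
import Cfsg.Agent.Helper8.CyclicTIUnique

/-!
Symmetric form of the array structure theorem, and the sizes of the index sets.
-/

set_option autoImplicit false

namespace Cfsg.Agent.Helper24.CycTI

variable {X : Type*} [Fintype X] [DecidableEq X]
variable {I J : Type*} {D : X → ℤ} {β : I → J → X → ℤ}

theorem Arr.transpose (h : Arr D β) : Arr D (fun j i => β i j) where
  hD := h.hD
  n3 := fun j i => h.n3 i j
  row := fun j i k hik => h.col i k j hik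
  col := fun j l i hjl => h.row i j l hjl
  off := fun j l i k hjl hik => h.off i k j l hik hjl
  deg := fun j i l k => h.deg i j k l

/-- **Structure theorem**, symmetric form. -/
theorem Arr.structure_symm (h : Arr D β) [Nonempty I] [Nonempty J]
    (hcase : ((∀ j1 j2 j3 : J, ∃ j4, j4 ≠ j1 ∧ j4 ≠ j2 ∧ j4 ≠ j3) ∧
        ((∀ i1 i2 i3 : I, ∃ i4, i4 ≠ i1 ∧ i4 ≠ i2 ∧ i4 ≠ i3) ∨
          (∃ i1 i2 : I, i1 ≠ i2 ∧ ∀ i, i = i1 ∨ i = i2))) ∨
      ((∀ i1 i2 i3 : I, ∃ i4, i4 ≠ i1 ∧ i4 ≠ i2 ∧ i4 ≠ i3) ∧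
        ((∀ j1 j2 j3 : J, ∃ j4, j4 ≠ j1 ∧ j4 ≠ j2 ∧ j4 ≠ j3) ∨
          (∃ j1 j2 : J, j1 ≠ j2 ∧ ∀ j, j = j1 ∨ j = j2)))) :
    ∃ (u : I → SE X) (c : J → SE X) (z : I → J → SE X),
      (∀ i j, β i j = (u i).vec + (c j).vec + (z i j).vec) ∧
      (∀ i k, i ≠ k → (u i).pt ≠ (u k).pt) ∧
      (∀ j l, j ≠ l → (c j).pt ≠ (c l).pt) ∧
      (∀ i j, (u i).pt ≠ (c j).pt) ∧
      (∀ i j k, (z i j).pt ≠ (u k).pt) ∧
      (∀ i j l, (z i j).pt ≠ (c l).pt) ∧
      (∀ i j k l, (i ≠ k ∨ j ≠ l) → (z i j).pt ≠ (z k l).pt) := by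
  rcases hcase with ⟨hJ, hI⟩ | ⟨hI, hJ⟩
  · exact h.structure hJ hI
  · obtain ⟨u', c', z', h1, h2, h3, h4, h5, h6, h7⟩ := h.transpose.structure hI hJ
    refine ⟨c', u', fun i j => z' j i, ?_, h3, h2, fun i j => Ne.symm (h4 j i), ?_, ?_, ?_⟩
    · intro i j
      have : β i j = (u' j).vec + (c' i).vec + (z' j i).vec := h1 j i
      rw [this]; abel
    · intro i j k
      exact h6 j i k
    · intro i j l
      exact h5 j i l
    · intro i j k l hne
      exact h7 j i l k (Or.symm hne)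

theorem exists_fourth {T : Type*} [Finite T] (h : 4 ≤ Nat.card T) (a b c : T) :
    ∃ d, d ≠ a ∧ d ≠ b ∧ d ≠ c := by
  classical
  have : Fintype T := Fintype.ofFinite T
  by_contra hcon
  push Not at hcon
  have hsub : (Finset.univ : Finset T) ⊆ {a, b, c} := by
    intro d _
    simp only [Finset.mem_insert, Finset.mem_singleton]
    by_cases h1 : d = a
    · exact Or.inl h1
    · by_cases h2 : d = b
      · exact Or.inr (Or.inl h2)
      · exact Or.inr (Or.inr (hcon d h1 h2))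
  have h1 := Finset.card_le_card hsub
  have h2 : ({a, b, c} : Finset T).card ≤ 3 := Finset.card_le_three
  rw [Finset.card_univ, ← Nat.card_eq_fintype_card] at h1
  omega

theorem exists_pair_of_card_two {T : Type*} (h : Nat.card T = 2) :
    ∃ a b : T, a ≠ b ∧ ∀ t, t = a ∨ t = b := by
  obtain ⟨a, b, hab, huniv⟩ := Nat.card_eq_two_iff.mp h
  refine ⟨a, b, hab, fun t => ?_⟩
  have : t ∈ ({a, b} : Set T) := by rw [huniv]; exact Set.mem_univ t
  simpa using this

theorem card_subtype_ne {T : Type*} [Finite T] (t₀ : T) :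
    Nat.card {t : T // t ≠ t₀} = Nat.card T - 1 := by
  classical
  have : Fintype T := Fintype.ofFinite T
  rw [Nat.card_eq_fintype_card, Nat.card_eq_fintype_card, Fintype.card_subtype_compl,
    Fintype.card_subtype_eq]

end Cfsg.Agent.Helper24.CycTI
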