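import Cfsg.Agent.Helper24.CycTIj

/-!
Existence of the characters attached to a cyclic TI configuration (Peterfalvi 3.2).
-/

set_option autoImplicit false

namespace Cfsg.Agent.Helper24.CycTI

open Cfsg Cfsg.Agent.Helper24
open scoped ComplexConjugate

variable {X : Type*}

/-- the opposite signed element -/
def SE.neg (e : SE X) : SE X :=
  ⟨e.pt, -e.sg, by rcases e.hsg with h | h <;> simp [h]⟩

variable {G : Type*} [Group G] [Fintype G]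

theorem sgch_neg [Fintype (IrrCharacter G)] (e : SE (IrrCharacter G)) : sgch e.neg = -sgch e := by
  unfold sgch SE.neg
  simp

theorem sgch_isClassFunction (e : SE (IrrCharacter G)) : IsClassFunction G (sgch e) := by
  intro g h
  unfold sgch
  have := IsCharacter.isClassFunction (IsIrrCharacter.isCharacter e.pt.2) g h
  simp only [Pi.smul_apply, smul_eq_mul, this]

variable (W₁ W₂ : Subgroup G)

/-- linear characters of `W` trivial on `W₂` -/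
abbrev A2 := {φ : ↥(W₁ ⊔ W₂) →* ℂˣ // ∀ w : ↥(W₁ ⊔ W₂), (w : G) ∈ W₂ → φ w = 1}

/-- linear characters of `W` trivial on `W₁` -/
abbrev A1 := {ψ : ↥(W₁ ⊔ W₂) →* ℂˣ // ∀ w : ↥(W₁ ⊔ W₂), (w : G) ∈ W₁ → ψ w = 1}

/-- the trivial character in `A2` -/
def o2 : A2 W₁ W₂ := ⟨1, fun _ _ => rfl⟩

/-- the trivial character in `A1` -/
def o1 : A1 W₁ W₂ := ⟨1, fun _ _ => rfl⟩

/-- nontrivial members of `A2` -/
abbrev II := {φ : A2 W₁ W₂ // φ ≠ o2 W₁ W₂}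

/-- nontrivial members of `A1` -/
abbrev JJ := {ψ : A1 W₁ W₂ // ψ ≠ o1 W₁ W₂}

variable {W₁ W₂}

theorem II.ne_one (i : II W₁ W₂) : i.1.1 ≠ 1 := fun h => i.2 (Subtype.ext h)

theorem JJ.ne_one (j : JJ W₁ W₂) : j.1.1 ≠ 1 := fun h => j.2 (Subtype.ext h)

/-- sizes of the index sets -/
theorem index_cases (hW : IsSelfNormalizingCyclic W₁ W₂) (hodd : Odd (Nat.card ↥(W₁ ⊔ W₂)))
    [Finite (II W₁ W₂)] [Finite (JJ W₁ W₂)] [Finite (A2 W₁ W₂)] [Finite (A1 W₁ W₂)] :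
    Nonempty (II W₁ W₂) ∧ Nonempty (JJ W₁ W₂) ∧
    (((∀ j1 j2 j3 : JJ W₁ W₂, ∃ j4, j4 ≠ j1 ∧ j4 ≠ j2 ∧ j4 ≠ j3) ∧
        ((∀ i1 i2 i3 : II W₁ W₂, ∃ i4, i4 ≠ i1 ∧ i4 ≠ i2 ∧ i4 ≠ i3) ∨
          (∃ i1 i2 : II W₁ W₂, i1 ≠ i2 ∧ ∀ i, i = i1 ∨ i = i2))) ∨
      ((∀ i1 i2 i3 : II W₁ W₂, ∃ i4, i4 ≠ i1 ∧ i4 ≠ i2 ∧ i4 ≠ i3) ∧
        ((∀ j1 j2 j3 : JJ W₁ W₂, ∃ j4, j4 ≠ j1 ∧ j4 ≠ j2 ∧ j4 ≠ j3) ∨
          (∃ j1 j2 : JJ W₁ W₂, j1 ≠ j2 ∧ ∀ j, j = j1 ∨ j = j2)))) := by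
  have hcI : Nat.card (II W₁ W₂) = Nat.card W₁ - 1 := by
    rw [card_subtype_ne, Cfsg.Agent.Helper8.snc_card_annihilator₂ hW]
  have hcJ : Nat.card (JJ W₁ W₂) = Nat.card W₂ - 1 := by
    rw [card_subtype_ne, Cfsg.Agent.Helper8.snc_card_annihilator₁ hW]
  obtain ⟨h3₁, h3₂⟩ := Cfsg.Agent.Helper8.snc_card_ge_three hW hodd
  have hcard := Cfsg.Agent.Helper8.snc_card hW
  have hodd' := hodd
  rw [hcard, Nat.odd_mul] at hodd'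
  obtain ⟨⟨k₁, hk₁⟩, ⟨k₂, hk₂⟩⟩ := hodd'
  have hne : Nat.card W₁ ≠ Nat.card W₂ := by
    intro heq
    have hcyc : IsCyclic ↥(W₁ ⊔ W₂) := hW.2.2.2.2.1
    have := Cfsg.Agent.Helper23.eq_of_card_eq_of_isCyclic (W₁ ⊔ W₂) hcyc W₁ W₂ le_sup_left
      le_sup_right heq
    have hinf : W₁ ⊓ W₂ = ⊥ := hW.2.2.1
    rw [this, inf_idem] at hinf
    exact hW.2.1 hinf
  have hI0 : 0 < Nat.card (II W₁ W₂) := by omega
  have hJ0 : 0 < Nat.card (JJ W₁ W₂) := by omega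
  refine ⟨(Nat.card_pos_iff.mp hI0).1, (Nat.card_pos_iff.mp hJ0).1, ?_⟩
  have hIc : 4 ≤ Nat.card (II W₁ W₂) ∨ Nat.card (II W₁ W₂) = 2 := by omega
  have hJc : 4 ≤ Nat.card (JJ W₁ W₂) ∨ Nat.card (JJ W₁ W₂) = 2 := by omega
  rcases hJc with hJ4 | hJ2
  · left
    refine ⟨exists_fourth hJ4, ?_⟩
    rcases hIc with hI4 | hI2
    · exact Or.inl (exists_fourth hI4)
    · exact Or.inr (exists_pair_of_card_two hI2)
  · right
    have hI4 : 4 ≤ Nat.card (II W₁ W₂) := by omega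
    exact ⟨exists_fourth hI4, Or.inr (exists_pair_of_card_two hJ2)⟩

end Cfsg.Agent.Helper24.CycTI
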