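import Cfsg.Agent.Helper24.CycTIk
import Cfsg.Prelude.Def_OddOrderChar

/-!
Existence of the characters attached to a cyclic TI configuration (Peterfalvi 3.2): assembly.
-/

set_option autoImplicit false

namespace Cfsg.Agent.Helper24.CycTI

open Cfsg Cfsg.Agent.Helper24
open scoped ComplexConjugate

variable {G : Type*} [Group G] [Fintype G] {W₁ W₂ : Subgroup G}

theorem cyclicTI_exists (hW : IsSelfNormalizingCyclic W₁ W₂)
    (hodd : Odd (Nat.card ↥(W₁ ⊔ W₂))) :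
    ∃ χ : (↥(W₁ ⊔ W₂) →* ℂˣ) → (G → ℂ), IsCyclicTIFamily W₁ W₂ χ := by
  classical
  have : Fintype (IrrCharacter G) := Fintype.ofFinite _
  have : Fintype ↥(W₁ ⊔ W₂) := Fintype.ofFinite _
  have hfin : Finite (↥(W₁ ⊔ W₂) →* ℂˣ) :=
    Cfsg.Agent.Helper8.finite_hom_units (Cfsg.Agent.Helper8.snc_comm hW)
  obtain ⟨hIne, hJne, hcase⟩ := index_cases hW hodd
  -- the coefficient vectors
  have hgen1 : IsGeneralizedCharacter G (fun _ => (1 : ℂ)) :=
    IsCharacter.isGeneralizedCharacter isCharacter_const_one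
  have hn : ∀ (i : II W₁ W₂) (j : JJ W₁ W₂), ∃ n : IrrCharacter G → ℤ,
      thetaF W₁ W₂ i.1.1 j.1.1 - (fun _ => (1 : ℂ)) = chOf n := fun i j =>
    exists_chOf (IsGeneralizedCharacter.sub (thetaF_gen W₁ W₂ i.1.1 j.1.1) hgen1)
  choose n hn using hn
  -- inner products
  have hip : ∀ (i k : II W₁ W₂) (j l : JJ W₁ W₂), ((ip (n i j) (n k l) : ℤ) : ℂ) =
      (if i.1.1 = k.1.1 then 1 else 0) + (if j.1.1 = l.1.1 then 1 else 0)
        + (if i.1.1 = k.1.1 then 1 else 0) * (if j.1.1 = l.1.1 then 1 else 0) := by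
    intro i k j l
    rw [← classInner_chOf, ← hn, ← hn]
    have := betaF_inner hW i.ne_one k.ne_one j.ne_one l.ne_one i.1.2 k.1.2 j.1.2 l.1.2
    rw [this]
    congr!
  have hIeq : ∀ i k : II W₁ W₂, i.1.1 = k.1.1 ↔ i = k := fun i k =>
    ⟨fun h => Subtype.ext (Subtype.ext h), fun h => by rw [h]⟩
  have hJeq : ∀ j l : JJ W₁ W₂, j.1.1 = l.1.1 ↔ j = l := fun j l =>
    ⟨fun h => Subtype.ext (Subtype.ext h), fun h => by rw [h]⟩
  have hdeg : ∀ (i : II W₁ W₂) (j : JJ W₁ W₂), ip (n i j) (degv G) = -1 := by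
    intro i j
    have h1 := chOf_apply_one (n i j)
    rw [← hn] at h1
    simp only [Pi.sub_apply, thetaF_one, zero_sub] at h1
    have : ((ip (n i j) (degv G) : ℤ) : ℂ) = ((-1 : ℤ) : ℂ) := by rw [← h1]; push_cast; rfl
    exact_mod_cast this
  have hArr : Arr (degv G) n := by
    refine ⟨degv_ne_zero, ?_, ?_, ?_, ?_, ?_⟩
    · intro i j
      have := hip i i j j
      rw [if_pos rfl, if_pos rfl] at this
      have h3 : ((ip (n i j) (n i j) : ℤ) : ℂ) = ((3 : ℤ) : ℂ) := by rw [this]; norm_num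
      exact_mod_cast h3
    · intro i j l hjl
      have := hip i i j l
      rw [if_pos rfl, if_neg (fun h => hjl ((hJeq j l).mp h))] at this
      have h3 : ((ip (n i j) (n i l) : ℤ) : ℂ) = ((1 : ℤ) : ℂ) := by rw [this]; norm_num
      exact_mod_cast h3
    · intro i k j hik
      have := hip i k j j
      rw [if_pos rfl, if_neg (fun h => hik ((hIeq i k).mp h))] at this
      have h3 : ((ip (n i j) (n k j) : ℤ) : ℂ) = ((1 : ℤ) : ℂ) := by rw [this]; norm_num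
      exact_mod_cast h3
    · intro i k j l hik hjl
      have := hip i k j l
      rw [if_neg (fun h => hik ((hIeq i k).mp h)), if_neg (fun h => hjl ((hJeq j l).mp h))] at this
      have h3 : ((ip (n i j) (n k l) : ℤ) : ℂ) = ((0 : ℤ) : ℂ) := by rw [this]; norm_num
      exact_mod_cast h3
    · intro i j k l
      rw [hdeg, hdeg]
  obtain ⟨u, c, z, hβ, hu, hc, huc, hzu, hzc, hzz⟩ := hArr.structure_symm hcase
  obtain ⟨i₀⟩ := hIne
  obtain ⟨j₀⟩ := hJne
  -- the trivial character does not occur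
  have htriv : ∀ (i : II W₁ W₂) (j : JJ W₁ W₂), n i j (trivIrr G) = 0 := by
    intro i j
    have h1 := classInner_chOf_irr (n i j) (trivIrr G)
    rw [← hn, classInner_sub_left] at h1
    have h2 : classInner (thetaF W₁ W₂ i.1.1 j.1.1) ((trivIrr G : IrrCharacter G) : G → ℂ) = 1 :=
      thetaF_inner_one hW i.ne_one j.ne_one i.1.2 j.1.2
    have h3 : classInner (fun _ : G => (1 : ℂ)) ((trivIrr G : IrrCharacter G) : G → ℂ) = 1 :=
      classInner_irr_self (trivIrr G)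
    rw [h2, h3, sub_self] at h1
    exact_mod_cast h1.symm
  have hcfd : ∀ (i : II W₁ W₂) (j : JJ W₁ W₂), cf (n i j) (u i) = 1 ∧ cf (n i j) (c j) = 1 ∧
      cf (n i j) (z i j) = 1 := by
    intro i j
    have := cf_dec (u i) (c j) (z i j) (huc i j) (Ne.symm (hzu i j i)) (Ne.symm (hzc i j j))
    rw [← hβ i j] at this
    exact this
  have hpt : ∀ (i : II W₁ W₂) (j : JJ W₁ W₂) (e : SE (IrrCharacter G)), cf (n i j) e = 1 →
      e.pt ≠ trivIrr G := by
    intro i j e he hpt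
    unfold cf at he
    rw [hpt, htriv, mul_zero] at he
    exact zero_ne_one he
  have Tu : ∀ i, (u i).pt ≠ trivIrr G := fun i => hpt i j₀ _ (hcfd i j₀).1
  have Tc : ∀ j, (c j).pt ≠ trivIrr G := fun j => hpt i₀ j _ (hcfd i₀ j).2.1
  have Tz : ∀ i j, (z i j).pt ≠ trivIrr G := fun i j => hpt i j _ (hcfd i j).2.2
  -- the family
  let E : A2 W₁ W₂ × A1 W₁ W₂ → SE (IrrCharacter G) := fun p =>
    if h1 : p.1 = o2 W₁ W₂ then
      (if h2 : p.2 = o1 W₁ W₂ then ⟨trivIrr G, 1, Or.inl rfl⟩ else (c ⟨p.2, h2⟩).neg)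
    else (if h2 : p.2 = o1 W₁ W₂ then (u ⟨p.1, h1⟩).neg else z ⟨p.1, h1⟩ ⟨p.2, h2⟩)
  have E_OO : E (o2 W₁ W₂, o1 W₁ W₂) = ⟨trivIrr G, 1, Or.inl rfl⟩ := by
    simp only [E, dif_pos]
  have E_U : ∀ i : II W₁ W₂, E (i.1, o1 W₁ W₂) = (u i).neg := by
    intro i
    simp only [E, dif_neg i.2, dif_pos]
  have E_C : ∀ j : JJ W₁ W₂, E (o2 W₁ W₂, j.1) = (c j).neg := by
    intro j
    simp only [E, dif_neg j.2, dif_pos]
  have E_Z : ∀ (i : II W₁ W₂) (j : JJ W₁ W₂), E (i.1, j.1) = z i j := by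
    intro i j
    simp only [E, dif_neg i.2, dif_neg j.2]
  have hcases : ∀ p : A2 W₁ W₂ × A1 W₁ W₂, p = (o2 W₁ W₂, o1 W₁ W₂) ∨
      (∃ i : II W₁ W₂, p = (i.1, o1 W₁ W₂)) ∨ (∃ j : JJ W₁ W₂, p = (o2 W₁ W₂, j.1)) ∨
      (∃ (i : II W₁ W₂) (j : JJ W₁ W₂), p = (i.1, j.1)) := by
    rintro ⟨φ, ψ⟩
    by_cases h1 : φ = o2 W₁ W₂
    · by_cases h2 : ψ = o1 W₁ W₂
      · left; rw [h1, h2]
      · right; right; left; exact ⟨⟨ψ, h2⟩, by rw [h1]⟩
    · by_cases h2 : ψ = o1 W₁ W₂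
      · right; left; exact ⟨⟨φ, h1⟩, by rw [h2]⟩
      · right; right; right; exact ⟨⟨φ, h1⟩, ⟨ψ, h2⟩, rfl⟩
  have hEinj : ∀ p q : A2 W₁ W₂ × A1 W₁ W₂, (E p).pt = (E q).pt → p = q := by
    intro p q h
    rcases hcases p with rfl | ⟨i, rfl⟩ | ⟨j, rfl⟩ | ⟨i, j, rfl⟩ <;>
      rcases hcases q with rfl | ⟨i', rfl⟩ | ⟨j', rfl⟩ | ⟨i', j', rfl⟩
    · rfl
    · rw [E_OO, E_U] at h; exact absurd h.symm (Tu i')
    · rw [E_OO, E_C] at h; exact absurd h.symm (Tc j')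
    · rw [E_OO, E_Z] at h; exact absurd h.symm (Tz i' j')
    · rw [E_OO, E_U] at h; exact absurd h (Tu i)
    · rw [E_U, E_U] at h
      have : i = i' := by
        by_contra hne
        exact hu i i' hne h
      rw [this]
    · rw [E_U, E_C] at h; exact absurd h (huc i j')
    · rw [E_U, E_Z] at h; exact absurd h.symm (hzu i' j' i)
    · rw [E_OO, E_C] at h; exact absurd h (Tc j)
    · rw [E_C, E_U] at h; exact absurd h.symm (huc i' j)
    · rw [E_C, E_C] at h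
      have : j = j' := by
        by_contra hne
        exact hc j j' hne h
      rw [this]
    · rw [E_C, E_Z] at h; exact absurd h.symm (hzc i' j' j)
    · rw [E_OO, E_Z] at h; exact absurd h (Tz i j)
    · rw [E_Z, E_U] at h; exact absurd h (hzu i j i')
    · rw [E_Z, E_C] at h; exact absurd h (hzc i j j')
    · rw [E_Z, E_Z] at h
      have : i = i' ∧ j = j' := by
        by_contra hne
        rw [not_and_or] at hne
        exact hzz i j i' j' hne h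
      rw [this.1, this.2]
  -- factorisation of linear characters
  let e : A2 W₁ W₂ × A1 W₁ W₂ ≃ (↥(W₁ ⊔ W₂) →* ℂˣ) :=
    Equiv.ofBijective _ (Cfsg.Agent.Helper8.snc_dual_mul_bijective hW)
  have he : ∀ p : A2 W₁ W₂ × A1 W₁ W₂, e p = p.1.1 * p.2.1 := fun p => rfl
  have he1 : e.symm 1 = (o2 W₁ W₂, o1 W₁ W₂) := by
    rw [Equiv.symm_apply_eq, he]
    exact (mul_one (1 : ↥(W₁ ⊔ W₂) →* ℂˣ)).symm
  have heU : ∀ i : II W₁ W₂, e.symm i.1.1 = (i.1, o1 W₁ W₂) := by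
    intro i
    rw [Equiv.symm_apply_eq, he]
    exact (mul_one i.1.1).symm
  have heC : ∀ j : JJ W₁ W₂, e.symm j.1.1 = (o2 W₁ W₂, j.1) := by
    intro j
    rw [Equiv.symm_apply_eq, he]
    exact (one_mul j.1.1).symm
  have heZ : ∀ (i : II W₁ W₂) (j : JJ W₁ W₂), e.symm (i.1.1 * j.1.1) = (i.1, j.1) := by
    intro i j
    rw [Equiv.symm_apply_eq, he]
  let χ : (↥(W₁ ⊔ W₂) →* ℂˣ) → (G → ℂ) := fun ω => sgch (E (e.symm ω))
  have hχ : ∀ ω, χ ω = sgch (E (e.symm ω)) := fun ω => rfl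
  have horth : ∀ ω ω', classInner (χ ω) (χ ω') =
      @ite ℂ (ω = ω') (Classical.propDecidable _) 1 0 := by
    intro ω ω'
    rw [hχ, hχ, classInner_sgch]
    by_cases h : ω = ω'
    · subst h
      rw [if_pos rfl, if_pos rfl]
      have := (E (e.symm ω)).sg_mul_self
      exact_mod_cast this
    · rw [if_neg h, if_neg]
      intro hpt
      exact h (e.symm.injective (hEinj _ _ hpt))
  have hone : χ 1 = fun _ => 1 := by
    rw [hχ, he1, E_OO]
    funext g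
    simp [sgch]
  have hind : ∀ φ ψ : ↥(W₁ ⊔ W₂) →* ℂˣ, φ ≠ 1 → ψ ≠ 1 →
      (∀ w : ↥(W₁ ⊔ W₂), (w : G) ∈ W₂ → φ w = 1) → (∀ w : ↥(W₁ ⊔ W₂), (w : G) ∈ W₁ → ψ w = 1) →
      indFun (W₁ ⊔ W₂) (fun w => 1 - (φ w : ℂ) - (ψ w : ℂ) + (φ w : ℂ) * (ψ w : ℂ)) =
        fun g => 1 - χ φ g - χ ψ g + χ (φ * ψ) g := by
    intro φ ψ hφ1 hψ1 hφ₂ hψ₁
    let i : II W₁ W₂ := ⟨⟨φ, hφ₂⟩, fun h => hφ1 (congrArg Subtype.val h)⟩
    let j : JJ W₁ W₂ := ⟨⟨ψ, hψ₁⟩, fun h => hψ1 (congrArg Subtype.val h)⟩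
    have h1 : χ φ = -sgch (u i) := by
      rw [hχ]
      have := heU i
      rw [show i.1.1 = φ from rfl] at this
      rw [this, E_U, sgch_neg]
    have h2 : χ ψ = -sgch (c j) := by
      rw [hχ]
      have := heC j
      rw [show j.1.1 = ψ from rfl] at this
      rw [this, E_C, sgch_neg]
    have h3 : χ (φ * ψ) = sgch (z i j) := by
      rw [hχ]
      have := heZ i j
      rw [show i.1.1 = φ from rfl, show j.1.1 = ψ from rfl] at this
      rw [this, E_Z]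
    have h4 : thetaF W₁ W₂ φ ψ = chOf (n i j) + fun _ => (1 : ℂ) := by
      rw [← hn i j]
      funext g
      show thetaF W₁ W₂ φ ψ g = thetaF W₁ W₂ φ ψ g - 1 + 1
      ring
    have h5 : chOf (n i j) = sgch (u i) + sgch (c j) + sgch (z i j) := by
      rw [hβ i j, chOf_add, chOf_add, chOf_vec, chOf_vec, chOf_vec]
    show thetaF W₁ W₂ φ ψ = _
    rw [h4, h5, h1, h2, h3]
    funext g
    simp only [Pi.add_apply, Pi.neg_apply]
    ring
  refine ⟨χ, ⟨fun ω => sgch_irr_or_neg _, horth, hone, ?_, hind⟩⟩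
  intro ω w hw₁ hw₂
  exact eq_on_of hW χ (fun ω => sgch_isClassFunction _) horth hone hind ω w hw₁ hw₂

end Cfsg.Agent.Helper24.CycTI
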