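import Mathlib
import Cfsg.Prelude.Def_Local
import Cfsg.Agent.Helper26.QuadStable2
import Cfsg.Agent.Helper28.HH3Q
import Cfsg.Agent.Helper13.S3789L6

/-!
# The symplectic core for the derived length bound on `p`-length, `p = 3` (helper24)

`G` acts faithfully on a finite `ZMod 3`-module `W`; `E ≤ G` is a `2`-group all of whose commutators
act as `±1`; `B` is a `3`-group normalizing `E` whose derived group `A = ⁅B, B⁆` acts quadratically.
Then `A` centralizes `E`.
-/

set_option autoImplicit false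

namespace Cfsg.Agent.Helper24.DL

open Subgroup
open scoped commutatorElement
open Cfsg.Agent.Helper26 (IsQuadEnd)

section Basic

variable {G : Type*} [Group G] {W : Type*} [AddCommGroup W] [Module (ZMod 3) W]
  (ρ : G →* Module.End (ZMod 3) W) (hρ : Function.Injective ρ)

include hρ in
/-- an element acting as `±1` is central -/
theorem central_of_pm {c : G} (hc : ρ c = 1 ∨ ρ c = -1) (g : G) : c * g = g * c := by
  apply hρ
  rw [map_mul, map_mul]
  rcases hc with h | h <;> rw [h] <;> simp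

include hρ in
/-- an element acting as `±1` has square one -/
theorem sq_of_pm {c : G} (hc : ρ c = 1 ∨ ρ c = -1) : c * c = 1 := by
  apply hρ
  rw [map_mul, map_one]
  rcases hc with h | h <;> rw [h] <;> simp

end Basic

/-- conjugation -/
def cj {G : Type*} [Group G] (a y : G) : G := a * y * a⁻¹

/-- the "norm" of `y` under the automorphism induced by `a` (of order three) -/
def nrm {G : Type*} [Group G] (a y : G) : G := y * cj a y * cj a (cj a y)

/-- the centre of `E`, inside `G` -/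
def ZE {G : Type*} [Group G] (E : Subgroup G) : Subgroup G := E ⊓ centralizer (E : Set G)

theorem mem_ZE {G : Type*} [Group G] {E : Subgroup G} {x : G} :
    x ∈ ZE E ↔ x ∈ E ∧ ∀ y ∈ E, y * x = x * y := by
  unfold ZE
  rw [mem_inf, mem_centralizer_iff]
  rfl

section Comm

variable {G : Type*} [Group G] {W : Type*} [AddCommGroup W] [Module (ZMod 3) W]
  (ρ : G →* Module.End (ZMod 3) W) (hρ : Function.Injective ρ) (E : Subgroup G)
  (hcomm : ∀ x ∈ E, ∀ y ∈ E, ρ ⁅x, y⁆ = 1 ∨ ρ ⁅x, y⁆ = -1)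

include hρ hcomm in
theorem comm_mul_left {x y w : G} (hx : x ∈ E) (hy : y ∈ E) (hw : w ∈ E) :
    ⁅x * y, w⁆ = ⁅x, w⁆ * ⁅y, w⁆ := by
  rw [commutatorElement_mul_left_eq_conj_mul]
  have h1 := central_of_pm ρ hρ (hcomm y hy w hw) x⁻¹
  have h2 := central_of_pm ρ hρ (hcomm y hy w hw) ⁅x, w⁆
  calc x * ⁅y, w⁆ * x⁻¹ * ⁅x, w⁆ = x * (⁅y, w⁆ * x⁻¹) * ⁅x, w⁆ := by group
    _ = x * (x⁻¹ * ⁅y, w⁆) * ⁅x, w⁆ := by rw [h1]
    _ = ⁅y, w⁆ * ⁅x, w⁆ := by group
    _ = ⁅x, w⁆ * ⁅y, w⁆ := h2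

include hρ hcomm in
theorem comm_mul_right {x y w : G} (hx : x ∈ E) (hy : y ∈ E) (hw : w ∈ E) :
    ⁅x, y * w⁆ = ⁅x, y⁆ * ⁅x, w⁆ := by
  rw [commutatorElement_mul_right_eq_mul_conj]
  have h1 := central_of_pm ρ hρ (hcomm x hx w hw) y⁻¹
  calc ⁅x, y⁆ * y * ⁅x, w⁆ * y⁻¹ = ⁅x, y⁆ * y * (⁅x, w⁆ * y⁻¹) := by group
    _ = ⁅x, y⁆ * y * (y⁻¹ * ⁅x, w⁆) := by rw [h1]
    _ = ⁅x, y⁆ * ⁅x, w⁆ := by group

theorem comm_eq_one_of_mem_ZE_right {x y : G} (hx : x ∈ E) (hy : y ∈ ZE E) : ⁅x, y⁆ = 1 := by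
  rw [commutatorElement_eq_one_iff_mul_comm]
  exact (mem_ZE.1 hy).2 x hx

theorem comm_eq_one_of_mem_ZE_left {x y : G} (hx : x ∈ ZE E) (hy : y ∈ E) : ⁅x, y⁆ = 1 := by
  rw [commutatorElement_eq_one_iff_mul_comm]
  exact ((mem_ZE.1 hx).2 y hy).symm

include hρ hcomm in
theorem sq_mem_ZE {x : G} (hx : x ∈ E) : x * x ∈ ZE E := by
  rw [mem_ZE]
  refine ⟨E.mul_mem hx hx, fun y hy => ?_⟩
  have h1 : ⁅x * x, y⁆ = 1 := by
    rw [comm_mul_left ρ hρ E hcomm hx hx hy]
    exact sq_of_pm ρ hρ (hcomm x hx y hy)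
  rw [commutatorElement_eq_one_iff_mul_comm] at h1
  exact h1.symm

include hρ hcomm in
/-- conjugation does not change commutators of elements of `E` -/
theorem comm_cj (a : G) {x y : G} (hx : x ∈ E) (hy : y ∈ E) : ⁅cj a x, cj a y⁆ = ⁅x, y⁆ := by
  unfold cj
  rw [← conjugate_commutatorElement]
  have h1 := central_of_pm ρ hρ (hcomm x hx y hy) a⁻¹
  calc a * ⁅x, y⁆ * a⁻¹ = a * (⁅x, y⁆ * a⁻¹) := by group
    _ = a * (a⁻¹ * ⁅x, y⁆) := by rw [h1]
    _ = ⁅x, y⁆ := by group

end Comm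

section Norm

variable {G : Type*} [Group G]

theorem cj_mul (a x y : G) : cj a (x * y) = cj a x * cj a y := by
  unfold cj; group

theorem cj_inv (a x : G) : cj a x⁻¹ = (cj a x)⁻¹ := by
  unfold cj; group

theorem cj_one (a : G) : cj a 1 = 1 := by
  unfold cj; group

theorem cj_cj_cj {a : G} (ha : a ^ 3 = 1) (x : G) : cj a (cj a (cj a x)) = x := by
  unfold cj
  have h3 : a * a * a = 1 := by rw [← ha, pow_succ, pow_two]
  have h1 : a * (a * (a * x * a⁻¹) * a⁻¹) * a⁻¹ = (a * a * a) * x * (a * a * a)⁻¹ := by group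
  rw [h1, h3]; group

theorem cj_mem {E : Subgroup G} {a : G} (ha : a ∈ normalizer (E : Set G)) {x : G} (hx : x ∈ E) :
    cj a x ∈ E := (mem_normalizer_iff.1 ha x).1 hx

theorem cj_mem_ZE {E : Subgroup G} {a : G} (ha : a ∈ normalizer (E : Set G)) {x : G}
    (hx : x ∈ ZE E) : cj a x ∈ ZE E := by
  rw [mem_ZE] at hx ⊢
  refine ⟨cj_mem ha hx.1, fun y hy => ?_⟩
  have hy' : a⁻¹ * y * a ∈ E := by
    rw [mem_normalizer_iff] at ha
    rw [ha]
    have : a * (a⁻¹ * y * a) * a⁻¹ = y := by group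
    rw [this]; exact hy
  have h1 := hx.2 _ hy'
  unfold cj
  calc y * (a * x * a⁻¹) = a * ((a⁻¹ * y * a) * x) * a⁻¹ := by group
    _ = a * (x * (a⁻¹ * y * a)) * a⁻¹ := by rw [h1]
    _ = a * x * a⁻¹ * y := by group

theorem ZE_le (E : Subgroup G) : ZE E ≤ E := inf_le_left

end Norm

section ClaimI

variable {G : Type*} [Group G] [Finite G] {W : Type*} [AddCommGroup W] [Module (ZMod 3) W]
  [Finite W] (ρ : G →* Module.End (ZMod 3) W) (hρ : Function.Injective ρ) (E : Subgroup G)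
  (hE : IsPGroup 2 E)
  (hcomm : ∀ x ∈ E, ∀ y ∈ E, ρ ⁅x, y⁆ = 1 ∨ ρ ⁅x, y⁆ = -1)

include hρ in
theorem pow_three_of_quad {a : G} (hq : IsQuadEnd (ρ a)) : a ^ 3 = 1 := by
  apply hρ
  rw [map_pow, map_one]
  exact hq.pow_char 3

include hE in
theorem card_coprime_three_of_le {Y : Subgroup G} (hY : Y ≤ E) : (Nat.card Y).Coprime 3 := by
  obtain ⟨k, hk⟩ := IsPGroup.iff_card.mp hE
  have h1 : Nat.card Y ∣ 2 ^ k := hk ▸ Subgroup.card_dvd_of_le hY
  exact Nat.Coprime.coprime_dvd_left h1 (Nat.Coprime.pow_left k (by decide))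

include hρ hE hcomm in
/-- **Claim I**: a vector of the fixed-point-free part which is isotropic for the twisted form is
zero. -/
theorem claimI {a : G} (haE : a ∈ normalizer (E : Set G)) (hq : IsQuadEnd (ρ a)) {y : G}
    (hy : y ∈ E) (hn : nrm a y ∈ ZE E) (hc : ⁅y, cj a y⁆ = 1) : y ∈ ZE E := by
  have ha3 : a ^ 3 = 1 := pow_three_of_quad ρ hρ hq
  set S : Set G := {y, cj a y} ∪ (ZE E : Set G) with hS
  set Y : Subgroup G := closure S with hY
  have hSE : S ⊆ (E : Set G) := by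
    rintro t (ht | ht)
    · rcases ht with rfl | ht
      · exact hy
      · rw [Set.mem_singleton_iff] at ht; rw [ht]; exact cj_mem haE hy
    · exact ZE_le E ht
  have hYE : Y ≤ E := (closure_le E).2 hSE
  have hyc : y * cj a y = cj a y * y := by
    rw [commutatorElement_eq_one_iff_mul_comm] at hc; exact hc
  have hScomm : ∀ s ∈ S, ∀ t ∈ S, s * t = t * s := by
    rintro s (hs | hs) t (ht | ht)
    · rcases hs with rfl | hs <;> rcases ht with rfl | ht
      · rfl
      · rw [Set.mem_singleton_iff] at ht; rw [ht]; exact hyc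
      · rw [Set.mem_singleton_iff] at hs; rw [hs]; exact hyc.symm
      · rw [Set.mem_singleton_iff] at hs ht; rw [hs, ht]
    · exact (mem_ZE.1 ht).2 s (hSE (Or.inl hs))
    · exact ((mem_ZE.1 hs).2 t (hSE (Or.inl ht))).symm
    · exact (mem_ZE.1 ht).2 s (ZE_le E hs)
  have hYcomm : IsMulCommutative Y := Subgroup.isMulCommutative_closure hScomm
  have hYc : ∀ s ∈ Y, ∀ t ∈ Y, Commute s t := by
    intro s hs t ht
    exact congrArg Subtype.val (hYcomm.is_comm.comm (⟨s, hs⟩ : Y) ⟨t, ht⟩)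
  -- `cj a` maps `Y` into `Y`
  have hcjS : ∀ s ∈ S, cj a s ∈ Y := by
    rintro s (hs | hs)
    · rcases hs with rfl | hs
      · exact subset_closure (Or.inl (Or.inr rfl))
      · rw [Set.mem_singleton_iff] at hs
        rw [hs]
        have e : cj a (cj a y) = (cj a y)⁻¹ * y⁻¹ * nrm a y := by unfold nrm; group
        rw [e]
        refine Y.mul_mem (Y.mul_mem (Y.inv_mem ?_) (Y.inv_mem ?_)) ?_
        · exact subset_closure (Or.inl (Or.inr rfl))
        · exact subset_closure (Or.inl (Or.inl rfl))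
        · exact subset_closure (Or.inr hn)
    · exact subset_closure (Or.inr (cj_mem_ZE haE hs))
  have hcjY : ∀ t ∈ Y, cj a t ∈ Y := by
    intro t ht
    induction ht using closure_induction with
    | mem s hs => exact hcjS s hs
    | one => rw [cj_one]; exact Y.one_mem
    | mul s t _ _ ihs iht => rw [cj_mul]; exact Y.mul_mem ihs iht
    | inv s _ ihs => rw [cj_inv]; exact Y.inv_mem ihs
  have haY : a ∈ normalizer (Y : Set G) := by
    rw [mem_normalizer_iff]
    intro t
    constructor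
    · exact hcjY t
    · intro ht
      have := hcjY _ (hcjY _ ht)
      have e : cj a (cj a (a * t * a⁻¹)) = t := cj_cj_cj ha3 t
      rw [e] at this
      exact this
  have hcent := Cfsg.Agent.Helper28.HH3.quad_centralizes ρ hρ a hq Y haY
    (card_coprime_three_of_le E hE hYE) (fun Q hQY _ s hs t ht => hYc s (hQY hs) t (hQY ht))
  have hay : cj a y = y := by
    have := hcent y (subset_closure (Or.inl (Or.inl rfl)))
    unfold cj
    rw [this]; group
  have hn3 : y * y * y ∈ ZE E := by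
    have : nrm a y = y * y * y := by unfold nrm; rw [hay, hay]
    rw [← this]; exact hn
  have hy2 : y * y ∈ ZE E := sq_mem_ZE ρ hρ E hcomm hy
  have e : y = (y * y * y) * (y * y)⁻¹ := by group
  rw [e]
  exact (ZE E).mul_mem hn3 ((ZE E).inv_mem hy2)

end ClaimI

section Form

variable {G : Type*} [Group G] {W : Type*} [AddCommGroup W] [Module (ZMod 3) W]
  (ρ : G →* Module.End (ZMod 3) W) (hρ : Function.Injective ρ) (E : Subgroup G)
  (hcomm : ∀ x ∈ E, ∀ y ∈ E, ρ ⁅x, y⁆ = 1 ∨ ρ ⁅x, y⁆ = -1)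

open Classical in
/-- the commutator form with values in `ZMod 2` -/
noncomputable def fm (x y : G) : ZMod 2 := if ⁅x, y⁆ = 1 then 0 else 1

theorem fm_eq_zero_iff {x y : G} : fm x y = 0 ↔ ⁅x, y⁆ = 1 := by
  unfold fm
  split_ifs with h
  · simp [h]
  · simp [h]

theorem fm_eq_one_iff {x y : G} : fm x y = 1 ↔ ⁅x, y⁆ ≠ 1 := by
  unfold fm
  split_ifs with h
  · simp [h]
  · simp [h]

open Classical in
include hρ in
theorem fm_mul_of_comm {c d e : G} (hc : ρ c = 1 ∨ ρ c = -1) (hd : ρ d = 1 ∨ ρ d = -1)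
    (he : e = c * d) :
    (if e = 1 then (0 : ZMod 2) else 1) = (if c = 1 then (0 : ZMod 2) else 1) +
      (if d = 1 then (0 : ZMod 2) else 1) := by
  subst he
  by_cases h1 : c = 1
  · subst h1
    simp
  · by_cases h2 : d = 1
    · subst h2
      simp [h1]
    · have hc' : ρ c = -1 := by
        rcases hc with h | h
        · exact absurd (hρ (by rw [h, map_one])) h1
        · exact h
      have hd' : ρ d = -1 := by
        rcases hd with h | h
        · exact absurd (hρ (by rw [h, map_one])) h2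
        · exact h
      have h3 : c * d = 1 := by
        apply hρ
        rw [map_mul, hc', hd', map_one]
        simp
      rw [if_pos h3, if_neg h1, if_neg h2]
      decide

include hρ hcomm in
theorem fm_mul_left {x y w : G} (hx : x ∈ E) (hy : y ∈ E) (hw : w ∈ E) :
    fm (x * y) w = fm x w + fm y w := by
  unfold fm
  exact fm_mul_of_comm ρ hρ (hcomm x hx w hw) (hcomm y hy w hw)
    (comm_mul_left ρ hρ E hcomm hx hy hw)

include hρ hcomm in
theorem fm_mul_right {x y w : G} (hx : x ∈ E) (hy : y ∈ E) (hw : w ∈ E) :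
    fm x (y * w) = fm x y + fm x w := by
  unfold fm
  exact fm_mul_of_comm ρ hρ (hcomm x hx y hy) (hcomm x hx w hw)
    (comm_mul_right ρ hρ E hcomm hx hy hw)

include hρ hcomm in
theorem fm_cj (a : G) {x y : G} (hx : x ∈ E) (hy : y ∈ E) : fm (cj a x) (cj a y) = fm x y := by
  unfold fm
  rw [comm_cj ρ hρ E hcomm a hx hy]

theorem fm_of_mem_ZE_left {x y : G} (hx : x ∈ ZE E) (hy : y ∈ E) : fm x y = 0 :=
  fm_eq_zero_iff.2 (comm_eq_one_of_mem_ZE_left E hx hy)

theorem fm_of_mem_ZE_right {x y : G} (hx : x ∈ E) (hy : y ∈ ZE E) : fm x y = 0 :=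
  fm_eq_zero_iff.2 (comm_eq_one_of_mem_ZE_right E hx hy)

theorem mem_ZE_of_fm {t : G} (ht : t ∈ E) (h : ∀ e ∈ E, fm t e = 0) : t ∈ ZE E := by
  rw [mem_ZE]
  refine ⟨ht, fun e he => ?_⟩
  have := fm_eq_zero_iff.1 (h e he)
  rw [commutatorElement_eq_one_iff_mul_comm] at this
  exact this.symm

end Form

section ClaimII

variable {G : Type*} [Group G] [Finite G] {W : Type*} [AddCommGroup W] [Module (ZMod 3) W]
  [Finite W] (ρ : G →* Module.End (ZMod 3) W) (hρ : Function.Injective ρ) (E : Subgroup G)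
  (hE : IsPGroup 2 E)
  (hcomm : ∀ x ∈ E, ∀ y ∈ E, ρ ⁅x, y⁆ = 1 ∨ ρ ⁅x, y⁆ = -1)

theorem nrm_mem {a : G} (haE : a ∈ normalizer (E : Set G)) {u : G} (hu : u ∈ E) :
    nrm a u ∈ E :=
  E.mul_mem (E.mul_mem hu (cj_mem haE hu)) (cj_mem haE (cj_mem haE hu))

theorem nrm_cj (a u : G) : nrm a (cj a u) = cj a (nrm a u) := by
  unfold nrm
  rw [cj_mul, cj_mul]

include hρ hcomm in
theorem fm_nrm {a : G} (haE : a ∈ normalizer (E : Set G)) {u e : G} (hu : u ∈ E) (he : e ∈ E) :
    fm (nrm a u) e = fm u e + fm (cj a u) e + fm (cj a (cj a u)) e := by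
  unfold nrm
  rw [fm_mul_left ρ hρ E hcomm (E.mul_mem hu (cj_mem haE hu)) (cj_mem haE (cj_mem haE hu)) he,
    fm_mul_left ρ hρ E hcomm hu (cj_mem haE hu) he]

include hρ hcomm in
theorem nrm_mul_mem_ZE {a : G} (haE : a ∈ normalizer (E : Set G)) {u w : G} (hu : u ∈ E)
    (hw : w ∈ E) (hnu : nrm a u ∈ ZE E) (hnw : nrm a w ∈ ZE E) : nrm a (u * w) ∈ ZE E := by
  apply mem_ZE_of_fm E (nrm_mem E haE (E.mul_mem hu hw))
  intro e he
  have h1 := fm_of_mem_ZE_left E hnu he
  have h2 := fm_of_mem_ZE_left E hnw he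
  rw [fm_nrm ρ hρ E hcomm haE hu he] at h1
  rw [fm_nrm ρ hρ E hcomm haE hw he] at h2
  rw [fm_nrm ρ hρ E hcomm haE (E.mul_mem hu hw) he, cj_mul, cj_mul,
    fm_mul_left ρ hρ E hcomm hu hw he,
    fm_mul_left ρ hρ E hcomm (cj_mem haE hu) (cj_mem haE hw) he,
    fm_mul_left ρ hρ E hcomm (cj_mem haE (cj_mem haE hu)) (cj_mem haE (cj_mem haE hw)) he]
  linear_combination h1 + h2

include hρ hE hcomm in
/-- **Claim II**: the fixed-point-free part of `a` on `E / Z(E)` has at most four elements. -/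
theorem claimII {a : G} (haE : a ∈ normalizer (E : Set G)) (hq : IsQuadEnd (ρ a)) {u v : G}
    (hu : u ∈ E) (hv : v ∈ E) (hnu : nrm a u ∈ ZE E) (hnv : nrm a v ∈ ZE E) (hu1 : u ∉ ZE E) :
    v ∈ ZE E ∨ u * v ∈ ZE E ∨ u * cj a v ∈ ZE E ∨ u * cj a (cj a v) ∈ ZE E := by
  by_contra hcon
  push Not at hcon
  obtain ⟨h0, h1, h2, h3⟩ := hcon
  have ha3 : a ^ 3 = 1 := pow_three_of_quad ρ hρ hq
  have key : ∀ w ∈ E, nrm a w ∈ ZE E → w ∉ ZE E → fm w (cj a w) = 1 := by
    intro w hw hnw hw1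
    rw [fm_eq_one_iff]
    intro hc
    exact hw1 (claimI ρ hρ E hE hcomm haE hq hw hnw hc)
  have hv1 : cj a v ∈ E := cj_mem haE hv
  have hv2 : cj a (cj a v) ∈ E := cj_mem haE hv1
  have hcu : cj a u ∈ E := cj_mem haE hu
  have hnv1 : nrm a (cj a v) ∈ ZE E := by rw [nrm_cj]; exact cj_mem_ZE haE hnv
  have hnv2 : nrm a (cj a (cj a v)) ∈ ZE E := by rw [nrm_cj]; exact cj_mem_ZE haE hnv1
  have hv1' : cj a v ∉ ZE E := by
    intro h
    have := cj_mem_ZE haE (cj_mem_ZE haE h)
    rw [cj_cj_cj ha3] at this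
    exact h0 this
  have hv2' : cj a (cj a v) ∉ ZE E := by
    intro h
    have := cj_mem_ZE haE h
    rw [cj_cj_cj ha3] at this
    exact h0 this
  have exp : ∀ w ∈ E, fm (u * w) (cj a (u * w)) =
      fm u (cj a u) + fm u (cj a w) + fm w (cj a u) + fm w (cj a w) := by
    intro w hw
    have hcw : cj a w ∈ E := cj_mem haE hw
    rw [cj_mul, fm_mul_left ρ hρ E hcomm hu hw (E.mul_mem hcu hcw),
      fm_mul_right ρ hρ E hcomm hu hcu hcw, fm_mul_right ρ hρ E hcomm hw hcu hcw]
    ring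
  have ku := key u hu hnu hu1
  have E0 := exp v hv
  rw [key (u * v) (E.mul_mem hu hv) (nrm_mul_mem_ZE ρ hρ E hcomm haE hu hv hnu hnv) h1, ku,
    key v hv hnv h0] at E0
  have E1 := exp (cj a v) hv1
  rw [key (u * cj a v) (E.mul_mem hu hv1) (nrm_mul_mem_ZE ρ hρ E hcomm haE hu hv1 hnu hnv1) h2, ku,
    key (cj a v) hv1 hnv1 hv1'] at E1
  have E2 := exp (cj a (cj a v)) hv2
  rw [key (u * cj a (cj a v)) (E.mul_mem hu hv2)
    (nrm_mul_mem_ZE ρ hρ E hcomm haE hu hv2 hnu hnv2) h3, ku,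
    key (cj a (cj a v)) hv2 hnv2 hv2'] at E2
  have s1 : fm u (cj a v) + fm u (cj a (cj a v)) + fm u (cj a (cj a (cj a v))) = 0 := by
    rw [← fm_mul_right ρ hρ E hcomm hu hv1 hv2,
      ← fm_mul_right ρ hρ E hcomm hu (E.mul_mem hv1 hv2) (cj_mem haE hv2)]
    apply fm_of_mem_ZE_right E hu
    have e : cj a v * cj a (cj a v) * cj a (cj a (cj a v)) = nrm a (cj a v) := rfl
    rw [e]
    exact hnv1
  have s2 : fm v (cj a u) + fm (cj a v) (cj a u) + fm (cj a (cj a v)) (cj a u) = 0 := by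
    rw [← fm_mul_left ρ hρ E hcomm hv hv1 hcu,
      ← fm_mul_left ρ hρ E hcomm (E.mul_mem hv hv1) hv2 hcu]
    exact fm_of_mem_ZE_left E hnv hcu
  have : (0 : ZMod 2) = 3 := by linear_combination E0 + E1 + E2 + s1 + s2
  exact absurd this (by decide)

end ClaimII

section Assembly

variable {G : Type*} [Group G] [Finite G] {W : Type*} [AddCommGroup W] [Module (ZMod 3) W]
  [Finite W] (ρ : G →* Module.End (ZMod 3) W) (hρ : Function.Injective ρ) (E : Subgroup G)
  (hE : IsPGroup 2 E)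
  (hcomm : ∀ x ∈ E, ∀ y ∈ E, ρ ⁅x, y⁆ = 1 ∨ ρ ⁅x, y⁆ = -1)

include hρ hcomm in
theorem comm_mem_ZE {x y : G} (hx : x ∈ E) (hy : y ∈ E) : ⁅x, y⁆ ∈ ZE E := by
  rw [mem_ZE]
  refine ⟨?_, fun e _ => (central_of_pm ρ hρ (hcomm x hx y hy) e).symm⟩
  rw [commutatorElement_def]
  exact E.mul_mem (E.mul_mem (E.mul_mem hx hy) (E.inv_mem hx)) (E.inv_mem hy)

theorem mem_center_iff_ZE (x : ↥E) : x ∈ center ↥E ↔ (x : G) ∈ ZE E := by
  rw [Subgroup.mem_center_iff, mem_ZE]
  constructor
  · intro h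
    exact ⟨x.2, fun y hy => congrArg Subtype.val (h ⟨y, hy⟩)⟩
  · intro h g
    exact Subtype.ext (h.2 g g.2)

include hρ hE in
/-- (α): a quadratic element normalizing `E` centralizes `Z(E)`. -/
theorem quad_centralizes_ZE {a : G} (haE : a ∈ normalizer (E : Set G)) (hq : IsQuadEnd (ρ a)) :
    ∀ z ∈ ZE E, a * z = z * a := by
  have ha3 : a ^ 3 = 1 := pow_three_of_quad ρ hρ hq
  have haZ : a ∈ normalizer ((ZE E : Subgroup G) : Set G) := by
    rw [mem_normalizer_iff]
    intro t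
    constructor
    · exact cj_mem_ZE haE
    · intro ht
      have := cj_mem_ZE haE (cj_mem_ZE haE ht)
      have e : cj a (cj a (a * t * a⁻¹)) = t := cj_cj_cj ha3 t
      rw [e] at this
      exact this
  apply Cfsg.Agent.Helper28.HH3.quad_centralizes ρ hρ a hq (ZE E) haZ
    (card_coprime_three_of_le E hE (ZE_le E))
  intro Q hQ _ s hs t ht
  exact ((mem_ZE.1 (hQ ht)).2 s (ZE_le E (hQ hs)))

/-- membership in the derived subgroup of `↥B` versus `⁅B, B⁆` -/
theorem mem_commutator_subtype_iff (B : Subgroup G) (a : ↥B) :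
    a ∈ ⁅(⊤ : Subgroup ↥B), (⊤ : Subgroup ↥B)⁆ ↔ (a : G) ∈ ⁅B, B⁆ := by
  have h0 : (_root_.commutator ↥B).map B.subtype = ⁅B, B⁆ := Subgroup.map_subtype_commutator B
  rw [← h0, Subgroup.mem_map, _root_.commutator_def]
  constructor
  · intro h
    exact ⟨a, h, rfl⟩
  · rintro ⟨a', ha', h⟩
    have : a' = a := Subtype.ext h
    rw [← this]; exact ha'

include hρ hE hcomm in
/-- **Piece X**: the derived group of `B` centralizes `E`. -/
theorem derived_centralizes_of_quad (B : Subgroup G) (hB : IsPGroup 3 B)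
    (hBE : B ≤ normalizer (E : Set G))
    (hquad : ∀ a ∈ ⁅B, B⁆, ∀ a' ∈ ⁅B, B⁆, ∀ w : W, ρ a (ρ a' w - w) = ρ a' w - w) :
    ∀ a ∈ ⁅B, B⁆, ∀ x ∈ E, a * x = x * a := by
  classical
  have hAB : ⁅B, B⁆ ≤ B := by
    rw [commutator_le]
    intro g₁ h₁ g₂ h₂
    rw [commutatorElement_def]
    exact B.mul_mem (B.mul_mem (B.mul_mem h₁ h₂) (B.inv_mem h₁)) (B.inv_mem h₂)
  have hq : ∀ a ∈ ⁅B, B⁆, IsQuadEnd (ρ a) := fun a ha w => hquad a ha a ha w
  have haE : ∀ a ∈ ⁅B, B⁆, a ∈ normalizer (E : Set G) := fun a ha => hBE (hAB ha)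
  have ha3 : ∀ a ∈ ⁅B, B⁆, a ^ 3 = 1 := fun a ha => pow_three_of_quad ρ hρ (hq a ha)
  -- the quotient `U = E / Z(E)`
  letI instU : CommGroup (↥E ⧸ center ↥E) :=
    { (inferInstance : Group (↥E ⧸ center ↥E)) with
      mul_comm := by
        intro u v
        induction u using QuotientGroup.induction_on with
        | H x =>
          induction v using QuotientGroup.induction_on with
          | H y =>
            rw [← QuotientGroup.mk_mul, ← QuotientGroup.mk_mul, QuotientGroup.eq, mem_center_iff_ZE]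
            have e : (((x * y)⁻¹ * (y * x) : ↥E) : G) = ⁅(y : G)⁻¹, (x : G)⁻¹⁆ := by
              rw [commutatorElement_def]
              push_cast
              group
            rw [e]
            exact comm_mem_ZE ρ hρ E hcomm (E.inv_mem y.2) (E.inv_mem x.2) }
  have hU : ∀ u : ↥E ⧸ center ↥E, u * u = 1 := by
    intro u
    induction u using QuotientGroup.induction_on with
    | H x =>
      rw [← QuotientGroup.mk_mul, QuotientGroup.eq_one_iff, mem_center_iff_ZE]
      exact sq_mem_ZE ρ hρ E hcomm x.2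
  set θ : ↥B →* MulAut (↥E ⧸ center ↥E) :=
    (Cfsg.Agent.Helper26.charQuotHom (center ↥E)).comp (Cfsg.Agent.Helper26.conjRep E B hBE)
    with hθ
  have hθmk : ∀ (b : ↥B) (x : ↥E), θ b (QuotientGroup.mk x) =
      QuotientGroup.mk (Cfsg.Agent.Helper26.conjRep E B hBE b x) := fun b x => rfl
  have hcoe : ∀ (b : ↥B) (x : ↥E), ((Cfsg.Agent.Helper26.conjRep E B hBE b x : ↥E) : G) =
      cj (b : G) (x : G) := fun b x => rfl
  -- the image group
  set Bt : Subgroup (MulAut (↥E ⧸ center ↥E)) := θ.range with hBt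
  have hBtp : IsPGroup 3 Bt := IsPGroup.of_surjective hB θ.rangeRestrict θ.rangeRestrict_surjective
  have hBtc : ⁅Bt, Bt⁆ = (⁅(⊤ : Subgroup ↥B), (⊤ : Subgroup ↥B)⁆).map θ := by
    rw [hBt, MonoidHom.range_eq_map, Subgroup.map_commutator]
  have hlift : ∀ at' ∈ ⁅Bt, Bt⁆, ∃ a : ↥B, (a : G) ∈ ⁅B, B⁆ ∧ θ a = at' := by
    intro at' h
    rw [hBtc] at h
    obtain ⟨a, ha, rfl⟩ := h
    exact ⟨a, (mem_commutator_subtype_iff B a).1 ha, rfl⟩
  have key := Cfsg.Agent.Helper13.S3789L6.derived_trivial_of_small_fpf hU Bt hBtp ?_ ?_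
  · -- conclusion
    intro a ha x hx
    have h1 : θ ⟨a, hAB ha⟩ ∈ ⁅Bt, Bt⁆ := by
      rw [hBtc]
      exact ⟨_, (mem_commutator_subtype_iff B ⟨a, hAB ha⟩).2 ha, rfl⟩
    rw [key, mem_bot] at h1
    have h2 := congrArg (fun f : MulAut (↥E ⧸ center ↥E) => f (QuotientGroup.mk ⟨x, hx⟩)) h1
    simp only [hθmk, MulAut.one_apply] at h2
    rw [eq_comm, QuotientGroup.eq, mem_center_iff_ZE] at h2
    have hc : x⁻¹ * cj a x ∈ ZE E := h2
    set c := x⁻¹ * cj a x with hcdef
    have hac : cj a c = c := by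
      have := quad_centralizes_ZE ρ hρ E hE (haE a ha) (hq a ha) c hc
      unfold cj
      rw [this]; group
    have e1 : cj a x = x * c := by rw [hcdef]; group
    have e2 : cj a (cj a x) = x * c * c := by rw [e1, cj_mul, hac, e1]
    have e3 : cj a (cj a (cj a x)) = x * c * c * c := by rw [e2, cj_mul, cj_mul, hac, e1]
    rw [cj_cj_cj (ha3 a ha)] at e3
    have hc3 : c ^ 3 = 1 := by
      have : x * (c * c * c) = x * 1 := by
        rw [mul_one]
        calc x * (c * c * c) = x * c * c * c := by group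
          _ = x := e3.symm
      have := mul_left_cancel this
      rw [← this, pow_succ, pow_two]
    have hc1 : c = 1 := by
      obtain ⟨k, hk⟩ := hE ⟨c, ZE_le E hc⟩
      have hk' : c ^ 2 ^ k = 1 := congrArg Subtype.val hk
      have h3 : orderOf c ∣ Nat.gcd 3 (2 ^ k) :=
        Nat.dvd_gcd (orderOf_dvd_of_pow_eq_one hc3) (orderOf_dvd_of_pow_eq_one hk')
      have hg : Nat.gcd 3 (2 ^ k) = 1 := Nat.Coprime.pow_right k (by decide)
      rw [hg, Nat.dvd_one, orderOf_eq_one_iff] at h3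
      exact h3
    rw [hc1, mul_one] at e1
    unfold cj at e1
    calc a * x = a * x * a⁻¹ * a := by group
      _ = x * a := by rw [e1]
  · -- cubes
    intro at' h
    obtain ⟨a, ha, rfl⟩ := hlift at' h
    rw [← map_pow]
    have : a ^ 3 = 1 := by
      apply Subtype.ext
      rw [Subgroup.coe_pow]
      exact ha3 _ ha
    rw [this, map_one]
  · -- smallness
    intro at' h u v hu hv hu1
    obtain ⟨a, ha, rfl⟩ := hlift at' h
    have ha3' : ∀ t : ↥E ⧸ center ↥E, θ a (θ a (θ a t)) = t := by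
      intro t
      have h3 : a ^ 3 = 1 := by
        apply Subtype.ext
        rw [Subgroup.coe_pow]
        exact ha3 _ ha
      have : (θ a) ^ 3 = 1 := by rw [← map_pow, h3, map_one]
      have h4 := congrArg (fun f : MulAut (↥E ⧸ center ↥E) => f t) this
      simpa [pow_succ, MulAut.mul_apply] using h4
    induction u using QuotientGroup.induction_on with
    | H x =>
      induction v using QuotientGroup.induction_on with
      | H y =>
        have hx1 : (x : G) ∉ ZE E := by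
          intro h
          apply hu1
          rw [QuotientGroup.eq_one_iff, mem_center_iff_ZE]
          exact h
        have hnx : nrm (a : G) (x : G) ∈ ZE E := by
          rw [hθmk, hθmk, ← QuotientGroup.mk_mul, ← QuotientGroup.mk_mul,
            QuotientGroup.eq_one_iff, mem_center_iff_ZE] at hu
          exact hu
        have hny : nrm (a : G) (y : G) ∈ ZE E := by
          rw [hθmk, hθmk, ← QuotientGroup.mk_mul, ← QuotientGroup.mk_mul,
            QuotientGroup.eq_one_iff, mem_center_iff_ZE] at hv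
          exact hv
        have hII := claimII ρ hρ E hE hcomm (haE _ ha) (hq _ ha) x.2 y.2 hnx hny hx1
        have hinv : ∀ t s : ↥E ⧸ center ↥E, t * s = 1 → s = t := by
          intro t s hts
          have := hU t
          calc s = (t * t) * s := by rw [this, one_mul]
            _ = t * (t * s) := by rw [mul_assoc]
            _ = t := by rw [hts, mul_one]
        rcases hII with h | h | h | h
        · left
          rw [QuotientGroup.eq_one_iff, mem_center_iff_ZE]
          exact h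
        · right; left
          apply hinv
          rw [← QuotientGroup.mk_mul, QuotientGroup.eq_one_iff, mem_center_iff_ZE]
          exact h
        · right; right; right
          have h5 : θ a (QuotientGroup.mk y) = QuotientGroup.mk x := by
            apply hinv
            rw [hθmk, ← QuotientGroup.mk_mul, QuotientGroup.eq_one_iff, mem_center_iff_ZE]
            exact h
          rw [← h5, ha3']
        · right; right; left
          have h5 : θ a (θ a (QuotientGroup.mk y)) = QuotientGroup.mk x := by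
            apply hinv
            rw [hθmk, hθmk, ← QuotientGroup.mk_mul, QuotientGroup.eq_one_iff, mem_center_iff_ZE]
            exact h
          rw [← h5, ha3']

end Assembly

end Cfsg.Agent.Helper24.DL
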