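import Mathlib
import Cfsg.Prelude.Def_Local
import Cfsg.Agent.Helper26.QuadStable2
import Cfsg.Agent.Helper28.HH3Q
import Cfsg.Agent.Helper5.HH3SPEC
import Cfsg.Agent.Helper5.HH3XQ
import Cfsg.Agent.Helper24.DLX
import Cfsg.Agent.Helper5.HH3EIG
import Cfsg.Agent.S3736
import Cfsg.Agent.Helper9.PLenExpA
import Cfsg.Agent.Helper7.HallHigmanDual
import Cfsg.Agent.Helper19.Cores
import Cfsg.Agent.Lead.CoprimeFrattini

/-!
# The main linear theorem for the derived length bound, `p = 3` (helper24)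

`Γ` is `3`-solvable with `O_3(Γ) = 1`, acting faithfully on a finite `ZMod 3`-module `V`; `B` is a
`3`-subgroup with `A = ⁅B, B⁆` such that `(a - 1)(a' - 1) = 0` and `(a - 1)(b - 1)² = 0` on `V`.
Then `A = 1`.
-/

set_option autoImplicit false

namespace Cfsg.Agent.Helper24.DL

open Subgroup
open scoped commutatorElement
open Cfsg.Agent.Helper26 (IsQuadEnd)

section Main

variable {Γ : Type*} [Group Γ] [Finite Γ] {V : Type*} [AddCommGroup V] [Module (ZMod 3) V]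
  [Finite V] (ρ : Γ →* Module.End (ZMod 3) V)

/-- the subgroup of elements acting trivially on a subspace -/
def fixSub (W : Submodule (ZMod 3) V) : Subgroup Γ where
  carrier := {g | ∀ w ∈ W, ρ g w = w}
  one_mem' := by intro w _; simp
  mul_mem' := by
    intro g h hg hh w hw
    rw [map_mul, Module.End.mul_apply, hh w hw, hg w hw]
  inv_mem' := by
    intro g hg w hw
    have h1 : ρ g⁻¹ (ρ g w) = w := by
      rw [← Module.End.mul_apply, ← map_mul, inv_mul_cancel, map_one, Module.End.one_apply]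
    rw [hg w hw] at h1
    exact h1

theorem rho_inv_apply (g : Γ) (v : V) : ρ g⁻¹ (ρ g v) = v := by
  rw [← Module.End.mul_apply, ← map_mul, inv_mul_cancel, map_one, Module.End.one_apply]

theorem rho_apply_inv (g : Γ) (v : V) : ρ g (ρ g⁻¹ v) = v := by
  rw [← Module.End.mul_apply, ← map_mul, mul_inv_cancel, map_one, Module.End.one_apply]

/-- a minimal `B`-invariant subgroup of `T` not centralized by `A` -/
theorem exists_min_invariant (B A T : Subgroup Γ) (hBT : B ≤ normalizer (T : Set Γ))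
    (hnt : ⁅T, A⁆ ≠ ⊥) :
    ∃ D : Subgroup Γ, D ≤ T ∧ B ≤ normalizer (D : Set Γ) ∧ ⁅D, A⁆ ≠ ⊥ ∧
      ∀ U : Subgroup Γ, U < D → B ≤ normalizer (U : Set Γ) → ⁅U, A⁆ = ⊥ := by
  let S : Set (Subgroup Γ) := {D | D ≤ T ∧ B ≤ normalizer (D : Set Γ) ∧ ⁅D, A⁆ ≠ ⊥}
  have hS : S.Nonempty := ⟨T, le_rfl, hBT, hnt⟩
  obtain ⟨D, hDS, hDmin⟩ := WellFounded.has_min (wellFounded_lt (α := Subgroup Γ)) S hS
  refine ⟨D, hDS.1, hDS.2.1, hDS.2.2, fun U hU hBU => ?_⟩
  by_contra hne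
  exact hDmin U ⟨hU.le.trans hDS.1, hBU, hne⟩ hU

include ρ in
/-- the special case: a special `2`-group `D` with `⁅D, A⁆ = D` and `A` centralizing `Z(D)`. -/
theorem special_case (hρ : Function.Injective ρ) (B : Subgroup Γ) (hB : IsPGroup 3 B)
    (hAA : ∀ a ∈ ⁅B, B⁆, ∀ a' ∈ ⁅B, B⁆, ∀ v : V, ρ a (ρ a' v - v) = ρ a' v - v)
    (hABB : ∀ a ∈ ⁅B, B⁆, ∀ b ∈ B, ∀ v : V,
      ρ a (ρ b (ρ b v - v) - (ρ b v - v)) = ρ b (ρ b v - v) - (ρ b v - v))
    (D : Subgroup Γ) (hD2 : IsPGroup 2 D) (hBD : B ≤ normalizer (D : Set Γ))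
    (hDA : ⁅D, ⁅B, B⁆⁆ = D) (hsp : Cfsg.IsSpecial 2 ↥D)
    (hZA : ∀ a ∈ ⁅B, B⁆, ∀ z ∈ (center ↥D).map D.subtype, a * z = z * a)
    (x y : Γ) (hx : x ∈ D) (hy : y ∈ D) (hxy : x * y ≠ y * x) : False := by
  classical
  set A := ⁅B, B⁆ with hA
  set Z : Subgroup Γ := (center ↥D).map D.subtype with hZ
  have hAB : A ≤ B := by
    rw [hA, commutator_le]
    intro g₁ h₁ g₂ h₂
    rw [commutatorElement_def]
    exact B.mul_mem (B.mul_mem (B.mul_mem h₁ h₂) (B.inv_mem h₁)) (B.inv_mem h₂)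
  have hZmem : ∀ z : Γ, z ∈ Z ↔ z ∈ D ∧ ∀ t ∈ D, t * z = z * t :=
    fun z => Cfsg.Agent.S3736.mem_map_center_iff D z
  have hZD : Z ≤ D := map_subtype_le _
  have hBZ : B ≤ normalizer (Z : Set Γ) :=
    hBD.trans (Cfsg.Agent.Lead.normalizer_le_normalizer_map_of_characteristic D (center ↥D))
  -- commutators of `D` lie in `Z`
  have hDD : ∀ s ∈ D, ∀ t ∈ D, ⁅s, t⁆ ∈ Z := by
    intro s hs t ht
    have h1 : ⁅(⟨s, hs⟩ : ↥D), ⟨t, ht⟩⁆ ∈ _root_.commutator ↥D := by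
      rw [_root_.commutator_def]
      exact commutator_mem_commutator (mem_top _) (mem_top _)
    rw [hsp.2.2] at h1
    exact ⟨_, h1, rfl⟩
  have hZsq : ∀ z ∈ Z, z * z = 1 := by
    rintro _ ⟨z, hz, rfl⟩
    have := Cfsg.Agent.Helper5.HH3.special_two_center_sq hsp z hz
    have h2 := congrArg Subtype.val this
    simpa using h2
  -- the nontrivial central element
  set z₀ : Γ := ⁅x, y⁆ with hz₀
  have hz₀Z : z₀ ∈ Z := hDD x hx y hy
  have hz₀1 : z₀ ≠ 1 := by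
    intro h
    rw [hz₀, commutatorElement_eq_one_iff_mul_comm] at h
    exact hxy h
  -- simultaneous eigenvector
  let σ : ↥Z →* Module.End (ZMod 3) V := ρ.comp Z.subtype
  have hσsq : ∀ z : ↥Z, σ z * σ z = 1 := by
    intro z
    show ρ (z : Γ) * ρ (z : Γ) = 1
    rw [← map_mul, hZsq z z.2, map_one]
  have hσc : ∀ z z' : ↥Z, Commute (σ z) (σ z') := by
    intro z z'
    show ρ (z : Γ) * ρ (z' : Γ) = ρ (z' : Γ) * ρ (z : Γ)
    rw [← map_mul, ← map_mul, ((hZmem z'.1).1 z'.2).2 z.1 (hZD z.2)]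
  have hσz₀ : σ ⟨z₀, hz₀Z⟩ ≠ 1 := by
    intro h
    apply hz₀1
    apply hρ
    rw [map_one]
    exact h
  obtain ⟨v₀, hv₀0, hv₀z, hv₀⟩ := Cfsg.Agent.Helper5.HH3.exists_simultaneous_eigenvector
    (K := ZMod 3) (by decide) σ hσsq hσc ⟨z₀, hz₀Z⟩ hσz₀
  have hv₀z' : ρ z₀ v₀ = -v₀ := hv₀z
  let lam : Γ → ZMod 3 := fun z => if ρ z v₀ = v₀ then 1 else -1
  have hlam : ∀ z ∈ Z, lam z = 1 ∨ lam z = -1 := by
    intro z _
    show (if ρ z v₀ = v₀ then (1 : ZMod 3) else -1) = 1 ∨ (if ρ z v₀ = v₀ then (1 : ZMod 3) else -1) = -1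
    split_ifs
    · left; rfl
    · right; rfl
  have hlamv : ∀ z ∈ Z, ρ z v₀ = lam z • v₀ := by
    intro z hz
    show ρ z v₀ = (if ρ z v₀ = v₀ then (1 : ZMod 3) else -1) • v₀
    split_ifs with h
    · rw [one_smul]; exact h
    · rcases hv₀ ⟨z, hz⟩ with h' | h'
      · exact absurd h' h
      · rw [neg_smul, one_smul]; exact h'
  let W : Submodule (ZMod 3) V :=
    { carrier := {w | ∀ z ∈ Z, ρ z w = lam z • w}
      add_mem' := by
        intro u w hu hw z hz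
        rw [map_add, hu z hz, hw z hz, smul_add]
      zero_mem' := by
        intro z _
        rw [map_zero, smul_zero]
      smul_mem' := by
        intro c w hw z hz
        rw [map_smul, hw z hz, smul_comm] }
  have hWmem : ∀ w : V, w ∈ W ↔ ∀ z ∈ Z, ρ z w = lam z • w := fun w => Iff.rfl
  have hv₀W : v₀ ∈ W := hlamv
  -- `D` preserves `W`
  have hDW : ∀ s ∈ D, ∀ w ∈ W, ρ s w ∈ W := by
    intro s hs w hw z hz
    have h1 : z * s = s * z := (((hZmem z).1 hz).2 s hs).symm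
    rw [← Module.End.mul_apply, ← map_mul, h1, map_mul, Module.End.mul_apply, hw z hz, map_smul]
  -- the final contradiction
  have hfin : (∀ s ∈ D, ∀ a ∈ A, ∀ w ∈ W, ρ ⁅s, a⁆ w = w) → False := by
    intro h
    have h1 : ⁅D, A⁆ ≤ fixSub ρ W := by
      rw [commutator_le]
      intro s hs a ha
      exact h s hs a ha
    rw [hDA] at h1
    have h2 : ρ z₀ v₀ = v₀ := h1 (hZD hz₀Z) v₀ hv₀W
    rw [hv₀z'] at h2
    have h3 : (2 : ZMod 3) • v₀ = 0 := by
      rw [two_smul]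
      nth_rewrite 1 [← h2]
      exact neg_add_cancel v₀
    rcases smul_eq_zero.1 h3 with h4 | h4
    · exact absurd h4 (by decide)
    · exact hv₀0 h4
  -- `B` fixes `lam`
  have hBfix : ∀ b ∈ B, ∀ z ∈ Z, lam (b⁻¹ * z * b) = lam z := by
    by_contra hcon
    push Not at hcon
    obtain ⟨b, hb, z₁, hz₁, hmove⟩ := hcon
    obtain ⟨k, hk⟩ := hB ⟨b, hb⟩
    have hbk : b ^ 3 ^ k = 1 := congrArg Subtype.val hk
    have hAfix : ∀ a ∈ A, ∀ w ∈ W, ρ a w = w := by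
      intro a ha w hw
      exact Cfsg.Agent.Helper5.HH3.fixed_of_moved_character ρ Z b a k hbk (hBZ hb) (hZA a ha)
        lam hlam w hw z₁ hz₁ hmove (hABB a ha b hb w)
    apply hfin
    intro s hs a ha w hw
    rw [commutatorElement_def, map_mul, map_mul, map_mul, Module.End.mul_apply,
      Module.End.mul_apply, Module.End.mul_apply, hAfix a⁻¹ (A.inv_mem ha) w hw,
      hAfix a ha _ (hDW s⁻¹ (D.inv_mem hs) w hw), rho_apply_inv]
  -- `B` preserves `W`
  have hBW : ∀ b ∈ B, ∀ w ∈ W, ρ b w ∈ W := by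
    intro b hb w hw z hz
    have hz' : b⁻¹ * z * b ∈ Z := by
      have := hBZ (B.inv_mem hb)
      rw [mem_normalizer_iff] at this
      have h2 := (this z).1 hz
      rwa [inv_inv] at h2
    have h1 : z * b = b * (b⁻¹ * z * b) := by group
    rw [← Module.End.mul_apply, ← map_mul, h1, map_mul, Module.End.mul_apply, hw _ hz', map_smul,
      hBfix b hb z hz]
  -- the stabilizer of `W`
  set Δ : Subgroup Γ := Cfsg.Agent.Helper26.stabSub ρ W with hΔ
  have hDΔ : D ≤ Δ := fun s hs w hw => ⟨hDW s hs w hw, hDW s⁻¹ (D.inv_mem hs) w hw⟩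
  have hBΔ : B ≤ Δ := fun b hb w hw => ⟨hBW b hb w hw, hBW b⁻¹ (B.inv_mem hb) w hw⟩
  have hinv : ∀ h : ↥Δ, ∀ w ∈ W, (ρ.comp Δ.subtype) h w ∈ W := fun h w hw => (h.2 w hw).1
  set ρW : ↥Δ →* Module.End (ZMod 3) ↥W :=
    Cfsg.Agent.Helper26.subRep (ρ.comp Δ.subtype) W hinv with hρW
  have hρWa : ∀ (h : ↥Δ) (w : ↥W), ((ρW h w : ↥W) : V) = ρ (h : Γ) (w : V) := fun h w => rfl
  -- apply the symplectic core
  have hE2 : IsPGroup 2 (D.subgroupOf Δ) := hD2.comap_of_injective Δ.subtype Δ.subtype_injective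
  have hB3 : IsPGroup 3 (B.subgroupOf Δ) := hB.comap_of_injective Δ.subtype Δ.subtype_injective
  have hBE : B.subgroupOf Δ ≤ normalizer ((D.subgroupOf Δ : Subgroup ↥Δ) : Set ↥Δ) := by
    intro b hb
    rw [mem_subgroupOf] at hb
    rw [mem_normalizer_iff]
    intro h
    rw [mem_subgroupOf, mem_subgroupOf]
    have := hBD hb
    rw [mem_normalizer_iff] at this
    exact this h
  have hcommΔ : ∀ s ∈ D.subgroupOf Δ, ∀ t ∈ D.subgroupOf Δ, ρW ⁅s, t⁆ = 1 ∨ ρW ⁅s, t⁆ = -1 := by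
    intro s hs t ht
    rw [mem_subgroupOf] at hs ht
    have hc : ((⁅s, t⁆ : ↥Δ) : Γ) ∈ Z := by
      have : ((⁅s, t⁆ : ↥Δ) : Γ) = ⁅(s : Γ), (t : Γ)⁆ := by
        rw [commutatorElement_def, commutatorElement_def]; push_cast; rfl
      rw [this]
      exact hDD _ hs _ ht
    rcases hlam _ hc with h | h
    · left
      ext w
      rw [hρWa, w.2 _ hc, h, one_smul]
      rfl
    · right
      ext w
      rw [hρWa, w.2 _ hc, h, neg_smul, one_smul]
      rfl
  have hcomΔ : ∀ a : ↥Δ, a ∈ ⁅B.subgroupOf Δ, B.subgroupOf Δ⁆ ↔ (a : Γ) ∈ A := by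
    intro a
    have h1 : (⁅B.subgroupOf Δ, B.subgroupOf Δ⁆).map Δ.subtype = A := by
      rw [Subgroup.map_commutator, subgroupOf_map_subtype, inf_of_le_left hBΔ]
    constructor
    · intro h
      rw [← h1]
      exact ⟨a, h, rfl⟩
    · intro h
      rw [← h1] at h
      obtain ⟨a', ha', h'⟩ := h
      have : a' = a := Subtype.ext h'
      rw [← this]; exact ha'
  have hquadΔ : ∀ a ∈ ⁅B.subgroupOf Δ, B.subgroupOf Δ⁆, ∀ a' ∈ ⁅B.subgroupOf Δ, B.subgroupOf Δ⁆,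
      ∀ w : ↥W, ρW a (ρW a' w - w) = ρW a' w - w := by
    intro a ha a' ha' w
    apply Subtype.ext
    rw [hρWa]
    push_cast
    rw [hρWa]
    exact hAA _ ((hcomΔ a).1 ha) _ ((hcomΔ a').1 ha') w
  have hX := Cfsg.Agent.Helper5.HH3.derived_centralizes_of_quad'
    (fun ρ' hρ' E' B' hE' hB' hBE' hc' hq' => derived_centralizes_of_quad ρ' hρ' E' hE' hc' B' hB' hBE' hq') ρW (D.subgroupOf Δ)
    (B.subgroupOf Δ) hE2 hB3 hBE hcommΔ hquadΔ
  apply hfin
  intro s hs a ha w hw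
  have h1 := hX ⟨a, hBΔ (hAB ha)⟩ ((hcomΔ _).2 ha) ⟨s, hDΔ hs⟩ (mem_subgroupOf.2 hs)
  have h2 := congrArg (fun f : Module.End (ZMod 3) ↥W => ((f ⟨w, hw⟩ : ↥W) : V)) h1
  simp only [hρWa, Module.End.one_apply] at h2
  have h3 : ((⁅(⟨s, hDΔ hs⟩ : ↥Δ), ⟨a, hBΔ (hAB ha)⟩⁆ : ↥Δ) : Γ) = ⁅s, a⁆ := by
    rw [commutatorElement_def, commutatorElement_def]; push_cast; rfl
  rw [h3] at h2
  exact h2

/-- **Theorem L**: the derived group of `B` is trivial. -/
theorem quad_derived_trivial (hρ : Function.Injective ρ)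
    (hsol : Cfsg.IsPSolvable 3 Γ) (hO : Cfsg.pCore 3 Γ = ⊥) (B : Subgroup Γ) (hB : IsPGroup 3 B)
    (hAA : ∀ a ∈ ⁅B, B⁆, ∀ a' ∈ ⁅B, B⁆, ∀ v : V, ρ a (ρ a' v - v) = ρ a' v - v)
    (hABB : ∀ a ∈ ⁅B, B⁆, ∀ b ∈ B, ∀ v : V,
      ρ a (ρ b (ρ b v - v) - (ρ b v - v)) = ρ b (ρ b v - v) - (ρ b v - v)) :
    ⁅B, B⁆ = ⊥ := by
  classical
  by_contra hne
  set A := ⁅B, B⁆ with hA
  have hAB : A ≤ B := by
    rw [hA, commutator_le]
    intro g₁ h₁ g₂ h₂
    rw [commutatorElement_def]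
    exact B.mul_mem (B.mul_mem (B.mul_mem h₁ h₂) (B.inv_mem h₁)) (B.inv_mem h₂)
  have hAn : B ≤ normalizer (A : Set Γ) :=
    Cfsg.Agent.S3736.le_normalizer_commutator le_normalizer le_normalizer
  have hAp : IsPGroup 3 A := hB.to_le hAB
  have hq : ∀ a ∈ A, IsQuadEnd (ρ a) := fun a ha w => hAA a ha a ha w
  have ha3 : ∀ a ∈ A, a ^ 3 = 1 := fun a ha => pow_three_of_quad ρ hρ (hq a ha)
  obtain ⟨a₀, ha₀, ha₀1⟩ : ∃ a ∈ A, a ≠ 1 := by
    by_contra h
    push Not at h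
    exact hne ((eq_bot_iff_forall A).2 h)
  -- `N = O_{3'}(Γ)`
  set N := Cfsg.pPrimeCore 3 Γ with hN
  have hNn : N.Normal := inferInstance
  have hNcop : (Nat.card N).Coprime 3 := Cfsg.Agent.Helper19.pPrimeCore_coprime 3
  have hCN : centralizer (N : Set Γ) ≤ N :=
    Cfsg.Agent.Helper7.centralizer_pPrimeCore_le_of_isPSolvable hsol hO
  have ha₀ord : orderOf a₀ = 3 := orderOf_eq_prime (ha3 a₀ ha₀) ha₀1
  have ha₀N : a₀ ∉ N := by
    intro h
    have h1 : 3 ∣ Nat.card N := by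
      rw [← ha₀ord]; exact N.orderOf_dvd_natCard h
    exact absurd (Nat.Coprime.eq_one_of_dvd hNcop.symm h1) (by decide)
  have ha₀C : a₀ ∉ centralizer (N : Set Γ) := fun h => ha₀N (hCN h)
  have hBN : B ≤ normalizer (N : Set Γ) := by
    rw [normalizer_eq_top]; exact le_top
  obtain ⟨kB, hkB⟩ := IsPGroup.iff_card.mp hB
  have hcopBN : (Nat.card B).Coprime (Nat.card N) := by
    rw [hkB]; exact Nat.Coprime.pow_left kB hNcop.symm
  have hBsol : Group.IsSolvable B := by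
    have : Group.IsNilpotent B := hB.isNilpotent
    infer_instance
  obtain ⟨r, hr, T, hTN, hTr, hBT, haT⟩ :=
    Cfsg.Agent.Helper9.PLenExp.exists_inv_sylow_not_cent B N hBN hcopBN (Or.inl hBsol) a₀ ha₀C
  have hrF : Fact r.Prime := ⟨hr⟩
  have hTnt : ⁅T, A⁆ ≠ ⊥ := by
    intro h
    apply haT
    rw [mem_centralizer_iff]
    intro t ht
    have h1 : ⁅t, a₀⁆ ∈ ⁅T, A⁆ := commutator_mem_commutator ht ha₀
    rw [h, mem_bot, commutatorElement_eq_one_iff_mul_comm] at h1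
    exact h1
  obtain ⟨D, hDT, hBD, hDnt, hDmin⟩ := exists_min_invariant B A T hBT hTnt
  have hDr : IsPGroup r D := hTr.to_le hDT
  have hDN : D ≤ N := hDT.trans hTN
  have hDcop : (Nat.card D).Coprime 3 :=
    Nat.Coprime.coprime_dvd_left (Subgroup.card_dvd_of_le hDN) hNcop
  -- `r ≠ 3`
  have hDne : D ≠ ⊥ := by
    intro h
    apply hDnt
    rw [h]
    exact Subgroup.commutator_bot_left A
  have hr3 : r ≠ 3 := by
    rintro rfl
    obtain ⟨k, hk⟩ := IsPGroup.iff_card.mp hDr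
    rw [hk] at hDcop
    have hk0 : k = 0 := by
      by_contra hk0
      have : (3 : ℕ).Coprime 3 := Nat.Coprime.coprime_dvd_left (dvd_pow_self 3 hk0) hDcop
      exact absurd this (by decide)
    rw [hk0, pow_zero] at hk
    exact hDne (Subgroup.card_eq_one.mp hk)
  have hAr : (Nat.card A).Coprime r := by
    obtain ⟨k, hk⟩ := IsPGroup.iff_card.mp hAp
    rw [hk]
    exact Nat.Coprime.pow_left k ((Nat.coprime_primes (by decide) hr).2 (Ne.symm hr3))
  obtain ⟨hDA, hstr, -, -⟩ := Cfsg.Agent.S3736.result B A D hDr hBD hAB hAn hAr hDnt hDmin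
  -- the case of abelian `2`-subgroups
  by_cases hab2 : ∀ Q : Subgroup Γ, Q ≤ D → IsPGroup 2 Q → ∀ s ∈ Q, ∀ t ∈ Q, Commute s t
  · apply hDnt
    rw [eq_bot_iff, commutator_le]
    intro d hd a ha
    have := Cfsg.Agent.Helper28.HH3.quad_centralizes ρ hρ a (hq a ha) D (hBD (hAB ha)) hDcop
      hab2 d hd
    rw [mem_bot, commutatorElement_eq_one_iff_mul_comm]
    exact this.symm
  · push Not at hab2
    obtain ⟨Q, hQD, hQ2, s, hs, t, ht, hst⟩ := hab2
    have hr2 : r = 2 := by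
      by_contra hr2
      apply hst
      have hs1 : s = 1 := by
        obtain ⟨i, hi⟩ := hQ2 ⟨s, hs⟩
        obtain ⟨j, hj⟩ := hDr ⟨s, hQD hs⟩
        have hi' : s ^ 2 ^ i = 1 := congrArg Subtype.val hi
        have hj' : s ^ r ^ j = 1 := congrArg Subtype.val hj
        have h3 : orderOf s ∣ Nat.gcd (2 ^ i) (r ^ j) :=
          Nat.dvd_gcd (orderOf_dvd_of_pow_eq_one hi') (orderOf_dvd_of_pow_eq_one hj')
        have hg : Nat.gcd (2 ^ i) (r ^ j) = 1 :=
          Nat.Coprime.pow i j ((Nat.coprime_primes Nat.prime_two hr).2 (Ne.symm hr2))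
        rw [hg, Nat.dvd_one, orderOf_eq_one_iff] at h3
        exact h3
      rw [hs1]
      exact Commute.one_left t
    subst hr2
    have hsp : Cfsg.IsSpecial 2 ↥D := by
      rcases hstr with h | h
      · exfalso
        apply hst
        have := h.1.is_comm.comm (⟨s, hQD hs⟩ : ↥D) ⟨t, hQD ht⟩
        exact congrArg Subtype.val this
      · exact h
    -- `A` centralizes `Z(D)`
    set Z : Subgroup Γ := (center ↥D).map D.subtype with hZ
    have hZD : Z ≤ D := map_subtype_le _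
    have hZlt : Z < D := by
      refine lt_of_le_of_ne hZD ?_
      intro h
      apply hst
      have h1 : t ∈ Z := by rw [h]; exact hQD ht
      rw [Cfsg.Agent.S3736.mem_map_center_iff] at h1
      exact h1.2 s (hQD hs)
    have hBZ : B ≤ normalizer (Z : Set Γ) :=
      hBD.trans (Cfsg.Agent.Lead.normalizer_le_normalizer_map_of_characteristic D (center ↥D))
    have hZA0 := hDmin Z hZlt hBZ
    have hZA : ∀ a ∈ A, ∀ z ∈ Z, a * z = z * a := by
      intro a ha z hz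
      have h1 : ⁅z, a⁆ ∈ ⁅Z, A⁆ := commutator_mem_commutator hz ha
      rw [hZA0, mem_bot, commutatorElement_eq_one_iff_mul_comm] at h1
      exact h1.symm
    exact special_case ρ hρ B hB hAA hABB D hDr hBD hDA hsp hZA s t (hQD hs) (hQD ht) hst

end Main

end Cfsg.Agent.Helper24.DL
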