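import Mathlib
import Cfsg.Prelude.Def_Characters

/-!
# Averages of class functions over cosets (coprime action)

If `a` normalizes the finite subgroup `K` and `|K|` is prime to the order of `a`, then the
average of a class function over the coset `K a` equals its average over `C_K(a) a`.
-/

set_option autoImplicit false

namespace Cfsg.Agent.Helper24.DadeExp

open scoped ComplexConjugate
open Classical

variable {G : Type*} [Group G]

/-- the average of `f` over the subgroup `K` (as a sum over the whole group) -/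
noncomputable def avgOn [Fintype G] (K : Subgroup G) (f : G → ℂ) : ℂ :=
  (Nat.card K : ℂ)⁻¹ * ∑ k : G, if k ∈ K then f k else 0

theorem exists_pow_eq [Finite G] (K : Subgroup G) (a : G)
    (hcop : Nat.Coprime (Nat.card K) (orderOf a)) :
    ∃ m : ℕ, a ^ m = a ∧ ∀ c ∈ K, c ^ m = 1 := by
  obtain ⟨m, hm1, hm0⟩ := Nat.chineseRemainder hcop.symm 1 0
  refine ⟨m, ?_, ?_⟩
  · have : a ^ m = a ^ 1 := by
      rw [pow_eq_pow_iff_modEq]; exact hm1
    rwa [pow_one] at this
  · intro c hc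
    have hdvd : Nat.card K ∣ m := (Nat.modEq_zero_iff_dvd).mp hm0
    obtain ⟨t, rfl⟩ := hdvd
    have h1 : (⟨c, hc⟩ : K) ^ Nat.card K = 1 := pow_card_eq_one'
    have h2 : c ^ Nat.card K = 1 := by
      have := congrArg Subtype.val h1
      rwa [Subgroup.coe_pow, Subgroup.coe_one] at this
    rw [pow_mul, h2, one_pow]

variable [Fintype G]

theorem card_filter_mem (S : Subgroup G) :
    ((Finset.univ : Finset G).filter (fun x => x ∈ S)).card = Nat.card S := by
  rw [Nat.card_eq_fintype_card, Fintype.card_subtype]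

omit [Fintype G] in
theorem conj_pow_eq {w x y : G} (h : w * x * w⁻¹ = y) (m : ℕ) : w * x ^ m * w⁻¹ = y ^ m := by
  rw [← h, conj_pow]

/-- each fibre of `(u, c) ↦ u c a u⁻¹ a⁻¹` has at most `|C_K(a)|` elements -/
theorem card_fiber_le (K : Subgroup G) (a : G)
    (hcop : Nat.Coprime (Nat.card K) (orderOf a)) (h : G) :
    ((Finset.univ : Finset (G × G)).filter (fun p => (p.1 ∈ K ∧
      p.2 ∈ K ⊓ Subgroup.centralizer ({a} : Set G)) ∧
      p.1 * p.2 * a * p.1⁻¹ * a⁻¹ = h)).card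
      ≤ Nat.card ↥(K ⊓ Subgroup.centralizer ({a} : Set G)) := by
  set C := K ⊓ Subgroup.centralizer ({a} : Set G) with hC
  set fib := (Finset.univ : Finset (G × G)).filter (fun p => (p.1 ∈ K ∧ p.2 ∈ C) ∧
      p.1 * p.2 * a * p.1⁻¹ * a⁻¹ = h) with hfib
  by_cases hne : fib.Nonempty
  swap
  · rw [Finset.not_nonempty_iff_eq_empty] at hne
    rw [hne]; simp
  obtain ⟨p₀, hp₀⟩ := hne
  rw [hfib, Finset.mem_filter] at hp₀
  obtain ⟨-, ⟨hu₀, hc₀⟩, he₀⟩ := hp₀
  obtain ⟨m, hm1, hm2⟩ := exists_pow_eq K a hcop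
  rw [← card_filter_mem C]
  apply Finset.card_le_card_of_injOn (fun p => p₀.1⁻¹ * p.1)
  · intro p hp
    rw [Finset.mem_coe, hfib, Finset.mem_filter] at hp
    obtain ⟨-, ⟨hu, hc⟩, he⟩ := hp
    rw [Finset.mem_coe, Finset.mem_filter]
    refine ⟨Finset.mem_univ _, ?_⟩
    have hw : p₀.1⁻¹ * p.1 ∈ K := K.mul_mem (K.inv_mem hu₀) hu
    refine ⟨hw, ?_⟩
    show p₀.1⁻¹ * p.1 ∈ Subgroup.centralizer ({a} : Set G)
    rw [Subgroup.mem_centralizer_singleton_iff]
    have hca : ∀ c ∈ C, (c * a) ^ m = a := by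
      intro c hc
      have hcomm : Commute c a := by
        have : c ∈ Subgroup.centralizer ({a} : Set G) := hc.2
        rw [Subgroup.mem_centralizer_singleton_iff] at this
        exact this
      rw [hcomm.mul_pow, hm2 c hc.1, hm1, one_mul]
    have h1 : (p₀.1⁻¹ * p.1) * (p.2 * a) * (p₀.1⁻¹ * p.1)⁻¹ = p₀.2 * a := by
      have e : p.1 * p.2 * a * p.1⁻¹ = p₀.1 * p₀.2 * a * p₀.1⁻¹ := by
        have := he.trans he₀.symm
        exact mul_right_cancel this
      calc (p₀.1⁻¹ * p.1) * (p.2 * a) * (p₀.1⁻¹ * p.1)⁻¹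
          = p₀.1⁻¹ * (p.1 * p.2 * a * p.1⁻¹) * p₀.1 := by group
        _ = p₀.1⁻¹ * (p₀.1 * p₀.2 * a * p₀.1⁻¹) * p₀.1 := by rw [e]
        _ = p₀.2 * a := by group
    have h2 := conj_pow_eq h1 m
    rw [hca _ hc, hca _ hc₀] at h2
    calc (p₀.1⁻¹ * p.1) * a = ((p₀.1⁻¹ * p.1) * a * (p₀.1⁻¹ * p.1)⁻¹) * (p₀.1⁻¹ * p.1) := by group
      _ = a * (p₀.1⁻¹ * p.1) := by rw [h2]
  · intro p hp q hq hpq
    rw [Finset.mem_coe, hfib, Finset.mem_filter] at hp hq
    obtain ⟨-, -, he⟩ := hp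
    obtain ⟨-, -, he'⟩ := hq
    have h1 : p.1 = q.1 := mul_left_cancel hpq
    have h2 : p.2 = q.2 := by
      have := he.trans he'.symm
      rw [h1] at this
      have := mul_right_cancel (mul_right_cancel (mul_right_cancel this))
      exact mul_left_cancel this
    exact Prod.ext h1 h2

theorem card_pairs (K C : Subgroup G) :
    ((Finset.univ : Finset (G × G)).filter (fun p => p.1 ∈ K ∧ p.2 ∈ C)).card
      = Nat.card K * Nat.card C := by
  rw [← card_filter_mem K, ← card_filter_mem C, ← Finset.card_product]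
  congr 1
  ext p
  simp [Finset.mem_product]

/-- the fibre counting behind the coset average lemma -/
theorem card_fiber (K : Subgroup G) (a : G) (hnorm : ∀ k ∈ K, a * k * a⁻¹ ∈ K)
    (hcop : Nat.Coprime (Nat.card K) (orderOf a)) (h : G) (hh : h ∈ K) :
    ((Finset.univ : Finset (G × G)).filter (fun p => (p.1 ∈ K ∧
      p.2 ∈ K ⊓ Subgroup.centralizer ({a} : Set G)) ∧
      p.1 * p.2 * a * p.1⁻¹ * a⁻¹ = h)).card
      = Nat.card ↥(K ⊓ Subgroup.centralizer ({a} : Set G)) := by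
  set C := K ⊓ Subgroup.centralizer ({a} : Set G) with hC
  set T := (Finset.univ : Finset (G × G)).filter (fun p => p.1 ∈ K ∧ p.2 ∈ C) with hT
  set Kf := (Finset.univ : Finset G).filter (fun x => x ∈ K) with hKf
  have hmaps : ∀ p ∈ T, p.1 * p.2 * a * p.1⁻¹ * a⁻¹ ∈ Kf := by
    intro p hp
    rw [hT, Finset.mem_filter] at hp
    obtain ⟨-, hu, hc⟩ := hp
    rw [hKf, Finset.mem_filter]
    refine ⟨Finset.mem_univ _, ?_⟩
    have : p.1 * p.2 * a * p.1⁻¹ * a⁻¹ = p.1 * p.2 * (a * p.1⁻¹ * a⁻¹) := by group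
    rw [this]
    exact K.mul_mem (K.mul_mem hu hc.1) (hnorm _ (K.inv_mem hu))
  have h1 := Finset.card_eq_sum_card_fiberwise hmaps
  rw [hT, card_pairs] at h1
  have h2 : ∑ b ∈ Kf, (Nat.card C) = Nat.card K * Nat.card C := by
    rw [Finset.sum_const, hKf, card_filter_mem, smul_eq_mul]
  have h3 : ∀ b ∈ Kf, (T.filter (fun p => p.1 * p.2 * a * p.1⁻¹ * a⁻¹ = b)).card ≤ Nat.card C := by
    intro b _
    have := card_fiber_le K a hcop b
    rw [hT, Finset.filter_filter]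
    exact this
  have h4 := (Finset.sum_eq_sum_iff_of_le h3).mp (by rw [h2]; exact h1.symm)
  have := h4 h (by rw [hKf, Finset.mem_filter]; exact ⟨Finset.mem_univ _, hh⟩)
  rw [hT, Finset.filter_filter] at this
  exact this

/-- **Coset average lemma.** -/
theorem avgOn_coset (K : Subgroup G) (a : G) (hnorm : ∀ k ∈ K, a * k * a⁻¹ ∈ K)
    (hcop : Nat.Coprime (Nat.card K) (orderOf a)) (F : G → ℂ) (hF : IsClassFunction G F) :
    avgOn K (fun k => F (k * a))
      = avgOn (K ⊓ Subgroup.centralizer ({a} : Set G)) (fun k => F (k * a)) := by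
  set C := K ⊓ Subgroup.centralizer ({a} : Set G) with hC
  set T := (Finset.univ : Finset (G × G)).filter (fun p => p.1 ∈ K ∧ p.2 ∈ C) with hT
  set Kf := (Finset.univ : Finset G).filter (fun x => x ∈ K) with hKf
  have hmaps : ∀ p ∈ T, p.1 * p.2 * a * p.1⁻¹ * a⁻¹ ∈ Kf := by
    intro p hp
    rw [hT, Finset.mem_filter] at hp
    obtain ⟨-, hu, hc⟩ := hp
    rw [hKf, Finset.mem_filter]
    refine ⟨Finset.mem_univ _, ?_⟩
    have : p.1 * p.2 * a * p.1⁻¹ * a⁻¹ = p.1 * p.2 * (a * p.1⁻¹ * a⁻¹) := by group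
    rw [this]
    exact K.mul_mem (K.mul_mem hu hc.1) (hnorm _ (K.inv_mem hu))
  -- the double sum, computed in two ways
  have hS1 : ∑ p ∈ T, F (p.1 * p.2 * a * p.1⁻¹ * a⁻¹ * a)
      = (Nat.card K : ℂ) * ∑ c : G, if c ∈ C then F (c * a) else 0 := by
    have e1 : ∀ p : G × G, F (p.1 * p.2 * a * p.1⁻¹ * a⁻¹ * a) = F (p.2 * a) := by
      intro p
      have : p.1 * p.2 * a * p.1⁻¹ * a⁻¹ * a = p.1 * (p.2 * a) * p.1⁻¹ := by group
      rw [this, hF]
    rw [Finset.sum_congr rfl (fun p _ => e1 p), hT, Finset.sum_filter]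
    rw [Fintype.sum_prod_type]
    have e2 : ∀ x : G, (∑ y : G, if x ∈ K ∧ y ∈ C then F (y * a) else 0)
        = if x ∈ K then ∑ y : G, (if y ∈ C then F (y * a) else 0) else 0 := by
      intro x
      by_cases hx : x ∈ K
      · simp [hx]
      · simp [hx]
    rw [Finset.sum_congr rfl (fun x _ => e2 x), ← Finset.sum_filter, Finset.sum_const,
      card_filter_mem, nsmul_eq_mul]
  have hS2 : ∑ p ∈ T, F (p.1 * p.2 * a * p.1⁻¹ * a⁻¹ * a)
      = (Nat.card C : ℂ) * ∑ k : G, if k ∈ K then F (k * a) else 0 := by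
    rw [← Finset.sum_fiberwise_of_maps_to hmaps]
    have e3 : ∀ b ∈ Kf, ∑ p ∈ T.filter (fun p => p.1 * p.2 * a * p.1⁻¹ * a⁻¹ = b),
        F (p.1 * p.2 * a * p.1⁻¹ * a⁻¹ * a) = (Nat.card C : ℂ) * F (b * a) := by
      intro b hb
      have hbK : b ∈ K := by
        rw [hKf, Finset.mem_filter] at hb; exact hb.2
      have e4 : ∀ p ∈ T.filter (fun p => p.1 * p.2 * a * p.1⁻¹ * a⁻¹ = b),
          F (p.1 * p.2 * a * p.1⁻¹ * a⁻¹ * a) = F (b * a) := by
        intro p hp
        rw [Finset.mem_filter] at hp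
        rw [hp.2]
      rw [Finset.sum_congr rfl e4, Finset.sum_const, nsmul_eq_mul]
      congr 2
      have := card_fiber K a hnorm hcop b hbK
      rw [hT, Finset.filter_filter]
      exact this
    rw [Finset.sum_congr rfl e3, ← Finset.mul_sum, hKf, Finset.sum_filter]
  have hK0 : (Nat.card K : ℂ) ≠ 0 := Nat.cast_ne_zero.mpr Nat.card_pos.ne'
  have hC0 : (Nat.card C : ℂ) ≠ 0 := Nat.cast_ne_zero.mpr Nat.card_pos.ne'
  unfold avgOn
  have := hS1.symm.trans hS2
  rw [inv_mul_eq_iff_eq_mul₀ hK0, ← mul_assoc, mul_comm _ ((Nat.card C : ℂ)⁻¹), mul_assoc,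
    eq_inv_mul_iff_mul_eq₀ hC0]
  exact this.symm

end Cfsg.Agent.Helper24.DadeExp
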