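import Mathlib
import Cfsg.Prelude.Def_Characters
import Cfsg.Prelude.Def_OddOrderChar
import Cfsg.Agent.Helper8.Dade

/-!
# Subsets of the Dade support: the groups `H_B` and `N_L(B)`
-/

set_option autoImplicit false

namespace Cfsg.Agent.Helper24.DadeExp

open Classical
open Cfsg.Agent.Helper8

variable {G : Type*} [Group G]

/-- the conjugate `g B g⁻¹` of a finite subset -/
noncomputable def conjF (g : G) (B : Finset G) : Finset G := B.image (fun x => g * x * g⁻¹)

theorem mem_conjF {g x : G} {B : Finset G} : x ∈ conjF g B ↔ g⁻¹ * x * g ∈ B := by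
  unfold conjF
  rw [Finset.mem_image]
  constructor
  · rintro ⟨y, hy, rfl⟩
    have : g⁻¹ * (g * y * g⁻¹) * g = y := by group
    rwa [this]
  · intro h
    exact ⟨g⁻¹ * x * g, h, by group⟩

theorem conj_mem_conjF {g x : G} {B : Finset G} : g * x * g⁻¹ ∈ conjF g B ↔ x ∈ B := by
  rw [mem_conjF]
  have : g⁻¹ * (g * x * g⁻¹) * g = x := by group
  rw [this]

theorem conjF_one (B : Finset G) : conjF 1 B = B := by
  ext x; rw [mem_conjF]; simp

theorem conjF_mul (g h : G) (B : Finset G) : conjF (g * h) B = conjF g (conjF h B) := by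
  ext x
  rw [mem_conjF, mem_conjF, mem_conjF]
  have : (g * h)⁻¹ * x * (g * h) = h⁻¹ * (g⁻¹ * x * g) * h := by group
  rw [this]

theorem card_conjF (g : G) (B : Finset G) : (conjF g B).card = B.card := by
  unfold conjF
  apply Finset.card_image_of_injective
  intro x y h
  simpa using h

theorem conjF_nonempty {g : G} {B : Finset G} (h : B.Nonempty) : (conjF g B).Nonempty := by
  unfold conjF
  exact h.image _

theorem conjF_insert_self (a : G) (B : Finset G) : conjF a (insert a B) = insert a (conjF a B) := by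
  unfold conjF
  rw [Finset.image_insert]
  congr 1
  group

theorem conjF_erase_self (a : G) (B : Finset G) : conjF a (B.erase a) = (conjF a B).erase a := by
  ext x
  rw [mem_conjF, Finset.mem_erase, Finset.mem_erase, mem_conjF]
  constructor
  · rintro ⟨h1, h2⟩
    refine ⟨?_, h2⟩
    rintro rfl
    apply h1
    group
  · rintro ⟨h1, h2⟩
    refine ⟨?_, h2⟩
    intro h
    apply h1
    calc x = a * (a⁻¹ * x * a) * a⁻¹ := by group
      _ = a * a * a⁻¹ := by rw [h]
      _ = a := by group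

/-- the stabilizer of `B` under conjugation -/
noncomputable def stabF (B : Finset G) : Subgroup G where
  carrier := {g | conjF g B = B}
  one_mem' := conjF_one B
  mul_mem' := by
    intro g h hg hh
    show conjF (g * h) B = B
    rw [conjF_mul, show conjF h B = B from hh, show conjF g B = B from hg]
  inv_mem' := by
    intro g hg
    show conjF g⁻¹ B = B
    have hg' : conjF g B = B := hg
    calc conjF g⁻¹ B = conjF g⁻¹ (conjF g B) := by rw [hg']
      _ = conjF (g⁻¹ * g) B := (conjF_mul _ _ _).symm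
      _ = B := by rw [inv_mul_cancel, conjF_one]

theorem mem_stabF {g : G} {B : Finset G} : g ∈ stabF B ↔ conjF g B = B := Iff.rfl

theorem conj_mem_of_mem_stabF {g b : G} {B : Finset G} (hg : g ∈ stabF B) (hb : b ∈ B) :
    g * b * g⁻¹ ∈ B := by
  have : g * b * g⁻¹ ∈ conjF g B := conj_mem_conjF.mpr hb
  rwa [mem_stabF.mp hg] at this

theorem conj_mem_stabF_conjF {l g : G} {B : Finset G} :
    l * g * l⁻¹ ∈ stabF (conjF l B) ↔ g ∈ stabF B := by
  rw [mem_stabF, mem_stabF, ← conjF_mul]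
  have e : l * g * l⁻¹ * l = l * g := by group
  rw [e, conjF_mul]
  constructor
  · intro h
    have := congrArg (conjF l⁻¹) h
    rwa [← conjF_mul, ← conjF_mul, ← conjF_mul, inv_mul_cancel, conjF_one, one_mul] at this
  · intro h
    rw [h]

/-- the signalizer `H_B` of a subset -/
noncomputable def dadeH (H : G → Subgroup G) (B : Finset G) : Subgroup G := ⨅ b ∈ B, H b

theorem mem_dadeH {H : G → Subgroup G} {B : Finset G} {u : G} :
    u ∈ dadeH H B ↔ ∀ b ∈ B, u ∈ H b := by
  unfold dadeH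
  simp only [Subgroup.mem_iInf]

theorem dadeH_singleton (H : G → Subgroup G) (a : G) : dadeH H {a} = H a := by
  ext u
  rw [mem_dadeH]
  simp

theorem dadeH_insert (H : G → Subgroup G) (a : G) (B : Finset G) :
    dadeH H (insert a B) = dadeH H B ⊓ H a := by
  ext u
  rw [Subgroup.mem_inf, mem_dadeH, mem_dadeH]
  simp only [Finset.mem_insert, forall_eq_or_imp]
  tauto

/-- the normalizer `N_L(B)` -/
noncomputable def dadeN (L : Subgroup G) (B : Finset G) : Subgroup G := L ⊓ stabF B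

variable {A : Set G} {L : Subgroup G} {H : G → Subgroup G}

theorem dadeH_le_of_mem {B : Finset G} {b : G} (hb : b ∈ B) : dadeH H B ≤ H b := by
  intro u hu
  exact mem_dadeH.mp hu b hb

/-- `N_L(B)` normalizes `H_B` -/
theorem dadeN_normalizes [Finite G] (hD : Cfsg.DadeHypothesis A L H) {B : Finset G}
    (hB : ∀ b ∈ B, b ∈ A) {n k : G} (hn : n ∈ dadeN L B) (hk : k ∈ dadeH H B) :
    n * k * n⁻¹ ∈ dadeH H B := by
  rw [mem_dadeH]
  intro b hb
  have hn' : n⁻¹ ∈ stabF B := (stabF B).inv_mem hn.2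
  have hb' : n⁻¹ * b * n ∈ B := by
    have := conj_mem_of_mem_stabF hn' hb
    rwa [inv_inv] at this
  have h1 := dade_H_conj hD (hB _ hb') hn.1 (mem_dadeH.mp hk _ hb')
  have e : n * (n⁻¹ * b * n) * n⁻¹ = b := by group
  rwa [e] at h1

/-- `H_B ∩ N_L(B) = 1` -/
theorem dadeH_inf_dadeN (hD : Cfsg.DadeHypothesis A L H) {B : Finset G}
    (hB : ∀ b ∈ B, b ∈ A) (hne : B.Nonempty) : dadeH H B ⊓ dadeN L B = ⊥ := by
  obtain ⟨b, hb⟩ := hne
  rw [eq_bot_iff]
  intro u hu
  have h1 : u ∈ H b := dadeH_le_of_mem hb hu.1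
  have h2 : u ∈ L := hu.2.1
  have h3 : u ∈ Subgroup.centralizer ({b} : Set G) := hD.le_centralizer b (hB b hb) h1
  have : u ∈ H b ⊓ (L ⊓ Subgroup.centralizer ({b} : Set G)) := ⟨h1, h2, h3⟩
  rwa [hD.inf_eq_bot b (hB b hb)] at this

/-- the order of `H_B` is prime to the order of every element of `A` -/
theorem coprime_card_dadeH [Finite G] (hD : Cfsg.DadeHypothesis A L H) {B : Finset G}
    (hB : ∀ b ∈ B, b ∈ A) (hne : B.Nonempty) {a : G} (ha : a ∈ A) :
    Nat.Coprime (Nat.card (dadeH H B)) (orderOf a) := by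
  obtain ⟨b, hb⟩ := hne
  have h1 : Nat.card (dadeH H B) ∣ Nat.card (H b) := Subgroup.card_dvd_of_le (dadeH_le_of_mem hb)
  have h2 : orderOf a ∣ Nat.card ↥(L ⊓ Subgroup.centralizer ({a} : Set G)) := by
    have hmem : a ∈ L ⊓ Subgroup.centralizer ({a} : Set G) :=
      ⟨hD.subset ha, Subgroup.mem_centralizer_singleton_iff.mpr rfl⟩
    have := orderOf_dvd_natCard (⟨a, hmem⟩ : ↥(L ⊓ Subgroup.centralizer ({a} : Set G)))
    rwa [Subgroup.orderOf_mk] at this
  exact Nat.Coprime.coprime_dvd_left h1 (Nat.Coprime.coprime_dvd_right h2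
    (hD.coprime b (hB b hb) a ha))

/-- `H_{B ∪ {a}} = C_{H_B}(a)` -/
theorem dadeH_insert_eq [Finite G] (hD : Cfsg.DadeHypothesis A L H) {B : Finset G}
    (hB : ∀ b ∈ B, b ∈ A) (hne : B.Nonempty) {a : G} (ha : a ∈ A) :
    dadeH H (insert a B) = dadeH H B ⊓ Subgroup.centralizer ({a} : Set G) := by
  rw [dadeH_insert]
  ext u
  rw [Subgroup.mem_inf, Subgroup.mem_inf]
  constructor
  · rintro ⟨h1, h2⟩
    exact ⟨h1, hD.le_centralizer a ha h2⟩
  · rintro ⟨h1, h2⟩
    refine ⟨h1, ?_⟩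
    apply dade_mem_H_of_coprime hD ha h2
    obtain ⟨b, hb⟩ := hne
    have hdvd : orderOf u ∣ Nat.card (H b) := by
      have := orderOf_dvd_natCard (⟨u, dadeH_le_of_mem hb h1⟩ : H b)
      rwa [Subgroup.orderOf_mk] at this
    exact Nat.Coprime.coprime_dvd_left hdvd (hD.coprime b (hB b hb) a ha)

/-- conjugation by `l ∈ L` carries `H_B` to `H_{lBl⁻¹}` -/
theorem conj_mem_dadeH_conjF [Finite G] (hD : Cfsg.DadeHypothesis A L H) {B : Finset G}
    (hB : ∀ b ∈ B, b ∈ A) {l : G} (hl : l ∈ L) {u : G} :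
    l * u * l⁻¹ ∈ dadeH H (conjF l B) ↔ u ∈ dadeH H B := by
  have key : ∀ {B : Finset G}, (∀ b ∈ B, b ∈ A) → ∀ {l : G}, l ∈ L → ∀ {u : G},
      u ∈ dadeH H B → l * u * l⁻¹ ∈ dadeH H (conjF l B) := by
    intro B hB l hl u hu
    rw [mem_dadeH]
    intro b' hb'
    rw [mem_conjF] at hb'
    have h1 := dade_H_conj hD (hB _ hb') hl (mem_dadeH.mp hu _ hb')
    have e : l * (l⁻¹ * b' * l) * l⁻¹ = b' := by group
    rwa [e] at h1
  constructor
  · intro h
    have hB' : ∀ b ∈ conjF l B, b ∈ A := by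
      intro b hb
      rw [mem_conjF] at hb
      have := hD.conj_mem l hl _ (hB _ hb)
      have e : l * (l⁻¹ * b * l) * l⁻¹ = b := by group
      rwa [e] at this
    have := key hB' (L.inv_mem hl) h
    rw [← conjF_mul, inv_mul_cancel, conjF_one] at this
    have e : l⁻¹ * (l * u * l⁻¹) * l⁻¹⁻¹ = u := by group
    rwa [e] at this
  · exact key hB hl

theorem conj_mem_dadeN_conjF {B : Finset G} {l : G} (hl : l ∈ L) {n : G} :
    l * n * l⁻¹ ∈ dadeN L (conjF l B) ↔ n ∈ dadeN L B := by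
  unfold dadeN
  rw [Subgroup.mem_inf, Subgroup.mem_inf, conj_mem_stabF_conjF]
  constructor
  · rintro ⟨h1, h2⟩
    refine ⟨?_, h2⟩
    have := L.mul_mem (L.mul_mem (L.inv_mem hl) h1) hl
    have e : l⁻¹ * (l * n * l⁻¹) * l = n := by group
    rwa [e] at this
  · rintro ⟨h1, h2⟩
    exact ⟨L.mul_mem (L.mul_mem hl h1) (L.inv_mem hl), h2⟩

end Cfsg.Agent.Helper24.DadeExp
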