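import Mathlib
import Cfsg.Prelude.Def_Characters
import Cfsg.Prelude.Def_OddOrderChar
import Cfsg.Agent.Helper8.Dade
import Cfsg.Agent.Helper24.DadeAvg
import Cfsg.Agent.Helper24.DadeSub

/-!
# The sign-reversing involution behind the Dade expansion
-/

set_option autoImplicit false

namespace Cfsg.Agent.Helper24.DadeExp

open Classical
open Cfsg.Agent.Helper8

variable {G : Type*} [Group G] [Fintype G] {A : Set G} {L : Subgroup G} {H : G → Subgroup G}

/-- the signed average attached to a subset `B` and an element `a` -/
noncomputable def sgnAvg (H : G → Subgroup G) (F : G → ℂ) (a : G) (B : Finset G) : ℂ :=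
  (-1 : ℂ) ^ (B.card + 1) * avgOn (dadeH H B) (fun k => F (k * a))

theorem sgnAvg_insert (hD : Cfsg.DadeHypothesis A L H) {a : G} (ha : a ∈ A) (F : G → ℂ)
    (hF : IsClassFunction G F) {B : Finset G} (hB : ∀ b ∈ B, b ∈ A) (hne : B.Nonempty)
    (haB : a ∉ B) (hst : a ∈ stabF B) :
    sgnAvg H F a (insert a B) = - sgnAvg H F a B := by
  unfold sgnAvg
  rw [Finset.card_insert_of_notMem haB, dadeH_insert_eq hD hB hne ha]
  have h1 := avgOn_coset (dadeH H B) a
    (fun k hk => dadeN_normalizes hD hB (n := a) ⟨hD.subset ha, hst⟩ hk)
    (coprime_card_dadeH hD hB hne ha) F hF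
  rw [← h1]
  ring

omit [Fintype G] in
theorem stabF_singleton (a : G) : a ∈ stabF ({a} : Finset G) := by
  rw [mem_stabF]
  ext x
  rw [mem_conjF, Finset.mem_singleton, Finset.mem_singleton]
  constructor
  · intro h
    calc x = a * (a⁻¹ * x * a) * a⁻¹ := by group
      _ = a * a * a⁻¹ := by rw [h]
      _ = a := by group
  · rintro rfl
    group

/-- **The involution lemma.** -/
theorem sum_sgnAvg (hD : Cfsg.DadeHypothesis A L H) {a : G} (ha : a ∈ A) (F : G → ℂ)
    (hF : IsClassFunction G F) :
    ∑ B ∈ (Finset.univ : Finset (Finset G)).filter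
        (fun B => (∀ b ∈ B, b ∈ A) ∧ B.Nonempty ∧ a ∈ stabF B), sgnAvg H F a B
      = avgOn (H a) (fun k => F (k * a)) := by
  set S := (Finset.univ : Finset (Finset G)).filter
        (fun B => (∀ b ∈ B, b ∈ A) ∧ B.Nonempty ∧ a ∈ stabF B) with hS
  have haS : ({a} : Finset G) ∈ S := by
    rw [hS, Finset.mem_filter]
    refine ⟨Finset.mem_univ _, ?_, Finset.singleton_nonempty a, stabF_singleton a⟩
    intro b hb
    rw [Finset.mem_singleton] at hb
    rw [hb]; exact ha
  rw [← Finset.add_sum_erase S _ haS]
  have hzero : ∑ B ∈ S.erase {a}, sgnAvg H F a B = 0 := by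
    refine Finset.sum_involution (fun B _ => if a ∈ B then B.erase a else insert a B) ?_ ?_ ?_ ?_
    · -- cancellation
      intro B hB
      rw [Finset.mem_erase, hS, Finset.mem_filter] at hB
      obtain ⟨hBa, -, hBA, hBne, hBst⟩ := hB
      by_cases haB : a ∈ B
      · rw [if_pos haB]
        have hB0A : ∀ b ∈ B.erase a, b ∈ A := fun b hb => hBA b (Finset.mem_of_mem_erase hb)
        have hB0ne : (B.erase a).Nonempty := by
          rw [Finset.nonempty_iff_ne_empty]
          intro h
          apply hBa
          rw [← Finset.insert_erase haB, h]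
          rfl
        have hB0st : a ∈ stabF (B.erase a) := by
          rw [mem_stabF, conjF_erase_self, mem_stabF.mp hBst]
        have := sgnAvg_insert hD ha F hF hB0A hB0ne (Finset.notMem_erase a B) hB0st
        rw [Finset.insert_erase haB] at this
        rw [this]; ring
      · rw [if_neg haB, sgnAvg_insert hD ha F hF hBA hBne haB hBst]
        ring
    · -- no fixed points
      intro B hB _
      by_cases haB : a ∈ B
      · rw [if_pos haB]
        intro h
        have := Finset.notMem_erase a B
        rw [h] at this
        exact this haB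
      · rw [if_neg haB]
        intro h
        apply haB
        rw [← h]
        exact Finset.mem_insert_self a B
    · -- stays in the set
      intro B hB
      rw [Finset.mem_erase, hS, Finset.mem_filter] at hB
      obtain ⟨hBa, -, hBA, hBne, hBst⟩ := hB
      rw [Finset.mem_erase, hS, Finset.mem_filter]
      by_cases haB : a ∈ B
      · rw [if_pos haB]
        refine ⟨?_, Finset.mem_univ _, fun b hb => hBA b (Finset.mem_of_mem_erase hb), ?_, ?_⟩
        · intro h
          have := Finset.notMem_erase a B
          rw [h] at this
          exact this (Finset.mem_singleton_self a)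
        · rw [Finset.nonempty_iff_ne_empty]
          intro h
          apply hBa
          rw [← Finset.insert_erase haB, h]
          rfl
        · rw [mem_stabF, conjF_erase_self, mem_stabF.mp hBst]
      · rw [if_neg haB]
        refine ⟨?_, Finset.mem_univ _, ?_, Finset.insert_nonempty a B, ?_⟩
        · intro h
          obtain ⟨b, hb⟩ := hBne
          have : b ∈ insert a B := Finset.mem_insert_of_mem hb
          rw [h, Finset.mem_singleton] at this
          rw [this] at hb
          exact haB hb
        · intro b hb
          rw [Finset.mem_insert] at hb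
          rcases hb with rfl | hb
          · exact ha
          · exact hBA b hb
        · rw [mem_stabF, conjF_insert_self, mem_stabF.mp hBst]
    · -- involutive
      intro B hB
      by_cases haB : a ∈ B
      · simp only [if_pos haB, Finset.notMem_erase a B, if_false]
        exact Finset.insert_erase haB
      · simp only [if_neg haB, Finset.mem_insert_self a B, if_true]
        exact Finset.erase_insert haB
  rw [hzero, add_zero]
  unfold sgnAvg
  rw [dadeH_singleton, Finset.card_singleton]
  norm_num

end Cfsg.Agent.Helper24.DadeExp
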