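import Mathlib

/-!
# Summing an invariant function with stabilizer weights = summing over orbit representatives
-/

set_option autoImplicit false

namespace Cfsg.Agent.Helper24.DadeExp

open Classical

theorem sum_stabilizer_weight {L X V : Type*} [Group L] [Fintype L] [Fintype X] [MulAction L X]
    [AddCommGroup V] [Module ℂ V] (g : X → V) (hg : ∀ (l : L) (x : X), g (l • x) = g x) :
    ∑ x : X, ((Nat.card (MulAction.stabilizer L x) : ℂ) / (Nat.card L : ℂ)) • g x
      = ∑ ω : MulAction.orbitRel.Quotient L X, g ω.out := by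
  rw [← Finset.sum_fiberwise Finset.univ
    (fun x : X => (Quotient.mk'' x : MulAction.orbitRel.Quotient L X))]
  apply Finset.sum_congr rfl
  intro ω _
  set fib := (Finset.univ : Finset X).filter
    (fun x => (Quotient.mk'' x : MulAction.orbitRel.Quotient L X) = ω) with hfib
  have hmem : ∀ x : X, x ∈ fib ↔ x ∈ MulAction.orbit L ω.out := by
    intro x
    rw [hfib, Finset.mem_filter]
    constructor
    · rintro ⟨-, h⟩
      have h2 : (Quotient.mk'' x : MulAction.orbitRel.Quotient L X) = Quotient.mk'' ω.out := by
        rw [h]; exact (Quotient.out_eq' ω).symm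
      have := Quotient.exact' h2
      exact this
    · intro h
      refine ⟨Finset.mem_univ _, ?_⟩
      have : (Quotient.mk'' x : MulAction.orbitRel.Quotient L X) = Quotient.mk'' ω.out :=
        Quotient.sound' h
      rw [this]; exact Quotient.out_eq' ω
  have hgx : ∀ x ∈ fib, g x = g ω.out := by
    intro x hx
    obtain ⟨l, rfl⟩ := (hmem x).mp hx
    exact hg l _
  have hcard : ∀ x ∈ fib, (Nat.card (MulAction.stabilizer L x) : ℂ) / (Nat.card L : ℂ)
      = ((fib.card : ℂ))⁻¹ := by
    intro x hx
    have h1 := MulAction.card_orbit_mul_card_stabilizer_eq_card_group L x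
    have h2 : Fintype.card (MulAction.orbit L x) = fib.card := by
      rw [← Fintype.card_coe fib]
      apply Fintype.card_congr
      apply Equiv.subtypeEquivRight
      intro y
      rw [hmem y]
      have : MulAction.orbit L x = MulAction.orbit L ω.out := by
        obtain ⟨l, rfl⟩ := (hmem x).mp hx
        exact MulAction.orbit_smul l _
      rw [this]
    rw [h2] at h1
    have hL : (Nat.card L : ℂ) ≠ 0 := Nat.cast_ne_zero.mpr Nat.card_pos.ne'
    have hf : (fib.card : ℂ) ≠ 0 := by
      rw [Nat.cast_ne_zero]
      exact Finset.card_ne_zero.mpr ⟨x, hx⟩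
    rw [div_eq_iff hL, Nat.card_eq_fintype_card, Nat.card_eq_fintype_card, ← h1]
    push_cast
    field_simp
  rw [Finset.sum_congr rfl (fun x hx => by rw [hcard x hx, hgx x hx])]
  rw [Finset.sum_const]
  have hne : fib.Nonempty := ⟨ω.out, (hmem _).mpr (MulAction.mem_orbit_self _)⟩
  have hf : (fib.card : ℂ) ≠ 0 := by
    rw [Nat.cast_ne_zero]
    exact Finset.card_ne_zero.mpr hne
  rw [← Nat.cast_smul_eq_nsmul ℂ, smul_smul, mul_inv_cancel₀ hf, one_smul]

end Cfsg.Agent.Helper24.DadeExp
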