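import Mathlib
import Cfsg.Prelude.Def_Characters
import Cfsg.Agent.Helper24.Generalized
import Cfsg.Agent.Helper8.Ind

/-!
# Inflation-induction from an internal semidirect product

For subgroups `K`, `N` of `G` with `N` normalizing `K` and `K ⊓ N = ⊥`, and a generalized
character `β` of `N`, the function induced to `G` from the inflation of `β` to `K N` is a
generalized character whose inner products with class functions are computed explicitly.
-/

set_option autoImplicit false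

namespace Cfsg.Agent.Helper24.DadeExp

open scoped ComplexConjugate

universe u

variable {G : Type u} [Group G]

/-- elements of `K ⊔ N` are products when `N` normalizes `K` -/
theorem mem_sup_of_normalizes (K N : Subgroup G) (hnorm : ∀ n ∈ N, ∀ k ∈ K, n * k * n⁻¹ ∈ K)
    {g : G} (hg : g ∈ K ⊔ N) : ∃ k ∈ K, ∃ n ∈ N, g = k * n := by
  rw [Subgroup.sup_eq_closure] at hg
  induction hg using Subgroup.closure_induction with
  | mem x hx =>
    rcases hx with hx | hx
    · exact ⟨x, hx, 1, N.one_mem, by simp⟩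
    · exact ⟨1, K.one_mem, x, hx, by simp⟩
  | one => exact ⟨1, K.one_mem, 1, N.one_mem, by simp⟩
  | mul x y _ _ hx hy =>
    obtain ⟨k, hk, n, hn, rfl⟩ := hx
    obtain ⟨k', hk', n', hn', rfl⟩ := hy
    refine ⟨k * (n * k' * n⁻¹), K.mul_mem hk (hnorm n hn k' hk'), n * n', N.mul_mem hn hn', ?_⟩
    group
  | inv x _ hx =>
    obtain ⟨k, hk, n, hn, rfl⟩ := hx
    refine ⟨n⁻¹ * k⁻¹ * n⁻¹⁻¹, hnorm _ (N.inv_mem hn) _ (K.inv_mem hk), n⁻¹, N.inv_mem hn, ?_⟩
    group

/-- the product map `K × N → K ⊔ N` -/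
def prodMap (K N : Subgroup G) (p : K × N) : ↥(K ⊔ N) :=
  ⟨(p.1 : G) * (p.2 : G), Subgroup.mul_mem _ (le_sup_left (a := K) (b := N) p.1.2)
    (le_sup_right (a := K) (b := N) p.2.2)⟩

theorem prodMap_bijective (K N : Subgroup G) (hnorm : ∀ n ∈ N, ∀ k ∈ K, n * k * n⁻¹ ∈ K)
    (hdisj : K ⊓ N = ⊥) : Function.Bijective (prodMap K N) := by
  constructor
  · rintro ⟨k, n⟩ ⟨k', n'⟩ h
    have h1 : (k : G) * (n : G) = (k' : G) * (n' : G) := congrArg Subtype.val h
    have h2 : (k' : G)⁻¹ * (k : G) = (n' : G) * (n : G)⁻¹ := by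
      calc (k' : G)⁻¹ * (k : G) = (k' : G)⁻¹ * ((k : G) * (n : G)) * (n : G)⁻¹ := by group
        _ = (k' : G)⁻¹ * ((k' : G) * (n' : G)) * (n : G)⁻¹ := by rw [h1]
        _ = (n' : G) * (n : G)⁻¹ := by group
    have h3 : (k' : G)⁻¹ * (k : G) ∈ K ⊓ N :=
      ⟨K.mul_mem (K.inv_mem k'.2) k.2, by rw [h2]; exact N.mul_mem n'.2 (N.inv_mem n.2)⟩
    rw [hdisj, Subgroup.mem_bot] at h3
    have hk : k = k' := by
      apply Subtype.ext
      have := inv_mul_eq_one.mp h3
      exact this.symm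
    have hn : n = n' := by
      apply Subtype.ext
      rw [h3] at h2
      have := mul_inv_eq_one.mp h2.symm
      exact this.symm
    rw [hk, hn]
  · rintro ⟨g, hg⟩
    obtain ⟨k, hk, n, hn, rfl⟩ := mem_sup_of_normalizes K N hnorm hg
    exact ⟨(⟨k, hk⟩, ⟨n, hn⟩), rfl⟩

/-- the product equivalence `K × N ≃ K ⊔ N` -/
noncomputable def prodEquiv (K N : Subgroup G) (hnorm : ∀ n ∈ N, ∀ k ∈ K, n * k * n⁻¹ ∈ K)
    (hdisj : K ⊓ N = ⊥) : K × N ≃ ↥(K ⊔ N) :=
  Equiv.ofBijective (prodMap K N) (prodMap_bijective K N hnorm hdisj)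

/-- the retraction `K ⊔ N →* N` -/
noncomputable def retr (K N : Subgroup G) (hnorm : ∀ n ∈ N, ∀ k ∈ K, n * k * n⁻¹ ∈ K)
    (hdisj : K ⊓ N = ⊥) : ↥(K ⊔ N) →* N where
  toFun m := ((prodEquiv K N hnorm hdisj).symm m).2
  map_one' := by
    have : (prodEquiv K N hnorm hdisj) (1, 1) = 1 := by
      apply Subtype.ext
      simp [prodEquiv, prodMap]
    rw [← this, Equiv.symm_apply_apply]
  map_mul' := by
    intro m m'
    set e := prodEquiv K N hnorm hdisj with he
    obtain ⟨⟨k, n⟩, rfl⟩ := e.surjective m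
    obtain ⟨⟨k', n'⟩, rfl⟩ := e.surjective m'
    have : e (k, n) * e (k', n') =
        e (⟨(k : G) * ((n : G) * (k' : G) * (n : G)⁻¹), K.mul_mem k.2 (hnorm n n.2 k' k'.2)⟩,
          n * n') := by
      apply Subtype.ext
      simp only [he, prodEquiv, Equiv.ofBijective_apply, prodMap, Subgroup.coe_mul]
      group
    rw [this, Equiv.symm_apply_apply, Equiv.symm_apply_apply, Equiv.symm_apply_apply]

theorem retr_apply (K N : Subgroup G) (hnorm : ∀ n ∈ N, ∀ k ∈ K, n * k * n⁻¹ ∈ K)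
    (hdisj : K ⊓ N = ⊥) (p : K × N) :
    retr K N hnorm hdisj (prodEquiv K N hnorm hdisj p) = p.2 := by
  show ((prodEquiv K N hnorm hdisj).symm (prodEquiv K N hnorm hdisj p)).2 = p.2
  rw [Equiv.symm_apply_apply]

theorem coe_prodEquiv (K N : Subgroup G) (hnorm : ∀ n ∈ N, ∀ k ∈ K, n * k * n⁻¹ ∈ K)
    (hdisj : K ⊓ N = ⊥) (p : K × N) :
    ((prodEquiv K N hnorm hdisj p : ↥(K ⊔ N)) : G) = (p.1 : G) * (p.2 : G) := rfl

variable [Fintype G]

/-- **Inflation-induction from `K ⋊ N`.** -/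
theorem exists_genChar_semidirect (K N : Subgroup G) [Fintype K] [Fintype N]
    (hnorm : ∀ n ∈ N, ∀ k ∈ K, n * k * n⁻¹ ∈ K) (hdisj : K ⊓ N = ⊥)
    (β : N → ℂ) (hβ : IsGeneralizedCharacter N β) :
    ∃ θ : G → ℂ, IsGeneralizedCharacter G θ ∧ ∀ χ : G → ℂ, IsClassFunction G χ →
      classInner θ χ = ((Nat.card K : ℂ) * (Nat.card N : ℂ))⁻¹ *
        ∑ n : N, ∑ k : K, β n * conj (χ ((k : G) * (n : G))) := by
  classical
  letI : Fintype ↥(K ⊔ N) := Fintype.ofFinite _
  set r := retr K N hnorm hdisj with hr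
  set e := prodEquiv K N hnorm hdisj with he
  refine ⟨indFun (K ⊔ N) (fun m => β (r m)), ?_, ?_⟩
  · exact IsGeneralizedCharacter.indFun _ (IsGeneralizedCharacter.comp hβ r)
  · intro χ hχ
    rw [Cfsg.Agent.Helper8.frobenius_reciprocity _ _ _ hχ]
    unfold classInner
    have hcard : Nat.card ↥(K ⊔ N) = Nat.card K * Nat.card N := by
      rw [← Nat.card_congr e, Nat.card_prod]
    rw [hcard, Nat.cast_mul]
    congr 1
    rw [← Equiv.sum_comp e, Fintype.sum_prod_type, Finset.sum_comm]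
    apply Finset.sum_congr rfl
    intro n _
    apply Finset.sum_congr rfl
    intro k _
    show β ((retr K N hnorm hdisj) ((prodEquiv K N hnorm hdisj) (k, n))) *
      (starRingEnd ℂ) (χ ((prodEquiv K N hnorm hdisj (k, n) : ↥(K ⊔ N)) : G)) = _
    rw [retr_apply, coe_prodEquiv]

end Cfsg.Agent.Helper24.DadeExp
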