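import Mathlib
import Cfsg.Prelude.Def_Characters
import Cfsg.Prelude.Def_OddOrderChar
import Cfsg.Agent.Helper8.Dade
import Cfsg.Agent.Helper8.Ind
import Cfsg.Agent.Helper8.PosDef
import Cfsg.Agent.Helper24.Generalized
import Cfsg.Agent.Helper24.Orthogonality
import Cfsg.Agent.Helper24.DadeAvg
import Cfsg.Agent.Helper24.DadeSemi
import Cfsg.Agent.Helper24.DadeSub
import Cfsg.Agent.Helper24.DadeInv
import Cfsg.Agent.Helper24.DadeOrbit
import Cfsg.Agent.S1500

/-!
# The Dade expansion: the Dade image of a generalized character is a generalized character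
-/

set_option autoImplicit false

namespace Cfsg.Agent.Helper24.DadeExp

open Classical
open scoped ComplexConjugate
open Cfsg.Agent.Helper8

universe u

variable {G : Type u} [Group G]

/-- finite subsets of `G` with the conjugation action -/
structure CSet (G : Type u) where
  val : Finset G

omit [Group G] in
theorem CSet.ext' {x y : CSet G} (h : x.val = y.val) : x = y := by
  cases x; cases y; simp only at h; rw [h]

noncomputable instance : MulAction G (CSet G) where
  smul g x := ⟨conjF g x.val⟩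
  one_smul x := CSet.ext' (conjF_one x.val)
  mul_smul g h x := CSet.ext' (conjF_mul g h x.val)

theorem CSet.smul_val (g : G) (x : CSet G) : (g • x).val = conjF g x.val := rfl

/-- the equivalence with `Finset G` -/
def CSet.equiv (G : Type u) : CSet G ≃ Finset G where
  toFun := CSet.val
  invFun := CSet.mk
  left_inv _ := rfl
  right_inv _ := rfl

noncomputable instance [Fintype G] : Fintype (CSet G) := Fintype.ofEquiv _ (CSet.equiv G).symm

/-- the stabilizer of `x` in `L` is `N_L(B)` -/
noncomputable def stabEquiv (L : Subgroup G) (x : CSet G) :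
    MulAction.stabilizer L x ≃ dadeN L x.val where
  toFun l := ⟨(l.1 : G), l.1.2, by
    have := l.2
    rw [MulAction.mem_stabilizer_iff] at this
    exact congrArg CSet.val this⟩
  invFun n := ⟨⟨n.1, n.2.1⟩, by
    rw [MulAction.mem_stabilizer_iff]
    exact CSet.ext' n.2.2⟩
  left_inv _ := rfl
  right_inv _ := rfl

theorem card_stabilizer (L : Subgroup G) (x : CSet G) :
    Nat.card (MulAction.stabilizer L x) = Nat.card (dadeN L x.val) :=
  Nat.card_congr (stabEquiv L x)

variable [Fintype G] {A : Set G} {L : Subgroup G} {H : G → Subgroup G}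

/-- the explicit inner product attached to a subset `B` -/
noncomputable def expE (L : Subgroup G) (H : G → Subgroup G) (α : L → ℂ) (χ : G → ℂ)
    (B : Finset G) : ℂ :=
  ((Nat.card (dadeH H B) : ℂ) * (Nat.card (dadeN L B) : ℂ))⁻¹ *
    ∑ n : G, ∑ k : G, if (k ∈ dadeH H B ∧ n ∈ dadeN L B) then
      extendByZero L α n * conj (χ (k * n)) else 0

omit [Fintype G] in
theorem sum_subtype_ite [Fintype G] (K : Subgroup G) [Fintype K] (f : G → ℂ) :
    ∑ k : K, f (k : G) = ∑ k : G, if k ∈ K then f k else 0 := by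
  rw [← Finset.sum_filter]
  exact (Finset.sum_subtype _ (by simp) f).symm

/-- existence of the generalized character attached to `B` -/
theorem exists_theta (hD : Cfsg.DadeHypothesis A L H) (α : L → ℂ)
    (hα : IsGeneralizedCharacter L α) {B : Finset G} (hB : ∀ b ∈ B, b ∈ A) (hne : B.Nonempty) :
    ∃ θ : G → ℂ, IsGeneralizedCharacter G θ ∧ ∀ χ : G → ℂ, IsClassFunction G χ →
      classInner θ χ = expE L H α χ B := by
  have hβ : IsGeneralizedCharacter (dadeN L B) (fun n : dadeN L B => α ⟨n.1, n.2.1⟩) :=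
    IsGeneralizedCharacter.comp hα (Subgroup.inclusion (inf_le_left : dadeN L B ≤ L))
  obtain ⟨θ, hθ, hθi⟩ := exists_genChar_semidirect (dadeH H B) (dadeN L B)
    (fun n hn k hk => dadeN_normalizes hD hB hn hk) (dadeH_inf_dadeN hD hB hne) _ hβ
  refine ⟨θ, hθ, ?_⟩
  intro χ hχ
  rw [hθi χ hχ]
  unfold expE
  congr 1
  have h1 : ∀ n : dadeN L B, ∑ k : dadeH H B, α ⟨n.1, n.2.1⟩ * conj (χ ((k : G) * (n : G)))
      = (fun n : G => ∑ k : G, if k ∈ dadeH H B then
          extendByZero L α n * conj (χ (k * n)) else 0) (n : G) := by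
    intro n
    rw [sum_subtype_ite (dadeH H B) (fun k => α ⟨n.1, n.2.1⟩ * conj (χ (k * (n : G))))]
    apply Finset.sum_congr rfl
    intro k _
    rw [ebz_mem L α n.2.1]
  rw [Finset.sum_congr rfl (fun n _ => h1 n), sum_subtype_ite (dadeN L B)
    (fun n : G => ∑ k : G, if k ∈ dadeH H B then
          extendByZero L α n * conj (χ (k * n)) else 0)]
  apply Finset.sum_congr rfl
  intro n _
  by_cases hn : n ∈ dadeN L B
  · rw [if_pos hn]
    apply Finset.sum_congr rfl
    intro k _
    by_cases hk : k ∈ dadeH H B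
    · rw [if_pos hk, if_pos ⟨hk, hn⟩]
    · rw [if_neg hk, if_neg (fun h => hk h.1)]
  · rw [if_neg hn]
    symm
    apply Finset.sum_eq_zero
    intro k _
    rw [if_neg (fun h => hn h.2)]

omit [Fintype G] in
theorem ebz_conj_of_mem (α : L → ℂ) (hα : IsClassFunction L α) {l : G} (hl : l ∈ L) (n : G) :
    extendByZero L α (l * n * l⁻¹) = extendByZero L α n := by
  by_cases hn : n ∈ L
  · have h1 : l * n * l⁻¹ ∈ L := L.mul_mem (L.mul_mem hl hn) (L.inv_mem hl)
    rw [ebz_mem L α h1, ebz_mem L α hn]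
    exact hα ⟨n, hn⟩ ⟨l, hl⟩
  · have h1 : l * n * l⁻¹ ∉ L := by
      intro h
      apply hn
      have := L.mul_mem (L.mul_mem (L.inv_mem hl) h) hl
      have e : l⁻¹ * (l * n * l⁻¹) * l = n := by group
      rwa [e] at this
    rw [ebz_not_mem L α h1, ebz_not_mem L α hn]

/-- invariance of `expE` under conjugation by `L` -/
theorem expE_conj (hD : Cfsg.DadeHypothesis A L H) (α : L → ℂ) (hα : IsClassFunction L α)
    (χ : G → ℂ) (hχ : IsClassFunction G χ) {B : Finset G} (hB : ∀ b ∈ B, b ∈ A) {l : G}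
    (hl : l ∈ L) : expE L H α χ (conjF l B) = expE L H α χ B := by
  unfold expE
  have hcH : Nat.card (dadeH H (conjF l B)) = Nat.card (dadeH H B) := by
    symm
    apply Nat.card_congr
    exact Equiv.subtypeEquiv (MulAut.conj l).toEquiv
      (fun u => (conj_mem_dadeH_conjF hD hB hl).symm)
  have hcN : Nat.card (dadeN L (conjF l B)) = Nat.card (dadeN L B) := by
    symm
    apply Nat.card_congr
    exact Equiv.subtypeEquiv (MulAut.conj l).toEquiv
      (fun u => (conj_mem_dadeN_conjF hl).symm)
  rw [hcH, hcN]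
  congr 1
  rw [← Equiv.sum_comp (MulAut.conj l).toEquiv]
  apply Finset.sum_congr rfl
  intro n _
  rw [← Equiv.sum_comp (MulAut.conj l).toEquiv]
  apply Finset.sum_congr rfl
  intro k _
  simp only [MulEquiv.toEquiv_eq_coe, EquivLike.coe_coe, MulAut.conj_apply]
  have e : l * k * l⁻¹ * (l * n * l⁻¹) = l * (k * n) * l⁻¹ := by group
  refine if_congr ?_ ?_ rfl
  · rw [conj_mem_dadeH_conjF hD hB hl, conj_mem_dadeN_conjF hl]
  · rw [ebz_conj_of_mem α hα hl, e, hχ]

/-- the averaged class function of the adjoint formula -/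
noncomputable def avgPsi (L : Subgroup G) (H : G → Subgroup G) (χ : G → ℂ) : L → ℂ :=
  fun a => (Nat.card (H a) : ℂ)⁻¹ * ∑ᶠ u ∈ (H a : Set G), χ (a * u)

theorem termB (α : L → ℂ) (χ : G → ℂ) (B : Finset G) :
    ((Nat.card (dadeN L B) : ℂ) / (Nat.card L : ℂ)) *
        ((-1 : ℂ) ^ (B.card + 1) * expE L H α χ B)
      = (Nat.card L : ℂ)⁻¹ * ∑ n : G, extendByZero L α n *
          (if n ∈ stabF B then sgnAvg H (fun g => conj (χ g)) n B else 0) := by
  unfold expE sgnAvg avgOn
  have hN : (Nat.card (dadeN L B) : ℂ) ≠ 0 := Nat.cast_ne_zero.mpr Nat.card_pos.ne'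
  have hH : (Nat.card (dadeH H B) : ℂ) ≠ 0 := Nat.cast_ne_zero.mpr Nat.card_pos.ne'
  have hL : (Nat.card L : ℂ) ≠ 0 := Nat.cast_ne_zero.mpr Nat.card_pos.ne'
  have key : ∀ n : G, (∑ k : G, if (k ∈ dadeH H B ∧ n ∈ dadeN L B) then
      extendByZero L α n * conj (χ (k * n)) else 0)
      = extendByZero L α n * (if n ∈ stabF B then
          (∑ k : G, if k ∈ dadeH H B then conj (χ (k * n)) else 0) else 0) := by
    intro n
    by_cases hnL : n ∈ L
    · by_cases hns : n ∈ stabF B
      · rw [if_pos hns, Finset.mul_sum]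
        apply Finset.sum_congr rfl
        intro k _
        by_cases hk : k ∈ dadeH H B
        · rw [if_pos ⟨hk, hnL, hns⟩, if_pos hk]
        · rw [if_neg (fun h => hk h.1), if_neg hk, mul_zero]
      · rw [if_neg hns, mul_zero]
        apply Finset.sum_eq_zero
        intro k _
        rw [if_neg (fun h => hns h.2.2)]
    · rw [ebz_not_mem L α hnL, zero_mul]
      apply Finset.sum_eq_zero
      intro k _
      rw [if_neg (fun h => hnL h.2.1)]
  rw [Finset.sum_congr rfl (fun n _ => key n)]
  have key2 : ∀ n : G, extendByZero L α n * (if n ∈ stabF B then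
      (-1 : ℂ) ^ (B.card + 1) * ((Nat.card (dadeH H B) : ℂ)⁻¹ *
        ∑ k : G, if k ∈ dadeH H B then (fun g => conj (χ g)) (k * n) else 0) else 0)
      = ((-1 : ℂ) ^ (B.card + 1) * (Nat.card (dadeH H B) : ℂ)⁻¹) *
        (extendByZero L α n * (if n ∈ stabF B then
          (∑ k : G, if k ∈ dadeH H B then conj (χ (k * n)) else 0) else 0)) := by
    intro n
    by_cases hns : n ∈ stabF B
    · rw [if_pos hns, if_pos hns]; ring
    · rw [if_neg hns, if_neg hns]; ring
  rw [Finset.sum_congr rfl (fun n _ => key2 n), ← Finset.mul_sum]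
  rw [mul_inv]
  field_simp

/-- **The main computation.** -/
theorem sum_expE [Fintype L] (hD : Cfsg.DadeHypothesis A L H) (α : L → ℂ) (hαA : ∀ x : L, (x : G) ∉ A → α x = 0)
    (χ : G → ℂ) (hχ : IsClassFunction G χ) :
    ∑ B ∈ (Finset.univ : Finset (Finset G)).filter (fun B => (∀ b ∈ B, b ∈ A) ∧ B.Nonempty),
      ((Nat.card (dadeN L B) : ℂ) / (Nat.card L : ℂ)) *
        ((-1 : ℂ) ^ (B.card + 1) * expE L H α χ B)
      = classInner α (avgPsi L H χ) := by
  have hF : IsClassFunction G (fun g => conj (χ g)) := by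
    intro g h
    show conj (χ (h * g * h⁻¹)) = conj (χ g)
    rw [hχ]
  rw [Finset.sum_congr rfl (fun B _ => termB α χ B), ← Finset.mul_sum, Finset.sum_comm]
  unfold classInner
  congr 1
  -- the sum over `B` for fixed `n`
  have h1 : ∀ n : G, (∑ B ∈ (Finset.univ : Finset (Finset G)).filter
      (fun B => (∀ b ∈ B, b ∈ A) ∧ B.Nonempty), extendByZero L α n *
        (if n ∈ stabF B then sgnAvg H (fun g => conj (χ g)) n B else 0))
      = extendByZero L α n * avgOn (H n) (fun k => conj (χ (k * n))) := by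
    intro n
    by_cases hnA : n ∈ A
    · rw [← Finset.mul_sum, ← Finset.sum_filter, Finset.filter_filter]
      congr 1
      rw [← sum_sgnAvg hD hnA (fun g => conj (χ g)) hF]
      apply Finset.sum_congr _ (fun _ _ => rfl)
      ext B
      simp only [Finset.mem_filter, Finset.mem_univ, true_and, and_assoc]
    · have h0 : extendByZero L α n = 0 := by
        by_cases hnL : n ∈ L
        · rw [ebz_mem L α hnL]; exact hαA ⟨n, hnL⟩ hnA
        · exact ebz_not_mem L α hnL
      rw [h0, zero_mul]
      apply Finset.sum_eq_zero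
      intro B _
      rw [zero_mul]
  rw [Finset.sum_congr rfl (fun n _ => h1 n), sum_ebz_mul]
  apply Finset.sum_congr rfl
  intro a _
  by_cases haA : (a : G) ∈ A
  · congr 1
    unfold avgPsi avgOn
    rw [finsum_mem_eq_sum_ite, map_mul, map_inv₀, Complex.conj_natCast, map_sum]
    congr 1
    apply Finset.sum_congr rfl
    intro u _
    by_cases hu : u ∈ H (a : G)
    · rw [if_pos hu, if_pos (by exact hu), (dade_commute hD haA hu).eq]
    · rw [if_neg hu, if_neg (by exact hu), map_zero]
  · rw [hαA a haA, zero_mul, zero_mul]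

end Cfsg.Agent.Helper24.DadeExp
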