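import Mathlib
import Cfsg.Prelude.Def_Characters
import Cfsg.Prelude.Def_OddOrderChar
import Cfsg.Agent.Helper24.DadeMain

/-!
# The Dade image of a generalized character is a generalized character
-/

set_option autoImplicit false

namespace Cfsg.Agent.Helper24.DadeExp

open Classical
open scoped ComplexConjugate
open Cfsg.Agent.Helper8

universe u

variable {G : Type u} [Group G] [Fintype G] {A : Set G} {L : Subgroup G} {H : G → Subgroup G}

theorem eq_of_classInner_eq {φ φ' : G → ℂ} (h1 : IsClassFunction G φ) (h2 : IsClassFunction G φ')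
    (h : ∀ χ, IsClassFunction G χ → classInner φ χ = classInner φ' χ) : φ = φ' := by
  have hd : IsClassFunction G (φ - φ') := by
    intro g x
    simp only [Pi.sub_apply, h1 g x, h2 g x]
  have h3 := h (φ - φ') hd
  have h0 : classInner (φ - φ') (φ - φ') = 0 := by
    rw [Helper24.classInner_sub_left, h3, sub_self]
  have := eq_zero_of_classInner_self_eq_zero h0
  exact sub_eq_zero.mp this

omit [Fintype G] in
theorem isGenChar_neg_one_pow_smul {θ : G → ℂ} (h : IsGeneralizedCharacter G θ) (n : ℕ) :
    IsGeneralizedCharacter G (((-1 : ℂ) ^ n) • θ) := by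
  rcases neg_one_pow_eq_or ℂ n with h1 | h1
  · rw [h1, one_smul]; exact h
  · rw [h1, neg_one_smul]; exact IsGeneralizedCharacter.neg h

/-- **Peterfalvi (2.7)**: the Dade image of a generalized character is a generalized character. -/
theorem dade_isGeneralizedCharacter [Fintype L] (hD : Cfsg.DadeHypothesis A L H) (α : L → ℂ)
    (hα : IsGeneralizedCharacter L α) (hαA : ∀ x : L, (x : G) ∉ A → α x = 0) :
    IsGeneralizedCharacter G (dadeIsometry A L H α) := by
  have hαc : IsClassFunction L α := IsGeneralizedCharacter.isClassFunction hα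
  set good : CSet G → Prop := fun x => (∀ b ∈ x.val, b ∈ A) ∧ x.val.Nonempty with hgood
  have hex : ∀ x, good x → ∃ θ : G → ℂ, IsGeneralizedCharacter G θ ∧ ∀ χ : G → ℂ,
      IsClassFunction G χ → classInner θ χ = expE L H α χ x.val :=
    fun x hx => exists_theta hD α hα hx.1 hx.2
  set gfun : CSet G → (G → ℂ) := fun x =>
    if h : good x then ((-1 : ℂ) ^ (x.val.card + 1)) • Classical.choose (hex x h) else 0 with hgfun
  have hgood_smul : ∀ (l : L) (x : CSet G), good x → good (l • x) := by
    intro l x hx
    refine ⟨?_, conjF_nonempty hx.2⟩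
    intro b hb
    have hb' : b ∈ conjF (l : G) x.val := hb
    rw [mem_conjF] at hb'
    have := hD.conj_mem l l.2 _ (hx.1 _ hb')
    have e : (l : G) * ((l : G)⁻¹ * b * (l : G)) * (l : G)⁻¹ = b := by group
    rwa [e] at this
  have hgood_iff : ∀ (l : L) (x : CSet G), good (l • x) ↔ good x := by
    intro l x
    constructor
    · intro h
      have := hgood_smul l⁻¹ _ h
      rwa [inv_smul_smul] at this
    · exact hgood_smul l x
  have hg_gen : ∀ x, IsGeneralizedCharacter G (gfun x) := by
    intro x
    simp only [hgfun]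
    by_cases hx : good x
    · rw [dif_pos hx]
      exact isGenChar_neg_one_pow_smul (Classical.choose_spec (hex x hx)).1 _
    · rw [dif_neg hx]
      exact isGeneralizedCharacter_zero
  have hg_inner : ∀ (x : CSet G) (χ : G → ℂ), IsClassFunction G χ → classInner (gfun x) χ
      = if good x then (-1 : ℂ) ^ (x.val.card + 1) * expE L H α χ x.val else 0 := by
    intro x χ hχ
    simp only [hgfun]
    by_cases hx : good x
    · rw [dif_pos hx, if_pos hx, Helper24.classInner_smul_left,
        (Classical.choose_spec (hex x hx)).2 χ hχ]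
    · rw [dif_neg hx, if_neg hx, Helper24.classInner_zero_left]
  have hinv : ∀ (l : L) (x : CSet G), gfun (l • x) = gfun x := by
    intro l x
    apply eq_of_classInner_eq (IsGeneralizedCharacter.isClassFunction (hg_gen _))
      (IsGeneralizedCharacter.isClassFunction (hg_gen _))
    intro χ hχ
    rw [hg_inner _ χ hχ, hg_inner _ χ hχ]
    by_cases hx : good x
    · rw [if_pos hx, if_pos ((hgood_iff l x).mpr hx)]
      have hv : (l • x).val = conjF (l : G) x.val := rfl
      rw [hv, card_conjF, expE_conj hD α hαc χ hχ hx.1 l.2]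
    · rw [if_neg hx, if_neg (fun h => hx ((hgood_iff l x).mp h))]
  have horb := sum_stabilizer_weight (L := L) (X := CSet G) gfun hinv
  have hΘ : IsGeneralizedCharacter G
      (∑ ω : MulAction.orbitRel.Quotient L (CSet G), gfun ω.out) :=
    isGeneralizedCharacter_sum _ _ (fun ω _ => hg_gen _)
  have hmain : dadeIsometry A L H α
      = ∑ ω : MulAction.orbitRel.Quotient L (CSet G), gfun ω.out := by
    apply eq_of_classInner_eq (dadeIsometry_isClassFunction hD α hαc)
      (IsGeneralizedCharacter.isClassFunction hΘ)
    intro χ hχ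
    rw [← horb, Helper24.classInner_sum_left]
    rw [(Cfsg.Agent.S1500.result A L H hD α hαc hαA).2 χ (avgPsi L H χ) hχ (fun a _ => rfl)]
    rw [← sum_expE hD α hαA χ hχ]
    have h1 : ∀ x : CSet G, classInner (((Nat.card (MulAction.stabilizer L x) : ℂ) /
        (Nat.card L : ℂ)) • gfun x) χ
        = (fun B : Finset G => if ((∀ b ∈ B, b ∈ A) ∧ B.Nonempty) then
            ((Nat.card (dadeN L B) : ℂ) / (Nat.card L : ℂ)) *
              ((-1 : ℂ) ^ (B.card + 1) * expE L H α χ B) else 0) ((CSet.equiv G) x) := by
      intro x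
      rw [Helper24.classInner_smul_left, hg_inner x χ hχ, card_stabilizer]
      show _ = if ((∀ b ∈ x.val, b ∈ A) ∧ x.val.Nonempty) then _ else 0
      by_cases hx : good x
      · rw [if_pos hx, if_pos hx]
        rfl
      · rw [if_neg hx, if_neg hx, mul_zero]
    rw [Finset.sum_congr rfl (fun x _ => h1 x),
      Equiv.sum_comp (CSet.equiv G) (fun B : Finset G => if ((∀ b ∈ B, b ∈ A) ∧ B.Nonempty) then
            ((Nat.card (dadeN L B) : ℂ) / (Nat.card L : ℂ)) *
              ((-1 : ℂ) ^ (B.card + 1) * expE L H α χ B) else 0), ← Finset.sum_filter]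
  rw [hmain]
  exact hΘ

end Cfsg.Agent.Helper24.DadeExp
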