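import Mathlib
import Cfsg.Prelude.Def_Characters
import Cfsg.Prelude.Def_OddOrderChar
import Cfsg.Agent.Helper24.DadeFinal
import Cfsg.Agent.Helper24.Regular
import Cfsg.Agent.Helper24.Linear
import Cfsg.Agent.Helper8.Subcoherent
import Cfsg.Agent.Helper8.InducedSet
import Cfsg.Agent.Helper12.NormTwoChar

/-!
# The Dade image of `χ - χ̄`
-/

set_option autoImplicit false

namespace Cfsg.Agent.Helper24.DadeExp

open Classical
open scoped ComplexConjugate
open Cfsg.Agent.Helper8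

universe u

variable {G : Type u} [Group G] {A : Set G} {L : Subgroup G} {H : G → Subgroup G}

theorem dadeIsometry_conjFun (α : L → ℂ) :
    Cfsg.conjFun (dadeIsometry A L H α) = dadeIsometry A L H (Cfsg.conjFun α) := by
  funext g
  unfold Cfsg.conjFun dadeIsometry
  split_ifs with h
  · rfl
  · exact map_zero _

theorem dadeIsometry_neg (α : L → ℂ) :
    dadeIsometry A L H (-α) = - dadeIsometry A L H α := by
  funext g
  show dadeIsometry A L H (-α) g = - dadeIsometry A L H α g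
  unfold dadeIsometry
  split_ifs with h
  · rfl
  · exact neg_zero.symm

theorem dadeIsometry_zero : dadeIsometry A L H (0 : L → ℂ) = 0 := by
  funext g
  unfold dadeIsometry
  split_ifs with h
  · rfl
  · rfl

theorem dadeIsometry_one [Finite G] (hD : Cfsg.DadeHypothesis A L H) (α : L → ℂ) :
    dadeIsometry A L H α 1 = 0 := by
  apply dadeIsometry_eq_zero
  rintro ⟨a, ha, u, hu, x, hx⟩
  obtain ⟨k, hk, -⟩ := dade_pow hD ha hu ha hu
  have h1 : a * u = 1 := by rw [← hx]; group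
  rw [h1, one_pow] at hk
  rw [← hk] at ha
  exact hD.one_not_mem ha

/-- **Peterfalvi (2.8)-type statement**: the Dade image of `χ - χ̄`. -/
theorem dade_irr_sub_conj [Fintype G] [Fintype L] (hD : Cfsg.DadeHypothesis A L H) (χ : L → ℂ)
    (hχ : IsIrrCharacter L χ) (hsupp : ∀ x : L, x ≠ 1 → (x : G) ∉ A → χ x = 0) :
    ∃ μ : G → ℂ, IsIrrCharacter G μ ∧
      dadeIsometry A L H (χ - Cfsg.conjFun χ) = μ - Cfsg.conjFun μ := by
  have hχ' : IsIrrCharacter L (Cfsg.conjFun χ) := isIrrCharacter_conjFun_of_irr hχ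
  by_cases hreal : Cfsg.conjFun χ = χ
  · refine ⟨fun _ => 1, isIrrCharacter_const_one, ?_⟩
    rw [hreal, sub_self, dadeIsometry_zero]
    funext g
    simp [Cfsg.conjFun]
  set β : L → ℂ := χ - Cfsg.conjFun χ with hβ
  have hβgen : IsGeneralizedCharacter L β :=
    IsGeneralizedCharacter.sub (IsIrrCharacter.isGeneralizedCharacter hχ)
      (IsIrrCharacter.isGeneralizedCharacter hχ')
  have hβc : IsClassFunction L β := IsGeneralizedCharacter.isClassFunction hβgen
  have hβA : ∀ x : L, (x : G) ∉ A → β x = 0 := by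
    intro x hx
    by_cases h1 : x = 1
    · obtain ⟨n, -, hn⟩ := isIrrCharacter_one hχ
      rw [h1, hβ]
      simp [Cfsg.conjFun, hn]
    · rw [hβ]
      simp [Cfsg.conjFun, hsupp x h1 hx]
  set T := dadeIsometry A L H β with hT
  have hTgen : IsGeneralizedCharacter G T := dade_isGeneralizedCharacter hD β hβgen hβA
  -- norm two
  have hnorm : classInner T T = 2 := by
    rw [hT, (Cfsg.Agent.S1500.result A L H hD β hβc hβA).1 β hβc hβA, hβ]
    rw [Helper24.classInner_sub_left, Helper24.classInner_sub_right, Helper24.classInner_sub_right,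
      classInner_of_isIrrCharacter hχ hχ, classInner_of_isIrrCharacter hχ hχ',
      classInner_of_isIrrCharacter hχ' hχ, classInner_of_isIrrCharacter hχ' hχ']
    rw [if_pos rfl, if_pos rfl, if_neg (fun h => hreal h.symm), if_neg hreal]
    norm_num
  obtain ⟨a, b, sa, sb, hab, hsa, hsb, hTab⟩ := Helper12.exists_signed_pair_of_norm_two hTgen hnorm
  -- value at one
  have hT1 : T 1 = 0 := dadeIsometry_one hD β
  obtain ⟨na, hna, hna1⟩ := isIrrCharacter_one a.2
  obtain ⟨nb, hnb, hnb1⟩ := isIrrCharacter_one b.2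
  have h1 : (sa : ℂ) * na + (sb : ℂ) * nb = 0 := by
    have := congrFun hTab 1
    rw [hT1] at this
    simp only [Pi.add_apply, Pi.smul_apply, smul_eq_mul, hna1, hnb1] at this
    exact this.symm
  have h1' : sa * (na : ℤ) + sb * (nb : ℤ) = 0 := by exact_mod_cast h1
  -- conjugation
  have hconjT : Cfsg.conjFun T = -T := by
    rw [hT, dadeIsometry_conjFun, ← dadeIsometry_neg]
    congr 1
    rw [hβ]
    funext x
    simp [Cfsg.conjFun]
  -- reduce to `T = μ₁ - μ₂`
  have key : ∀ (μ₁ μ₂ : IrrCharacter G), μ₁ ≠ μ₂ → T = (μ₁ : G → ℂ) - (μ₂ : G → ℂ) →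
      ∃ μ : G → ℂ, IsIrrCharacter G μ ∧ T = μ - Cfsg.conjFun μ := by
    intro μ₁ μ₂ hne hTμ
    have hμ₁' : IsIrrCharacter G (Cfsg.conjFun (μ₁ : G → ℂ)) := isIrrCharacter_conjFun_of_irr μ₁.2
    have hμ₂' : IsIrrCharacter G (Cfsg.conjFun (μ₂ : G → ℂ)) := isIrrCharacter_conjFun_of_irr μ₂.2
    have hne' : (μ₁ : G → ℂ) ≠ (μ₂ : G → ℂ) := fun h => hne (Subtype.ext h)
    have h2 : (μ₁ : G → ℂ) - (μ₂ : G → ℂ)
        = Cfsg.conjFun (μ₂ : G → ℂ) - Cfsg.conjFun (μ₁ : G → ℂ) := by
      have h3 : Cfsg.conjFun T = Cfsg.conjFun (μ₁ : G → ℂ) - Cfsg.conjFun (μ₂ : G → ℂ) := by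
        rw [hTμ]; funext x; simp [Cfsg.conjFun]
      rw [hconjT, hTμ] at h3
      have : (μ₁ : G → ℂ) - (μ₂ : G → ℂ) = -(-((μ₁ : G → ℂ) - (μ₂ : G → ℂ))) := by simp
      rw [this, h3]; simp
    have h4 : classInner ((μ₁ : G → ℂ) - (μ₂ : G → ℂ)) (μ₁ : G → ℂ)
        = classInner (Cfsg.conjFun (μ₂ : G → ℂ) - Cfsg.conjFun (μ₁ : G → ℂ)) (μ₁ : G → ℂ) := by
      rw [h2]
    rw [Helper24.classInner_sub_left, Helper24.classInner_sub_left,
      classInner_of_isIrrCharacter μ₁.2 μ₁.2, classInner_of_isIrrCharacter μ₂.2 μ₁.2,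
      classInner_of_isIrrCharacter hμ₂' μ₁.2, classInner_of_isIrrCharacter hμ₁' μ₁.2,
      if_pos rfl, if_neg (fun h => hne' h.symm)] at h4
    have h5 : Cfsg.conjFun (μ₂ : G → ℂ) = (μ₁ : G → ℂ) := by
      by_contra hcon
      rw [if_neg hcon] at h4
      by_cases h6 : Cfsg.conjFun (μ₁ : G → ℂ) = (μ₁ : G → ℂ)
      · rw [if_pos h6] at h4; norm_num at h4
      · rw [if_neg h6] at h4; norm_num at h4
    refine ⟨μ₁, μ₁.2, ?_⟩
    rw [hTμ, ← h5, Helper8.conjFun_conjFun]
  rcases hsa with rfl | rfl <;> rcases hsb with rfl | rfl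
  · exfalso
    have : (0 : ℤ) < na := by exact_mod_cast hna
    have : (0 : ℤ) < nb := by exact_mod_cast hnb
    linarith
  · apply key a b hab
    rw [hTab]; simp [sub_eq_add_neg]
  · apply key b a hab.symm
    rw [hTab]; simp [sub_eq_add_neg, add_comm]
  · exfalso
    have : (0 : ℤ) < na := by exact_mod_cast hna
    have : (0 : ℤ) < nb := by exact_mod_cast hnb
    linarith

end Cfsg.Agent.Helper24.DadeExp
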