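import Mathlib

/-!
Linear algebra of finite-order endomorphisms of a two-dimensional complex vector space:
diagonalisation, the two eigenlines of a non-scalar element, trace and determinant.
-/

set_option autoImplicit false

namespace Cfsg.Agent.Helper24.Deg2

open Module Polynomial

variable {V : Type*} [AddCommGroup V] [Module ℂ V]

/-- A finite-order endomorphism is semisimple. -/
theorem isSemisimple_of_pow_eq_one [FiniteDimensional ℂ V] {M : Module.End ℂ V} {m : ℕ}
    (hm : 0 < m) (hM : M ^ m = 1) : M.IsSemisimple := by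
  have hsq : Squarefree (X ^ m - C (1 : ℂ)) :=
    (separable_X_pow_sub_C (1 : ℂ) (by exact_mod_cast hm.ne') one_ne_zero).squarefree
  apply Module.End.isSemisimple_of_squarefree_aeval_eq_zero hsq
  simp [hM]

/-- A finite-order endomorphism of a plane with an eigenvector has a complementary
eigenvector. -/
theorem exists_compl_eigen [FiniteDimensional ℂ V] {M : Module.End ℂ V} {m : ℕ} (hm : 0 < m)
    (hM : M ^ m = 1) (h2 : finrank ℂ V = 2) {v : V} (hv : v ≠ 0) {a : ℂ} (hva : M v = a • v) :
    ∃ (v' : V) (b : ℂ), LinearIndependent ℂ ![v, v'] ∧ M v' = b • v' := by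
  have hss := isSemisimple_of_pow_eq_one hm hM
  rw [Module.End.isSemisimple_iff] at hss
  have hp : Submodule.span ℂ {v} ∈ Module.End.invtSubmodule M := by
    rw [Module.End.mem_invtSubmodule]
    intro x hx
    rw [Submodule.mem_span_singleton] at hx
    obtain ⟨c, rfl⟩ := hx
    rw [Submodule.mem_comap, map_smul, hva, Submodule.mem_span_singleton]
    exact ⟨c * a, by rw [mul_smul]⟩
  obtain ⟨q, hq, hc⟩ := hss _ hp
  have hfr : finrank ℂ (Submodule.span ℂ {v}) + finrank ℂ q = 2 := by
    rw [← h2]; exact Submodule.finrank_add_eq_of_isCompl hc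
  rw [finrank_span_singleton hv] at hfr
  have hq1 : finrank ℂ q = 1 := by omega
  obtain ⟨⟨v', hv'q⟩, hv'0, hv'span⟩ := finrank_eq_one_iff'.mp hq1
  have hv'ne : v' ≠ 0 := fun h => hv'0 (Subtype.ext h)
  rw [Module.End.mem_invtSubmodule] at hq
  have hMv' : M v' ∈ q := hq hv'q
  obtain ⟨b, hb⟩ := hv'span ⟨M v', hMv'⟩
  have hb' : M v' = b • v' := by
    have := congrArg Subtype.val hb
    simpa using this.symm
  refine ⟨v', b, ?_, hb'⟩
  rw [LinearIndependent.pair_iff]
  intro s t hst
  have h1 : s • v ∈ Submodule.span ℂ {v} := Submodule.smul_mem _ _ (Submodule.mem_span_singleton_self v)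
  have h2' : s • v ∈ q := by
    have : s • v = -(t • v') := eq_neg_of_add_eq_zero_left hst
    rw [this]
    exact q.neg_mem (q.smul_mem _ hv'q)
  have h0 : s • v = 0 := by
    have := hc.disjoint.le_bot ⟨h1, h2'⟩
    simpa using this
  have hs : s = 0 := by
    rcases smul_eq_zero.mp h0 with h | h
    · exact h
    · exact absurd h hv
  refine ⟨hs, ?_⟩
  rw [hs, zero_smul, zero_add] at hst
  rcases smul_eq_zero.mp hst with h | h
  · exact h
  · exact absurd h hv'ne

/-- the basis attached to an independent pair in a plane -/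
noncomputable def pairBasis [FiniteDimensional ℂ V] (h2 : finrank ℂ V = 2) {v v' : V}
    (hli : LinearIndependent ℂ ![v, v']) : Basis (Fin 2) ℂ V :=
  basisOfLinearIndependentOfCardEqFinrank hli (by simp [h2])

theorem pairBasis_zero [FiniteDimensional ℂ V] (h2 : finrank ℂ V = 2) {v v' : V}
    (hli : LinearIndependent ℂ ![v, v']) : pairBasis h2 hli 0 = v := by
  simp [pairBasis]

theorem pairBasis_one [FiniteDimensional ℂ V] (h2 : finrank ℂ V = 2) {v v' : V}
    (hli : LinearIndependent ℂ ![v, v']) : pairBasis h2 hli 1 = v' := by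
  simp [pairBasis]

theorem exists_coord [FiniteDimensional ℂ V] (h2 : finrank ℂ V = 2) {v v' : V}
    (hli : LinearIndependent ℂ ![v, v']) (u : V) : ∃ x y : ℂ, u = x • v + y • v' := by
  refine ⟨(pairBasis h2 hli).repr u 0, (pairBasis h2 hli).repr u 1, ?_⟩
  conv_lhs => rw [← (pairBasis h2 hli).sum_repr u]
  rw [Fin.sum_univ_two, pairBasis_zero, pairBasis_one]

theorem eq_smul_of_pair [FiniteDimensional ℂ V] (h2 : finrank ℂ V = 2) {M : Module.End ℂ V}
    {v v' : V} (hli : LinearIndependent ℂ ![v, v']) {a : ℂ} (hv : M v = a • v)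
    (hv' : M v' = a • v') : M = a • (1 : Module.End ℂ V) := by
  apply (pairBasis h2 hli).ext
  intro i
  fin_cases i
  · simp [pairBasis_zero, hv]
  · simp [pairBasis_one, hv']

theorem repr_pair_zero [FiniteDimensional ℂ V] (h2 : finrank ℂ V = 2) {v v' : V}
    (hli : LinearIndependent ℂ ![v, v']) : (pairBasis h2 hli).repr v = Finsupp.single 0 1 := by
  have := (pairBasis h2 hli).repr_self 0
  rwa [pairBasis_zero] at this

theorem repr_pair_one [FiniteDimensional ℂ V] (h2 : finrank ℂ V = 2) {v v' : V}
    (hli : LinearIndependent ℂ ![v, v']) : (pairBasis h2 hli).repr v' = Finsupp.single 1 1 := by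
  have := (pairBasis h2 hli).repr_self 1
  rwa [pairBasis_one] at this

theorem toMatrix_pair [FiniteDimensional ℂ V] (h2 : finrank ℂ V = 2) {M : Module.End ℂ V}
    {v v' : V} (hli : LinearIndependent ℂ ![v, v']) {a b : ℂ} (hv : M v = a • v)
    (hv' : M v' = b • v') :
    LinearMap.toMatrix (pairBasis h2 hli) (pairBasis h2 hli) M = !![a, 0; 0, b] := by
  ext i j
  rw [LinearMap.toMatrix_apply]
  fin_cases j
  · simp only [Fin.zero_eta, pairBasis_zero, hv, map_smul, repr_pair_zero]
    fin_cases i <;> simp
  · simp only [Fin.mk_one, pairBasis_one, hv', map_smul, repr_pair_one]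
    fin_cases i <;> simp

theorem trace_pair [FiniteDimensional ℂ V] (h2 : finrank ℂ V = 2) {M : Module.End ℂ V}
    {v v' : V} (hli : LinearIndependent ℂ ![v, v']) {a b : ℂ} (hv : M v = a • v)
    (hv' : M v' = b • v') : LinearMap.trace ℂ V M = a + b := by
  rw [LinearMap.trace_eq_matrix_trace ℂ (pairBasis h2 hli), toMatrix_pair h2 hli hv hv',
    Matrix.trace_fin_two_of]

theorem det_pair [FiniteDimensional ℂ V] (h2 : finrank ℂ V = 2) {M : Module.End ℂ V}
    {v v' : V} (hli : LinearIndependent ℂ ![v, v']) {a b : ℂ} (hv : M v = a • v)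
    (hv' : M v' = b • v') : LinearMap.det M = a * b := by
  rw [← LinearMap.det_toMatrix (pairBasis h2 hli), toMatrix_pair h2 hli hv hv',
    Matrix.det_fin_two_of]
  ring

theorem eigen_of_pair {M : Module.End ℂ V}
    {v v' : V} (hli : LinearIndependent ℂ ![v, v']) {a b : ℂ} (hab : a ≠ b) (hv : M v = a • v)
    (hv' : M v' = b • v') {x y c : ℂ} (hu : M (x • v + y • v') = c • (x • v + y • v')) :
    x = 0 ∨ y = 0 := by
  rw [map_add, map_smul, map_smul, hv, hv', smul_add] at hu
  have h0 : (x * a - c * x) • v + (y * b - c * y) • v' = 0 := by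
    linear_combination (norm := module) hu
  have h1 := (LinearIndependent.pair_iff.mp hli) _ _ h0
  by_contra hcon
  push Not at hcon
  obtain ⟨hx, hy⟩ := hcon
  have e1 : a = c := by
    have : x * (a - c) = 0 := by linear_combination h1.1
    rcases mul_eq_zero.mp this with h | h
    · exact absurd h hx
    · exact sub_eq_zero.mp h
  have e2 : b = c := by
    have : y * (b - c) = 0 := by linear_combination h1.2
    rcases mul_eq_zero.mp this with h | h
    · exact absurd h hy
    · exact sub_eq_zero.mp h
  exact hab (e1.trans e2.symm)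

end Cfsg.Agent.Helper24.Deg2
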