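import Cfsg.Agent.Helper24.Deg2Klein
import Cfsg.Agent.Helper24.SylowInduced
import Cfsg.Agent.Helper24.Linear

/-!
Faithful primitive irreducible characters of degree two: the central quotient is `A₄`, `S₄`
or `A₅`.
-/

set_option autoImplicit false

namespace Cfsg.Agent.Helper24.Deg2

open Module MulAction Cfsg
open scoped LinearAlgebra.Projectivization

universe u v

variable {V : Type v} [AddCommGroup V] [Module ℂ V]
variable {G : Type u} [Group G]

/-- an irreducible plane has no invariant line -/
theorem no_invariant_line [FiniteDimensional ℂ V] (h2 : finrank ℂ V = 2)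
    (ρ : Representation ℂ G V) [hirr : ρ.IsIrreducible] {v : V} (hv : v ≠ 0)
    (h : ∀ g : G, ∃ c : ℂ, ρ g v = c • v) : False := by
  let W : Subrepresentation ρ :=
    { toSubmodule := Submodule.span ℂ {v}
      apply_mem_toSubmodule := by
        intro g w hw
        rw [Submodule.mem_span_singleton] at hw ⊢
        obtain ⟨a, rfl⟩ := hw
        obtain ⟨c, hc⟩ := h g
        exact ⟨a * c, by rw [map_smul, hc, mul_smul]⟩ }
  rcases hirr.eq_bot_or_eq_top W with hW | hW
  · have : v ∈ W.toSubmodule := Submodule.mem_span_singleton_self v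
    rw [hW] at this
    have this' : v ∈ (⊥ : Submodule ℂ V) := this
    exact hv (by simpa using this')
  · have h1 : finrank ℂ W.toSubmodule = 1 := finrank_span_singleton hv
    rw [hW] at h1
    have : finrank ℂ (⊤ : Subrepresentation ρ).toSubmodule = 2 := by
      show finrank ℂ (⊤ : Submodule ℂ V) = 2
      rw [finrank_top, h2]
    omega

/-- the second eigenvalue character of the stabiliser of a point -/
noncomputable def muHom (ρ : Representation ℂ G V) {v : V} (hv : v ≠ 0) :
    stabilizer G (PLine.mk ρ v hv) →* ℂ :=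
  (Units.coeHom ℂ).comp
    (((LinearMap.det : Module.End ℂ V →* ℂ).comp
      ((ρ : G →* Module.End ℂ V).comp (stabilizer G (PLine.mk ρ v hv)).subtype)).toHomUnits /
        (lamHom ρ hv).toHomUnits)

theorem muHom_apply (ρ : Representation ℂ G V) {v : V} (hv : v ≠ 0)
    (s : stabilizer G (PLine.mk ρ v hv)) :
    muHom ρ hv s = LinearMap.det (ρ (s : G)) / eig ρ v (s : G) := by
  unfold muHom
  simp only [MonoidHom.comp_apply, MonoidHom.div_apply, Units.coeHom_apply, Units.val_div_eq_div_val,
    MonoidHom.coe_toHomUnits, lamHom_apply, Subgroup.subtype_apply]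

theorem character_eq_lam_add_mu [Finite G] [FiniteDimensional ℂ V] (h2 : finrank ℂ V = 2)
    (ρ : Representation ℂ G V) {v : V} (hv : v ≠ 0) (s : stabilizer G (PLine.mk ρ v hv)) :
    ρ.character (s : G) = lamHom ρ hv s + muHom ρ hv s := by
  have hfix := (mem_stabilizer_mk_iff ρ hv _).mp s.2
  obtain ⟨b, htr, hdet, -⟩ := trace_det_of_fixed h2 ρ hv (isOfFinOrder_of_finite (s : G)) hfix
  have hne := eig_ne_zero ρ hv hfix
  rw [muHom_apply, lamHom_apply, htr, hdet, mul_div_cancel_left₀ _ hne]

/-- a plane representation with a point stabiliser of index two is induced -/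
theorem induced_of_index_two [Fintype G] [FiniteDimensional ℂ V] (h2 : finrank ℂ V = 2)
    (ρ : Representation ℂ G V) (χ : IrrCharacter G) (hχ : ρ.character = (χ : G → ℂ))
    {v : V} (hv : v ≠ 0) (hidx : (stabilizer G (PLine.mk ρ v hv)).index = 2) :
    ∃ θ : stabilizer G (PLine.mk ρ v hv) → ℂ, IsCharacter (stabilizer G (PLine.mk ρ v hv)) θ ∧
      (χ : G → ℂ) = indFun (stabilizer G (PLine.mk ρ v hv)) θ := by
  classical
  haveI : Fintype (IrrCharacter G) := Fintype.ofFinite _
  set A := stabilizer G (PLine.mk ρ v hv) with hA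
  haveI : Fintype A := Fintype.ofFinite _
  refine ⟨fun a => lamHom ρ hv a, Cfsg.Agent.Helper24.isCharacter_of_monoidHom _, ?_⟩
  symm
  apply Cfsg.Agent.Helper24.IsCharacter.eq_irr_of_constituent_of_deg
    (Cfsg.Agent.Helper24.isCharacter_indFun _ (Cfsg.Agent.Helper24.isCharacter_of_monoidHom _)) χ
  · rw [Cfsg.Agent.Helper8.frobenius_reciprocity _ _ _ (Cfsg.Agent.Helper24.isClassFunction_irr χ)]
    have hres : (fun a : A => (χ : G → ℂ) a) =
        (fun a : A => lamHom ρ hv a) + (fun a : A => muHom ρ hv a) := by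
      funext a
      rw [← hχ]
      exact character_eq_lam_add_mu h2 ρ hv a
    rw [hres, Cfsg.Agent.Helper24.classInner_add_right,
      Cfsg.Agent.Helper24.classInner_of_isIrrCharacter
        (Cfsg.Agent.Helper24.isIrrCharacter_of_monoidHom (lamHom ρ hv))
        (Cfsg.Agent.Helper24.isIrrCharacter_of_monoidHom (lamHom ρ hv)),
      Cfsg.Agent.Helper24.classInner_of_isIrrCharacter
        (Cfsg.Agent.Helper24.isIrrCharacter_of_monoidHom (lamHom ρ hv))
        (Cfsg.Agent.Helper24.isIrrCharacter_of_monoidHom (muHom ρ hv)), if_pos rfl]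
    split_ifs <;> norm_num
  · rw [Cfsg.Agent.Helper5.indFun_apply_one, hidx, map_one, ← hχ]
    unfold Representation.character
    rw [map_one, Module.End.one_eq_id, LinearMap.trace_id, h2]
    norm_num

theorem card_alt_four : Nat.card (alternatingGroup (Fin 4)) = 12 := by
  have h := two_mul_card_alternatingGroup (α := Fin 4)
  rw [Fintype.card_perm, Fintype.card_fin] at h
  rw [Nat.card_eq_fintype_card]
  have : (4 : ℕ).factorial = 24 := by decide
  omega

theorem card_alt_five : Nat.card (alternatingGroup (Fin 5)) = 60 := by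
  have h := two_mul_card_alternatingGroup (α := Fin 5)
  rw [Fintype.card_perm, Fintype.card_fin] at h
  rw [Nat.card_eq_fintype_card]
  have : (5 : ℕ).factorial = 120 := by decide
  omega

theorem card_perm_four : Nat.card (Equiv.Perm (Fin 4)) = 24 := by
  rw [Nat.card_eq_fintype_card, Fintype.card_perm, Fintype.card_fin]
  decide

theorem center_index_of_primitive [Fintype G] [FiniteDimensional ℂ V] (h2 : finrank ℂ V = 2)
    (ρ : Representation ℂ G V) [ρ.IsIrreducible] (hinj : Function.Injective ρ)
    (χ : IrrCharacter G) (hχ : ρ.character = (χ : G → ℂ))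
    (hprim : ∀ H : Subgroup G, H ≠ ⊤ → ∀ θ : H → ℂ, IsCharacter H θ →
      (χ : G → ℂ) ≠ indFun H θ) :
    (Subgroup.center G).index = 12 ∨ (Subgroup.center G).index = 24 ∨
      (Subgroup.center G).index = 60 := by
  haveI : Finite (XQ ρ) := finite_XSub h2 ρ hinj
  have hidx : (Subgroup.center G).index = Nat.card (G ⧸ Subgroup.center G) :=
    Subgroup.index_eq_card _
  rcases Cfsg.Agent.Helper18.Klein.klein_main (twoFix h2 ρ hinj)
    (isCyclic_stabilizer h2 ρ hinj) with hcyc | ⟨x, hx, -⟩ | ⟨⟨e⟩⟩ | ⟨⟨e⟩⟩ | ⟨⟨e⟩⟩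
  · exfalso
    have hcomm : ∀ a b : G, a * b = b * a :=
      commutative_of_cyclic_center_quotient (QuotientGroup.mk' (Subgroup.center G)) (by simp)
    haveI : Nontrivial V := Module.nontrivial_of_finrank_pos (R := ℂ) (by omega)
    obtain ⟨v, hv⟩ := exists_ne (0 : V)
    apply no_invariant_line h2 ρ hv
    intro g
    have hg : g ∈ Subgroup.center G := by
      rw [Subgroup.mem_center_iff]
      intro h
      exact hcomm h g
    obtain ⟨c, hc⟩ := scalar_of_mem_center ρ hg
    exact ⟨c, by rw [hc]; simp⟩
  · exfalso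
    obtain ⟨v, hv, hxv⟩ := PLine.exists_rep ρ x.pt
    have hstab : (stabilizer (G ⧸ Subgroup.center G) x).index = 2 := by
      have := Subgroup.index_mul_card (stabilizer (G ⧸ Subgroup.center G) x)
      rw [hx] at this
      have hpos : 0 < Nat.card (stabilizer (G ⧸ Subgroup.center G) x) := Nat.card_pos
      nlinarith
    have hcomap : (stabilizer (G ⧸ Subgroup.center G) x).comap
        (QuotientGroup.mk' (Subgroup.center G)) = stabilizer G (PLine.mk ρ v hv) := by
      ext g
      rw [Subgroup.mem_comap, mem_stabilizer_iff, mem_stabilizer_iff, ← hxv]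
      constructor
      · intro h
        have := congrArg XQ.pt h
        rwa [QuotientGroup.mk'_apply, XQ.mk_smul_pt] at this
      · intro h
        apply XQ.pt_injective
        rw [QuotientGroup.mk'_apply, XQ.mk_smul_pt]
        exact h
    have hA : (stabilizer G (PLine.mk ρ v hv)).index = 2 := by
      rw [← hcomap, Subgroup.index_comap_of_surjective _ (QuotientGroup.mk'_surjective _), hstab]
    obtain ⟨θ, hθ, hind⟩ := induced_of_index_two h2 ρ χ hχ hv hA
    refine hprim _ ?_ θ hθ hind
    intro htop
    rw [htop, Subgroup.index_top] at hA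
    omega
  · left
    rw [hidx, Nat.card_congr e.toEquiv, card_alt_four]
  · right; left
    rw [hidx, Nat.card_congr e.toEquiv, card_perm_four]
  · right; right
    rw [hidx, Nat.card_congr e.toEquiv, card_alt_five]

end Cfsg.Agent.Helper24.Deg2
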