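import Cfsg.Agent.Helper24.Deg2Lin
import Cfsg.Agent.Helper24.CharBasic

/-!
The action of a finite group on the projective line through a two-dimensional complex
representation: fixed points of non-scalar elements and the eigenvalue characters of a point
stabiliser.
-/

set_option autoImplicit false

namespace Cfsg.Agent.Helper24.Deg2

open Module Polynomial MulAction
open scoped LinearAlgebra.Projectivization

variable {V : Type*} [AddCommGroup V] [Module ℂ V]
variable {G : Type*} [Group G]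

/-- the projective space of `V` with `G` acting through `ρ` -/
def PLine (_ρ : Representation ℂ G V) : Type _ := ℙ ℂ V

noncomputable instance (ρ : Representation ℂ G V) : MulAction G (PLine ρ) :=
  MulAction.compHom (ℙ ℂ V) ρ.asGroupHom

/-- the point of a non-zero vector -/
noncomputable def PLine.mk (ρ : Representation ℂ G V) (v : V) (hv : v ≠ 0) : PLine ρ :=
  Projectivization.mk ℂ v hv

theorem apply_ne_zero (ρ : Representation ℂ G V) (g : G) {v : V} (hv : v ≠ 0) : ρ g v ≠ 0 := by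
  intro h
  apply hv
  have : ρ g⁻¹ (ρ g v) = v := by
    rw [← Module.End.mul_apply, ← map_mul, inv_mul_cancel, map_one, Module.End.one_apply]
  rw [← this, h, map_zero]

theorem PLine.smul_mk (ρ : Representation ℂ G V) (g : G) {v : V} (hv : v ≠ 0) :
    g • PLine.mk ρ v hv = PLine.mk ρ (ρ g v) (apply_ne_zero ρ g hv) := by
  rfl

theorem PLine.mk_eq_mk_iff (ρ : Representation ℂ G V) {v w : V} (hv : v ≠ 0) (hw : w ≠ 0) :
    PLine.mk ρ v hv = PLine.mk ρ w hw ↔ ∃ a : ℂ, a ≠ 0 ∧ a • w = v := by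
  have key : (Projectivization.mk ℂ v hv = Projectivization.mk ℂ w hw) ↔
      ∃ a : ℂˣ, a • w = v := Projectivization.mk_eq_mk_iff ℂ v w hv hw
  refine Iff.trans (show _ ↔ _ from key) ?_
  constructor
  · rintro ⟨a, ha⟩
    exact ⟨(a : ℂ), a.ne_zero, ha⟩
  · rintro ⟨a, ha, h⟩
    exact ⟨Units.mk0 a ha, h⟩

theorem PLine.exists_rep (ρ : Representation ℂ G V) (p : PLine ρ) :
    ∃ (v : V) (hv : v ≠ 0), p = PLine.mk ρ v hv := by
  refine ⟨Projectivization.rep p, Projectivization.rep_nonzero p, ?_⟩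
  exact (Projectivization.mk_rep p).symm

/-- a point is fixed exactly when its vectors are eigenvectors -/
theorem PLine.smul_mk_eq_iff (ρ : Representation ℂ G V) (g : G) {v : V} (hv : v ≠ 0) :
    g • PLine.mk ρ v hv = PLine.mk ρ v hv ↔ ∃ c : ℂ, ρ g v = c • v := by
  rw [PLine.smul_mk, PLine.mk_eq_mk_iff]
  constructor
  · rintro ⟨a, -, h⟩
    exact ⟨a, h.symm⟩
  · rintro ⟨c, h⟩
    refine ⟨c, ?_, h.symm⟩
    rintro rfl
    rw [zero_smul] at h
    exact apply_ne_zero ρ g hv h

/-- a scalar element fixes every point -/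
theorem PLine.smul_eq_of_scalar (ρ : Representation ℂ G V) (g : G) {c : ℂ}
    (h : ρ g = c • (1 : Module.End ℂ V)) (p : PLine ρ) : g • p = p := by
  obtain ⟨v, hv, rfl⟩ := PLine.exists_rep ρ p
  rw [PLine.smul_mk_eq_iff]
  exact ⟨c, by rw [h]; simp⟩

/-- a non-scalar element of finite order has exactly two fixed points -/
theorem exists_pair_fixed [FiniteDimensional ℂ V] (h2 : finrank ℂ V = 2)
    (ρ : Representation ℂ G V) (g : G) (hfin : IsOfFinOrder g)
    (hns : ∀ c : ℂ, ρ g ≠ c • (1 : Module.End ℂ V)) :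
    ∃ p q : PLine ρ, p ≠ q ∧ ∀ r : PLine ρ, g • r = r ↔ r = p ∨ r = q := by
  have hm : 0 < orderOf g := hfin.orderOf_pos
  have hM : (ρ g) ^ orderOf g = 1 := Cfsg.Agent.Helper24.rho_pow_orderOf ρ g
  haveI : Nontrivial V := Module.nontrivial_of_finrank_pos (R := ℂ) (by omega)
  obtain ⟨a, ha⟩ := Module.End.exists_eigenvalue (ρ g)
  obtain ⟨v, hv⟩ := ha.exists_hasEigenvector
  have hv0 : v ≠ 0 := hv.2
  have hva : ρ g v = a • v := hv.apply_eq_smul
  obtain ⟨v', b, hli, hvb⟩ := exists_compl_eigen hm hM h2 hv0 hva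
  have hv'0 : v' ≠ 0 := by
    have := hli.ne_zero 1
    simpa using this
  have hab : a ≠ b := by
    rintro rfl
    exact hns a (eq_smul_of_pair h2 hli hva hvb)
  refine ⟨PLine.mk ρ v hv0, PLine.mk ρ v' hv'0, ?_, ?_⟩
  · rw [Ne, PLine.mk_eq_mk_iff]
    rintro ⟨c, -, hc⟩
    have h0 : (-1 : ℂ) • v + c • v' = 0 := by rw [hc]; simp
    have := (LinearIndependent.pair_iff.mp hli) _ _ h0
    exact absurd this.1 (by norm_num)
  · intro r
    obtain ⟨u, hu, rfl⟩ := PLine.exists_rep ρ r
    rw [PLine.smul_mk_eq_iff, PLine.mk_eq_mk_iff, PLine.mk_eq_mk_iff]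
    obtain ⟨x, y, rfl⟩ := exists_coord h2 hli u
    constructor
    · rintro ⟨c, hc⟩
      rcases eigen_of_pair hli hab hva hvb hc with h | h
      · right
        subst h
        rw [zero_smul, zero_add] at hu ⊢
        refine ⟨y, ?_, rfl⟩
        rintro rfl
        exact hu (zero_smul _ _)
      · left
        subst h
        rw [zero_smul, add_zero] at hu ⊢
        refine ⟨x, ?_, rfl⟩
        rintro rfl
        exact hu (zero_smul _ _)
    · rintro (⟨c, -, hc⟩ | ⟨c, -, hc⟩)
      · exact ⟨a, by rw [← hc, map_smul, hva, smul_comm]⟩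
      · exact ⟨b, by rw [← hc, map_smul, hvb, smul_comm]⟩

theorem ncard_fixed [FiniteDimensional ℂ V] (h2 : finrank ℂ V = 2)
    (ρ : Representation ℂ G V) (g : G) (hfin : IsOfFinOrder g)
    (hns : ∀ c : ℂ, ρ g ≠ c • (1 : Module.End ℂ V)) :
    Set.ncard {r : PLine ρ | g • r = r} = 2 := by
  obtain ⟨p, q, hpq, h⟩ := exists_pair_fixed h2 ρ g hfin hns
  have : {r : PLine ρ | g • r = r} = {p, q} := by
    ext r
    simp only [Set.mem_setOf_eq, Set.mem_insert_iff, Set.mem_singleton_iff]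
    exact h r
  rw [this, Set.ncard_pair hpq]

/-- the eigenvalue of `g` on the vector `v` (zero when `v` is not an eigenvector) -/
noncomputable def eig (ρ : Representation ℂ G V) (v : V) (g : G) : ℂ :=
  open Classical in if h : ∃ c : ℂ, ρ g v = c • v then h.choose else 0

theorem eig_spec (ρ : Representation ℂ G V) {v : V} {g : G} (h : ∃ c : ℂ, ρ g v = c • v) :
    ρ g v = eig ρ v g • v := by
  unfold eig
  rw [dif_pos h]
  exact h.choose_spec

theorem eig_eq (ρ : Representation ℂ G V) {v : V} (hv : v ≠ 0) {g : G} {c : ℂ}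
    (h : ρ g v = c • v) : eig ρ v g = c := by
  have h1 := eig_spec ρ ⟨c, h⟩
  rw [h] at h1
  exact (smul_left_injective ℂ hv h1).symm

theorem mem_stabilizer_mk_iff (ρ : Representation ℂ G V) {v : V} (hv : v ≠ 0) (g : G) :
    g ∈ stabilizer G (PLine.mk ρ v hv) ↔ ∃ c : ℂ, ρ g v = c • v := by
  rw [mem_stabilizer_iff, PLine.smul_mk_eq_iff]

theorem eig_one (ρ : Representation ℂ G V) {v : V} (hv : v ≠ 0) : eig ρ v 1 = 1 :=
  eig_eq ρ hv (by simp)

theorem eig_mul (ρ : Representation ℂ G V) {v : V} (hv : v ≠ 0) {g h : G}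
    (hg : ∃ c : ℂ, ρ g v = c • v) (hh : ∃ c : ℂ, ρ h v = c • v) :
    eig ρ v (g * h) = eig ρ v g * eig ρ v h := by
  apply eig_eq ρ hv
  rw [map_mul, Module.End.mul_apply, eig_spec ρ hh, map_smul, eig_spec ρ hg, smul_smul, mul_comm]

/-- the eigenvalue character of the stabiliser of a point -/
noncomputable def lamHom (ρ : Representation ℂ G V) {v : V} (hv : v ≠ 0) :
    stabilizer G (PLine.mk ρ v hv) →* ℂ where
  toFun s := eig ρ v (s : G)
  map_one' := eig_one ρ hv
  map_mul' s t := eig_mul ρ hv ((mem_stabilizer_mk_iff ρ hv _).mp s.2)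
    ((mem_stabilizer_mk_iff ρ hv _).mp t.2)

theorem lamHom_apply (ρ : Representation ℂ G V) {v : V} (hv : v ≠ 0)
    (s : stabilizer G (PLine.mk ρ v hv)) : lamHom ρ hv s = eig ρ v (s : G) := rfl

theorem eig_ne_zero (ρ : Representation ℂ G V) {v : V} (hv : v ≠ 0) {g : G}
    (hg : ∃ c : ℂ, ρ g v = c • v) : eig ρ v g ≠ 0 := by
  intro h
  have := eig_spec ρ hg
  rw [h, zero_smul] at this
  exact apply_ne_zero ρ g hv this

/-- trace and determinant of a finite-order element fixing a point -/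
theorem trace_det_of_fixed [FiniteDimensional ℂ V] (h2 : finrank ℂ V = 2)
    (ρ : Representation ℂ G V) {v : V} (hv : v ≠ 0) {g : G} (hfin : IsOfFinOrder g)
    (hg : ∃ c : ℂ, ρ g v = c • v) :
    ∃ b : ℂ, ρ.character g = eig ρ v g + b ∧ LinearMap.det (ρ g) = eig ρ v g * b ∧
      (b = eig ρ v g → ρ g = eig ρ v g • (1 : Module.End ℂ V)) := by
  have hm : 0 < orderOf g := hfin.orderOf_pos
  have hM : (ρ g) ^ orderOf g = 1 := Cfsg.Agent.Helper24.rho_pow_orderOf ρ g
  have hva := eig_spec ρ hg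
  obtain ⟨v', b, hli, hvb⟩ := exists_compl_eigen hm hM h2 hv hva
  refine ⟨b, trace_pair h2 hli hva hvb, det_pair h2 hli hva hvb, ?_⟩
  intro hb
  rw [hb] at hvb
  exact eq_smul_of_pair h2 hli hva hvb

end Cfsg.Agent.Helper24.Deg2
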