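import Mathlib

/-!
A Gram matrix of natural numbers with positive diagonal and the minimal possible weighted sum is
the identity matrix.
-/

namespace Cfsg.Agent.Helper24

/-- If `a i i ≥ 1` and `Σ d i d j a i j = Σ d i ^ 2` then `a` is the identity matrix on the
support of `d`. -/
theorem gram_eq_delta {ι : Type*} [Fintype ι] [DecidableEq ι] (d : ι → ℕ) (a : ι → ι → ℕ)
    (haa : ∀ i, 1 ≤ a i i)
    (hsum : ∑ i, ∑ j, d i * d j * a i j = ∑ i, d i * d i) (i j : ι) (hdi : 0 < d i)
    (hdj : 0 < d j) :
    a i j = if i = j then 1 else 0 := by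
  have hle : ∀ i ∈ (Finset.univ : Finset ι), d i * d i ≤ ∑ j, d i * d j * a i j := by
    intro i _
    calc d i * d i ≤ d i * d i * a i i := Nat.le_mul_of_pos_right _ (haa i)
      _ ≤ _ := Finset.single_le_sum (f := fun j => d i * d j * a i j)
          (fun _ _ => Nat.zero_le _) (Finset.mem_univ i)
  have heq := (Finset.sum_eq_sum_iff_of_le hle).mp hsum.symm
  have h2 := heq i (Finset.mem_univ i)
  by_cases hb : i = j
  · subst hb
    rw [if_pos rfl]
    have h3 : d i * d i * a i i ≤ d i * d i := by
      have h3' := Finset.single_le_sum (f := fun j => d i * d j * a i j)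
        (fun _ _ => Nat.zero_le _) (Finset.mem_univ i)
      rw [← h2] at h3'
      exact h3'
    have h4 : a i i ≤ 1 := by
      by_contra hcon
      push Not at hcon
      have : d i * d i * 2 ≤ d i * d i * a i i := Nat.mul_le_mul_left _ hcon
      have hpos : 0 < d i * d i := Nat.mul_pos hdi hdi
      omega
    have := haa i
    omega
  · rw [if_neg hb]
    have h3 := Finset.add_le_sum (f := fun j => d i * d j * a i j)
      (fun _ _ => Nat.zero_le _) (Finset.mem_univ i) (Finset.mem_univ j) hb
    rw [← h2] at h3
    have h4 : d i * d i ≤ d i * d i * a i i := Nat.le_mul_of_pos_right _ (haa i)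
    have h3' : d i * d i * a i i + d i * d j * a i j ≤ d i * d i := h3
    have h5 : d i * d j * a i j = 0 := by omega
    rcases Nat.mul_eq_zero.mp h5 with h6 | h6
    · have : 0 < d i * d j := Nat.mul_pos hdi hdj
      omega
    · exact h6

end Cfsg.Agent.Helper24
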