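import Mathlib
import Cfsg.Prelude.Def_Characters
import Cfsg.Agent.Helper24.GramDelta
import Cfsg.Agent.Helper24.Expansion
import Cfsg.Agent.Helper24.Induced
import Cfsg.Agent.Helper24.Regular
import Cfsg.Agent.Helper24.Artin
import Cfsg.Agent.Helper24.Product
import Cfsg.Agent.Helper8.Ind
import Cfsg.Agent.Helper8.CliffordAb
import Cfsg.Agent.Helper8.PosDef

/-!
Multiplication by an extension `χ` of `ϑ` maps `Irr(G | φ)` bijectively onto `Irr(G | φ ϑ)`
(Isaacs, Theorem 6.16).
-/

namespace Cfsg.Agent.Helper24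

universe u

section

variable {G : Type u} [Group G] [Fintype G] (N : Subgroup G) [hN : N.Normal] [Fintype N]

/-- The norm of the character induced from an invariant irreducible character. -/
theorem classInner_indFun_self_of_invariant (φ : N → ℂ) (hφ : IsIrrCharacter N φ)
    (hinv : ∀ (g : G) (n : N), φ ⟨g * n * g⁻¹, hN.conj_mem (n : G) n.2 g⟩ = φ n) :
    classInner (indFun N φ) (indFun N φ) = (N.index : ℂ) := by
  haveI : Fintype (IrrCharacter N) := Fintype.ofFinite _
  have hcf : IsClassFunction G (indFun N φ) :=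
    IsCharacter.isClassFunction (isCharacter_indFun N (IsIrrCharacter.isCharacter hφ))
  rw [Helper8.frobenius_reciprocity N _ _ hcf]
  have h1 : (fun h : N => indFun N φ (h : G)) = (N.index : ℂ) • φ := by
    funext h
    rw [Helper8.indFun_invariant_apply N _ hinv h]
    rfl
  rw [h1, classInner_smul_right, (isIrrCharacter_iff_classInner_self.mp hφ).2,
    Complex.conj_natCast, mul_one]

/-- Isaacs 6.16 (statement S0856). -/
theorem bijOn_mul_extension (φ ϑ : N → ℂ) (hφ : IsIrrCharacter N φ)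
    (hφinv : ∀ (g : G) (n : N), φ ⟨g * n * g⁻¹, hN.conj_mem (n : G) n.2 g⟩ = φ n)
    (hϑinv : ∀ (g : G) (n : N), ϑ ⟨g * n * g⁻¹, hN.conj_mem (n : G) n.2 g⟩ = ϑ n)
    (hprod : IsIrrCharacter N (φ * ϑ)) (χ : G → ℂ) (hχ : IsIrrCharacter G χ)
    (hext : ∀ n : N, χ n = ϑ n) :
    Set.BijOn (fun β : G → ℂ => β * χ)
      {β : G → ℂ | IsIrrCharacter G β ∧ classInner (indFun N φ) β ≠ 0}
      {ψ : G → ℂ | IsIrrCharacter G ψ ∧ classInner (indFun N (φ * ϑ)) ψ ≠ 0} := by
  classical
  haveI : Fintype (IrrCharacter G) := Fintype.ofFinite _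
  haveI : Fintype (IrrCharacter N) := Fintype.ofFinite _
  have hcfχ : IsClassFunction G χ := IsCharacter.isClassFunction (IsIrrCharacter.isCharacter hχ)
  obtain ⟨e, he⟩ := IsCharacter.exists_nat_coeff
    (isCharacter_indFun N (IsIrrCharacter.isCharacter hφ))
  have hcoef : ∀ β : IrrCharacter G, classInner (indFun N φ) (β : G → ℂ) = e β := by
    intro β
    rw [he]
    exact classInner_sum_irr _ β
  -- the induced character of the product
  have hprodInd : indFun N (φ * ϑ) = ∑ β : IrrCharacter G, (e β : ℂ) • ((β : G → ℂ) * χ) := by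
    have h1 := indFun_mul_restrict N φ χ hcfχ
    have h2 : (fun c : N => χ c) = ϑ := funext hext
    rw [h2] at h1
    rw [h1, he, Finset.sum_mul]
    refine Finset.sum_congr rfl ?_
    intro β _
    rw [smul_mul_assoc]
  -- sums of squares
  have hsumsq : ∑ β : IrrCharacter G, e β * e β = N.index := by
    have h1 := classInner_indFun_self_of_invariant N φ hφ hφinv
    conv_lhs at h1 => rw [he]
    rw [classInner_sum_sum] at h1
    have h2 : (∑ β : IrrCharacter G, (e β : ℂ) * (starRingEnd ℂ) (e β : ℂ)) =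
        ((∑ β : IrrCharacter G, e β * e β : ℕ) : ℂ) := by
      push_cast
      simp
    rw [h2] at h1
    exact_mod_cast h1
  -- the Gram matrix
  have hchar : ∀ β : IrrCharacter G, IsCharacter G ((β : G → ℂ) * χ) := fun β =>
    IsCharacter.mul (IsIrrCharacter.isCharacter β.2) (IsIrrCharacter.isCharacter hχ)
  have ha : ∀ β β' : IrrCharacter G, ∃ a : ℕ,
      classInner ((β : G → ℂ) * χ) ((β' : G → ℂ) * χ) = a := fun β β' =>
    IsCharacter.classInner_nat (hchar β) (hchar β')
  choose a ha using ha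
  have haa : ∀ β : IrrCharacter G, 1 ≤ a β β := by
    intro β
    rw [Nat.one_le_iff_ne_zero]
    intro h0
    have h1 := ha β β
    rw [h0, Nat.cast_zero] at h1
    have h2 := congrFun (Helper8.eq_zero_of_classInner_self_eq_zero h1) 1
    simp only [Pi.mul_apply, Pi.zero_apply] at h2
    rcases mul_eq_zero.mp h2 with h3 | h3
    · exact irr_one_ne_zero β h3
    · exact irr_one_ne_zero ⟨χ, hχ⟩ h3
  have hprodinv : ∀ (g : G) (n : N),
      (φ * ϑ) ⟨g * n * g⁻¹, hN.conj_mem (n : G) n.2 g⟩ = (φ * ϑ) n := by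
    intro g n
    simp only [Pi.mul_apply]
    rw [hφinv, hϑinv]
  have hnorm2 : ∑ β : IrrCharacter G, ∑ β' : IrrCharacter G, e β * e β' * a β β' =
      ∑ β : IrrCharacter G, e β * e β := by
    rw [hsumsq]
    have h1 := classInner_indFun_self_of_invariant N (φ * ϑ) hprod hprodinv
    rw [hprodInd, classInner_sum_left] at h1
    have h2 : ∀ β : IrrCharacter G,
        classInner ((e β : ℂ) • ((β : G → ℂ) * χ))
          (∑ β' : IrrCharacter G, (e β' : ℂ) • ((β' : G → ℂ) * χ)) =
        ((∑ β' : IrrCharacter G, e β * e β' * a β β' : ℕ) : ℂ) := by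
      intro β
      rw [classInner_smul_left, classInner_sum_right, Finset.mul_sum]
      push_cast
      refine Finset.sum_congr rfl ?_
      intro β' _
      rw [classInner_smul_right, ha β β', Complex.conj_natCast]
      ring
    simp_rw [h2] at h1
    rw [← Nat.cast_sum] at h1
    exact_mod_cast h1
  have hdelta : ∀ β β' : IrrCharacter G, 0 < e β → 0 < e β' →
      a β β' = if β = β' then 1 else 0 := fun β β' h1 h2 =>
    gram_eq_delta e a haa hnorm2 β β' h1 h2
  -- irreducibility of β χ for constituents β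
  have hirr : ∀ β : IrrCharacter G, 0 < e β → IsIrrCharacter G ((β : G → ℂ) * χ) := by
    intro β hβ
    refine IsCharacter.isIrrCharacter_of_classInner_self (hchar β) ?_
    rw [ha β β, hdelta β β hβ hβ, if_pos rfl, Nat.cast_one]
  -- inner products of the induced product character with β χ
  have hinner : ∀ β : IrrCharacter G, 0 < e β →
      classInner (indFun N (φ * ϑ)) ((β : G → ℂ) * χ) = e β := by
    intro β hβ
    rw [hprodInd, classInner_sum_left, Finset.sum_eq_single β]
    · rw [classInner_smul_left, ha β β, hdelta β β hβ hβ, if_pos rfl, Nat.cast_one, mul_one]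
    · intro β' _ hne
      rw [classInner_smul_left]
      by_cases h0 : e β' = 0
      · rw [h0, Nat.cast_zero, zero_mul]
      · rw [ha β' β, hdelta β' β (Nat.pos_of_ne_zero h0) hβ, if_neg hne, Nat.cast_zero, mul_zero]
    · intro h
      exact absurd (Finset.mem_univ _) h
  have hpos : ∀ β : IrrCharacter G, classInner (indFun N φ) (β : G → ℂ) ≠ 0 → 0 < e β := by
    intro β h
    rw [hcoef] at h
    exact Nat.pos_of_ne_zero (fun h0 => h (by rw [h0, Nat.cast_zero]))
  refine ⟨?_, ?_, ?_⟩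
  · -- maps to
    rintro β ⟨hβ, hβ2⟩
    have hβpos := hpos ⟨β, hβ⟩ hβ2
    refine ⟨hirr ⟨β, hβ⟩ hβpos, ?_⟩
    rw [hinner ⟨β, hβ⟩ hβpos]
    exact_mod_cast hβpos.ne'
  · -- injective
    rintro β ⟨hβ, hβ2⟩ β' ⟨hβ', hβ2'⟩ heq
    have h1 := hpos ⟨β, hβ⟩ hβ2
    have h2 := hpos ⟨β', hβ'⟩ hβ2'
    by_contra hne
    have hne' : (⟨β, hβ⟩ : IrrCharacter G) ≠ ⟨β', hβ'⟩ := fun h => hne (congrArg Subtype.val h)
    have h3 := ha ⟨β, hβ⟩ ⟨β', hβ'⟩
    have h4 := ha ⟨β, hβ⟩ ⟨β, hβ⟩
    simp only at heq h3 h4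
    rw [← heq, h4, hdelta _ _ h1 h1, if_pos rfl, hdelta _ _ h1 h2, if_neg hne'] at h3
    norm_num at h3
  · -- surjective
    rintro ψ ⟨hψ, hψ2⟩
    rw [hprodInd, classInner_sum_left] at hψ2
    obtain ⟨β, hβne⟩ : ∃ β : IrrCharacter G,
        classInner ((e β : ℂ) • ((β : G → ℂ) * χ)) ψ ≠ 0 := by
      by_contra hall
      push Not at hall
      exact hψ2 (Finset.sum_eq_zero (fun β _ => hall β))
    rw [classInner_smul_left] at hβne
    have h1 : 0 < e β := Nat.pos_of_ne_zero (fun h0 => hβne (by rw [h0, Nat.cast_zero, zero_mul]))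
    have h2 : classInner ((β : G → ℂ) * χ) ψ ≠ 0 := right_ne_zero_of_mul hβne
    have h3 : (β : G → ℂ) * χ = ψ := by
      by_contra hne
      apply h2
      rw [classInner_of_isIrrCharacter (hirr β h1) hψ, if_neg hne]
    refine ⟨(β : G → ℂ), ⟨β.2, ?_⟩, h3⟩
    rw [hcoef]
    exact_mod_cast h1.ne'

end

end Cfsg.Agent.Helper24
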