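import Mathlib
import Cfsg.Agent.Helper16.F3Basic

/-!
# Fischer rank-3 package, piece DIAMC: the commuting graph of a primitive 3-transposition set
has diameter at most 2.
-/

set_option autoImplicit false

namespace Cfsg.Agent.Helper24.F3alt
open Cfsg.Agent.Helper16.F3

variable {G : Type*} [Group G] [Finite G] {D : Set G}

/-- `x y x y x = y` for non-commuting members -/
theorem diamc_word5 (hD : Cfsg.IsThreeTranspositionGroup D) {x y : G} (hx : x ∈ D) (hy : y ∈ D)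
    (hnc : ¬ Commute x y) : x * y * x * y * x = y := by
  have hb := braid hD hx hy hnc
  calc x * y * x * y * x = (x * y * x) * y * x := by group
    _ = (y * x * y) * y * x := by rw [hb]
    _ = y * x * (y * y) * x := by group
    _ = y * (x * x) := by rw [sq hD hy, mul_one, mul_assoc]
    _ = y := by rw [sq hD hx, mul_one]

/-- a commuting path of length 3 can be shortened to length at most 2 -/
theorem diamc_geo (hD : Cfsg.IsThreeTranspositionGroup D) {u0 u1 u2 u3 : G} (h0 : u0 ∈ D)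
    (h1 : u1 ∈ D) (h2 : u2 ∈ D) (h3 : u3 ∈ D) (c01 : Commute u0 u1) (c12 : Commute u1 u2)
    (c23 : Commute u2 u3) :
    Commute u0 u3 ∨ ∃ e ∈ D, Commute e u0 ∧ Commute e u3 := by
  by_cases c03 : Commute u0 u3
  · exact Or.inl c03
  right
  by_cases c13 : Commute u1 u3
  · exact ⟨u1, h1, c01.symm, c13⟩
  by_cases c02 : Commute u0 u2
  · exact ⟨u2, h2, c02.symm, c23⟩
  obtain ⟨g, hg⟩ : ∃ g : G, g = u0 * u3 * u1 := ⟨_, rfl⟩
  have hginv : g⁻¹ = u1 * u3 * u0 := by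
    rw [hg, mul_inv_rev, mul_inv_rev, inv_eq hD h0, inv_eq hD h1, inv_eq hD h3, mul_assoc]
  have e3 : g * u3 * g⁻¹ = u1 := by
    rw [hginv, hg]
    calc u0 * u3 * u1 * u3 * (u1 * u3 * u0) = u0 * (u3 * u1 * u3 * u1 * u3) * u0 := by group
      _ = u0 * u1 * u0 := by rw [diamc_word5 hD h3 h1 (fun hc => c13 hc.symm)]
      _ = u1 * (u0 * u0) := by rw [c01.eq, mul_assoc]
      _ = u1 := by rw [sq hD h0, mul_one]
  have e0 : g * u0 * g⁻¹ = u3 := by
    rw [hginv, hg]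
    have hh : u1 * u0 * u1 = u0 := by rw [← c01.eq, mul_assoc, sq hD h1, mul_one]
    calc u0 * u3 * u1 * u0 * (u1 * u3 * u0) = u0 * u3 * (u1 * u0 * u1) * u3 * u0 := by group
      _ = u0 * u3 * u0 * u3 * u0 := by rw [hh]
      _ = u3 := diamc_word5 hD h0 h3 c03
  refine ⟨g⁻¹ * u2 * g, ?_, ?_, ?_⟩
  · have := conj_mem hD g⁻¹ h2
    rwa [inv_inv] at this
  · have hc : Commute (g⁻¹ * u2 * g⁻¹⁻¹) (g⁻¹ * u3 * g⁻¹⁻¹) := (Commute.conj_iff g⁻¹).mpr c23
    rw [inv_inv] at hc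
    have e0' : g⁻¹ * u3 * g = u0 := by rw [← e0]; group
    rwa [e0'] at hc
  · have hc : Commute (g⁻¹ * u2 * g⁻¹⁻¹) (g⁻¹ * u1 * g⁻¹⁻¹) :=
      (Commute.conj_iff g⁻¹).mpr c12.symm
    rw [inv_inv] at hc
    have e3' : g⁻¹ * u1 * g = u3 := by rw [← e3]; group
    rwa [e3'] at hc

/-- DIAMC -/
theorem diam_comm (h : Prim D) {d b : G} (hd : d ∈ D) (hb : b ∈ D) (hnc : ¬ Commute d b) :
    ∃ e ∈ D, Commute e d ∧ Commute e b := by
  have hD := h.tt
  let R : G → G → Prop := fun x y =>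
    x = y ∨ (x ∈ D ∧ y ∈ D ∧ (Commute x y ∨ ∃ e ∈ D, Commute e x ∧ Commute e y))
  have hrefl : ∀ x ∈ D, R x x := fun x _ => Or.inl rfl
  have hsymm : ∀ x y, R x y → R y x := by
    intro x y hxy
    rcases hxy with rfl | ⟨hx, hy, hc | ⟨e, he, h1, h2⟩⟩
    · exact Or.inl rfl
    · exact Or.inr ⟨hy, hx, Or.inl hc.symm⟩
    · exact Or.inr ⟨hy, hx, Or.inr ⟨e, he, h2, h1⟩⟩
  have hinv : ∀ g x y, R x y → R (g * x * g⁻¹) (g * y * g⁻¹) := by
    intro g x y hxy
    rcases hxy with rfl | ⟨hx, hy, hc | ⟨e, he, h1, h2⟩⟩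
    · exact Or.inl rfl
    · exact Or.inr ⟨conj_mem hD g hx, conj_mem hD g hy, Or.inl ((Commute.conj_iff g).mpr hc)⟩
    · exact Or.inr ⟨conj_mem hD g hx, conj_mem hD g hy,
        Or.inr ⟨g * e * g⁻¹, conj_mem hD g he, (Commute.conj_iff g).mpr h1,
          (Commute.conj_iff g).mpr h2⟩⟩
  have htrans : ∀ x y z, R x y → R y z → R x z := by
    intro x y z hxy hyz
    rcases hxy with rfl | ⟨hx, hy, hxy⟩
    · exact hyz
    rcases hyz with rfl | ⟨_, hz, hyz⟩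
    · exact Or.inr ⟨hx, hy, hxy⟩
    refine Or.inr ⟨hx, hz, ?_⟩
    rcases hxy with c1 | ⟨e, he, e1, e2⟩
    · rcases hyz with c2 | ⟨f, hf, f1, f2⟩
      · exact Or.inr ⟨y, hy, c1.symm, c2⟩
      · exact diamc_geo hD hx hy hf hz c1 f1.symm f2
    · rcases hyz with c2 | ⟨f, hf, f1, f2⟩
      · exact diamc_geo hD hx he hy hz e1.symm e2 c2
      · rcases diamc_geo hD hx he hy hf e1.symm e2 f1.symm with c | ⟨k, hk, k1, k2⟩
        · exact Or.inr ⟨f, hf, c.symm, f2⟩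
        · exact diamc_geo hD hx hk hf hz k1.symm k2 f2
  obtain ⟨a, ha, c, hc, hac, hcomm⟩ := h.hw
  have hR : R a c := Or.inr ⟨ha, hc, Or.inl hcomm⟩
  have huniv := rel_univ h R hrefl hsymm htrans hinv ha hc hac hR
  rcases huniv d hd b hb with heq | ⟨_, _, hc' | hex⟩
  · subst heq
    exact absurd (Commute.refl d) hnc
  · exact absurd hc' hnc
  · exact hex

end Cfsg.Agent.Helper24.F3alt
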