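import Mathlib
import Cfsg.Agent.Helper16.F3Basic

/-!
# Fischer rank-3 package, piece DIAMN: the non-commuting graph of a primitive 3-transposition set
has diameter at most 2.
-/

set_option autoImplicit false

namespace Cfsg.Agent.Helper24.F3alt
open Cfsg.Agent.Helper16.F3

variable {G : Type*} [Group G] [Finite G] {D : Set G}

/-- `x y x y x = y` for non-commuting members -/
theorem diamn_word5 (hD : Cfsg.IsThreeTranspositionGroup D) {x y : G} (hx : x ∈ D) (hy : y ∈ D)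
    (hnc : ¬ Commute x y) : x * y * x * y * x = y := by
  have hb := braid hD hx hy hnc
  calc x * y * x * y * x = (x * y * x) * y * x := by group
    _ = (y * x * y) * y * x := by rw [hb]
    _ = y * x * (y * y) * x := by group
    _ = y * (x * x) := by rw [sq hD hy, mul_one, mul_assoc]
    _ = y := by rw [sq hD hx, mul_one]

/-- a non-commuting path of length 3 can be shortened to length at most 2 -/
theorem diamn_geo (hD : Cfsg.IsThreeTranspositionGroup D) {u0 u1 u2 u3 : G} (h0 : u0 ∈ D)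
    (h1 : u1 ∈ D) (h2 : u2 ∈ D) (h3 : u3 ∈ D) (c01 : ¬ Commute u0 u1) (c12 : ¬ Commute u1 u2)
    (c23 : ¬ Commute u2 u3) :
    u0 = u3 ∨ ¬ Commute u0 u3 ∨ ∃ a ∈ D, ¬ Commute a u0 ∧ ¬ Commute a u3 := by
  by_cases e03 : u0 = u3
  · exact Or.inl e03
  right
  by_cases c03 : Commute u0 u3
  swap
  · exact Or.inl c03
  right
  by_cases c02 : Commute u0 u2
  swap
  · exact ⟨u2, h2, fun hc => c02 hc.symm, c23⟩
  by_cases c13 : Commute u1 u3
  swap
  · exact ⟨u1, h1, fun hc => c01 hc.symm, c13⟩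
  refine ⟨u2 * u1 * u2, conj_mem' hD h2 h1, ?_, ?_⟩
  · intro hc
    -- conjugate by u2
    have hc' : Commute (u2 * (u2 * u1 * u2) * u2⁻¹) (u2 * u0 * u2⁻¹) :=
      (Commute.conj_iff u2).mpr hc
    have e1 : u2 * (u2 * u1 * u2) * u2⁻¹ = u1 := by
      calc u2 * (u2 * u1 * u2) * u2⁻¹ = (u2 * u2) * u1 := by group
        _ = u1 := by rw [sq hD h2, one_mul]
    have e2 : u2 * u0 * u2⁻¹ = u0 := by
      rw [← c02.eq, mul_assoc, mul_inv_cancel, mul_one]
    rw [e1, e2] at hc'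
    exact c01 hc'.symm
  · intro hc
    -- conjugate by u3 * u2
    have hc' : Commute ((u3 * u2) * (u2 * u1 * u2) * (u3 * u2)⁻¹) ((u3 * u2) * u3 * (u3 * u2)⁻¹) :=
      (Commute.conj_iff (u3 * u2)).mpr hc
    have e1 : (u3 * u2) * (u2 * u1 * u2) * (u3 * u2)⁻¹ = u1 := by
      calc (u3 * u2) * (u2 * u1 * u2) * (u3 * u2)⁻¹ = u3 * (u2 * u2) * u1 * u3⁻¹ := by group
        _ = u3 * u1 * u3⁻¹ := by rw [sq hD h2, mul_one]
        _ = u1 := by rw [← c13.eq, mul_assoc, mul_inv_cancel, mul_one]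
    have e2 : (u3 * u2) * u3 * (u3 * u2)⁻¹ = u2 := by
      rw [mul_inv_rev, inv_eq hD h2, inv_eq hD h3]
      calc u3 * u2 * u3 * (u2 * u3) = u3 * u2 * u3 * u2 * u3 := by group
        _ = u2 := diamn_word5 hD h3 h2 (fun hc => c23 hc.symm)
    rw [e1, e2] at hc'
    exact c12 hc'

/-- DIAMN -/
theorem diam_noncomm (h : Prim D) {d e : G} (hd : d ∈ D) (he : e ∈ D) (hne : d ≠ e)
    (hc : Commute d e) : ∃ a ∈ D, ¬ Commute a d ∧ ¬ Commute a e := by
  have hD := h.tt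
  let R : G → G → Prop := fun x y =>
    x = y ∨ (x ∈ D ∧ y ∈ D ∧ (¬ Commute x y ∨ ∃ a ∈ D, ¬ Commute a x ∧ ¬ Commute a y))
  have hrefl : ∀ x ∈ D, R x x := fun x _ => Or.inl rfl
  have hsymm : ∀ x y, R x y → R y x := by
    intro x y hxy
    rcases hxy with rfl | ⟨hx, hy, hc | ⟨e, he, h1, h2⟩⟩
    · exact Or.inl rfl
    · exact Or.inr ⟨hy, hx, Or.inl (fun hc' => hc hc'.symm)⟩
    · exact Or.inr ⟨hy, hx, Or.inr ⟨e, he, h2, h1⟩⟩
  have hinv : ∀ g x y, R x y → R (g * x * g⁻¹) (g * y * g⁻¹) := by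
    intro g x y hxy
    rcases hxy with rfl | ⟨hx, hy, hc | ⟨e, he, h1, h2⟩⟩
    · exact Or.inl rfl
    · exact Or.inr ⟨conj_mem hD g hx, conj_mem hD g hy,
        Or.inl (fun hc' => hc ((Commute.conj_iff g).mp hc'))⟩
    · exact Or.inr ⟨conj_mem hD g hx, conj_mem hD g hy,
        Or.inr ⟨g * e * g⁻¹, conj_mem hD g he, fun hc' => h1 ((Commute.conj_iff g).mp hc'),
          fun hc' => h2 ((Commute.conj_iff g).mp hc')⟩⟩
  have hfin : ∀ {x z : G}, x ∈ D → z ∈ D →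
      (x = z ∨ ¬ Commute x z ∨ ∃ a ∈ D, ¬ Commute a x ∧ ¬ Commute a z) → R x z := by
    intro x z hx hz hh
    rcases hh with rfl | hh
    · exact Or.inl rfl
    · exact Or.inr ⟨hx, hz, hh⟩
  have htrans : ∀ x y z, R x y → R y z → R x z := by
    intro x y z hxy hyz
    rcases hxy with rfl | ⟨hx, hy, hxy⟩
    · exact hyz
    rcases hyz with rfl | ⟨_, hz, hyz⟩
    · exact Or.inr ⟨hx, hy, hxy⟩
    rcases hxy with c1 | ⟨e, he, e1, e2⟩
    · rcases hyz with c2 | ⟨f, hf, f1, f2⟩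
      · exact Or.inr ⟨hx, hz, Or.inr ⟨y, hy, fun hc' => c1 hc'.symm, c2⟩⟩
      · -- x ~ y ~ f ~ z
        exact hfin hx hz (diamn_geo hD hx hy hf hz c1 (fun hc' => f1 hc'.symm) f2)
    · rcases hyz with c2 | ⟨f, hf, f1, f2⟩
      · -- x ~ e ~ y ~ z
        exact hfin hx hz (diamn_geo hD hx he hy hz (fun hc' => e1 hc'.symm) e2 c2)
      · -- x ~ e ~ y ~ f ~ z
        rcases diamn_geo hD hx he hy hf (fun hc' => e1 hc'.symm) e2 (fun hc' => f1 hc'.symm)
          with rfl | c | ⟨k, hk, k1, k2⟩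
        · -- x = f, f ~ z
          exact Or.inr ⟨hx, hz, Or.inl f2⟩
        · -- x ~ f ~ z
          exact Or.inr ⟨hx, hz, Or.inr ⟨f, hf, fun hc' => c hc'.symm, f2⟩⟩
        · -- x ~ k ~ f ~ z
          exact hfin hx hz (diamn_geo hD hx hk hf hz (fun hc' => k1 hc'.symm) k2 f2)
  obtain ⟨a, ha, hnc⟩ := exists_noncomm h hd
  have hR : R a d := Or.inr ⟨ha, hd, Or.inl hnc⟩
  have huniv := rel_univ h R hrefl hsymm htrans hinv ha hd (ne_of_not_commute hnc) hR
  rcases huniv d hd e he with heq | ⟨_, _, hc' | hex⟩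
  · exact absurd heq hne
  · exact absurd hc hc'
  · exact hex

end Cfsg.Agent.Helper24.F3alt
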