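import Mathlib
import Cfsg.Agent.Helper24.Frobenius

/-!
The class number of a Frobenius group `G = K ⋊ H`.
-/

namespace Cfsg.Agent.Helper24

universe u

section FrobClassCount

/-- The number of elements commuting with `x`. -/
noncomputable def commCard {L : Type u} [Group L] (x : L) : ℕ := Nat.card {y : L // Commute x y}

theorem sum_commCard (L : Type u) [Group L] [Fintype L] :
    ∑ x : L, commCard x = Nat.card (ConjClasses L) * Nat.card L := by
  classical
  rw [← card_comm_eq_card_conjClasses_mul_card]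
  rw [Nat.card_congr (Equiv.subtypeProdEquivSigmaSubtype (Commute : L → L → Prop))]
  rw [Nat.card_sigma]
  rfl

theorem commCard_one (L : Type u) [Group L] : commCard (1 : L) = Nat.card L := by
  unfold commCard
  exact Nat.card_congr (Equiv.subtypeUnivEquiv (fun y => Commute.one_left y))

variable {G : Type u} [Group G] [Finite G] (K H : Subgroup G) [hN : K.Normal]

omit [Finite G] in
include hN in
theorem frob_decomp (hKH' : K ⊔ H = ⊤) (g : G) : ∃ k ∈ K, ∃ h ∈ H, g = k * h := by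
  have hmem : g ∈ (↑(K ⊔ H) : Set G) := by rw [hKH']; trivial
  rw [Subgroup.normal_mul] at hmem
  obtain ⟨k, hk, h, hh, rfl⟩ := Set.mem_mul.mp hmem
  exact ⟨k, hk, h, hh, rfl⟩

theorem frob_conj_of_not_mem (hKH' : K ⊔ H = ⊤)
    (hfpf : ∀ h ∈ H, h ≠ 1 → ∀ k ∈ K, h * k = k * h → k = 1) (g : G) (hg : g ∉ K) :
    ∃ d ∈ K, ∃ h ∈ H, h ≠ 1 ∧ g = d * h * d⁻¹ := by
  obtain ⟨k, hk, h, hh, rfl⟩ := frob_decomp K H hKH' g
  have h1 : h ≠ 1 := by
    rintro rfl
    apply hg
    simpa using hk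
  obtain ⟨d, hd, hd'⟩ := exists_mem_conj_of_fixedPointFree K h
    (fun k hk hc => hfpf h hh h1 k hk hc.symm) k hk
  exact ⟨d, hd, h, hh, h1, hd'⟩

omit [Finite G] in
theorem frob_conj_unique (hKH : K ⊓ H = ⊥)
    (hfpf : ∀ h ∈ H, h ≠ 1 → ∀ k ∈ K, h * k = k * h → k = 1) (d d' h h' : G)
    (hd : d ∈ K) (hd' : d' ∈ K) (hh : h ∈ H) (hh' : h' ∈ H) (h1 : h ≠ 1)
    (heq : d * h * d⁻¹ = d' * h' * d'⁻¹) : d = d' ∧ h = h' := by
  have he : (d'⁻¹ * d) * h * (d'⁻¹ * d)⁻¹ = h' := by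
    calc (d'⁻¹ * d) * h * (d'⁻¹ * d)⁻¹ = d'⁻¹ * (d * h * d⁻¹) * d' := by group
      _ = d'⁻¹ * (d' * h' * d'⁻¹) * d' := by rw [heq]
      _ = h' := by group
  have heK : d'⁻¹ * d ∈ K := K.mul_mem (K.inv_mem hd') hd
  have h2 : h' * h⁻¹ ∈ K := by
    rw [← he]
    have : (d'⁻¹ * d) * h * (d'⁻¹ * d)⁻¹ * h⁻¹ =
        (d'⁻¹ * d) * (h * (d'⁻¹ * d)⁻¹ * h⁻¹) := by group
    rw [this]
    exact K.mul_mem heK (hN.conj_mem _ (K.inv_mem heK) h)
  have h3 : h' * h⁻¹ ∈ K ⊓ H := ⟨h2, H.mul_mem hh' (H.inv_mem hh)⟩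
  rw [hKH, Subgroup.mem_bot] at h3
  have h4 : h' = h := by
    calc h' = h' * h⁻¹ * h := by group
      _ = h := by rw [h3, one_mul]
  rw [h4] at he
  have h5 : h * (d'⁻¹ * d) = (d'⁻¹ * d) * h := by
    calc h * (d'⁻¹ * d) = ((d'⁻¹ * d) * h * (d'⁻¹ * d)⁻¹) * (d'⁻¹ * d) := by rw [he]
      _ = (d'⁻¹ * d) * h := by group
  have h6 := hfpf h hh h1 _ heK h5
  refine ⟨?_, h4.symm⟩
  calc d = d' * (d'⁻¹ * d) := by group
    _ = d' := by rw [h6, mul_one]

theorem frob_centralizer_le_H (hKH : K ⊓ H = ⊥) (hKH' : K ⊔ H = ⊤)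
    (hfpf : ∀ h ∈ H, h ≠ 1 → ∀ k ∈ K, h * k = k * h → k = 1) (h y : G) (hh : h ∈ H)
    (h1 : h ≠ 1) (hc : Commute h y) : y ∈ H := by
  obtain ⟨k, hk, h', hh', rfl⟩ := frob_decomp K H hKH' y
  have hc' : h * (k * h') = k * h' * h := hc
  have h2 : (h * k * h⁻¹)⁻¹ * k = (h * h') * (h' * h)⁻¹ := by
    have : h * k * h⁻¹ * (h * h') = k * (h' * h) := by
      calc h * k * h⁻¹ * (h * h') = h * (k * h') := by group
        _ = k * h' * h := hc'
        _ = k * (h' * h) := by group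
    calc (h * k * h⁻¹)⁻¹ * k = (h * k * h⁻¹)⁻¹ * (k * (h' * h)) * (h' * h)⁻¹ := by group
      _ = (h * k * h⁻¹)⁻¹ * (h * k * h⁻¹ * (h * h')) * (h' * h)⁻¹ := by rw [this]
      _ = (h * h') * (h' * h)⁻¹ := by group
  have h3 : (h * k * h⁻¹)⁻¹ * k ∈ K ⊓ H := by
    refine ⟨K.mul_mem (K.inv_mem (hN.conj_mem k hk h)) hk, ?_⟩
    rw [h2]
    exact H.mul_mem (H.mul_mem hh hh') (H.inv_mem (H.mul_mem hh' hh))
  rw [hKH, Subgroup.mem_bot] at h3
  have h4 : h * k = k * h := by
    have : k = h * k * h⁻¹ := by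
      calc k = (h * k * h⁻¹) * ((h * k * h⁻¹)⁻¹ * k) := by group
        _ = h * k * h⁻¹ := by rw [h3, mul_one]
    calc h * k = (h * k * h⁻¹) * h := by group
      _ = k * h := by rw [← this]
  have h5 := hfpf h hh h1 k hk h4
  rw [h5, one_mul]
  exact hh'

theorem frob_centralizer_le_K (hKH' : K ⊔ H = ⊤)
    (hfpf : ∀ h ∈ H, h ≠ 1 → ∀ k ∈ K, h * k = k * h → k = 1) (x y : G) (hx : x ∈ K)
    (h1 : x ≠ 1) (hc : Commute x y) : y ∈ K := by
  by_contra hy
  obtain ⟨d, hd, h, hh, hh1, rfl⟩ := frob_conj_of_not_mem K H hKH' hfpf y hy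
  have hc' : x * (d * h * d⁻¹) = d * h * d⁻¹ * x := hc
  have h2 : h * (d⁻¹ * x * d) = (d⁻¹ * x * d) * h := by
    calc h * (d⁻¹ * x * d) = d⁻¹ * (d * h * d⁻¹ * x) * d := by group
      _ = d⁻¹ * (x * (d * h * d⁻¹)) * d := by rw [hc']
      _ = (d⁻¹ * x * d) * h := by group
  have h3 : d⁻¹ * x * d ∈ K := by
    have := hN.conj_mem x hx d⁻¹
    simpa using this
  have h4 := hfpf h hh hh1 _ h3 h2
  apply h1
  calc x = d * (d⁻¹ * x * d) * d⁻¹ := by group
    _ = 1 := by rw [h4]; group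

theorem commCard_of_mem_K (hKH' : K ⊔ H = ⊤)
    (hfpf : ∀ h ∈ H, h ≠ 1 → ∀ k ∈ K, h * k = k * h → k = 1) (k : K) (hk1 : k ≠ 1) :
    commCard (k : G) = commCard k := by
  unfold commCard
  have hk1' : (k : G) ≠ 1 := fun h => hk1 (Subtype.ext h)
  apply Nat.card_congr
  exact
    { toFun := fun y => ⟨⟨y.1, frob_centralizer_le_K K H hKH' hfpf _ _ k.2 hk1' y.2⟩,
        Subtype.ext y.2.eq⟩
      invFun := fun z => ⟨(z.1 : G), congrArg Subtype.val z.2.eq⟩
      left_inv := fun y => rfl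
      right_inv := fun z => rfl }

theorem commCard_conj (hKH : K ⊓ H = ⊥) (hKH' : K ⊔ H = ⊤)
    (hfpf : ∀ h ∈ H, h ≠ 1 → ∀ k ∈ K, h * k = k * h → k = 1) (d : G) (h : H) (h1 : h ≠ 1) :
    commCard (d * (h : G) * d⁻¹) = commCard h := by
  unfold commCard
  have h1' : (h : G) ≠ 1 := fun e => h1 (Subtype.ext e)
  have hcomm : ∀ y : G, Commute (d * (h : G) * d⁻¹) y → Commute (h : G) (d⁻¹ * y * d) := by
    intro y hy
    have hy' : d * (h : G) * d⁻¹ * y = y * (d * (h : G) * d⁻¹) := hy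
    show (h : G) * (d⁻¹ * y * d) = d⁻¹ * y * d * (h : G)
    calc (h : G) * (d⁻¹ * y * d) = d⁻¹ * (d * (h : G) * d⁻¹ * y) * d := by group
      _ = d⁻¹ * (y * (d * (h : G) * d⁻¹)) * d := by rw [hy']
      _ = d⁻¹ * y * d * (h : G) := by group
  apply Nat.card_congr
  exact
    { toFun := fun y => ⟨⟨d⁻¹ * y.1 * d,
          frob_centralizer_le_H K H hKH hKH' hfpf _ _ h.2 h1' (hcomm y.1 y.2)⟩,
        Subtype.ext (hcomm y.1 y.2).eq⟩
      invFun := fun z => ⟨d * (z.1 : G) * d⁻¹, by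
        have hz : (h : G) * (z.1 : G) = (z.1 : G) * (h : G) := congrArg Subtype.val z.2.eq
        show d * (h : G) * d⁻¹ * (d * (z.1 : G) * d⁻¹) = d * (z.1 : G) * d⁻¹ * (d * (h : G) * d⁻¹)
        calc d * (h : G) * d⁻¹ * (d * (z.1 : G) * d⁻¹) = d * ((h : G) * (z.1 : G)) * d⁻¹ := by group
          _ = d * ((z.1 : G) * (h : G)) * d⁻¹ := by rw [hz]
          _ = d * (z.1 : G) * d⁻¹ * (d * (h : G) * d⁻¹) := by group⟩
      left_inv := fun y => by
        apply Subtype.ext
        show d * (d⁻¹ * y.1 * d) * d⁻¹ = y.1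
        group
      right_inv := fun z => by
        apply Subtype.ext
        apply Subtype.ext
        show d⁻¹ * (d * (z.1 : G) * d⁻¹) * d = (z.1 : G)
        group }

/-- The class number of a Frobenius group. -/
theorem frob_class_count (hKH : K ⊓ H = ⊥) (hKH' : K ⊔ H = ⊤)
    (hfpf : ∀ h ∈ H, h ≠ 1 → ∀ k ∈ K, h * k = k * h → k = 1) :
    Nat.card H * Nat.card (ConjClasses G) + 1 =
      Nat.card H * Nat.card (ConjClasses H) + Nat.card (ConjClasses K) := by
  classical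
  haveI : Fintype G := Fintype.ofFinite G
  haveI : Fintype K := Fintype.ofFinite K
  haveI : Fintype H := Fintype.ofFinite H
  have hG := sum_commCard G
  have hK := sum_commCard K
  have hH := sum_commCard H
  have hcard : Nat.card K * Nat.card H = Nat.card G := by
    apply Subgroup.IsComplement'.card_mul
    apply Subgroup.isComplement'_of_disjoint_and_mul_eq_univ
    · rw [disjoint_iff]; exact hKH
    · rw [← Subgroup.normal_mul, hKH']; rfl
  -- part (1)
  have p1 : ∑ x ∈ Finset.univ.filter (fun x : G => x ∈ K), commCard x =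
      Nat.card G + ∑ k ∈ (Finset.univ : Finset K).erase 1, commCard k := by
    rw [Finset.sum_subtype (Finset.univ.filter (fun x : G => x ∈ K)) (p := fun x => x ∈ K)
      (by intro x; simp) (fun x => commCard x)]
    rw [← Finset.add_sum_erase _ _ (Finset.mem_univ (1 : K))]
    congr 1
    · exact commCard_one G
    · refine Finset.sum_congr rfl ?_
      intro k hk
      exact commCard_of_mem_K K H hKH' hfpf k (Finset.ne_of_mem_erase hk)
  have p1' : ∑ k : K, commCard k =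
      Nat.card K + ∑ k ∈ (Finset.univ : Finset K).erase 1, commCard k := by
    rw [← Finset.add_sum_erase _ _ (Finset.mem_univ (1 : K)), commCard_one]
  -- part (2)
  have p2 : ∑ x ∈ Finset.univ.filter (fun x : G => x ∉ K), commCard x =
      Nat.card K * ∑ h ∈ (Finset.univ : Finset H).erase 1, commCard h := by
    have e1 : ∑ p ∈ (Finset.univ : Finset K) ×ˢ (Finset.univ : Finset H).erase 1,
        commCard ((p.1 : G) * (p.2 : G) * (p.1 : G)⁻¹) =
        ∑ x ∈ Finset.univ.filter (fun x : G => x ∉ K), commCard x := by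
      refine Finset.sum_bij (fun p _ => (p.1 : G) * (p.2 : G) * (p.1 : G)⁻¹) ?_ ?_ ?_ ?_
      · intro p hp
        rw [Finset.mem_filter]
        refine ⟨Finset.mem_univ _, ?_⟩
        intro hmem
        have hp2 : p.2 ≠ 1 := Finset.ne_of_mem_erase (Finset.mem_product.mp hp).2
        have h2 : (p.2 : G) ∈ K := by
          have := hN.conj_mem _ hmem (p.1 : G)⁻¹
          have e : (p.1 : G)⁻¹ * ((p.1 : G) * (p.2 : G) * (p.1 : G)⁻¹) * ((p.1 : G)⁻¹)⁻¹ = (p.2 : G) := by
            group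
          rwa [e] at this
        have h3 : (p.2 : G) ∈ K ⊓ H := ⟨h2, p.2.2⟩
        rw [hKH, Subgroup.mem_bot] at h3
        exact hp2 (Subtype.ext h3)
      · intro p hp q hq heq
        have hp2 : p.2 ≠ 1 := Finset.ne_of_mem_erase (Finset.mem_product.mp hp).2
        have hp2' : (p.2 : G) ≠ 1 := fun e => hp2 (Subtype.ext e)
        obtain ⟨e1, e2⟩ := frob_conj_unique K H hKH hfpf _ _ _ _ p.1.2 q.1.2 p.2.2 q.2.2 hp2' heq
        exact Prod.ext (Subtype.ext e1) (Subtype.ext e2)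
      · intro x hx
        rw [Finset.mem_filter] at hx
        obtain ⟨d, hd, h, hh, hh1, rfl⟩ := frob_conj_of_not_mem K H hKH' hfpf x hx.2
        refine ⟨(⟨d, hd⟩, ⟨h, hh⟩), ?_, rfl⟩
        rw [Finset.mem_product]
        refine ⟨Finset.mem_univ _, Finset.mem_erase.mpr ⟨?_, Finset.mem_univ _⟩⟩
        intro e
        exact hh1 (congrArg Subtype.val e)
      · intro p _
        rfl
    rw [← e1, Finset.sum_product]
    have e2 : ∀ k ∈ (Finset.univ : Finset K), ∑ h ∈ (Finset.univ : Finset H).erase 1,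
        commCard ((k : G) * (h : G) * (k : G)⁻¹) =
        ∑ h ∈ (Finset.univ : Finset H).erase 1, commCard h := by
      intro k _
      refine Finset.sum_congr rfl ?_
      intro h hh
      exact commCard_conj K H hKH hKH' hfpf _ h (Finset.ne_of_mem_erase hh)
    rw [Finset.sum_congr rfl e2, Finset.sum_const, Finset.card_univ, smul_eq_mul,
      Nat.card_eq_fintype_card]
  have p2' : ∑ h : H, commCard h =
      Nat.card H + ∑ h ∈ (Finset.univ : Finset H).erase 1, commCard h := by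
    rw [← Finset.add_sum_erase _ _ (Finset.mem_univ (1 : H)), commCard_one]
  have hsplit := Finset.sum_filter_add_sum_filter_not (Finset.univ : Finset G)
    (fun x : G => x ∈ K) (fun x => commCard x)
  rw [p1, p2, hG] at hsplit
  rw [hK] at p1'
  rw [hH] at p2'
  set a := ∑ k ∈ (Finset.univ : Finset K).erase 1, commCard k
  set b := ∑ h ∈ (Finset.univ : Finset H).erase 1, commCard h
  have hKpos : 0 < Nat.card K := Nat.card_pos
  apply Nat.eq_of_mul_eq_mul_left hKpos
  calc Nat.card K * (Nat.card H * Nat.card (ConjClasses G) + 1)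
      = Nat.card (ConjClasses G) * (Nat.card K * Nat.card H) + Nat.card K := by ring
    _ = Nat.card (ConjClasses G) * Nat.card G + Nat.card K := by rw [hcard]
    _ = Nat.card G + a + Nat.card K * b + Nat.card K := by rw [← hsplit]
    _ = Nat.card K * Nat.card H + a + Nat.card K * b + Nat.card K := by rw [hcard]
    _ = Nat.card K * (Nat.card H + b) + (Nat.card K + a) := by ring
    _ = Nat.card K * (Nat.card (ConjClasses H) * Nat.card H) +
        Nat.card (ConjClasses K) * Nat.card K := by rw [← p1', ← p2']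
    _ = Nat.card K * (Nat.card H * Nat.card (ConjClasses H) + Nat.card (ConjClasses K)) := by
      ring

end FrobClassCount

end Cfsg.Agent.Helper24
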