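import Mathlib
import Cfsg.Prelude.Def_Solvable
import Cfsg.Agent.Helper24.PrimeCodegree
import Cfsg.Agent.Helper24.Restrict
import Cfsg.Agent.Helper1.Frobenius

/-!
A faithful irreducible character with `|G| = p χ(1)`, `p` prime: `G` is cyclic of order `p` or a
Frobenius group with kernel of order `p`.
-/

namespace Cfsg.Agent.Helper24

open Cfsg Representation Module

universe u

section FrobPrime

variable {H : Type u} [Group H] [Finite H]

/-- Structure: a normal subgroup of order `q` and index `χ(1) < q`. -/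
theorem exists_normal_of_faithful_of_card_eq (χ : IrrCharacter H)
    (hfaith : ∀ x : H, (χ : H → ℂ) x = (χ : H → ℂ) 1 → x = 1) (q : ℕ) (hq : q.Prime)
    (hcard : Nat.card H = q * irrDeg χ) :
    irrDeg χ < q ∧ ∃ Q : Subgroup H, Q.Normal ∧ Nat.card Q = q ∧ Q.index = irrDeg χ := by
  classical
  haveI : Fintype H := Fintype.ofFinite H
  haveI : Fintype (IrrCharacter H) := Fintype.ofFinite _
  haveI : Fact q.Prime := ⟨hq⟩
  set d := irrDeg χ with hd
  have hdpos : 0 < d := irrDeg_pos χ
  have hne : χ ≠ trivIrr H := by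
    intro h
    have h1 : ∀ x : H, x = 1 := by
      intro x
      apply hfaith
      rw [h, trivIrr_apply, trivIrr_apply]
    have h2 : Nat.card H = 1 := by
      haveI : Subsingleton H := ⟨fun a b => by rw [h1 a, h1 b]⟩
      exact Nat.card_unique
    rw [h2] at hcard
    have := hq.two_le
    nlinarith
  have hdq : d < q := by
    have hsum := sum_irrDeg_sq (G := H)
    rw [← Finset.add_sum_erase _ _ (Finset.mem_univ χ),
      ← Finset.add_sum_erase _ _ (Finset.mem_erase.mpr ⟨hne.symm, Finset.mem_univ (trivIrr H)⟩)]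
      at hsum
    have h1 : irrDeg (trivIrr H) = 1 := by
      have := irrDeg_spec (trivIrr H)
      rw [trivIrr_apply] at this
      exact_mod_cast this.symm
    rw [h1, hcard] at hsum
    by_contra hcon
    push Not at hcon
    have h5 : q * d ≤ d * d := Nat.mul_le_mul_right d hcon
    rw [← hd] at hsum
    have h6 : d ^ 2 = d * d := sq d
    omega
  refine ⟨hdq, ?_⟩
  have hqd : ¬ q ∣ d := fun h => absurd (Nat.le_of_dvd hdpos h) (not_le.mpr hdq)
  obtain ⟨Q⟩ : Nonempty (Sylow q H) := inferInstance
  have hfac : (Nat.card H).factorization q = 1 := by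
    rw [hcard, Nat.factorization_mul hq.ne_zero hdpos.ne', Finsupp.add_apply,
      hq.factorization_self, Nat.factorization_eq_zero_of_not_dvd hqd]
  have hQcard : Nat.card (Q : Subgroup H) = q := by
    rw [Q.card_eq_multiplicity, hfac, pow_one]
  have hQidx : (Q : Subgroup H).index = d := by
    have := Subgroup.card_mul_index (Q : Subgroup H)
    rw [hQcard, hcard] at this
    exact Nat.eq_of_mul_eq_mul_left hq.pos this
  have hn1 : Nat.card (Sylow q H) = 1 := by
    have h1 := card_sylow_modEq_one q H
    have h2 := Q.card_dvd_index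
    rw [hQidx] at h2
    have h3 : Nat.card (Sylow q H) ≤ d := Nat.le_of_dvd hdpos h2
    have h4 : Nat.card (Sylow q H) < q := lt_of_le_of_lt h3 hdq
    unfold Nat.ModEq at h1
    rw [Nat.mod_eq_of_lt h4, Nat.mod_eq_of_lt hq.one_lt] at h1
    exact h1
  have hQn : (Q : Subgroup H).Normal := by
    rw [← Subgroup.normalizer_eq_top_iff, ← Subgroup.index_eq_one]
    have := Q.card_eq_index_normalizer
    rw [hn1] at this
    exact this.symm
  exact ⟨Q, hQn, hQcard, hQidx⟩

/-- No element outside `Q` commutes with a nonidentity element of `Q`. -/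
theorem not_commute_of_faithful_of_card_eq (χ : IrrCharacter H) (q : ℕ) (hq : q.Prime)
    (hcard : Nat.card H = q * irrDeg χ) (Q : Subgroup H) (hQ : Nat.card Q = q)
    (x : H) (hxQ : x ∈ Q) (hx1 : x ≠ 1) (h : H) (hh : h ∉ Q) (hcomm : x * h = h * x) : False := by
  classical
  haveI : Fact q.Prime := ⟨hq⟩
  obtain ⟨n, ρ, hρ, hχ⟩ := χ.2
  haveI := hρ
  have hdeg : finrank ℂ (Fin n → ℂ) = irrDeg χ := by
    have h1 := irrDeg_spec χ
    rw [← hχ, Representation.char_one] at h1
    exact_mod_cast h1
  set A := Subgroup.closure ({x, h} : Set H) with hA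
  haveI hAc : IsMulCommutative A := by
    apply Subgroup.isMulCommutative_closure
    intro a ha b hb
    simp only [Set.mem_insert_iff, Set.mem_singleton_iff] at ha hb
    rcases ha with rfl | rfl <;> rcases hb with rfl | rfl
    · rfl
    · exact hcomm
    · exact hcomm.symm
    · rfl
  have hle := finrank_le_index_of_abelian ρ A (by
    intro a ha b hb
    have := mul_comm' (⟨a, ha⟩ : A) ⟨b, hb⟩
    exact congrArg (fun z : A => (z : H)) this)
  rw [hdeg] at hle
  -- Q ≤ A
  have hQz : Q = Subgroup.zpowers x := by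
    have h1 : Subgroup.zpowers x ≤ Q := by rw [Subgroup.zpowers_le]; exact hxQ
    symm
    apply Subgroup.eq_of_le_of_card_ge h1
    rw [Nat.card_zpowers, hQ]
    have h2 : orderOf x ∣ q := by
      have := orderOf_dvd_natCard (⟨x, hxQ⟩ : Q)
      rw [hQ, Subgroup.orderOf_mk] at this
      exact this
    rcases (Nat.dvd_prime hq).mp h2 with h3 | h3
    · exact absurd (orderOf_eq_one_iff.mp h3) hx1
    · exact h3.ge
  have hQA : Q ≤ A := by
    rw [hQz, Subgroup.zpowers_le]
    exact Subgroup.subset_closure (by simp)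
  have hhA : h ∈ A := Subgroup.subset_closure (by simp)
  have hQltA : Q < A := lt_of_le_of_ne hQA (fun heq => hh (heq ▸ hhA))
  -- |A| ≥ 2q
  have hdvd : q ∣ Nat.card A := by
    rw [← hQ]; exact Subgroup.card_dvd_of_le hQA
  have hlt : q < Nat.card A := by
    rw [← hQ]
    refine lt_of_le_of_ne (Subgroup.card_le_of_le hQA) ?_
    intro heq
    exact hQltA.ne (Subgroup.eq_of_le_of_card_ge hQA heq.ge)
  obtain ⟨m, hm⟩ := hdvd
  have hm2 : 2 ≤ m := by
    by_contra hcon
    push Not at hcon
    interval_cases m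
    · rw [hm] at hlt; omega
    · rw [hm] at hlt; omega
  have hidx := Subgroup.card_mul_index A
  rw [hcard, hm] at hidx
  have h3 : m * A.index = irrDeg χ := by
    have : q * (m * A.index) = q * irrDeg χ := by rw [← hidx]; ring
    exact Nat.eq_of_mul_eq_mul_left hq.pos this
  have hdpos := irrDeg_pos χ
  have hipos : 0 < A.index := Nat.pos_of_ne_zero Subgroup.index_ne_zero_of_finite
  nlinarith

/-- A faithful irreducible character with `|G| = p χ(1)`: `G` is cyclic of order `p` or
Frobenius with kernel of order `p`. -/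
theorem cyclic_or_frobenius_of_faithful_of_card_eq (χ : IrrCharacter H)
    (hfaith : ∀ g : H, (χ : H → ℂ) g = (χ : H → ℂ) 1 → g = 1) (p : ℕ) (hp : p.Prime)
    (hcod : Nat.card H = p * charDegree (χ : H → ℂ)) :
    (IsCyclic H ∧ Nat.card H = p) ∨
      ∃ K : Subgroup H, IsFrobeniusComplement K ∧ Nat.card ↥(frobeniusKernel K) = p := by
  classical
  haveI : Fact p.Prime := ⟨hp⟩
  rw [charDegree_irr] at hcod
  by_cases hd1 : irrDeg χ = 1
  · left
    rw [hd1, mul_one] at hcod
    exact ⟨isCyclic_of_prime_card hcod, hcod⟩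
  right
  have hdpos := irrDeg_pos χ
  have hd2 : 2 ≤ irrDeg χ := by omega
  obtain ⟨hdq, Q, hQn, hQcard, hQidx⟩ := exists_normal_of_faithful_of_card_eq χ hfaith p hp hcod
  have hcop : Nat.Coprime (Nat.card Q) Q.index := by
    rw [hQcard, hQidx]
    exact (Nat.Prime.coprime_iff_not_dvd hp).mpr
      (fun h => absurd (Nat.le_of_dvd hdpos h) (not_le.mpr hdq))
  obtain ⟨K, hK⟩ := Subgroup.exists_right_complement'_of_coprime hcop
  have hKcard : Nat.card K = irrDeg χ := by
    have := hK.card_mul_card
    rw [hQcard, hcod] at this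
    exact Nat.eq_of_mul_eq_mul_left hp.pos this
  have hKidx : K.index = p := by
    have := Subgroup.card_mul_index K
    rw [hKcard, hcod, mul_comm] at this
    exact Nat.eq_of_mul_eq_mul_right hdpos this
  have hdisj : ∀ z : H, z ∈ Q → z ∈ K → z = 1 := by
    intro z hzQ hzK
    have := hK.disjoint
    rw [Subgroup.disjoint_def] at this
    exact this hzQ hzK
  have hfrob : IsFrobeniusComplement K := by
    refine ⟨?_, ?_, ?_⟩
    · intro h
      rw [h, Subgroup.card_bot] at hKcard
      omega
    · intro h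
      rw [h, Subgroup.card_top, hcod] at hKcard
      have := hp.two_le
      nlinarith
    · intro g hg
      rw [eq_bot_iff]
      intro y hy
      rw [Subgroup.mem_bot]
      obtain ⟨hyK, hyKg⟩ := Subgroup.mem_inf.mp hy
      rw [Subgroup.mem_pointwise_smul_iff_inv_smul_mem] at hyKg
      have hk' : g⁻¹ * y * g ∈ K := by
        have : (MulAut.conj g)⁻¹ • y = g⁻¹ * y * g := by
          simp [MulAut.smul_def]
        rwa [this] at hyKg
      obtain ⟨⟨⟨x, hxQ⟩, ⟨k0, hk0⟩⟩, hxk, -⟩ := hK.existsUnique g
      simp only at hxk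
      have hx1 : x ≠ 1 := by
        intro h
        apply hg
        rw [← hxk, h, one_mul]
        exact hk0
      set k'' := k0 * (g⁻¹ * y * g) * k0⁻¹ with hk''
      have hk''K : k'' ∈ K := K.mul_mem (K.mul_mem hk0 hk') (K.inv_mem hk0)
      have hy_eq : y = x * k'' * x⁻¹ := by
        rw [hk'', ← hxk]; group
      have h1 : y * k''⁻¹ ∈ Q := by
        have : y * k''⁻¹ = x * (k'' * x⁻¹ * k''⁻¹) := by rw [hy_eq]; group
        rw [this]
        exact Q.mul_mem hxQ (hQn.conj_mem _ (Q.inv_mem hxQ) _)
      have h2 : y * k''⁻¹ ∈ K := K.mul_mem hyK (K.inv_mem hk''K)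
      have h3 : y = k'' := by
        have := hdisj _ h1 h2
        exact mul_inv_eq_one.mp this
      by_contra hy1
      have hyQ : y ∉ Q := fun h => hy1 (hdisj y h hyK)
      have hcomm : x * y = y * x := by
        have : y = x * y * x⁻¹ := by rw [← h3] at hy_eq; exact hy_eq
        calc x * y = x * y * x⁻¹ * x := by group
          _ = y * x := by rw [← this]
      exact not_commute_of_faithful_of_card_eq χ p hp hcod Q hQcard x hxQ hx1 y hyQ hcomm
  refine ⟨K, hfrob, ?_⟩
  rw [Helper1.frob_card_kernel hfrob, hKidx]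

end FrobPrime

end Cfsg.Agent.Helper24
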