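import Mathlib
import Cfsg.Prelude.Def_Characters
import Cfsg.Agent.Helper24.CyclicExtension
import Cfsg.Agent.Helper24.Expansion
import Cfsg.Agent.Helper8.CliffordAb
import Cfsg.Agent.Helper8.DualSplit

/-!
Fully ramified sections under a cyclic Frobenius action: if `Γ/N` is a Frobenius group with kernel
`G/N` and cyclic complement and the `Γ`-invariant `ϑ ∈ Irr(N)` is fully ramified in `G` with
ramification `e`, then `|Γ : G|` divides `e - 1` or `e + 1`.
-/

set_option autoImplicit false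

namespace Cfsg.Agent.Helper24.FRF

open Cfsg

/-- The arithmetic core: `m` integers with sum `e` and small square sum. -/
theorem arith_dvd {D : Type*} [Fintype D] (m : ℕ) (hm : Fintype.card D = m) (a : D → ℤ) (e : ℤ)
    (hsum : ∑ φ, a φ = e) (hsq : (m : ℤ) * ∑ φ, (a φ) ^ 2 ≤ e ^ 2 + m - 1)
    (hdvd : (m : ℤ) ∣ e ^ 2 - 1) : (m : ℤ) ∣ e - 1 ∨ (m : ℤ) ∣ e + 1 := by
  rcases Nat.eq_zero_or_pos m with h0 | hpos
  · subst h0
    exfalso
    simp only [Nat.cast_zero, zero_dvd_iff] at hdvd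
    have : IsEmpty D := Fintype.card_eq_zero_iff.mp hm
    simp at hsum
    rw [← hsum] at hdvd
    norm_num at hdvd
  have hmpos : (0 : ℤ) < m := by exact_mod_cast hpos
  set q := e / (m : ℤ) with hq
  set s := e % (m : ℤ) with hs
  have hs0 : 0 ≤ s := Int.emod_nonneg _ hmpos.ne'
  have hslt : s < m := Int.emod_lt_of_pos _ hmpos
  have he : e = m * q + s := (Int.mul_ediv_add_emod e m).symm
  have hu1 : ∑ φ, (a φ - q) = s := by
    rw [Finset.sum_sub_distrib, hsum, Finset.sum_const, Finset.card_univ, hm, nsmul_eq_mul]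
    linarith
  have hu2 : ∑ φ, (a φ) ^ 2 = (m : ℤ) * q ^ 2 + 2 * q * s + ∑ φ, (a φ - q) ^ 2 := by
    have : ∀ φ, (a φ) ^ 2 = q ^ 2 + 2 * q * (a φ - q) + (a φ - q) ^ 2 := fun φ => by ring
    rw [Finset.sum_congr rfl (fun φ _ => this φ), Finset.sum_add_distrib, Finset.sum_add_distrib,
      Finset.sum_const, Finset.card_univ, hm, nsmul_eq_mul, ← Finset.mul_sum, hu1]
  have hu3 : s ≤ ∑ φ, (a φ - q) ^ 2 := by
    rw [← hu1]
    apply Finset.sum_le_sum
    intro φ _
    nlinarith [sq_nonneg (a φ - q), sq_nonneg (a φ - q - 1), Int.emod_emod_of_dvd (a φ) (dvd_refl 2)]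
  have hkey : (m : ℤ) * s ≤ s ^ 2 + m - 1 := by
    have h1 : (m : ℤ) * ∑ φ, (a φ - q) ^ 2 ≤ s ^ 2 + m - 1 := by
      rw [hu2, he] at hsq
      nlinarith
    nlinarith
  have hcases : s = 0 ∨ s = 1 ∨ s = m - 1 := by
    by_contra hcon
    push Not at hcon
    obtain ⟨h1, h2, h3⟩ := hcon
    have h4 : 2 ≤ s := by omega
    have h5 : s ≤ m - 2 := by omega
    nlinarith
  rcases hcases with h | h | h
  · -- m ∣ e
    have h1 : (m : ℤ) ∣ e := by rw [he, h]; exact ⟨q, by ring⟩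
    have h2 : (m : ℤ) ∣ 1 := by
      have h3 : (m : ℤ) ∣ e ^ 2 := Dvd.dvd.pow h1 two_ne_zero
      have := dvd_sub h3 hdvd
      simpa using this
    left
    exact Dvd.dvd.trans h2 (one_dvd _)
  · left
    exact ⟨q, by rw [he, h]; ring⟩
  · right
    exact ⟨q + 1, by rw [he, h]; ring⟩


section Counting

variable {Γ : Type*} [Group Γ] [Fintype Γ]

/-- If all fibres of a map have at most `n` elements and the domain has `n` times as many elements
as the codomain, all fibres have exactly `n` elements. -/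
theorem card_fiber_eq {α β : Type*} [DecidableEq β] (A : Finset α) (Y : Finset β) (f : α → β)
    (n : ℕ) (hmaps : ∀ a ∈ A, f a ∈ Y) (hle : ∀ y ∈ Y, (A.filter (fun a => f a = y)).card ≤ n)
    (hcard : A.card = n * Y.card) : ∀ y ∈ Y, (A.filter (fun a => f a = y)).card = n := by
  have h1 : A.card = ∑ y ∈ Y, (A.filter (fun a => f a = y)).card :=
    Finset.card_eq_sum_card_fiberwise hmaps
  have h2 : ∑ y ∈ Y, (A.filter (fun a => f a = y)).card = ∑ _y ∈ Y, n := by
    rw [← h1, hcard, Finset.sum_const, smul_eq_mul, mul_comm]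
  exact (Finset.sum_eq_sum_iff_of_le hle).mp h2

/-- Conjugation-invariant sums over `S \ N` and over `Γ \ G` in a Frobenius configuration. -/
theorem sum_compl_eq (G N S : Subgroup Γ) [hG : G.Normal] (hNG : N ≤ G) (hNS : N ≤ S)
    (hSG : S ⊓ G = N)
    (hfrob : ∀ x : Γ, x ∉ G → ∀ g : Γ, g ∈ G → x * g * x⁻¹ * g⁻¹ ∈ N → g ∈ N)
    (hcard : Nat.card S * Nat.card G = Nat.card N * Nat.card Γ)
    (F : Γ → ℂ) (hF : ∀ g y : Γ, F (g * y * g⁻¹) = F y) [DecidablePred (· ∈ G)]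
    [DecidablePred (· ∈ N)] [DecidablePred (· ∈ S)] :
    (Nat.card G : ℂ) * ∑ s ∈ Finset.univ.filter (fun s : Γ => s ∈ S ∧ s ∉ N), F s =
      (Nat.card N : ℂ) * ∑ y ∈ Finset.univ.filter (fun y : Γ => y ∉ G), F y := by
  classical
  set Gf : Finset Γ := Finset.univ.filter (· ∈ G) with hGf
  set Nf : Finset Γ := Finset.univ.filter (· ∈ N) with hNf
  set T : Finset Γ := Finset.univ.filter (fun s : Γ => s ∈ S ∧ s ∉ N) with hT
  set Y : Finset Γ := Finset.univ.filter (fun y : Γ => y ∉ G) with hY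
  set A : Finset (Γ × Γ) := Gf ×ˢ T with hA
  set f : Γ × Γ → Γ := fun p => p.1 * p.2 * p.1⁻¹ with hf
  have hGfc : Gf.card = Nat.card G := by
    rw [Nat.card_eq_fintype_card, Fintype.card_subtype]
  have hNfc : Nf.card = Nat.card N := by
    rw [Nat.card_eq_fintype_card, Fintype.card_subtype]
  have hTG : ∀ s ∈ T, s ∉ G := by
    intro s hs hsG
    rw [hT, Finset.mem_filter] at hs
    apply hs.2.2
    rw [← hSG]
    exact ⟨hs.2.1, hsG⟩
  have hmaps : ∀ p ∈ A, f p ∈ Y := by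
    intro p hp
    rw [hA, Finset.mem_product] at hp
    rw [hY, Finset.mem_filter]
    refine ⟨Finset.mem_univ _, fun h => ?_⟩
    apply hTG p.2 hp.2
    have hp1 : p.1 ∈ G := by
      have := hp.1
      rw [hGf, Finset.mem_filter] at this
      exact this.2
    have := hG.conj_mem _ h p.1⁻¹
    simp only [hf, inv_inv] at this
    convert this using 1
    group
  -- fibres inject into a coset of `N`
  have hle : ∀ y ∈ Y, (A.filter (fun p => f p = y)).card ≤ Nat.card N := by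
    intro y _
    rcases Finset.eq_empty_or_nonempty (A.filter (fun p => f p = y)) with h0 | ⟨p₀, hp₀⟩
    · rw [h0]; simp
    rw [← hNfc]
    apply Finset.card_le_card_of_injOn (fun p => p.1⁻¹ * p₀.1)
    · intro p hp
      rw [Finset.mem_coe, Finset.mem_filter] at hp
      rw [Finset.mem_filter] at hp₀
      obtain ⟨hpA, hpy⟩ := hp
      obtain ⟨hp₀A, hp₀y⟩ := hp₀
      rw [hA, Finset.mem_product] at hpA hp₀A
      have hp1 : p.1 ∈ G := by
        have := hpA.1
        rw [hGf, Finset.mem_filter] at this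
        exact this.2
      have hp01 : p₀.1 ∈ G := by
        have := hp₀A.1
        rw [hGf, Finset.mem_filter] at this
        exact this.2
      have hs : p.2 ∈ S ∧ p.2 ∉ N := by
        have := hpA.2
        rw [hT, Finset.mem_filter] at this
        exact this.2
      have hs0 : p₀.2 ∈ S ∧ p₀.2 ∉ N := by
        have := hp₀A.2
        rw [hT, Finset.mem_filter] at this
        exact this.2
      rw [Finset.mem_coe, hNf, Finset.mem_filter]
      refine ⟨Finset.mem_univ _, ?_⟩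
      set h := p.1⁻¹ * p₀.1 with hh
      have hhG : h ∈ G := G.mul_mem (G.inv_mem hp1) hp01
      -- h * p₀.2 * h⁻¹ = p.2
      have h1 : h * p₀.2 * h⁻¹ = p.2 := by
        have h2 : p.1 * p.2 * p.1⁻¹ = p₀.1 * p₀.2 * p₀.1⁻¹ := by
          have := hpy.trans hp₀y.symm
          simpa [hf] using this
        have h3 : p.2 = p.1⁻¹ * (p₀.1 * p₀.2 * p₀.1⁻¹) * p.1 := by
          rw [← h2]; group
        rw [h3, hh]; group
      -- p₀.2 * h * p₀.2⁻¹ * h⁻¹ ∈ N
      have h4 : p₀.2 * h * p₀.2⁻¹ * h⁻¹ ∈ N := by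
        have h5 : p₀.2 * h * p₀.2⁻¹ * h⁻¹ = p₀.2 * p.2⁻¹ := by
          rw [← h1]; group
        rw [h5, ← hSG]
        refine ⟨S.mul_mem hs0.1 (S.inv_mem hs.1), ?_⟩
        rw [← h5]
        exact G.mul_mem (hG.conj_mem h hhG p₀.2) (G.inv_mem hhG)
      exact hfrob p₀.2 (hTG p₀.2 hp₀A.2) h hhG h4
    · intro p hp p' hp' hpp'
      rw [Finset.mem_coe, Finset.mem_filter] at hp hp'
      have h1 : p.1 = p'.1 := by
        have : p.1⁻¹ * p₀.1 = p'.1⁻¹ * p₀.1 := hpp'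
        have := mul_right_cancel this
        exact inv_injective this
      have h2 : p.2 = p'.2 := by
        have h3 : p.1 * p.2 * p.1⁻¹ = p'.1 * p'.2 * p'.1⁻¹ := by
          have := hp.2.trans hp'.2.symm
          simpa [hf] using this
        rw [h1] at h3
        have := mul_right_cancel h3
        exact mul_left_cancel this
      exact Prod.ext h1 h2
  have hYc : Y.card + Nat.card G = Nat.card Γ := by
    have h1 : Y = Gfᶜ := by
      ext y; simp [hY, hGf]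
    rw [h1, Finset.card_compl, hGfc, Nat.card_eq_fintype_card (α := Γ)]
    have : Nat.card G ≤ Fintype.card Γ := by
      rw [← Nat.card_eq_fintype_card]; exact Subgroup.card_le_card_group G
    omega
  have hTc : T.card + Nat.card N = Nat.card S := by
    have hSf : (Finset.univ.filter (· ∈ S)).card = Nat.card S := by
      rw [Nat.card_eq_fintype_card, Fintype.card_subtype]
    have h1 : T = (Finset.univ.filter (· ∈ S)) \ Nf := by
      ext s; simp [hT, hNf]
    have h2 : Nf ⊆ Finset.univ.filter (· ∈ S) := by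
      intro s hs
      rw [hNf, Finset.mem_filter] at hs
      rw [Finset.mem_filter]
      exact ⟨Finset.mem_univ _, hNS hs.2⟩
    rw [h1, Finset.card_sdiff_of_subset h2, hSf, hNfc]
    have : Nat.card N ≤ Nat.card S := by
      rw [← hNfc, ← hSf]; exact Finset.card_le_card h2
    omega
  have hAc : A.card = Nat.card N * Y.card := by
    rw [hA, Finset.card_product, hGfc]
    have h1 : (T.card + Nat.card N) * Nat.card G = Nat.card N * (Y.card + Nat.card G) := by
      rw [hTc, hYc, hcard]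
    nlinarith
  have hfib := card_fiber_eq A Y f (Nat.card N) hmaps hle hAc
  -- double count
  have h1 : ∑ p ∈ A, F (f p) = ∑ y ∈ Y, ∑ p ∈ A.filter (fun p => f p = y), F (f p) :=
    (Finset.sum_fiberwise_of_maps_to hmaps _).symm
  have h2 : ∑ y ∈ Y, ∑ p ∈ A.filter (fun p => f p = y), F (f p) =
      ∑ y ∈ Y, (Nat.card N : ℂ) * F y := by
    apply Finset.sum_congr rfl
    intro y hy
    have : ∀ p ∈ A.filter (fun p => f p = y), F (f p) = F y := by
      intro p hp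
      rw [Finset.mem_filter] at hp
      rw [hp.2]
    rw [Finset.sum_congr rfl this, Finset.sum_const, hfib y hy, nsmul_eq_mul]
  have h3 : ∑ p ∈ A, F (f p) = ∑ g ∈ Gf, ∑ s ∈ T, F s := by
    rw [hA, Finset.sum_product]
    apply Finset.sum_congr rfl
    intro g _
    apply Finset.sum_congr rfl
    intro s _
    exact hF g s
  rw [← Finset.mul_sum] at h2
  rw [← h2, ← h1, h3, Finset.sum_const, hGfc, nsmul_eq_mul]

end Counting


section Dual

/-- Summing all linear characters of a finite commutative group at one element. -/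
theorem sum_dual_apply {W : Type*} [Group W] [Finite W] (hc : ∀ a b : W, a * b = b * a)
    [Fintype (W →* ℂˣ)] (w : W) [Decidable (w = 1)] :
    ∑ φ : W →* ℂˣ, ((φ w : ℂˣ) : ℂ) = if w = 1 then (Nat.card W : ℂ) else 0 := by
  classical
  have h := Cfsg.Agent.Helper8.sum_annihilator hc (⊥ : Subgroup W) w
  have hf : Finset.univ.filter (fun φ : W →* ℂˣ => ∀ y ∈ (⊥ : Subgroup W), φ y = 1) =
      Finset.univ := by
    apply Finset.filter_true_of_mem
    intro φ _ y hy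
    rw [Subgroup.mem_bot] at hy
    rw [hy, map_one]
  rw [hf] at h
  rw [h]
  have hcard : (Finset.univ : Finset (W →* ℂˣ)).card = Nat.card W := by
    let _ : CommGroup W := { ‹Group W› with mul_comm := hc }
    have := Cfsg.Agent.Helper8.hasEnoughRootsOfUnity_exponent W
    rw [Finset.card_univ, ← Nat.card_eq_fintype_card]
    exact CommGroup.card_monoidHom_of_hasEnoughRootsOfUnity W ℂ
  rw [hcard]
  by_cases hw : w = 1
  · rw [if_pos hw, if_pos (by rw [Subgroup.mem_bot]; exact hw)]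
  · rw [if_neg hw, if_neg (by rw [Subgroup.mem_bot]; exact hw)]

theorem card_dual {W : Type*} [Group W] [Finite W] (hc : ∀ a b : W, a * b = b * a)
    [Fintype (W →* ℂˣ)] : Fintype.card (W →* ℂˣ) = Nat.card W := by
  let _ : CommGroup W := { ‹Group W› with mul_comm := hc }
  have := Cfsg.Agent.Helper8.hasEnoughRootsOfUnity_exponent W
  rw [← Nat.card_eq_fintype_card]
  exact CommGroup.card_monoidHom_of_hasEnoughRootsOfUnity W ℂ

end Dual

section SubgroupSums

variable {Γ : Type*} [Group Γ] [Fintype Γ]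

/-- A sum over a subgroup as a sum over the ambient group. -/
theorem sum_subgroup (K : Subgroup Γ) [Fintype K] [DecidablePred (· ∈ K)] (f : Γ → ℂ) :
    ∑ k : K, f k = ∑ y ∈ Finset.univ.filter (· ∈ K), f y := by
  rw [Finset.sum_subtype (Finset.univ.filter (· ∈ K)) (p := (· ∈ K)) (by simp) f]

end SubgroupSums


section Main

universe u

variable {Γ : Type u} [Group Γ] [Fintype Γ]

/-- Values of a fully ramified character. -/
theorem fully_ramified_values (G N : Subgroup Γ) [hG : G.Normal] [hN : N.Normal] [Fintype G]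
    [Fintype N] (hNG : N ≤ G) (θ : IrrCharacter N)
    (hinv : ∀ (x : Γ) (n : N), (θ : N → ℂ) ⟨x * n * x⁻¹, hN.conj_mem n n.2 x⟩ = (θ : N → ℂ) n)
    (χ : IrrCharacter G) (e : ℕ)
    (hram : indFun (N.subgroupOf G) (fun n : N.subgroupOf G => (θ : N → ℂ) ⟨(n : G), n.2⟩) =
      fun g => (e : ℂ) * (χ : G → ℂ) g) :
    e ≠ 0 ∧ (∀ n : N, (χ : G → ℂ) ⟨n, hNG n.2⟩ = (e : ℂ) * (θ : N → ℂ) n) ∧
      (∀ g : G, (g : Γ) ∉ N → (χ : G → ℂ) g = 0) ∧ N.relIndex G = e ^ 2 := by
  classical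
  set H : Subgroup G := N.subgroupOf G with hH
  haveI hHn : H.Normal := hN.subgroupOf G
  set θ₀ : H → ℂ := fun n => (θ : N → ℂ) ⟨(n : G), n.2⟩ with hθ₀
  have hinv₀ : ∀ (g : G) (h : H), θ₀ ⟨g * h * g⁻¹, hHn.conj_mem h h.2 g⟩ = θ₀ h := by
    intro g h
    have := hinv (g : Γ) ⟨((h : G) : Γ), h.2⟩
    simpa [hθ₀] using this
  have hA1 : ∀ h : H, (e : ℂ) * (χ : G → ℂ) (h : G) = (H.index : ℂ) * θ₀ h := by
    intro h
    rw [← Cfsg.Agent.Helper8.indFun_invariant_apply H θ₀ hinv₀ h, hram]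
  have hA2 : ∀ g : G, g ∉ H → (e : ℂ) * (χ : G → ℂ) g = 0 := by
    intro g hg
    have := Cfsg.Agent.Helper8.indFun_eq_zero_of_not_mem H θ₀ hg
    rw [hram] at this
    exact this
  have hidx : H.index ≠ 0 := Subgroup.index_ne_zero_of_finite
  have hθ1 : (θ : N → ℂ) 1 ≠ 0 := Cfsg.Agent.Helper24.irr_one_ne_zero θ
  have he : e ≠ 0 := by
    intro h0
    have := hA1 1
    rw [h0, Nat.cast_zero, zero_mul] at this
    have h2 : θ₀ 1 = (θ : N → ℂ) 1 := rfl
    rw [h2] at this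
    rcases mul_eq_zero.mp this.symm with h | h
    · exact hidx (by exact_mod_cast h)
    · exact hθ1 h
  have heC : (e : ℂ) ≠ 0 := Nat.cast_ne_zero.mpr he
  have hB2 : ∀ g : G, (g : Γ) ∉ N → (χ : G → ℂ) g = 0 := by
    intro g hg
    have := hA2 g (by rw [hH, Subgroup.mem_subgroupOf]; exact hg)
    rcases mul_eq_zero.mp this with h | h
    · exact absurd h heC
    · exact h
  -- norm computation
  have hχχ := Cfsg.Agent.Helper24.classInner_irr_self χ
  have hθθ := Cfsg.Agent.Helper24.classInner_irr_self θ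
  unfold classInner at hχχ hθθ
  have hNc : (Nat.card N : ℂ) ≠ 0 := Nat.cast_ne_zero.mpr Nat.card_pos.ne'
  have hGc : (Nat.card G : ℂ) ≠ 0 := Nat.cast_ne_zero.mpr Nat.card_pos.ne'
  have hsumθ : ∑ n : N, (θ : N → ℂ) n * (starRingEnd ℂ) ((θ : N → ℂ) n) = (Nat.card N : ℂ) := by
    field_simp at hθθ
    exact hθθ
  have hsumχ : ∑ g : G, (χ : G → ℂ) g * (starRingEnd ℂ) ((χ : G → ℂ) g) = (Nat.card G : ℂ) := by
    field_simp at hχχ
    exact hχχ
  have hsplit : ∑ g : G, (χ : G → ℂ) g * (starRingEnd ℂ) ((χ : G → ℂ) g) =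
      ∑ h : H, (χ : G → ℂ) h * (starRingEnd ℂ) ((χ : G → ℂ) h) := by
    rw [← Finset.sum_subtype (Finset.univ.filter (· ∈ H)) (p := (· ∈ H)) (by simp)
      (fun g => (χ : G → ℂ) g * (starRingEnd ℂ) ((χ : G → ℂ) g))]
    symm
    apply Finset.sum_subset (Finset.subset_univ _)
    intro g _ hg
    rw [Finset.mem_filter] at hg
    have hg' : g ∉ H := fun h => hg ⟨Finset.mem_univ _, h⟩
    have : (χ : G → ℂ) g = 0 := by
      rcases mul_eq_zero.mp (hA2 g hg') with h | h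
      · exact absurd h heC
      · exact h
    rw [this, zero_mul]
  have hHsum : ∑ h : H, (χ : G → ℂ) h * (starRingEnd ℂ) ((χ : G → ℂ) h) =
      ((H.index : ℂ) / e) ^ 2 * (Nat.card N : ℂ) := by
    have h1 : ∀ h : H, (χ : G → ℂ) h * (starRingEnd ℂ) ((χ : G → ℂ) h) =
        ((H.index : ℂ) / e) ^ 2 * (θ₀ h * (starRingEnd ℂ) (θ₀ h)) := by
      intro h
      have h2 : (χ : G → ℂ) h = ((H.index : ℂ) / e) * θ₀ h := by
        have := hA1 h
        field_simp
        rw [mul_comm]; exact this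
      rw [h2, map_mul, map_div₀, Complex.conj_natCast, Complex.conj_natCast]
      ring
    rw [Finset.sum_congr rfl (fun h _ => h1 h), ← Finset.mul_sum]
    congr 1
    rw [← hsumθ]
    exact Fintype.sum_equiv (Subgroup.subgroupOfEquivOfLe hNG).toEquiv _ _ (fun h => rfl)
  have hcardG : (Nat.card G : ℂ) = (H.index : ℂ) * (Nat.card N : ℂ) := by
    have h1 : Nat.card G = H.index * Nat.card H := (Subgroup.index_mul_card H).symm
    have h2 : Nat.card H = Nat.card N := Nat.card_congr (Subgroup.subgroupOfEquivOfLe hNG).toEquiv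
    rw [h1, h2]; push_cast; ring
  have hr : (H.index : ℂ) = (e : ℂ) ^ 2 := by
    have h1 : ((H.index : ℂ) / e) ^ 2 * (Nat.card N : ℂ) = (H.index : ℂ) * (Nat.card N : ℂ) := by
      rw [← hHsum, ← hsplit, hsumχ, hcardG]
    have h2 : ((H.index : ℂ) / e) ^ 2 = (H.index : ℂ) := mul_right_cancel₀ hNc h1
    have h3 : (H.index : ℂ) ≠ 0 := Nat.cast_ne_zero.mpr hidx
    rw [div_pow, div_eq_iff (pow_ne_zero 2 heC)] at h2
    have h4 : (H.index : ℂ) * (H.index : ℂ) = (H.index : ℂ) * (e : ℂ) ^ 2 := by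
      rw [← h2]; ring
    exact mul_left_cancel₀ h3 h4
  refine ⟨he, ?_, hB2, ?_⟩
  · intro n
    have := hA1 ⟨⟨n, hNG n.2⟩, n.2⟩
    rw [hr] at this
    have h2 : θ₀ ⟨⟨n, hNG n.2⟩, n.2⟩ = (θ : N → ℂ) n := rfl
    rw [h2] at this
    have h3 : (e : ℂ) * (χ : G → ℂ) ⟨n, hNG n.2⟩ = (e : ℂ) * ((e : ℂ) * (θ : N → ℂ) n) := by
      rw [this]; ring
    exact mul_left_cancel₀ heC h3
  · have : (N.relIndex G : ℂ) = ((e ^ 2 : ℕ) : ℂ) := by
      push_cast
      exact hr
    exact_mod_cast this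


/-- The structure of the complement: a subgroup `S` with `S ⊓ G = N`, `S/N` cyclic of order
`|Γ : G|`. -/
theorem exists_complement (G N : Subgroup Γ) [hG : G.Normal] [hN : N.Normal]
    (hNG : N ≤ G) (hcyc : IsCyclic (Γ ⧸ G))
    (hfrob : ∀ x : Γ, x ∉ G → ∀ g : Γ, g ∈ G → x * g * x⁻¹ * g⁻¹ ∈ N → g ∈ N)
    (hm1 : G.index ≠ 1) :
    ∃ S : Subgroup Γ, N ≤ S ∧ S ⊓ G = N ∧ Nat.card S = G.index * Nat.card N ∧
      IsCyclic (S ⧸ N.subgroupOf S) := by
  classical
  set m := G.index with hm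
  obtain ⟨q₀, hq₀⟩ := hcyc.exists_generator
  obtain ⟨x, rfl⟩ := QuotientGroup.mk_surjective q₀
  have hord : orderOf (x : Γ ⧸ G) = m := by
    rw [orderOf_eq_card_of_forall_mem_zpowers hq₀, hm, Subgroup.index_eq_card]
  have hxG : x ∉ G := by
    intro h
    have : (x : Γ ⧸ G) = 1 := (QuotientGroup.eq_one_iff x).mpr h
    rw [this, orderOf_one] at hord
    exact hm1 hord.symm
  have hpowG : ∀ k : ℤ, x ^ k ∈ G ↔ (m : ℤ) ∣ k := by
    intro k
    rw [← QuotientGroup.eq_one_iff, QuotientGroup.mk_zpow, ← hord, orderOf_dvd_iff_zpow_eq_one]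
  have hxmN : x ^ m ∈ N := by
    have h1 : x ^ m ∈ G := by
      have := (hpowG m).mpr (dvd_refl _)
      simpa using this
    apply hfrob x hxG (x ^ m) h1
    have : x * x ^ m * x⁻¹ * (x ^ m)⁻¹ = 1 := by group
    rw [this]; exact N.one_mem
  have hpowN : ∀ k : ℤ, x ^ k ∈ N ↔ (m : ℤ) ∣ k := by
    intro k
    constructor
    · intro h; exact (hpowG k).mp (hNG h)
    · rintro ⟨j, rfl⟩
      rw [zpow_mul, zpow_natCast]
      exact N.zpow_mem hxmN j
  set S : Subgroup Γ :=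
    (Subgroup.zpowers (QuotientGroup.mk' N x)).comap (QuotientGroup.mk' N) with hS
  have hmemS : ∀ s : Γ, s ∈ S ↔ ∃ k : ℤ, (x ^ k)⁻¹ * s ∈ N := by
    intro s
    rw [hS, Subgroup.mem_comap, Subgroup.mem_zpowers_iff]
    constructor
    · rintro ⟨k, hk⟩
      refine ⟨k, ?_⟩
      rw [← QuotientGroup.eq, QuotientGroup.mk_zpow]
      exact hk
    · rintro ⟨k, hk⟩
      refine ⟨k, ?_⟩
      rw [← QuotientGroup.eq, QuotientGroup.mk_zpow] at hk
      exact hk
  have hNS : N ≤ S := by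
    intro n hn
    rw [hmemS]
    exact ⟨0, by simpa using hn⟩
  have hxS : x ∈ S := by
    rw [hmemS]
    exact ⟨1, by simp⟩
  have hSG : S ⊓ G = N := by
    apply le_antisymm
    · rintro s ⟨hs, hsG⟩
      obtain ⟨k, hk⟩ := (hmemS s).mp hs
      have h1 : x ^ k ∈ G := by
        have h2 : (x ^ k)⁻¹ ∈ G := by
          have := G.mul_mem (hNG hk) (G.inv_mem hsG)
          simpa using this
        simpa using G.inv_mem h2
      have h3 : x ^ k ∈ N := (hpowN k).mpr ((hpowG k).mp h1)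
      have := N.mul_mem h3 hk
      simpa using this
    · exact le_inf hNS hNG
  have hordN : orderOf (QuotientGroup.mk' N x) = m := by
    apply Nat.dvd_antisymm
    · apply orderOf_dvd_of_pow_eq_one
      rw [← map_pow, QuotientGroup.mk'_apply, QuotientGroup.eq_one_iff]
      exact hxmN
    · have h1 : (QuotientGroup.mk' N x) ^ (orderOf (QuotientGroup.mk' N x)) = 1 :=
        pow_orderOf_eq_one _
      rw [← map_pow, QuotientGroup.mk'_apply, QuotientGroup.eq_one_iff] at h1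
      have h2 := (hpowN (orderOf (QuotientGroup.mk' N x) : ℤ)).mp (by simpa using h1)
      exact_mod_cast h2
  have hcardS : Nat.card S = m * Nat.card N := by
    have h1 : Nat.card S = Nat.card N * Nat.card (Subgroup.zpowers (QuotientGroup.mk' N x)) :=
      QuotientGroup.card_preimage_mk N
        ((Subgroup.zpowers (QuotientGroup.mk' N x) : Subgroup (Γ ⧸ N)) : Set (Γ ⧸ N))
    rw [h1, mul_comm, Nat.card_zpowers, hordN]
  refine ⟨S, hNS, hSG, hcardS, ?_⟩
  refine ⟨⟨(QuotientGroup.mk ⟨x, hxS⟩ : S ⧸ N.subgroupOf S), ?_⟩⟩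
  intro q
  obtain ⟨s, rfl⟩ := QuotientGroup.mk_surjective q
  obtain ⟨k, hk⟩ := (hmemS s).mp s.2
  refine ⟨k, ?_⟩
  show (QuotientGroup.mk ⟨x, hxS⟩ : S ⧸ N.subgroupOf S) ^ k = QuotientGroup.mk s
  rw [← QuotientGroup.mk_zpow, QuotientGroup.eq, Subgroup.mem_subgroupOf]
  simpa using hk


/-- A sum over a subgroup `K` of a function vanishing off a smaller subgroup `L`. -/
theorem sum_subgroup_dite (K L : Subgroup Γ) (hLK : L ≤ K) [Fintype K] [Fintype L]
    (g : L → ℂ) (f : K → ℂ) (hf1 : ∀ (k : K) (h : (k : Γ) ∈ L), f k = g ⟨k, h⟩)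
    (hf0 : ∀ k : K, (k : Γ) ∉ L → f k = 0) : ∑ k : K, f k = ∑ l : L, g l := by
  classical
  set g' : Γ → ℂ := fun y => if h : y ∈ L then g ⟨y, h⟩ else 0 with hg'
  have h1 : ∑ l : L, g l = ∑ l : L, g' l := by
    apply Finset.sum_congr rfl
    intro l _
    rw [hg']
    simp only [l.2, dif_pos]
  have h2 : ∑ k : K, f k = ∑ k : K, g' k := by
    apply Finset.sum_congr rfl
    intro k _
    rw [hg']
    by_cases h : (k : Γ) ∈ L
    · simp only [h, dif_pos]; exact hf1 k h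
    · simp only [h, dif_neg, not_false_eq_true]; exact hf0 k h
  rw [h1, h2, sum_subgroup K g', sum_subgroup L g']
  symm
  apply Finset.sum_subset
  · intro y hy
    rw [Finset.mem_filter] at hy ⊢
    exact ⟨hy.1, hLK hy.2⟩
  · intro y _ hy
    rw [Finset.mem_filter] at hy
    have : y ∉ L := fun h => hy ⟨Finset.mem_univ _, h⟩
    rw [hg']
    simp only [this, dif_neg, not_false_eq_true]

theorem main (G N : Subgroup Γ) [hG : G.Normal] [hN : N.Normal] [Fintype G] [Fintype N]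
    (hNG : N ≤ G) (hcyc : IsCyclic (Γ ⧸ G))
    (hfrob : ∀ x : Γ, x ∉ G → ∀ g : Γ, g ∈ G → x * g * x⁻¹ * g⁻¹ ∈ N → g ∈ N)
    (θ : IrrCharacter N)
    (hinv : ∀ (x : Γ) (n : N), (θ : N → ℂ) ⟨x * n * x⁻¹, hN.conj_mem n n.2 x⟩ = (θ : N → ℂ) n)
    (χ : IrrCharacter G) (e : ℕ)
    (hram : indFun (N.subgroupOf G) (fun n : N.subgroupOf G => (θ : N → ℂ) ⟨(n : G), n.2⟩) =
      fun g => (e : ℂ) * (χ : G → ℂ) g) :
    (G.index : ℤ) ∣ (e : ℤ) - 1 ∨ (G.index : ℤ) ∣ (e : ℤ) + 1 := by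
  classical
  obtain ⟨he, hχN, hχ0, hrel⟩ := fully_ramified_values G N hNG θ hinv χ e hram
  by_cases hm1 : G.index = 1
  · left; rw [hm1]; simp
  obtain ⟨S, hNS, hSG, hcardS, hcycS⟩ := exists_complement G N hNG hcyc hfrob hm1
  haveI : Fintype S := Fintype.ofFinite S
  set m := G.index with hm
  -- χ is Γ-invariant
  have hχinv : ∀ (y : Γ) (g : G),
      (χ : G → ℂ) ⟨y * g * y⁻¹, hG.conj_mem g g.2 y⟩ = (χ : G → ℂ) g := by
    intro y g
    by_cases hg : (g : Γ) ∈ N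
    · have h1 := hχN ⟨g, hg⟩
      have h2 := hχN ⟨y * g * y⁻¹, hN.conj_mem g hg y⟩
      have h3 := hinv y ⟨g, hg⟩
      have e1 : (⟨((⟨g, hg⟩ : N) : Γ), hNG hg⟩ : G) = g := Subtype.ext rfl
      rw [e1] at h1
      rw [h1, ← h3]
      exact h2
    · have hg' : y * g * y⁻¹ ∉ N := by
        intro h
        apply hg
        have := hN.conj_mem _ h y⁻¹
        simpa [mul_assoc] using this
      rw [hχ0 g hg, hχ0 ⟨_, _⟩ hg']
  obtain ⟨ψ, hψirr, hψG⟩ :=
    exists_extension_of_cyclic_quotient G hcyc (χ : G → ℂ) χ.2 hχinv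
  -- θ extends to S
  haveI hNSn : (N.subgroupOf S).Normal := hN.subgroupOf S
  set θ₁ : N.subgroupOf S → ℂ := fun n => (θ : N → ℂ) ⟨((n : S) : Γ), n.2⟩ with hθ₁
  have hθ₁irr : IsIrrCharacter (N.subgroupOf S) θ₁ :=
    Cfsg.Agent.Helper8.isIrrCharacter_comp_surjective
      (Subgroup.subgroupOfEquivOfLe hNS).toMonoidHom (Subgroup.subgroupOfEquivOfLe hNS).surjective θ.2
  have hθ₁inv : ∀ (s : S) (n : N.subgroupOf S),
      θ₁ ⟨s * n * s⁻¹, hNSn.conj_mem n n.2 s⟩ = θ₁ n := by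
    intro s n
    have := hinv (s : Γ) ⟨((n : S) : Γ), n.2⟩
    simpa [hθ₁] using this
  obtain ⟨θh, hθhirr, hθhN⟩ :=
    exists_extension_of_cyclic_quotient (N.subgroupOf S) hcycS θ₁ hθ₁irr hθ₁inv
  have hθhN' : ∀ (s : S) (h : (s : Γ) ∈ N), θh s = (θ : N → ℂ) ⟨s, h⟩ := by
    intro s h
    exact hθhN ⟨s, h⟩
  have hψN : ∀ n : N, ψ n = (e : ℂ) * (θ : N → ℂ) n := by
    intro n
    rw [← hχN n]
    exact hψG ⟨n, hNG n.2⟩
  -- cardinalities
  have hNc : (Nat.card N : ℂ) ≠ 0 := Nat.cast_ne_zero.mpr Nat.card_pos.ne'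
  have hGc : (Nat.card G : ℂ) ≠ 0 := Nat.cast_ne_zero.mpr Nat.card_pos.ne'
  have hSc : (Nat.card S : ℂ) ≠ 0 := Nat.cast_ne_zero.mpr Nat.card_pos.ne'
  have hmpos : 0 < m := Nat.pos_of_ne_zero Subgroup.index_ne_zero_of_finite
  have hmC : (m : ℂ) ≠ 0 := Nat.cast_ne_zero.mpr hmpos.ne'
  have hcardΓ : Nat.card Γ = m * Nat.card G := (Subgroup.index_mul_card G).symm
  have hsumθ : ∑ n : N, (θ : N → ℂ) n * (starRingEnd ℂ) ((θ : N → ℂ) n) = (Nat.card N : ℂ) := by
    have hθθ := Cfsg.Agent.Helper24.classInner_irr_self θ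
    unfold classInner at hθθ
    field_simp at hθθ
    exact hθθ
  -- the dual group of Γ/G
  have hc : ∀ a b : Γ ⧸ G, a * b = b * a := by
    intro a b
    obtain ⟨q, hq⟩ := hcyc.exists_generator
    obtain ⟨i, rfl⟩ := Subgroup.mem_zpowers_iff.mp (hq a)
    obtain ⟨j, rfl⟩ := Subgroup.mem_zpowers_iff.mp (hq b)
    rw [← zpow_add, ← zpow_add, add_comm]
  haveI : Finite ((Γ ⧸ G) →* ℂˣ) := Cfsg.Agent.Helper8.finite_hom_units hc
  haveI : Fintype ((Γ ⧸ G) →* ℂˣ) := Fintype.ofFinite _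
  have hDcard : Fintype.card ((Γ ⧸ G) →* ℂˣ) = m := by
    rw [card_dual hc, hm, Subgroup.index_eq_card]
  set φS : ((Γ ⧸ G) →* ℂˣ) → (S →* ℂˣ) :=
    fun φ => φ.comp ((QuotientGroup.mk' G).comp S.subtype) with hφS
  set ξ : ((Γ ⧸ G) →* ℂˣ) → S → ℂ := fun φ s => ((φS φ s : ℂˣ) : ℂ) * θh s with hξ
  have hξirr : ∀ φ, IsIrrCharacter S (ξ φ) := fun φ =>
    Cfsg.Agent.Helper8.isIrrCharacter_linear_mul (φS φ) hθhirr
  -- sum over the dual of the values at `s`
  have hdualsum : ∀ s : S, ∑ φ : (Γ ⧸ G) →* ℂˣ, ((φS φ s : ℂˣ) : ℂ) =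
      if (s : Γ) ∈ N then (m : ℂ) else 0 := by
    intro s
    have h1 := sum_dual_apply hc ((QuotientGroup.mk' G) (s : Γ))
    have h2 : ((QuotientGroup.mk' G) (s : Γ) = 1) ↔ (s : Γ) ∈ N := by
      rw [QuotientGroup.mk'_apply, QuotientGroup.eq_one_iff, ← hSG]
      exact ⟨fun h => ⟨s.2, h⟩, fun h => h.2⟩
    have h3 : (Nat.card (Γ ⧸ G) : ℂ) = (m : ℂ) := by
      rw [hm, Subgroup.index_eq_card]
    simp only [h2, h3] at h1
    exact h1
  have hdualconj : ∀ s : S, ∑ φ : (Γ ⧸ G) →* ℂˣ, (starRingEnd ℂ) ((φS φ s : ℂˣ) : ℂ) =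
      if (s : Γ) ∈ N then (m : ℂ) else 0 := by
    intro s
    rw [← map_sum, hdualsum s]
    split_ifs
    · exact Complex.conj_natCast m
    · exact map_zero _
  -- the restriction of ψ to S
  set ψS : S → ℂ := fun s => ψ s with hψS
  have hψSchar : IsCharacter S ψS :=
    Cfsg.Agent.Helper8.isCharacter_restrict S (IsIrrCharacter.isCharacter hψirr)
  -- (K2)/(K3) common computation: for f : S → ℂ,
  -- Σ_φ classInner f (ξ φ) = |S|⁻¹ m Σ_{s ∈ N} f s conj (θh s)
  have hsumInner : ∀ f : S → ℂ, ∑ φ : (Γ ⧸ G) →* ℂˣ, classInner f (ξ φ) =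
      (Nat.card S : ℂ)⁻¹ * ((m : ℂ) *
        ∑ s : S, if (s : Γ) ∈ N then f s * (starRingEnd ℂ) (θh s) else 0) := by
    intro f
    unfold classInner
    rw [← Finset.mul_sum]
    congr 1
    rw [Finset.sum_comm, Finset.mul_sum]
    apply Finset.sum_congr rfl
    intro s _
    have h1 : ∀ φ : (Γ ⧸ G) →* ℂˣ, f s * (starRingEnd ℂ) (ξ φ s) =
        (f s * (starRingEnd ℂ) (θh s)) * (starRingEnd ℂ) ((φS φ s : ℂˣ) : ℂ) := by
      intro φ
      rw [hξ]
      simp only [map_mul]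
      ring
    rw [Finset.sum_congr rfl (fun φ _ => h1 φ), ← Finset.mul_sum, hdualconj s]
    split_ifs <;> ring
  -- (K2)
  have hK2 : ∑ φ : (Γ ⧸ G) →* ℂˣ, classInner ψS (ξ φ) = (e : ℂ) := by
    rw [hsumInner ψS]
    have h1 : ∑ s : S, (if (s : Γ) ∈ N then ψS s * (starRingEnd ℂ) (θh s) else 0) =
        ∑ n : N, (e : ℂ) * ((θ : N → ℂ) n * (starRingEnd ℂ) ((θ : N → ℂ) n)) := by
      apply sum_subgroup_dite S N hNS
      · intro s h
        rw [if_pos h, hθhN' s h]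
        have : ψS s = (e : ℂ) * (θ : N → ℂ) ⟨s, h⟩ := hψN ⟨s, h⟩
        rw [this]; ring
      · intro s h
        rw [if_neg h]
    rw [h1, ← Finset.mul_sum, hsumθ, hcardS]
    push_cast
    field_simp
  -- (K3): the characters ξ φ are pairwise distinct
  haveI : Fintype (IrrCharacter S) := Fintype.ofFinite _
  set Ξ : ((Γ ⧸ G) →* ℂˣ) → IrrCharacter S := fun φ => ⟨ξ φ, hξirr φ⟩ with hΞ
  have hξ1 : ξ 1 = θh := by
    funext s
    rw [hξ, hφS]
    simp
  have hK3a : ∑ φ : (Γ ⧸ G) →* ℂˣ, classInner θh (ξ φ) = 1 := by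
    rw [hsumInner θh]
    have h1 : ∑ s : S, (if (s : Γ) ∈ N then θh s * (starRingEnd ℂ) (θh s) else 0) =
        ∑ n : N, ((θ : N → ℂ) n * (starRingEnd ℂ) ((θ : N → ℂ) n)) := by
      apply sum_subgroup_dite S N hNS
      · intro s h
        rw [if_pos h, hθhN' s h]
      · intro s h
        rw [if_neg h]
    rw [h1, hsumθ, hcardS]
    push_cast
    field_simp
  have hK3b : ∀ φ : (Γ ⧸ G) →* ℂˣ, Ξ φ = Ξ 1 → φ = 1 := by
    intro φ hφ
    have h1 : ∀ κ : (Γ ⧸ G) →* ℂˣ, classInner θh (ξ κ) = if Ξ 1 = Ξ κ then 1 else 0 := by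
      intro κ
      have h5 : classInner (ξ 1) (ξ κ) = if Ξ 1 = Ξ κ then 1 else 0 :=
        Cfsg.Agent.Helper24.classInner_irr (Ξ 1) (Ξ κ)
      rw [hξ1] at h5
      exact h5
    rw [Finset.sum_congr rfl (fun κ _ => h1 κ), Finset.sum_boole] at hK3a
    have h2 : (Finset.univ.filter (fun κ : (Γ ⧸ G) →* ℂˣ => Ξ 1 = Ξ κ)).card = 1 := by
      exact_mod_cast hK3a
    obtain ⟨κ₀, hκ₀⟩ := Finset.card_eq_one.mp h2
    have h3 : (1 : (Γ ⧸ G) →* ℂˣ) ∈ Finset.univ.filter (fun κ : (Γ ⧸ G) →* ℂˣ => Ξ 1 = Ξ κ) := by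
      rw [Finset.mem_filter]; exact ⟨Finset.mem_univ _, rfl⟩
    have h4 : φ ∈ Finset.univ.filter (fun κ : (Γ ⧸ G) →* ℂˣ => Ξ 1 = Ξ κ) := by
      rw [Finset.mem_filter]; exact ⟨Finset.mem_univ _, hφ.symm⟩
    rw [hκ₀, Finset.mem_singleton] at h3 h4
    rw [h4, h3]
  have hΞinj : Function.Injective Ξ := by
    intro φ φ' hφφ'
    have h1 : Ξ (φ' * φ⁻¹) = Ξ 1 := by
      apply Subtype.ext
      show ξ (φ' * φ⁻¹) = ξ 1
      rw [hξ1]
      funext s
      have h2 : ξ φ s = ξ φ' s := congrFun (congrArg Subtype.val hφφ') s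
      rw [hξ] at h2 ⊢
      simp only [hφS, MonoidHom.comp_apply, MonoidHom.mul_apply, MonoidHom.inv_apply,
        Units.val_mul, Units.val_inv_eq_inv_val] at h2 ⊢
      have h3 : ((φ ((QuotientGroup.mk' G) (S.subtype s)) : ℂˣ) : ℂ) ≠ 0 := Units.ne_zero _
      rw [mul_comm (((φ' ((QuotientGroup.mk' G) (S.subtype s)) : ℂˣ) : ℂ)), mul_assoc, ← h2]
      field_simp
    have h5 := hK3b _ h1
    apply MonoidHom.ext
    intro q
    have h6 := DFunLike.congr_fun h5 q
    simp only [MonoidHom.mul_apply, MonoidHom.inv_apply, MonoidHom.one_apply] at h6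
    exact (mul_inv_eq_one.mp h6).symm
  -- (K4): Bessel
  obtain ⟨n, hn⟩ := IsCharacter.exists_nat_coeff hψSchar
  have hcoef : ∀ ζ : IrrCharacter S, classInner ψS (ζ : S → ℂ) = n ζ := by
    intro ζ
    rw [hn]
    exact classInner_sum_irr _ ζ
  have hnorm : classInner ψS ψS = ((∑ ζ : IrrCharacter S, n ζ ^ 2 : ℕ) : ℂ) := by
    rw [hn, classInner_sum_sum]
    push_cast
    apply Finset.sum_congr rfl
    intro ζ _
    rw [Complex.conj_natCast]; ring
  have hK4 : ∑ φ : (Γ ⧸ G) →* ℂˣ, (n (Ξ φ)) ^ 2 ≤ ∑ ζ : IrrCharacter S, n ζ ^ 2 := by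
    rw [← Finset.sum_image (f := fun ζ => n ζ ^ 2) (s := Finset.univ) (g := Ξ)
      (fun a _ b _ h => hΞinj h)]
    exact Finset.sum_le_sum_of_subset (Finset.subset_univ _)
  -- (K1): the norm of ψS
  set F : Γ → ℂ := fun y => ψ y * (starRingEnd ℂ) (ψ y) with hF
  have hFcl : ∀ g y : Γ, F (g * y * g⁻¹) = F y := by
    intro g y
    have := IsCharacter.isClassFunction (IsIrrCharacter.isCharacter hψirr) y g
    rw [hF]
    simp only [this]
  have hFΓ : ∑ y : Γ, F y = (Nat.card Γ : ℂ) := by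
    have h1 := Cfsg.Agent.Helper24.classInner_irr_self (⟨ψ, hψirr⟩ : IrrCharacter Γ)
    unfold classInner at h1
    have hΓc : (Nat.card Γ : ℂ) ≠ 0 := Nat.cast_ne_zero.mpr Nat.card_pos.ne'
    field_simp at h1
    exact h1
  have hFG : ∑ y ∈ Finset.univ.filter (fun y : Γ => y ∈ G), F y = (Nat.card G : ℂ) := by
    rw [← sum_subgroup G F]
    have h1 := Cfsg.Agent.Helper24.classInner_irr_self χ
    unfold classInner at h1
    field_simp at h1
    rw [← h1]
    apply Finset.sum_congr rfl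
    intro g _
    rw [hF]
    simp only [hψG g]
  have hFnotG : ∑ y ∈ Finset.univ.filter (fun y : Γ => y ∉ G), F y =
      (Nat.card Γ : ℂ) - (Nat.card G : ℂ) := by
    rw [← hFΓ, ← hFG, ← Finset.sum_filter_add_sum_filter_not Finset.univ (fun y : Γ => y ∈ G) F]
    ring
  have hFN : ∑ y ∈ Finset.univ.filter (fun y : Γ => y ∈ N), F y =
      (e : ℂ) ^ 2 * (Nat.card N : ℂ) := by
    rw [← sum_subgroup N F, ← hsumθ, Finset.mul_sum]
    apply Finset.sum_congr rfl
    intro n' _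
    rw [hF]
    simp only [hψN n', map_mul, Complex.conj_natCast]
    ring
  have hFT : ∑ s ∈ Finset.univ.filter (fun s : Γ => s ∈ S ∧ s ∉ N), F s =
      ((m : ℂ) - 1) * (Nat.card N : ℂ) := by
    have hcard' : Nat.card S * Nat.card G = Nat.card N * Nat.card Γ := by
      rw [hcardS, hcardΓ]; ring
    have h1 := sum_compl_eq G N S hNG hNS hSG hfrob hcard' F hFcl
    rw [hFnotG, hcardΓ] at h1
    push_cast at h1
    have h2 : (Nat.card G : ℂ) * ∑ s ∈ Finset.univ.filter (fun s : Γ => s ∈ S ∧ s ∉ N), F s =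
        (Nat.card G : ℂ) * (((m : ℂ) - 1) * (Nat.card N : ℂ)) := by
      rw [h1]; ring
    exact mul_left_cancel₀ hGc h2
  have hK1 : classInner ψS ψS = ((e : ℂ) ^ 2 + (m : ℂ) - 1) / (m : ℂ) := by
    unfold classInner
    have h1 : ∑ s : S, ψS s * (starRingEnd ℂ) (ψS s) =
        ∑ y ∈ Finset.univ.filter (fun y : Γ => y ∈ S), F y := sum_subgroup S F
    rw [h1, ← Finset.sum_filter_add_sum_filter_not (Finset.univ.filter (fun y : Γ => y ∈ S))
      (fun y : Γ => y ∈ N) F, Finset.filter_filter, Finset.filter_filter]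
    have h2 : Finset.univ.filter (fun y : Γ => y ∈ S ∧ y ∈ N) =
        Finset.univ.filter (fun y : Γ => y ∈ N) := by
      apply Finset.filter_congr
      intro y _
      exact ⟨fun h => h.2, fun h => ⟨hNS h, h⟩⟩
    rw [h2, hFN, hFT, hcardS]
    push_cast
    field_simp
    ring
  -- final arithmetic
  set k : ℕ := ∑ ζ : IrrCharacter S, n ζ ^ 2 with hk
  have hmk : m * k + 1 = e ^ 2 + m := by
    have h1 : (k : ℂ) = ((e : ℂ) ^ 2 + (m : ℂ) - 1) / (m : ℂ) := by rw [← hnorm, hK1]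
    have h2 : (m : ℂ) * (k : ℂ) + 1 = (e : ℂ) ^ 2 + (m : ℂ) := by
      rw [h1]; field_simp; ring
    exact_mod_cast h2
  have hsumn : ∑ φ : (Γ ⧸ G) →* ℂˣ, n (Ξ φ) = e := by
    have h1 : ∑ φ : (Γ ⧸ G) →* ℂˣ, ((n (Ξ φ) : ℕ) : ℂ) = (e : ℂ) := by
      rw [← hK2]
      apply Finset.sum_congr rfl
      intro φ _
      exact (hcoef (Ξ φ)).symm
    exact_mod_cast h1
  have hfin := arith_dvd m hDcard (fun φ => (n (Ξ φ) : ℤ)) (e : ℤ)
    (by exact_mod_cast hsumn)
    (by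
      have h1 : m * ∑ φ : (Γ ⧸ G) →* ℂˣ, (n (Ξ φ)) ^ 2 ≤ m * k := Nat.mul_le_mul_left _ hK4
      have h2 : ((m * ∑ φ : (Γ ⧸ G) →* ℂˣ, (n (Ξ φ)) ^ 2 : ℕ) : ℤ) ≤ ((m * k : ℕ) : ℤ) := by
        exact_mod_cast h1
      have h3 : ((m * k : ℕ) : ℤ) = (e : ℤ) ^ 2 + m - 1 := by
        have : ((m * k + 1 : ℕ) : ℤ) = ((e ^ 2 + m : ℕ) : ℤ) := by exact_mod_cast hmk
        push_cast at this ⊢
        linarith
      rw [h3] at h2
      push_cast at h2
      exact h2)
    (by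
      refine ⟨(k : ℤ) - 1, ?_⟩
      have : ((m * k + 1 : ℕ) : ℤ) = ((e ^ 2 + m : ℕ) : ℤ) := by exact_mod_cast hmk
      push_cast at this
      linarith)
  exact hfin

end Main

end Cfsg.Agent.Helper24.FRF
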