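import Mathlib
import Cfsg.Agent.Helper26.WCModel
import Cfsg.Agent.Helper26.TH2
import Cfsg.Agent.Helper26.CF1
import Cfsg.Agent.Helper25.FusionSubnormal
import Cfsg.Agent.Helper25.FusionNormalizerConstrained
import Cfsg.Agent.S5077
import Cfsg.Agent.S5104

set_option autoImplicit false
set_option linter.style.haveILetI false
set_option linter.unusedSectionVars false

/-! Glauberman's theorem for fusion systems: subgroups carrying an automorphism of the system
that moves a given element, and how to enlarge them. -/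

namespace Cfsg.Agent.Helper24.GF

open Cfsg Cfsg.FusionSystem Cfsg.Agent.Helper25 Cfsg.Agent.Helper26.MasterRed
  Cfsg.Agent.Helper26.WC

variable {Ω : Type*} [Group Ω] {S : Subgroup Ω}

/-- `R` carries an automorphism of the system moving `x`. -/
def WBad (F : FusionSystem S) (x : Ω) (R : Subgroup Ω) : Prop :=
  ∃ φ ∈ F.Hom R, φ.range = R ∧ ∃ hx : x ∈ R, φ ⟨x, hx⟩ ≠ x

theorem WBad.le {F : FusionSystem S} {x : Ω} {R : Subgroup Ω} (h : WBad F x R) : R ≤ S := by
  obtain ⟨φ, hφ, -⟩ := h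
  exact (F.le_of_mem hφ).1

/-- Alperin's theorem: a map moving `x` with source of order more than `m` yields a fully
normalized subgroup of order more than `m` with an automorphism moving `x`. -/
theorem exists_wbad_of_moved [Finite S] (p : ℕ) [Fact p.Prime] (hS : IsPGroup p S)
    (F : FusionSystem S) (hF : F.IsSaturated p) {x : Ω} (hx : ∀ s ∈ S, s * x * s⁻¹ = x) (m : ℕ)
    {P : Subgroup Ω} {φ : P →* Ω} (hφ : φ ∈ F.Hom P) (hm : m < Nat.card P) (hxP : x ∈ P)
    (hne : φ ⟨x, hxP⟩ ≠ x) :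
    ∃ P' : Subgroup Ω, F.IsFullyNormalized P' ∧ m < Nat.card P' ∧ WBad F x P' := by
  by_contra hcon
  apply hne
  refine fixes_above p hS F hF hx m ?_ P φ hφ hm hxP
  intro Q hQ hmQ α hα hxQ
  by_contra hα'
  apply hcon
  refine ⟨Q, hQ, hmQ, autHom α, (mem_autGroup_iff F hQ.1 α).mp hα, autHom_range α, hxQ, ?_⟩
  intro h
  apply hα'
  exact Subtype.ext h

/-- A subgroup carrying an automorphism moving `x` can be replaced by a fully normalized one,
with normalizer and order at least as large. -/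
theorem upgrade [Finite S] (p : ℕ) [Fact p.Prime] (hS : IsPGroup p S)
    (F : FusionSystem S) (hF : F.IsSaturated p) {x : Ω} (hx : ∀ s ∈ S, s * x * s⁻¹ = x)
    {R : Subgroup Ω} (hR : WBad F x R) :
    ∃ P : Subgroup Ω, F.IsFullyNormalized P ∧ WBad F x P ∧
      Nat.card (normalizerIn S R) ≤ Nat.card (normalizerIn S P) ∧ Nat.card R ≤ Nat.card P := by
  obtain ⟨φ₀, hφ₀, hr₀, hxR, hne₀⟩ := hR
  have hRS : R ≤ S := (F.le_of_mem hφ₀).1
  have hRN : R ≤ normalizerIn S R := fun y hy => ⟨hRS hy, Subgroup.le_normalizer hy⟩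
  have hNS : normalizerIn S R ≤ S := inf_le_left
  have hNfin : Finite (normalizerIn S R) := finite_of_le hNS
  have hRfin : Finite R := finite_of_le hRS
  obtain ⟨P', hconj, hfn⟩ := exists_isConj_fullyNormalized F hRS
  obtain ⟨ψ, hψ, hψN, hψR⟩ := exists_normalizer_hom_of_fullyNormalized p hS F hF hfn hconj
  have hP'S : P' ≤ S := hfn.1
  have hP'fin : Finite P' := finite_of_le hP'S
  have hNP'fin : Finite (normalizerIn S P') := finite_of_le inf_le_left
  have hcardN : Nat.card (normalizerIn S R) ≤ Nat.card (normalizerIn S P') :=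
    hfn.2 R (isConj_symm F hconj)
  have hcardR : Nat.card R = Nat.card P' := card_eq_of_isConj F hconj
  by_cases hψx : ψ ⟨x, hRN hxR⟩ = x
  · -- transport the automorphism along `ψ`
    set ψR : R →* Ω := ψ.comp (Subgroup.inclusion hRN) with hψRdef
    have hψR' : ψR ∈ F.Hom R := restrict_mem F hRN hψ
    have hrange : ψR.range = P' := by
      rw [← hψR]
      ext y
      constructor
      · rintro ⟨r, rfl⟩
        exact ⟨Subgroup.inclusion hRN r, r.2, rfl⟩
      · rintro ⟨n, hn, rfl⟩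
        exact ⟨⟨n, hn⟩, rfl⟩
    have hinjR := F.injective_of_mem hψR'
    set e : R ≃* P' := isoOfHom ψR hinjR hrange with hedef
    have hecoe : ∀ z : R, ((e z : P') : Ω) = ψR z := fun z => rfl
    have hinv := isoOfHom_symm_mem F hψR' hrange
    set α₀ : R ≃* R := isoOfHom φ₀ (F.injective_of_mem hφ₀) hr₀ with hα₀def
    have hα₀coe : ∀ z : R, ((α₀ z : R) : Ω) = φ₀ z := fun z => rfl
    -- first composite
    have hχ₁ : φ₀.comp e.symm.toMonoidHom ∈ F.Hom P' := by
      refine comp_mem' F hinv hφ₀ (fun y => (e.symm y).2) (fun y => ?_)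
      rfl
    set χ : P' →* Ω := ψR.comp (α₀.toMonoidHom.comp e.symm.toMonoidHom) with hχdef
    have hχ : χ ∈ F.Hom P' := by
      refine comp_mem' F hχ₁ hψR' (fun y => ?_) (fun y => ?_)
      · show φ₀ (e.symm y) ∈ R
        rw [← hα₀coe]
        exact (α₀ (e.symm y)).2
      · show ψR (α₀ (e.symm y)) = ψR ⟨φ₀ (e.symm y), _⟩
        congr 1
    have hχr : χ.range = P' := by
      ext y
      constructor
      · rintro ⟨w, rfl⟩
        have h1 : χ w = ((e (α₀ (e.symm w)) : P') : Ω) := rfl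
        rw [h1]
        exact (e (α₀ (e.symm w))).2
      · intro hy
        refine ⟨e (α₀.symm (e.symm ⟨y, hy⟩)), ?_⟩
        show ψR (α₀ (e.symm (e (α₀.symm (e.symm ⟨y, hy⟩))))) = y
        rw [MulEquiv.symm_apply_apply, MulEquiv.apply_symm_apply, ← hecoe,
          MulEquiv.apply_symm_apply]
    have hxP' : x ∈ P' := by
      rw [← hrange]
      exact ⟨⟨x, hxR⟩, hψx⟩
    have hex : e ⟨x, hxR⟩ = ⟨x, hxP'⟩ := Subtype.ext hψx
    have hex' : e.symm ⟨x, hxP'⟩ = ⟨x, hxR⟩ := by
      rw [MulEquiv.symm_apply_eq]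
      exact hex.symm
    refine ⟨P', hfn, ⟨χ, hχ, hχr, hxP', ?_⟩, hcardN, hcardR.le⟩
    intro h
    apply hne₀
    have h1 : ψR (α₀ ⟨x, hxR⟩) = ψR ⟨x, hxR⟩ := by
      have h2 : χ ⟨x, hxP'⟩ = ψR (α₀ (e.symm ⟨x, hxP'⟩)) := rfl
      rw [hex'] at h2
      rw [← h2, h]
      exact hψx.symm
    have h3 := hinjR h1
    rw [← hα₀coe, h3]
  · -- `ψ` itself moves `x`
    have hpos : 0 < Nat.card (normalizerIn S R) := Nat.card_pos
    obtain ⟨P₁, hP₁fn, hP₁m, hP₁⟩ := exists_wbad_of_moved p hS F hF hx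
      (Nat.card (normalizerIn S R) - 1) hψ (by omega) (hRN hxR) hψx
    have hP₁S := hP₁fn.1
    have hP₁fin : Finite P₁ := finite_of_le hP₁S
    have hNP₁fin : Finite (normalizerIn S P₁) := finite_of_le inf_le_left
    have h1 : Nat.card P₁ ≤ Nat.card (normalizerIn S P₁) :=
      card_le_of_le (fun y hy => ⟨hP₁S hy, Subgroup.le_normalizer hy⟩)
    have h2 : Nat.card R ≤ Nat.card (normalizerIn S R) := card_le_of_le hRN
    exact ⟨P₁, hP₁fn, hP₁, by omega, by omega⟩

/-- For a fully normalized `P`, an automorphism moving `x` extends to `P C_S(P)`. -/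
theorem wbad_sup_centralizer [Finite S] (p : ℕ) [Fact p.Prime] (hS : IsPGroup p S)
    (F : FusionSystem S) (hF : F.IsSaturated p) {x : Ω} {P : Subgroup Ω}
    (hfn : F.IsFullyNormalized P) (hP : WBad F x P) : WBad F x (P ⊔ centralizerIn S P) := by
  obtain ⟨φ, hφ, hr, hxP, hne⟩ := hP
  have hPS : P ≤ S := hfn.1
  have hφS : ∀ y, φ y ∈ S := (F.le_of_mem hφ).2
  obtain ⟨hFC, -⟩ := Cfsg.Agent.S5077.sylow_axiom p hS F hF P hfn
  have hrec := Cfsg.Agent.S5077.extension_axiom p hS F hF P hFC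
  obtain ⟨ψ, hψ, hext⟩ := hrec.2 P φ hφ hr
  have hle : P ⊔ centralizerIn S P ≤ extender S P φ :=
    sup_le (le_extender hPS φ hφS) (Cfsg.Agent.S5104.centralizerIn_le_extender P φ)
  have hXS : P ⊔ centralizerIn S P ≤ S := sup_le hPS inf_le_left
  have hXfin : Finite ↥(P ⊔ centralizerIn S P) := finite_of_le hXS
  set ψ' : ↥(P ⊔ centralizerIn S P) →* Ω := ψ.comp (Subgroup.inclusion hle) with hψ'def
  have hψ' : ψ' ∈ F.Hom (P ⊔ centralizerIn S P) := restrict_mem F hle hψ
  have hψP : ∀ (y : Ω) (hy : y ∈ P), ψ' ⟨y, (le_sup_left : P ≤ P ⊔ centralizerIn S P) hy⟩ =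
      φ ⟨y, hy⟩ := fun y hy => hext y hy
        (hle ((le_sup_left : P ≤ P ⊔ centralizerIn S P) hy))
  have hψS : ∀ y, ψ' y ∈ S := (F.le_of_mem hψ').2
  have hinj := F.injective_of_mem hψ'
  -- the image lies in `P C_S(P)`
  have hmem : ∀ y : ↥(P ⊔ centralizerIn S P), (y : Ω) ∈ P ⊔ centralizerIn S P →
      y ∈ (P ⊔ centralizerIn S P).comap ψ' := by
    apply forall_mem_sup_of le_sup_left le_sup_right
    · intro y hy
      rw [Subgroup.mem_comap]
      apply (le_sup_left : P ≤ P ⊔ centralizerIn S P)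
      have h1 : ψ' y = φ ⟨y, hy⟩ := hψP y hy
      rw [h1]
      exact (show ∀ Y : Subgroup Ω, φ.range = Y → φ ⟨y, hy⟩ ∈ Y from
        fun Y hY => hY ▸ ⟨_, rfl⟩) P hr
    · intro c hc
      rw [Subgroup.mem_comap]
      apply (le_sup_right : centralizerIn S P ≤ P ⊔ centralizerIn S P)
      refine ⟨hψS c, ?_⟩
      show ψ' c ∈ Subgroup.centralizer (P : Set Ω)
      rw [Subgroup.mem_centralizer_iff]
      intro q hq
      have hq' : q ∈ φ.range := by
        rw [hr]
        exact hq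
      obtain ⟨q', rfl⟩ := hq'
      have h1 : φ q' = ψ' ⟨q', (le_sup_left : P ≤ P ⊔ centralizerIn S P) q'.2⟩ :=
        (hψP q' q'.2).symm
      rw [h1, ← map_mul, ← map_mul]
      congr 1
      apply Subtype.ext
      show (q' : Ω) * (c : Ω) = (c : Ω) * (q' : Ω)
      exact Subgroup.mem_centralizer_iff.mp hc.2 q' q'.2
  have hrange_le : ψ'.range ≤ P ⊔ centralizerIn S P := by
    rintro _ ⟨y, rfl⟩
    exact hmem y y.2
  have hrange : ψ'.range = P ⊔ centralizerIn S P := by
    apply Subgroup.eq_of_le_of_card_ge hrange_le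
    rw [← Nat.card_congr (MonoidHom.ofInjective hinj).toEquiv]
  refine ⟨ψ', hψ', hrange, (le_sup_left : P ≤ P ⊔ centralizerIn S P) hxP, ?_⟩
  rw [hψP x hxP]
  exact hne

/-- Elements of `S` normalizing `P` normalize `P C_S(P)`. -/
theorem normalizerIn_le_normalizerIn_sup (P : Subgroup Ω) :
    normalizerIn S P ≤ normalizerIn S (P ⊔ centralizerIn S P) := by
  have hA : normalizerIn S P ≤ Subgroup.normalizer (P : Set Ω) := inf_le_right
  have key : ∀ n ∈ normalizerIn S P, ∀ c ∈ centralizerIn S P, n * c * n⁻¹ ∈ centralizerIn S P := by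
    intro n hn c hc
    refine ⟨S.mul_mem (S.mul_mem hn.1 hc.1) (S.inv_mem hn.1), ?_⟩
    show n * c * n⁻¹ ∈ Subgroup.centralizer (P : Set Ω)
    rw [Subgroup.mem_centralizer_iff]
    intro q hq
    have hq' : n⁻¹ * q * n ∈ P := by
      have h1 : n⁻¹ ∈ Subgroup.normalizer (P : Set Ω) := Subgroup.inv_mem _ hn.2
      have := ((Subgroup.mem_normalizer_iff.mp h1) q).mp hq
      rwa [inv_inv] at this
    have h2 := Subgroup.mem_centralizer_iff.mp hc.2 _ hq'
    calc q * (n * c * n⁻¹) = n * ((n⁻¹ * q * n) * c) * n⁻¹ := by group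
      _ = n * (c * (n⁻¹ * q * n)) * n⁻¹ := by rw [h2]
      _ = n * c * n⁻¹ * q := by group
  have hB : normalizerIn S P ≤ Subgroup.normalizer ((centralizerIn S P : Subgroup Ω) : Set Ω) := by
    intro n hn
    rw [Subgroup.mem_normalizer_iff]
    intro c
    constructor
    · exact key n hn c
    · intro hc
      have := key n⁻¹ (Subgroup.inv_mem _ hn) _ hc
      have e : n⁻¹ * (n * c * n⁻¹) * n⁻¹⁻¹ = c := by group
      rwa [e] at this
  intro n hn
  exact ⟨hn.1, le_normalizer_sup_of hA hB hn⟩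

end Cfsg.Agent.Helper24.GF
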