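import Mathlib
import Cfsg.Agent.Helper24.GF1
import Cfsg.Agent.S5090
import Cfsg.Agent.S2799

set_option autoImplicit false
set_option linter.style.haveILetI false
set_option linter.unusedSectionVars false

/-! Glauberman's theorem for fusion systems: the model step and the main reduction. -/

namespace Cfsg.Agent.Helper24.GF

open Cfsg Cfsg.FusionSystem Cfsg.Agent.Helper25 Cfsg.Agent.Helper26.MasterRed
  Cfsg.Agent.Helper26.WC Cfsg.Agent.Helper26.TH Cfsg.Agent.Lead.TNC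

universe u

variable {Ω : Type u} [Group Ω] {S : Subgroup Ω}

/-- The model step: if `P` carries an automorphism moving the central element `x`, then in a model
of `N_F(P)` Glauberman's theorem yields an automorphism of `J(N_S(P))` moving `x`. -/
theorem wbad_J_of_model [Finite S] {p : ℕ} [Fact p.Prime]
    (F : FusionSystem S) {x : Ω} (hx : ∀ s ∈ S, s * x * s⁻¹ = x)
    {P : Subgroup Ω} (hPS : P ≤ S) (hP : WBad F x P)
    {G : Type u} [Group G] (ι : ↥(normalizerIn S P) →* G)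
    (hM : (normalizerSystem F P hPS).IsModel p G ι)
    (hyp : p ≠ 2 ∨ (∃ z ∈ S ⊓ Subgroup.centralizer (S : Set Ω), z ^ p = x) ∨
      ¬ Cfsg.Involves (Equiv.Perm (Fin 4)) G) :
    WBad F x (Cfsg.thompsonSubgroupAOf (normalizerIn S P)) := by
  obtain ⟨φ, hφ, hr, hxP, hne⟩ := hP
  have hTS : normalizerIn S P ≤ S := inf_le_left
  have hPT : P ≤ normalizerIn S P := fun y hy => ⟨hPS hy, Subgroup.le_normalizer hy⟩
  have hTfin : Finite (normalizerIn S P) := finite_of_le hTS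
  obtain ⟨hfin, hreal, ⟨Tsyl, hT⟩, hC⟩ := hM
  have hinj := hreal.1
  have hE := normalizerSystem_isNormalizerSystem F P hPS
  have hφP : ∀ y : P, φ y ∈ P := fun y =>
    (show ∀ Y : Subgroup Ω, φ.range = Y → φ y ∈ Y from fun Y hY => hY ▸ ⟨y, rfl⟩) P hr
  have hφT : ∀ y : P, φ y ∈ normalizerIn S P := fun y => hPT (hφP y)
  have hφE : φ ∈ (normalizerSystem F P hPS).Hom P := by
    rw [hE P]
    refine mem_normalizerHom_of_le F le_rfl hφ hPT hφT ?_
    rw [Subgroup.subgroupOf_self, ← MonoidHom.range_eq_map]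
    exact hr
  obtain ⟨g, hg⟩ := (hreal.2 P hPT φ hφT).mp hφE
  have hxT : x ∈ normalizerIn S P := hPT hxP
  have hxS : x ∈ S := hPS hxP
  have hgx := hg ⟨x, hxP⟩
  have h1 : g * ι ⟨x, hxT⟩ * g⁻¹ ∈ (Tsyl : Subgroup G) := by
    rw [hT, ← hgx]
    exact ⟨_, rfl⟩
  have h2 : g * ι ⟨x, hxT⟩ * g⁻¹ ≠ ι ⟨x, hxT⟩ := by
    rw [← hgx]
    intro h
    apply hne
    exact congrArg Subtype.val (hinj h)
  have hxTsyl : ι ⟨x, hxT⟩ ∈ (Tsyl : Subgroup G) := by
    rw [hT]
    exact ⟨_, rfl⟩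
  have hyp' : p ≠ 2 ∨ (∃ z ∈ (Tsyl : Subgroup G) ⊓
      Subgroup.centralizer ((Tsyl : Subgroup G) : Set G), z ^ p = ι ⟨x, hxT⟩) ∨
      ¬ Cfsg.Involves (Equiv.Perm (Fin 4)) G := by
    rcases hyp with h | ⟨z, hz, hzp⟩ | h
    · exact Or.inl h
    · right; left
      have hzc := Subgroup.mem_centralizer_iff.mp hz.2
      have hzT : z ∈ normalizerIn S P := by
        refine ⟨hz.1, Subgroup.centralizer_le_normalizer _ ?_⟩
        rw [Subgroup.mem_centralizer_iff]
        intro q hq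
        exact hzc q (hPS hq)
      refine ⟨ι ⟨z, hzT⟩, ⟨?_, ?_⟩, ?_⟩
      · rw [hT]
        exact ⟨_, rfl⟩
      · rw [hT]
        show ι ⟨z, hzT⟩ ∈ Subgroup.centralizer ((ι.range : Subgroup G) : Set G)
        rw [Subgroup.mem_centralizer_iff]
        rintro _ ⟨t, rfl⟩
        rw [← map_mul, ← map_mul]
        congr 1
        apply Subtype.ext
        exact hzc t (hTS t.2)
      · rw [← map_pow]
        congr 1
        apply Subtype.ext
        exact hzp
    · exact Or.inr (Or.inr h)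
  have hnotZ : ι ⟨x, hxT⟩ ∉ (Subgroup.center ↥(Subgroup.normalizer
      ((Cfsg.thompsonSubgroupAOf (Tsyl : Subgroup G)) : Set G))).map
      (Subgroup.normalizer ((Cfsg.thompsonSubgroupAOf (Tsyl : Subgroup G)) : Set G)).subtype := by
    intro hZ
    exact h2 (Cfsg.Agent.S2799.result Tsyl (ι ⟨x, hxT⟩) hxTsyl hZ hyp' g h1)
  have hxN : ι ⟨x, hxT⟩ ∈ Subgroup.normalizer
      ((Cfsg.thompsonSubgroupAOf (Tsyl : Subgroup G)) : Set G) :=
    fc_le_normalizer (jAFunctor.{u} p) (Tsyl : Subgroup G) hxTsyl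
  obtain ⟨h, hhN, hhx⟩ : ∃ h ∈ Subgroup.normalizer
      ((Cfsg.thompsonSubgroupAOf (Tsyl : Subgroup G)) : Set G),
      h * ι ⟨x, hxT⟩ * h⁻¹ ≠ ι ⟨x, hxT⟩ := by
    by_contra hcon
    push Not at hcon
    apply hnotZ
    refine ⟨⟨ι ⟨x, hxT⟩, hxN⟩, ?_, rfl⟩
    rw [SetLike.mem_coe, Subgroup.mem_center_iff]
    intro k
    apply Subtype.ext
    show (k : G) * ι ⟨x, hxT⟩ = ι ⟨x, hxT⟩ * (k : G)
    have := hcon k k.2
    calc (k : G) * ι ⟨x, hxT⟩ = ((k : G) * ι ⟨x, hxT⟩ * (k : G)⁻¹) * (k : G) := by group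
      _ = ι ⟨x, hxT⟩ * (k : G) := by rw [this]
  -- the Thompson subgroup of the Sylow subgroup
  have hJ : Cfsg.thompsonSubgroupAOf (Tsyl : Subgroup G) =
      ((Cfsg.thompsonSubgroupAOf (normalizerIn S P)).subgroupOf (normalizerIn S P)).map ι := by
    rw [hT]
    exact (fc_map_eq (jAFunctor.{u} p) (normalizerIn S P) ι hinj).symm
  have hJT : Cfsg.thompsonSubgroupAOf (normalizerIn S P) ≤ normalizerIn S P :=
    thompsonSubgroupAOf_le _
  have hJfin : Finite ↥(Cfsg.thompsonSubgroupAOf (normalizerIn S P)) := finite_of_le (hJT.trans hTS)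
  have hxJ : x ∈ Cfsg.thompsonSubgroupAOf (normalizerIn S P) := by
    apply Cfsg.Agent.Helper26.CF.center_le_thompsonSubgroupAOf (normalizerIn S P)
    refine ⟨hxT, ?_⟩
    show x ∈ Subgroup.centralizer ((normalizerIn S P : Subgroup Ω) : Set Ω)
    rw [Subgroup.mem_centralizer_iff]
    intro t ht
    have := hx t (hTS ht)
    calc t * x = (t * x * t⁻¹) * t := by group
      _ = x * t := by rw [this]
  have hgJ : ∀ y ∈ ((Cfsg.thompsonSubgroupAOf (normalizerIn S P)).subgroupOf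
      (normalizerIn S P)).map ι, h * y * h⁻¹ ∈
      ((Cfsg.thompsonSubgroupAOf (normalizerIn S P)).subgroupOf (normalizerIn S P)).map ι := by
    intro y hy
    rw [← hJ] at hy ⊢
    exact ((Subgroup.mem_normalizer_iff.mp hhN) y).mp hy
  have hconj : ∀ y : ↥(Cfsg.thompsonSubgroupAOf (normalizerIn S P)),
      h * ι ⟨y, hJT y.2⟩ * h⁻¹ ∈ ι.range := by
    intro y
    obtain ⟨z, -, hz⟩ := hgJ _ ⟨⟨y, hJT y.2⟩, y.2, rfl⟩
    exact ⟨z, hz⟩
  obtain ⟨β, hβ, hβT, hβι⟩ :=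
    Cfsg.Agent.Helper26.MasterRed.exists_hom_of_conj (normalizerSystem F P hPS) ι hreal hJT h hconj
  have hβJ : ∀ y : ↥(Cfsg.thompsonSubgroupAOf (normalizerIn S P)),
      β y ∈ Cfsg.thompsonSubgroupAOf (normalizerIn S P) := by
    intro y
    obtain ⟨z, hz, hze⟩ := hgJ _ ⟨⟨y, hJT y.2⟩, y.2, rfl⟩
    rw [← hβι y] at hze
    have h2 := hinj hze
    have h3 : (z : Ω) = β y := congrArg Subtype.val h2
    rw [← h3]
    exact hz
  have hβF : β ∈ F.Hom (Cfsg.thompsonSubgroupAOf (normalizerIn S P)) := by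
    have h3 := hβ
    rw [hE _] at h3
    exact h3.1
  have hβr : β.range = Cfsg.thompsonSubgroupAOf (normalizerIn S P) := by
    have h3 := map_eq_of_map_le (F.injective_of_mem hβF)
      (U := Cfsg.thompsonSubgroupAOf (normalizerIn S P)) (by
        rintro _ ⟨y, -, rfl⟩
        exact hβJ y) le_rfl
    rw [Subgroup.subgroupOf_self, ← MonoidHom.range_eq_map] at h3
    exact h3
  refine ⟨β, hβF, hβr, hxJ, ?_⟩
  intro hβx
  apply hhx
  rw [← hβι ⟨x, hxJ⟩]
  congr 1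
  exact Subtype.ext hβx

/-- **Glauberman's theorem for fusion systems**, elementwise: an element fixed by the normalizer
system of `J(S)` is fixed by the whole system, if `p` is odd, or the element is a `p`-th power of
an element of `Z(S)`, or the system is `S₄`-free. -/
theorem fixes_of_nfix_J [Finite S] {p : ℕ} [Fact p.Prime] (hS : IsPGroup p S)
    (F : FusionSystem S) (hF : F.IsSaturated p) {x : Ω} (hxS : x ∈ S)
    (hfix : NFix F (Cfsg.thompsonSubgroupAOf S) x)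
    (hyp : p ≠ 2 ∨ (∃ z ∈ S ⊓ Subgroup.centralizer (S : Set Ω), z ^ p = x) ∨
      F.IsSectionFree p (Equiv.Perm (Fin 4))) : Fixes F x := by
  classical
  have hJS : Cfsg.thompsonSubgroupAOf S ≤ S := thompsonSubgroupAOf_le S
  have hSNJ : S ≤ Subgroup.normalizer ((Cfsg.thompsonSubgroupAOf S : Subgroup Ω) : Set Ω) :=
    fc_le_normalizer (jAFunctor.{u} p) S
  have hx : ∀ s ∈ S, s * x * s⁻¹ = x := central_of_nfix hJS hSNJ hxS hfix
  by_contra hnot
  have hmoved : ∃ (P₀ : Subgroup Ω) (φ₀ : P₀ →* Ω), φ₀ ∈ F.Hom P₀ ∧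
      ∃ hxP₀ : x ∈ P₀, φ₀ ⟨x, hxP₀⟩ ≠ x := by
    by_contra hc
    apply hnot
    intro P φ hφ hxP
    by_contra h
    exact hc ⟨P, φ, hφ, hxP, h⟩
  obtain ⟨P₀, φ₀, hφ₀, hxP₀, hne₀⟩ := hmoved
  have hP₀fin : Finite P₀ := finite_of_le (F.le_of_mem hφ₀).1
  obtain ⟨P₁, hP₁fn, -, hP₁⟩ := exists_wbad_of_moved p hS F hF hx 0 hφ₀ Nat.card_pos hxP₀ hne₀
  -- choose `P` with `|N_S(P)|` maximal, then `|P|` maximal
  let T₁ : Set ℕ := {m | ∃ Q : Subgroup Ω, F.IsFullyNormalized Q ∧ WBad F x Q ∧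
    Nat.card (normalizerIn S Q) = m}
  have hT₁ne : T₁.Nonempty := ⟨_, P₁, hP₁fn, hP₁, rfl⟩
  have hbdd₁ : BddAbove T₁ := by
    refine ⟨Nat.card S, ?_⟩
    rintro m ⟨Q, -, -, rfl⟩
    exact card_le_of_le inf_le_left
  obtain ⟨P₂, hP₂fn, hP₂, hP₂c⟩ := Nat.sSup_mem hT₁ne hbdd₁
  let T₂ : Set ℕ := {m | ∃ Q : Subgroup Ω, F.IsFullyNormalized Q ∧ WBad F x Q ∧
    Nat.card (normalizerIn S Q) = sSup T₁ ∧ Nat.card Q = m}
  have hT₂ne : T₂.Nonempty := ⟨_, P₂, hP₂fn, hP₂, hP₂c, rfl⟩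
  have hbdd₂ : BddAbove T₂ := by
    refine ⟨Nat.card S, ?_⟩
    rintro m ⟨Q, hQ, -, -, rfl⟩
    exact card_le_of_le hQ.1
  obtain ⟨P, hPfn, hP, hPN, hPc⟩ := Nat.sSup_mem hT₂ne hbdd₂
  have hmax1 : ∀ Q : Subgroup Ω, F.IsFullyNormalized Q → WBad F x Q →
      Nat.card (normalizerIn S Q) ≤ Nat.card (normalizerIn S P) := by
    intro Q h1 h2
    rw [hPN]
    exact le_csSup hbdd₁ ⟨Q, h1, h2, rfl⟩
  have hmax2 : ∀ Q : Subgroup Ω, F.IsFullyNormalized Q → WBad F x Q →
      Nat.card (normalizerIn S Q) = Nat.card (normalizerIn S P) → Nat.card Q ≤ Nat.card P := by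
    intro Q h1 h2 h3
    rw [hPc]
    exact le_csSup hbdd₂ ⟨Q, h1, h2, h3.trans hPN, rfl⟩
  have hPS : P ≤ S := hPfn.1
  have hPfin : Finite P := finite_of_le hPS
  have hTS : normalizerIn S P ≤ S := inf_le_left
  have hTfin : Finite (normalizerIn S P) := finite_of_le hTS
  have hTp : IsPGroup p (normalizerIn S P) := isPGroup_of_le hS hTS
  -- `P` is centric
  have hCP : centralizerIn S P ≤ P := by
    have hbad := wbad_sup_centralizer p hS F hF hPfn hP
    obtain ⟨Q, hQfn, hQ, hQN, hQc⟩ := upgrade p hS F hF hx hbad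
    have hXfin : Finite (normalizerIn S (P ⊔ centralizerIn S P)) := finite_of_le inf_le_left
    have hXfin' : Finite ↥(P ⊔ centralizerIn S P) := finite_of_le (sup_le hPS inf_le_left)
    have h1 : Nat.card (normalizerIn S P) ≤ Nat.card (normalizerIn S (P ⊔ centralizerIn S P)) :=
      card_le_of_le (normalizerIn_le_normalizerIn_sup P)
    have h2 := hmax1 Q hQfn hQ
    have h3 := hmax2 Q hQfn hQ (by omega)
    have h4 : Nat.card ↥(P ⊔ centralizerIn S P) ≤ Nat.card P := by omega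
    have h5 : P = P ⊔ centralizerIn S P := Subgroup.eq_of_le_of_card_ge le_sup_left h4
    exact (le_sup_right : centralizerIn S P ≤ P ⊔ centralizerIn S P).trans h5.ge
  obtain ⟨hFC, -⟩ := Cfsg.Agent.S5077.sylow_axiom p hS F hF P hPfn
  have hPcen : F.IsCentric P := Cfsg.Agent.S5104.result p hS F hF P hFC hCP
  have hE := normalizerSystem_isNormalizerSystem F P hPS
  have hEcon := (normalizerSystem_isConstrained p hS F hF P hPfn hPcen _ hE).1
  obtain ⟨G, hG, ι, hM⟩ := Cfsg.Agent.S5090.result p hTp (normalizerSystem F P hPS) hEcon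
  have hyp' : p ≠ 2 ∨ (∃ z ∈ S ⊓ Subgroup.centralizer (S : Set Ω), z ^ p = x) ∨
      ¬ Cfsg.Involves (Equiv.Perm (Fin 4)) G := by
    rcases hyp with h | h | h
    · exact Or.inl h
    · exact Or.inr (Or.inl h)
    · exact Or.inr (Or.inr (h P hPfn hPcen _ hE G ι hM))
  have hJbad := wbad_J_of_model F hx hPS hP ι hM hyp'
  by_cases hTe : normalizerIn S P = S
  · -- `J(S)` carries an automorphism moving `x`
    rw [hTe] at hJbad
    obtain ⟨β, hβ, hβr, hxJ, hβx⟩ := hJbad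
    apply hβx
    have hJN : Cfsg.thompsonSubgroupAOf S ≤ normalizerIn S (Cfsg.thompsonSubgroupAOf S) :=
      fun y hy => ⟨hJS hy, Subgroup.le_normalizer hy⟩
    have hβJ : ∀ y, β y ∈ Cfsg.thompsonSubgroupAOf S := fun y =>
      (show ∀ Y : Subgroup Ω, β.range = Y → β y ∈ Y from fun Y hY => hY ▸ ⟨y, rfl⟩) _ hβr
    refine hfix _ β (mem_normalizerHom_of_le F le_rfl hβ hJN (fun y => hJN (hβJ y)) ?_) hxJ
    rw [Subgroup.subgroupOf_self, ← MonoidHom.range_eq_map]
    exact hβr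
  · -- `N_S(J(N_S(P)))` is larger than `N_S(P)`
    obtain ⟨Q, hQfn, hQ, hQN, -⟩ := upgrade p hS F hF hx hJbad
    obtain ⟨g, hgN, hgT⟩ := exists_mem_normalizerIn_not_mem p hS hTS hTe
    have hNJ : Subgroup.normalizer ((normalizerIn S P : Subgroup Ω) : Set Ω) ≤
        Subgroup.normalizer ((Cfsg.thompsonSubgroupAOf (normalizerIn S P) : Subgroup Ω) : Set Ω) :=
      (jAFunctor.{u} p).normalizer_le (normalizerIn S P)
    have hNJfin : Finite (normalizerIn S (Cfsg.thompsonSubgroupAOf (normalizerIn S P))) :=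
      finite_of_le inf_le_left
    have hle : normalizerIn S P ≤
        normalizerIn S (Cfsg.thompsonSubgroupAOf (normalizerIn S P)) :=
      fun y hy => ⟨hTS hy, hNJ (Subgroup.le_normalizer hy)⟩
    have hlt : Nat.card (normalizerIn S P) <
        Nat.card (normalizerIn S (Cfsg.thompsonSubgroupAOf (normalizerIn S P))) := by
      apply Cfsg.Agent.Helper26.MasterRed.card_lt_of_lt hle
      intro h
      apply hgT
      rw [h]
      exact ⟨hgN.1, hNJ hgN.2⟩
    have := hmax1 Q hQfn hQ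
    omega

end Cfsg.Agent.Helper24.GF
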