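import Mathlib
import Cfsg.Agent.Helper14.PCore
import Cfsg.Agent.Helper16.BaerSuzuki
import Cfsg.Agent.Helper1.PrimeGraph
import Cfsg.Agent.Helper24.GagolaCentral
import Cfsg.Agent.Helper24.GagolaSylow

/-!
# Gagola characters: the case `N = O_p(G)` gives a doubly transitive Frobenius group

Purely group-theoretic part.  `N` is a normal elementary abelian `p`-subgroup of `G` such that
* `G` is transitive on `N \ {1}`,
* the centralizer of every nonidentity element of `N` is a Sylow `p`-subgroup,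
* `|C_G(x)| = |C_{G/N}(xN)|` for `x ∉ N`,
* the centre of every Sylow `p`-subgroup lies in `N`.
If moreover `N = O_p(G)` then `N` is a Sylow `p`-subgroup of `G`.
-/

set_option autoImplicit false

namespace Cfsg.Agent.Helper24

open Cfsg Pointwise

universe u

section GagolaFrob

variable {G : Type u} [Group G] [Finite G]

/-- Step A: `C_G(N) ≤ N` when `N = O_p(G)` and centralizers of nonidentity elements are
`p`-groups. -/
theorem gf_centralizer_le (p : ℕ) [Fact p.Prime] (N : Subgroup G) [N.Normal]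
    (hcore : N = pCore p G) (hN1 : N ≠ ⊥)
    (hsyl : ∀ x ∈ N, x ≠ 1 → ∃ P : Sylow p G, Subgroup.centralizer ({x} : Set G) = P) :
    Subgroup.centralizer (N : Set G) ≤ N := by
  obtain ⟨⟨x, hx⟩, hx1'⟩ := (Subgroup.ne_bot_iff_exists_ne_one).mp hN1
  have hx1 : x ≠ 1 := fun h => hx1' (Subtype.ext h)
  obtain ⟨P, hP⟩ := hsyl x hx hx1
  have hle : Subgroup.centralizer (N : Set G) ≤ Subgroup.centralizer ({x} : Set G) :=
    Subgroup.centralizer_le (by simpa using hx)
  have hpg : IsPGroup p (Subgroup.centralizer (N : Set G)) := by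
    rw [hP] at hle
    exact P.2.to_le hle
  exact (Helper14.le_pCore p inferInstance hpg).trans hcore.symm.le

/-- Two involutions whose product has `2`-power order generate a `2`-group. -/
theorem gf_dihedral_two_group {Q : Type*} [Group Q] (a b : Q) (ha : a ^ 2 = 1) (hb : b ^ 2 = 1)
    (j : ℕ) (hab : (a * b) ^ (2 ^ j) = 1) :
    IsPGroup 2 (Subgroup.closure ({a, b} : Set Q)) := by
  have hainv : a⁻¹ = a := by
    rw [inv_eq_iff_mul_eq_one, ← pow_two, ha]
  have hbinv : b⁻¹ = b := by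
    rw [inv_eq_iff_mul_eq_one, ← pow_two, hb]
  set s := a * b with hs
  have hconj : a * s * a⁻¹ = s⁻¹ := by
    rw [hs, mul_inv_rev, hainv, hbinv]
    calc a * (a * b) * a = (a * a) * b * a := by group
      _ = b * a := by rw [← pow_two, ha, one_mul]
  have h1 : IsPGroup 2 (Subgroup.zpowers a) := by
    rintro ⟨x, hx⟩
    obtain ⟨k, rfl⟩ := Subgroup.mem_zpowers_iff.mp hx
    refine ⟨1, ?_⟩
    apply Subtype.ext
    simp only [pow_one, Subgroup.coe_pow, Subgroup.coe_one]
    rw [← zpow_natCast, ← zpow_mul, mul_comm, zpow_mul, zpow_natCast, ha, one_zpow]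
  have h2 : IsPGroup 2 (Subgroup.zpowers s) := by
    rintro ⟨x, hx⟩
    obtain ⟨k, rfl⟩ := Subgroup.mem_zpowers_iff.mp hx
    refine ⟨j, ?_⟩
    apply Subtype.ext
    simp only [Subgroup.coe_pow, Subgroup.coe_one]
    rw [← zpow_natCast, ← zpow_mul, mul_comm, zpow_mul, zpow_natCast, hab, one_zpow]
  have hnorm : Subgroup.zpowers a ≤ Subgroup.normalizer (Subgroup.zpowers s : Set Q) := by
    rw [Subgroup.zpowers_le]
    rw [Subgroup.mem_normalizer_iff]
    intro h
    have key : ∀ k : ℤ, a * s ^ k * a⁻¹ = (s ^ k)⁻¹ := by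
      intro k
      have : a * s ^ k * a⁻¹ = (a * s * a⁻¹) ^ k := by
        rw [conj_zpow]
      rw [this, hconj, inv_zpow]
    constructor
    · intro hh
      obtain ⟨k, rfl⟩ := Subgroup.mem_zpowers_iff.mp hh
      rw [key]
      exact Subgroup.inv_mem _ (Subgroup.zpow_mem_zpowers s k)
    · intro hh
      obtain ⟨k, hk⟩ := Subgroup.mem_zpowers_iff.mp hh
      have : h = a⁻¹ * (s ^ k) * a := by rw [hk]; group
      rw [this]
      have h3 : a⁻¹ * s ^ k * a = a * s ^ k * a⁻¹ := by rw [hainv]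
      rw [h3, key]
      exact Subgroup.inv_mem _ (Subgroup.zpow_mem_zpowers s k)
  have hsup := IsPGroup.to_sup_of_normal_right' h1 h2 hnorm
  refine hsup.to_le ?_
  rw [Subgroup.closure_le]
  intro x hx
  rcases hx with rfl | rfl
  · exact (le_sup_left : Subgroup.zpowers x ≤ _) (Subgroup.mem_zpowers x)
  · have hb' : x = a⁻¹ * s := by rw [hs]; group
    rw [hb']
    exact Subgroup.mul_mem _
      ((le_sup_left : Subgroup.zpowers a ≤ _) (Subgroup.inv_mem _ (Subgroup.mem_zpowers a)))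
      ((le_sup_right : Subgroup.zpowers s ≤ _) (Subgroup.mem_zpowers s))

/-- L1: if `|C_G(x)| = |C_{G/N}(xN)|` then `x` is conjugate to every element of `xN`. -/
theorem gf_conj_coset (N : Subgroup G) [N.Normal] (x : G)
    (hcent : Nat.card (Subgroup.centralizer ({x} : Set G)) =
      Nat.card (Subgroup.centralizer ({(x : G ⧸ N)} : Set (G ⧸ N)))) (n : G) (hn : n ∈ N) :
    ∃ g : G, g * x * g⁻¹ = x * n := by
  set C := Subgroup.centralizer ({x} : Set G) with hC
  set Cs := (Subgroup.centralizer ({(x : G ⧸ N)} : Set (G ⧸ N))).comap (QuotientGroup.mk' N)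
    with hCsdef
  have hCs : Nat.card Cs = Nat.card C * Nat.card N := by
    rw [hCsdef, Helper1.PrimeGraph.card_comap_mk, ← hcent]
  have hmemCs : ∀ g : G, g ∈ Cs ↔ (g : G ⧸ N) * (x : G ⧸ N) = (x : G ⧸ N) * (g : G ⧸ N) := by
    intro g
    rw [hCsdef, Subgroup.mem_comap, Subgroup.mem_centralizer_iff]
    simp only [Set.mem_singleton_iff, forall_eq, QuotientGroup.mk'_apply]
    exact eq_comm
  have hmemC : ∀ g : G, g ∈ C ↔ g * x = x * g := by
    intro g
    rw [hC, Subgroup.mem_centralizer_iff]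
    simp only [Set.mem_singleton_iff, forall_eq]
    exact eq_comm
  have hle : C ≤ Cs := by
    intro g hg
    rw [hmemCs]
    have := (hmemC g).mp hg
    rw [← QuotientGroup.mk_mul, this, QuotientGroup.mk_mul]
  have hfmem : ∀ g : Cs, x⁻¹ * ((g : G) * x * (g : G)⁻¹) ∈ N := by
    intro g
    have h1 := (hmemCs g).mp g.2
    rw [← QuotientGroup.eq_one_iff]
    simp only [QuotientGroup.mk_mul, QuotientGroup.mk_inv]
    rw [h1]
    group
  let f : Cs → N := fun g => ⟨x⁻¹ * ((g : G) * x * (g : G)⁻¹), hfmem g⟩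
  have hfrel : ∀ g h : Cs, f g = f h ↔ g⁻¹ * h ∈ C.subgroupOf Cs := by
    intro g h
    rw [Subgroup.mem_subgroupOf, hmemC]
    simp only [f, Subtype.mk.injEq, mul_right_inj, Subgroup.coe_mul, Subgroup.coe_inv]
    constructor
    · intro hh
      calc (g : G)⁻¹ * (h : G) * x = (g : G)⁻¹ * ((h : G) * x * (h : G)⁻¹) * (h : G) := by group
        _ = (g : G)⁻¹ * ((g : G) * x * (g : G)⁻¹) * (h : G) := by rw [hh]
        _ = x * ((g : G)⁻¹ * (h : G)) := by group
    · intro hh
      calc (g : G) * x * (g : G)⁻¹ = (g : G) * (x * ((g : G)⁻¹ * (h : G))) * (h : G)⁻¹ := by group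
        _ = (g : G) * ((g : G)⁻¹ * (h : G) * x) * (h : G)⁻¹ := by rw [hh]
        _ = (h : G) * x * (h : G)⁻¹ := by group
  let F : Cs ⧸ (C.subgroupOf Cs) → N := Quotient.lift f (by
    intro g h hgh
    rw [hfrel]
    exact QuotientGroup.leftRel_apply.mp hgh)
  have hFinj : Function.Injective F := by
    intro q₁ q₂
    refine Quotient.inductionOn₂ q₁ q₂ ?_
    intro g h hgh
    apply Quotient.sound
    exact QuotientGroup.leftRel_apply.mpr ((hfrel g h).mp hgh)
  have hcard : Nat.card (Cs ⧸ C.subgroupOf Cs) = Nat.card N := by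
    have h1 := Subgroup.card_eq_card_quotient_mul_card_subgroup (C.subgroupOf Cs)
    have h2 : Nat.card (C.subgroupOf Cs) = Nat.card C :=
      Nat.card_congr (Subgroup.subgroupOfEquivOfLe hle).toEquiv
    rw [h2, hCs, mul_comm] at h1
    exact (Nat.eq_of_mul_eq_mul_right Nat.card_pos h1).symm
  have hbij := Function.Injective.bijective_of_nat_card_le hFinj (le_of_eq hcard.symm)
  obtain ⟨q, hq⟩ := hbij.2 ⟨n, hn⟩
  induction q using Quotient.inductionOn with
  | h g =>
    refine ⟨(g : G), ?_⟩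
    have h1 : x⁻¹ * ((g : G) * x * (g : G)⁻¹) = n := congrArg Subtype.val hq
    rw [← h1]
    group


/-- In a group of odd prime exponent, an element of order dividing two is trivial. -/
theorem gf_sq_eq_one (p : ℕ) [hp : Fact p.Prime] (hp2 : p ≠ 2) (y : G) (hy : y ^ p = 1)
    (hy2 : y ^ 2 = 1) : y = 1 := by
  have h1 : orderOf y ∣ p := orderOf_dvd_of_pow_eq_one hy
  have h2 : orderOf y ∣ 2 := orderOf_dvd_of_pow_eq_one hy2
  have h3 : orderOf y ∣ Nat.gcd p 2 := Nat.dvd_gcd h1 h2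
  have h4 : Nat.gcd p 2 = 1 := (Nat.coprime_primes hp.out Nat.prime_two).mpr hp2
  rw [h4, Nat.dvd_one] at h3
  exact orderOf_eq_one_iff.mp h3

/-- If some element inverts a non-involution then the group has even order, hence an
involution. -/
theorem gf_exists_involution (a g : G) (ha : a⁻¹ ≠ a) (hg : g * a * g⁻¹ = a⁻¹) :
    ∃ t : G, orderOf t = 2 := by
  have heven : Even (orderOf g) := by
    rw [← Nat.not_odd_iff_even]
    rintro ⟨j, hj⟩
    have hg' : g * a⁻¹ * g⁻¹ = a := by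
      have : g * a⁻¹ * g⁻¹ = (g * a * g⁻¹)⁻¹ := by group
      rw [this, hg, inv_inv]
    have h2 : Commute (g ^ 2) a := by
      show g ^ 2 * a = a * g ^ 2
      calc g ^ 2 * a = g * (g * a * g⁻¹) * g⁻¹ * g ^ 2 := by simp only [pow_two]; group
        _ = g * a⁻¹ * g⁻¹ * g ^ 2 := by rw [hg]
        _ = a * g ^ 2 := by rw [hg']
    have h3 : Commute ((g ^ 2) ^ (j + 1)) a := h2.pow_left _
    have h4 : (g ^ 2) ^ (j + 1) = g := by
      rw [← pow_mul]
      have : 2 * (j + 1) = orderOf g + 1 := by omega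
      rw [this, pow_succ, pow_orderOf_eq_one, one_mul]
    rw [h4] at h3
    apply ha
    rw [← hg, h3.eq]
    group
  have h2 : 2 ∣ Nat.card G := (even_iff_two_dvd.mp heven).trans (orderOf_dvd_natCard g)
  exact exists_prime_orderOf_dvd_card' 2 h2

/-- An involution commutes with no nonidentity element whose centralizer is a `p`-group, `p`
odd. -/
theorem gf_invol_free (p : ℕ) [hp : Fact p.Prime] (hp2 : p ≠ 2) (N : Subgroup G)
    (hsyl : ∀ x ∈ N, x ≠ 1 → ∃ P : Sylow p G, Subgroup.centralizer ({x} : Set G) = P)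
    (t : G) (ht : orderOf t = 2) (y : G) (hy : y ∈ N) (hty : t * y = y * t) : y = 1 := by
  by_contra hy1
  obtain ⟨P, hP⟩ := hsyl y hy hy1
  have htP : t ∈ (P : Subgroup G) := by
    rw [← hP, Subgroup.mem_centralizer_iff]
    intro h hh
    rw [Set.mem_singleton_iff] at hh
    rw [hh]
    exact hty.symm
  obtain ⟨k, hk⟩ := P.2 ⟨t, htP⟩
  have hk' : t ^ (p ^ k) = 1 := by
    have := congrArg Subtype.val hk
    simpa using this
  have h1 : 2 ∣ p ^ k := by
    rw [← ht]
    exact orderOf_dvd_of_pow_eq_one hk'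
  have h2 : 2 ∣ p := Nat.Prime.dvd_of_dvd_pow Nat.prime_two h1
  exact hp2 ((Nat.prime_dvd_prime_iff_eq Nat.prime_two hp.out).mp h2).symm

/-- A fixed-point-free involution on an abelian normal subgroup inverts it. -/
theorem gf_invol_inverts (N : Subgroup G) [N.Normal]
    (hcomm : ∀ x ∈ N, ∀ y ∈ N, x * y = y * x) (t : G) (ht : t ^ 2 = 1)
    (hfree : ∀ y ∈ N, t * y = y * t → y = 1) (y : G) (hy : y ∈ N) : t * y * t⁻¹ = y⁻¹ := by
  have hty : t * y * t⁻¹ ∈ N := Subgroup.Normal.conj_mem inferInstance y hy t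
  have hw : y * (t * y * t⁻¹) ∈ N := N.mul_mem hy hty
  have htinv : t⁻¹ = t := by
    rw [inv_eq_iff_mul_eq_one, ← pow_two, ht]
  have h1 : t * (y * (t * y * t⁻¹)) = (y * (t * y * t⁻¹)) * t := by
    have h2 : t * t = 1 := by rw [← pow_two, ht]
    calc t * (y * (t * y * t⁻¹)) = (t * y * t⁻¹) * ((t * t) * y * (t⁻¹ * t⁻¹)) * t := by group
      _ = (t * y * t⁻¹) * y * t := by rw [htinv, h2]; group
      _ = (y * (t * y * t⁻¹)) * t := by rw [hcomm _ hty _ hy]
  have h3 := hfree _ hw h1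
  exact (eq_inv_of_mul_eq_one_right h3)


/-- If an involution `t` inverts the self-centralizing abelian normal subgroup `N` of odd
exponent `p`, every coset of `N` contains an element commuting with `t`. -/
theorem gf_coset_fixed (p : ℕ) [hp : Fact p.Prime] (hp2 : p ≠ 2) (N : Subgroup G) [N.Normal]
    (hCN : Subgroup.centralizer (N : Set G) ≤ N) (hexp : ∀ x ∈ N, x ^ p = 1)
    (t : G) (ht : t ^ 2 = 1) (hinv : ∀ y ∈ N, t * y * t⁻¹ = y⁻¹) (g : G) :
    ∃ n ∈ N, t * (g * n) = (g * n) * t := by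
  have htinv : t⁻¹ = t := by
    rw [inv_eq_iff_mul_eq_one, ← pow_two, ht]
  set m := g⁻¹ * (t * g * t⁻¹) with hm
  have hmN : m ∈ N := by
    apply hCN
    rw [Subgroup.mem_centralizer_iff]
    intro y hy
    have hy' : y ∈ N := hy
    have e1 : t⁻¹ * y * t = y⁻¹ := by
      have : t⁻¹ * y * t = t * y * t⁻¹ := by rw [htinv]
      rw [this]; exact hinv y hy'
    have e2 : t * (g * y⁻¹ * g⁻¹) * t⁻¹ = (g * y⁻¹ * g⁻¹)⁻¹ :=
      hinv _ (Subgroup.Normal.conj_mem inferInstance _ (N.inv_mem hy') g)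
    have e3 : m * y * m⁻¹ = y := by
      calc m * y * m⁻¹ = g⁻¹ * (t * (g * (t⁻¹ * y * t) * g⁻¹) * t⁻¹) * g := by rw [hm]; group
        _ = g⁻¹ * (t * (g * y⁻¹ * g⁻¹) * t⁻¹) * g := by rw [e1]
        _ = g⁻¹ * (g * y⁻¹ * g⁻¹)⁻¹ * g := by rw [e2]
        _ = y := by group
    calc y * m = (m * y * m⁻¹) * m := by rw [e3]
      _ = m * y := by group
  obtain ⟨k, hk⟩ : ∃ k, p + 1 = 2 * k := by
    rcases hp.out.eq_two_or_odd' with h | h
    · exact absurd h hp2
    · obtain ⟨j, hj⟩ := h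
      exact ⟨j + 1, by omega⟩
  set n := m ^ k with hn
  have hnN : n ∈ N := N.pow_mem hmN k
  have hnn : n * n = m := by
    rw [hn, ← pow_add, ← two_mul, ← hk, pow_succ, hexp m hmN, one_mul]
  have hgm : t * g * t⁻¹ = g * m := by rw [hm]; group
  refine ⟨n, hnN, ?_⟩
  calc t * (g * n) = (t * g * t⁻¹) * (t * n * t⁻¹) * t := by group
    _ = (g * m) * n⁻¹ * t := by rw [hgm, hinv n hnN]
    _ = g * (n * n) * n⁻¹ * t := by rw [hnn]
    _ = g * n * t := by group


/-- Step B for odd `p`: every Sylow `p`-subgroup is contained in `N`. -/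
theorem gf_sylow_le_odd (p : ℕ) [hp : Fact p.Prime] (hp2 : p ≠ 2) (N : Subgroup G) [N.Normal]
    (hcore : N = pCore p G) (hN1 : N ≠ ⊥)
    (hcomm : ∀ x ∈ N, ∀ y ∈ N, x * y = y * x)
    (hexp : ∀ x ∈ N, x ^ p = 1)
    (htrans : ∀ x ∈ N, ∀ y ∈ N, x ≠ 1 → y ≠ 1 → ∃ g : G, g * x * g⁻¹ = y)
    (hsyl : ∀ x ∈ N, x ≠ 1 → ∃ P : Sylow p G, Subgroup.centralizer ({x} : Set G) = P)
    (hcent : ∀ x : G, x ∉ N → Nat.card (Subgroup.centralizer ({x} : Set G)) =
      Nat.card (Subgroup.centralizer ({(x : G ⧸ N)} : Set (G ⧸ N))))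
    (hcenter : ∀ P : Sylow p G,
      (Subgroup.center ↥(P : Subgroup G)).map (P : Subgroup G).subtype ≤ N)
    (P : Sylow p G) : (P : Subgroup G) ≤ N := by
  have hCN := gf_centralizer_le p N hcore hN1 hsyl
  obtain ⟨⟨a, ha⟩, ha1'⟩ := (Subgroup.ne_bot_iff_exists_ne_one).mp hN1
  have ha1 : a ≠ 1 := fun h => ha1' (Subtype.ext h)
  have hainv : a⁻¹ ≠ a := by
    intro h
    apply ha1
    apply gf_sq_eq_one p hp2 a (hexp a ha)
    rw [pow_two]
    nth_rewrite 1 [← h]
    exact inv_mul_cancel a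
  obtain ⟨g, hg⟩ := htrans a ha a⁻¹ (N.inv_mem ha) ha1 (inv_ne_one.mpr ha1)
  obtain ⟨t, ht⟩ := gf_exists_involution a g hainv hg
  have ht2 : t ^ 2 = 1 := by rw [← ht]; exact pow_orderOf_eq_one t
  have hfree := gf_invol_free p hp2 N hsyl t ht
  have hinv := gf_invol_inverts N hcomm t ht2 hfree
  have hfix := gf_coset_fixed p hp2 N hCN hexp t ht2 hinv
  intro x hxP
  by_contra hxN
  obtain ⟨n, hn, hxn⟩ := hfix x
  set x' := x * n with hx'
  have hNP : N ≤ (P : Subgroup G) := hcore.le.trans (Helper14.pCore_le_sylow p P)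
  have hx'P : x' ∈ (P : Subgroup G) := mul_mem hxP (hNP hn)
  have hx'N : x' ∉ N := by
    intro h
    apply hxN
    have := N.mul_mem h (N.inv_mem hn)
    simpa [hx'] using this
  haveI : Nontrivial (P : Subgroup G) :=
    ⟨⟨⟨a, hNP ha⟩, 1, fun h => ha1 (congrArg Subtype.val h)⟩⟩
  haveI : Nontrivial (Subgroup.center (P : Subgroup G)) := P.2.center_nontrivial
  obtain ⟨⟨z, hz⟩, hz1⟩ := exists_ne (1 : Subgroup.center (P : Subgroup G))
  have hzN : (z : G) ∈ N := hcenter P ⟨z, hz, rfl⟩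
  have hz1' : (z : G) ≠ 1 := by
    intro h
    apply hz1
    apply Subtype.ext
    apply Subtype.ext
    exact h
  have hzx : (z : G) * x' = x' * (z : G) := by
    have := Subgroup.mem_center_iff.mp hz ⟨x', hx'P⟩
    exact (congrArg Subtype.val this).symm
  set C := Subgroup.centralizer ({x'} : Set G) with hC
  set Cb := Subgroup.centralizer ({(x' : G ⧸ N)} : Set (G ⧸ N)) with hCb
  have hmemC : ∀ g : G, g ∈ C ↔ x' * g = g * x' := by
    intro g
    rw [hC, Subgroup.mem_centralizer_iff]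
    simp only [Set.mem_singleton_iff, forall_eq]
  have hmemCb : ∀ q : G ⧸ N, q ∈ Cb ↔ (x' : G ⧸ N) * q = q * (x' : G ⧸ N) := by
    intro q
    rw [hCb, Subgroup.mem_centralizer_iff]
    simp only [Set.mem_singleton_iff, forall_eq]
  let φ : C →* G ⧸ N := (QuotientGroup.mk' N).comp C.subtype
  have hφ : ∀ c : C, φ c = ((c : G) : G ⧸ N) := fun c => rfl
  have hrange : φ.range = Cb := by
    apply le_antisymm
    · rintro _ ⟨c, rfl⟩
      rw [hmemCb, hφ, ← QuotientGroup.mk_mul, (hmemC c).mp c.2, QuotientGroup.mk_mul]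
    · intro q hq
      obtain ⟨g₀, rfl⟩ := QuotientGroup.mk_surjective q
      obtain ⟨n', hn', hgn⟩ := hfix g₀
      set g' := g₀ * n' with hg'
      have hq' := (hmemCb _).mp hq
      have hg'q : (g' : G ⧸ N) = (g₀ : G ⧸ N) := by
        rw [hg', QuotientGroup.mk_mul, (QuotientGroup.eq_one_iff n').mpr hn', mul_one]
      have hc : g' * x' * g'⁻¹ * x'⁻¹ ∈ N := by
        rw [← QuotientGroup.eq_one_iff]
        simp only [QuotientGroup.mk_mul, QuotientGroup.mk_inv]
        rw [hg'q, ← hq']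
        group
      have hct : t * (g' * x' * g'⁻¹ * x'⁻¹) = (g' * x' * g'⁻¹ * x'⁻¹) * t := by
        have c1 : Commute t g' := hgn
        have c2 : Commute t x' := hxn
        exact ((c1.mul_right c2).mul_right c1.inv_right).mul_right c2.inv_right
      have hc1 := hfree _ hc hct
      have hg'C : g' ∈ C := by
        rw [hmemC]
        calc x' * g' = (g' * x' * g'⁻¹ * x'⁻¹)⁻¹ * (g' * x') := by group
          _ = g' * x' := by rw [hc1, inv_one, one_mul]
      exact ⟨⟨g', hg'C⟩, hg'q⟩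
  have h1 := Subgroup.card_eq_card_quotient_mul_card_subgroup φ.ker
  have h2 : Nat.card (C ⧸ φ.ker) = Nat.card Cb := by
    rw [← hrange]
    exact Nat.card_congr (QuotientGroup.quotientKerEquivRange φ).toEquiv
  have h3 : 1 < Nat.card φ.ker := by
    have hne : φ.ker ≠ ⊥ := by
      intro h
      have hzC : (z : G) ∈ C := (hmemC _).mpr hzx.symm
      have hzk : (⟨(z : G), hzC⟩ : C) ∈ φ.ker := by
        rw [MonoidHom.mem_ker, hφ]
        exact (QuotientGroup.eq_one_iff _).mpr hzN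
      rw [h, Subgroup.mem_bot] at hzk
      exact hz1' (congrArg Subtype.val hzk)
    exact (Subgroup.one_lt_card_iff_ne_bot _).mpr hne
  have h4 := hcent x' hx'N
  rw [h2] at h1
  have hpos : 0 < Nat.card Cb := Nat.card_pos
  have h5 : Nat.card C = Nat.card Cb := h4
  nlinarith


/-- The linear algebra contradiction in characteristic two. -/
theorem gf_two_contra (N : Subgroup G) [N.Normal]
    (hCN : Subgroup.centralizer (N : Set G) ≤ N)
    (hcomm : ∀ x ∈ N, ∀ y ∈ N, x * y = y * x)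
    (hexp : ∀ x ∈ N, x ^ 2 = 1)
    (hcent : ∀ x : G, x ∉ N → Nat.card (Subgroup.centralizer ({x} : Set G)) =
      Nat.card (Subgroup.centralizer ({(x : G ⧸ N)} : Set (G ⧸ N))))
    (u r : G) (hu : u ∉ N) (hu2 : u ^ 2 ∈ N) (hur : u * r * u⁻¹ * r ∈ N)
    (hfpf : ∀ n ∈ N, r * n * r⁻¹ = n → n = 1) : False := by
  have hcomm' : ∀ a b : N, a * b = b * a := fun a b => Subtype.ext (hcomm a a.2 b b.2)
  have hsq : ∀ a : N, a * a = 1 := fun a => Subtype.ext (by
    have := hexp a a.2
    rw [pow_two] at this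
    simpa using this)
  have hinvN : ∀ a : N, a⁻¹ = a := fun a => inv_eq_of_mul_eq_one_right (hsq a)
  have h4 : ∀ a b c d : N, a * b * (c * d) = a * c * (b * d) := by
    intro a b c d
    calc a * b * (c * d) = a * (b * c) * d := by group
      _ = a * (c * b) * d := by rw [hcomm' b c]
      _ = a * c * (b * d) := by group
  let ρ : G →* MulAut N := MulAut.conjNormal
  set A : MulAut N := ρ r with hA
  set U : MulAut N := ρ u with hU
  have hρN : ∀ c ∈ N, ρ c = 1 := by
    intro c hc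
    ext y
    rw [MulAut.conjNormal_apply, MulAut.one_apply]
    have := hcomm c hc y y.2
    calc c * (y : G) * c⁻¹ = (c * (y : G)) * c⁻¹ := rfl
      _ = ((y : G) * c) * c⁻¹ := by rw [this]
      _ = (y : G) := by group
  have hUA : U * A * U⁻¹ * A = 1 := by
    rw [hU, hA, ← map_inv, ← map_mul, ← map_mul, ← map_mul]
    exact hρN _ hur
  have hAU : A * U = U * A⁻¹ := by
    have h' : A⁻¹ * U * A⁻¹ * U⁻¹ = 1 := by
      have : A⁻¹ * U * A⁻¹ * U⁻¹ = (U * A * U⁻¹ * A)⁻¹ := by group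
      rw [this, hUA, inv_one]
    calc A * U = A * (A⁻¹ * U * A⁻¹ * U⁻¹) * U := by rw [h', mul_one]
      _ = U * A⁻¹ := by group
  have hAfree : ∀ y : N, A y = y → y = 1 := by
    intro y hy
    apply Subtype.ext
    apply hfpf y y.2
    have := congrArg Subtype.val hy
    rwa [hA, MulAut.conjNormal_apply] at this
  have hDinj : Function.Injective (fun y : N => y * A y) := by
    intro y₁ y₂ h
    have h' : y₁ * A y₁ = y₂ * A y₂ := h
    have he : (y₁ * y₂) * A (y₁ * y₂) = 1 := by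
      rw [map_mul, h4, h', hsq]
    have he2 : A (y₁ * y₂) = y₁ * y₂ := by
      have := eq_inv_of_mul_eq_one_right he
      rw [this, hinvN]
    have he3 := hAfree _ he2
    have := eq_inv_of_mul_eq_one_left he3
    rw [this, hinvN]
  have hDsurj : Function.Surjective (fun y : N => y * A y) :=
    Finite.injective_iff_surjective.mp hDinj
  set v : N := ⟨u ^ 2, hu2⟩ with hv
  have hUv : U v = v := by
    apply Subtype.ext
    rw [hU, MulAut.conjNormal_apply, hv]
    show u * u ^ 2 * u⁻¹ = u ^ 2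
    group
  obtain ⟨z, hz⟩ := hDsurj v
  have hz' : z * A z = v := hz
  have hD1 : A z * A (A z) = A v := by rw [← map_mul, hz']
  have hD2 : U z * A (U z) = A v := by
    have e1 : A (U z) = U (A⁻¹ z) := by
      have := congrArg (fun f : MulAut N => f z) hAU
      simpa [MulAut.mul_apply] using this
    have e2 : z * A⁻¹ z = A⁻¹ v := by
      rw [← hz', map_mul, MulAut.inv_apply_self, hcomm']
    rw [e1, ← map_mul, e2]
    have := congrArg (fun f : MulAut N => f v) hAU
    simp only [MulAut.mul_apply] at this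
    rw [← this, hUv]
  have hUz : U z = A z := hDinj (hD2.trans hD1.symm)
  have hzU : z * U z = v := by rw [hUz, hz']
  -- the involution outside `N`
  set y : G := (z : G) * u with hy
  have hyN : y ∉ N := by
    intro h
    apply hu
    have := N.mul_mem (N.inv_mem z.2) h
    simpa [hy] using this
  have hy2 : y * y = 1 := by
    have e1 : ((z * U z : N) : G) = (z : G) * (u * (z : G) * u⁻¹) := by
      rw [Subgroup.coe_mul, hU, MulAut.conjNormal_apply]
    have e2 : ((v * v : N) : G) = 1 := by rw [hsq]; rfl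
    have e3 : ((v : N) : G) = u * u := by rw [hv]; exact pow_two u
    calc y * y = ((z : G) * (u * (z : G) * u⁻¹)) * (u * u) := by rw [hy]; group
      _ = ((z * U z : N) : G) * ((v : N) : G) := by rw [e1, e3]
      _ = ((v * v : N) : G) := by rw [hzU, Subgroup.coe_mul]
      _ = 1 := e2
  have hyinv : y⁻¹ = y := inv_eq_of_mul_eq_one_right hy2
  apply hyN
  apply hCN
  rw [Subgroup.mem_centralizer_iff]
  intro n hn
  have hn' : n ∈ N := hn
  obtain ⟨g, hg⟩ := gf_conj_coset N y (hcent y hyN) n hn'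
  have h1 : (y * n) * (y * n) = 1 := by
    rw [← hg]
    calc g * y * g⁻¹ * (g * y * g⁻¹) = g * (y * y) * g⁻¹ := by group
      _ = 1 := by rw [hy2]; group
  have hnn : n * n = 1 := by
    have := hexp n hn'
    rwa [pow_two] at this
  calc n * y = (y * y) * n * y * (n * n) := by rw [hy2, hnn]; group
    _ = y * ((y * n) * (y * n)) * n := by group
    _ = y * n := by rw [h1, mul_one]


/-- A `2`-element outside `N` has a power outside `N` whose square lies in `N`. -/
theorem gf_exists_sq_mem (N : Subgroup G) (k : ℕ) :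
    ∀ x : G, x ^ (2 ^ k) ∈ N → x ∉ N → ∃ u : G, u ∉ N ∧ u ^ 2 ∈ N := by
  induction k with
  | zero =>
    intro x hx hxN
    rw [pow_zero, pow_one] at hx
    exact absurd hx hxN
  | succ k ih =>
    intro x hx hxN
    by_cases h2 : x ^ 2 ∈ N
    · exact ⟨x, hxN, h2⟩
    · apply ih (x ^ 2) _ h2
      rw [← pow_mul, ← pow_succ']
      exact hx

/-- Baer--Suzuki: an element outside `O_2(G) = N` has a conjugate modulo `N` with which it
does not generate a `2`-group. -/
theorem gf_exists_bad_conj (N : Subgroup G) [N.Normal] (hcore : N = pCore 2 G) (u : G)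
    (hu : u ∉ N) :
    ∃ q : G ⧸ N, ¬ IsPGroup 2
      (Subgroup.closure ({(u : G ⧸ N), q * (u : G ⧸ N) * q⁻¹} : Set (G ⧸ N))) := by
  by_contra hcon
  push Not at hcon
  have h1 := Helper16.baer_suzuki_elt 2 (u : G ⧸ N) hcon
  set Kb : Subgroup (G ⧸ N) := ⨅ P : Sylow 2 (G ⧸ N), (P : Subgroup (G ⧸ N)) with hKb
  haveI hKbn : Kb.Normal := Helper16.iInf_sylow_normal 2
  have hKbp : IsPGroup 2 Kb := Helper16.iInf_sylow_isPGroup 2
  set K : Subgroup G := Kb.comap (QuotientGroup.mk' N) with hK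
  haveI hKn : K.Normal := Subgroup.Normal.comap hKbn _
  have hKcard : Nat.card K = Nat.card Kb * Nat.card N := Helper1.PrimeGraph.card_comap_mk N Kb
  have hNp : IsPGroup 2 N := by
    rw [hcore]
    exact Helper14.pCore_isPGroup 2
  obtain ⟨a, ha⟩ := IsPGroup.iff_card.mp hKbp
  obtain ⟨b, hb⟩ := IsPGroup.iff_card.mp hNp
  have hKp : IsPGroup 2 K := by
    apply IsPGroup.of_card (n := a + b)
    rw [hKcard, ha, hb, pow_add]
  have hKN : K ≤ N := (Helper14.le_pCore 2 hKn hKp).trans hcore.symm.le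
  apply hu
  apply hKN
  rw [hK, Subgroup.mem_comap]
  exact h1


/-- Step B for `p = 2`: every Sylow `2`-subgroup is contained in `N`. -/
theorem gf_sylow_le_two (N : Subgroup G) [N.Normal]
    (hcore : N = pCore 2 G) (hN1 : N ≠ ⊥)
    (hcomm : ∀ x ∈ N, ∀ y ∈ N, x * y = y * x)
    (hexp : ∀ x ∈ N, x ^ 2 = 1)
    (hsyl : ∀ x ∈ N, x ≠ 1 → ∃ P : Sylow 2 G, Subgroup.centralizer ({x} : Set G) = P)
    (hcent : ∀ x : G, x ∉ N → Nat.card (Subgroup.centralizer ({x} : Set G)) =
      Nat.card (Subgroup.centralizer ({(x : G ⧸ N)} : Set (G ⧸ N))))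
    (P : Sylow 2 G) : (P : Subgroup G) ≤ N := by
  have hCN := gf_centralizer_le 2 N hcore hN1 hsyl
  intro x hxP
  by_contra hxN
  obtain ⟨k, hk⟩ := P.2 ⟨x, hxP⟩
  have hk' : x ^ (2 ^ k) = 1 := by
    have := congrArg Subtype.val hk
    simpa using this
  obtain ⟨u, hu, hu2⟩ := gf_exists_sq_mem N k x (by rw [hk']; exact N.one_mem) hxN
  obtain ⟨q, hq⟩ := gf_exists_bad_conj N hcore u hu
  obtain ⟨g, rfl⟩ := QuotientGroup.mk_surjective q
  set ub : G ⧸ N := (u : G ⧸ N) with hub
  set wb : G ⧸ N := (g : G ⧸ N) * ub * (g : G ⧸ N)⁻¹ with hwb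
  have hub2 : ub ^ 2 = 1 := by
    rw [hub, ← QuotientGroup.mk_pow]
    exact (QuotientGroup.eq_one_iff _).mpr hu2
  have hwb2 : wb ^ 2 = 1 := by
    rw [hwb, conj_pow, hub2]
    group
  have hubinv : ub⁻¹ = ub := by
    rw [inv_eq_iff_mul_eq_one, ← pow_two, hub2]
  have hwbinv : wb⁻¹ = wb := by
    rw [inv_eq_iff_mul_eq_one, ← pow_two, hwb2]
  set sb : G ⧸ N := ub * wb with hsb
  have hsne : ∀ j : ℕ, sb ^ (2 ^ j) ≠ 1 := by
    intro j hj
    exact hq (gf_dihedral_two_group ub wb hub2 hwb2 j hj)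
  have hconj : ub * sb * ub⁻¹ = sb⁻¹ := by
    rw [hsb, mul_inv_rev, hubinv, hwbinv]
    calc ub * (ub * wb) * ub = (ub * ub) * wb * ub := by group
      _ = wb * ub := by rw [← pow_two, hub2, one_mul]
  have hord0 : orderOf sb ≠ 0 := (orderOf_pos sb).ne'
  obtain ⟨j, m, hm, hjm⟩ := Nat.exists_eq_two_pow_mul_odd hord0
  set w : G := g * u * g⁻¹ with hw
  set s : G := u * w with hs
  set r : G := s ^ (2 ^ j) with hr
  have hsmk : (s : G ⧸ N) = sb := by
    rw [hs, hw, hsb, hwb, hub]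
    simp only [QuotientGroup.mk_mul, QuotientGroup.mk_inv]
  have hrmk : (r : G ⧸ N) = sb ^ (2 ^ j) := by
    rw [hr, QuotientGroup.mk_pow, hsmk]
  have hrm : (sb ^ (2 ^ j)) ^ m = 1 := by
    rw [← pow_mul, ← hjm]
    exact pow_orderOf_eq_one sb
  have hur : u * r * u⁻¹ * r ∈ N := by
    rw [← QuotientGroup.eq_one_iff]
    simp only [QuotientGroup.mk_mul, QuotientGroup.mk_inv]
    rw [hrmk, ← hub, ← conj_pow, hconj, inv_pow, inv_mul_cancel]
  have hfpf : ∀ n ∈ N, r * n * r⁻¹ = n → n = 1 := by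
    intro n hn hrn
    by_contra hn1
    obtain ⟨P', hP'⟩ := hsyl n hn hn1
    have hrP : r ∈ (P' : Subgroup G) := by
      rw [← hP', Subgroup.mem_centralizer_iff]
      intro h hh
      rw [Set.mem_singleton_iff] at hh
      rw [hh]
      calc n * r = (r * n * r⁻¹) * r := by rw [hrn]
        _ = r * n := by group
    obtain ⟨i, hi⟩ := P'.2 ⟨r, hrP⟩
    have hi' : r ^ (2 ^ i) = 1 := by
      have := congrArg Subtype.val hi
      simpa using this
    have hi'' : (sb ^ (2 ^ j)) ^ (2 ^ i) = 1 := by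
      rw [← hrmk, ← QuotientGroup.mk_pow, hi']
      rfl
    have h1 : orderOf (sb ^ (2 ^ j)) ∣ 2 ^ i := orderOf_dvd_of_pow_eq_one hi''
    have h2 : orderOf (sb ^ (2 ^ j)) ∣ m := orderOf_dvd_of_pow_eq_one hrm
    have hcop : Nat.Coprime (2 ^ i) m := Nat.Coprime.pow_left i (Nat.coprime_two_left.mpr hm)
    have h3 : orderOf (sb ^ (2 ^ j)) ∣ 1 := by
      have := Nat.dvd_gcd h1 h2
      rwa [hcop] at this
    exact hsne j (orderOf_eq_one_iff.mp (Nat.dvd_one.mp h3))
  exact gf_two_contra N hCN hcomm hexp hcent u r hu hu2 hur hfpf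


/-- Assembly: if `N = O_p(G)` then `G` is a doubly transitive Frobenius group with kernel `N`. -/
theorem gf_frobenius (p : ℕ) [hp : Fact p.Prime] (N : Subgroup G) [N.Normal]
    (hG : 2 < Nat.card G)
    (hcore : N = pCore p G) (hN1 : N ≠ ⊥)
    (hcomm : ∀ x ∈ N, ∀ y ∈ N, x * y = y * x)
    (hexp : ∀ x ∈ N, x ^ p = 1)
    (htrans : ∀ x ∈ N, ∀ y ∈ N, x ≠ 1 → y ≠ 1 → ∃ g : G, g * x * g⁻¹ = y)
    (hsyl : ∀ x ∈ N, x ≠ 1 → ∃ P : Sylow p G, Subgroup.centralizer ({x} : Set G) = P)
    (hcent : ∀ x : G, x ∉ N → Nat.card (Subgroup.centralizer ({x} : Set G)) =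
      Nat.card (Subgroup.centralizer ({(x : G ⧸ N)} : Set (G ⧸ N))))
    (hcenter : ∀ P : Sylow p G,
      (Subgroup.center ↥(P : Subgroup G)).map (P : Subgroup G).subtype ≤ N)
    (a : G) (haN : a ∈ N) (ha1 : a ≠ 1)
    (hcardN : Nat.card N = Nat.card {x : G // IsConj a x} + 1) :
    ∃ H : Subgroup G, IsFrobeniusComplement H ∧ frobeniusKernel H = (N : Set G) ∧
      Nat.card H + 1 = Nat.card N := by
  have hPle : ∀ P : Sylow p G, (P : Subgroup G) ≤ N := by
    intro P
    by_cases hp2 : p = 2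
    · subst hp2
      exact gf_sylow_le_two N hcore hN1 hcomm hexp hsyl hcent P
    · exact gf_sylow_le_odd p hp2 N hcore hN1 hcomm hexp htrans hsyl hcent hcenter P
  have hNP : ∀ P : Sylow p G, (P : Subgroup G) = N := fun P =>
    le_antisymm (hPle P) (hcore.le.trans (Helper14.pCore_le_sylow p P))
  obtain ⟨P₀⟩ : Nonempty (Sylow p G) := inferInstance
  have hcop : (Nat.card N).Coprime N.index := by
    rw [← hNP P₀]
    exact P₀.card_coprime_index
  obtain ⟨H, hH⟩ := Subgroup.exists_right_complement'_of_coprime hcop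
  have hcentN : ∀ n ∈ N, n ≠ 1 → Subgroup.centralizer ({n} : Set G) = N := by
    intro n hn hn1
    obtain ⟨P, hP⟩ := hsyl n hn hn1
    rw [hP, hNP P]
  have hcardG : Nat.card {x : G // IsConj a x} * Nat.card N = Nat.card G := by
    have := card_conj_mul_card_centralizer a
    rwa [hcentN a haN ha1] at this
  have hHcard : Nat.card N * Nat.card H = Nat.card G := hH.card_mul_card
  have hNpos : 0 < Nat.card N := Nat.card_pos
  have hHeq : Nat.card H = Nat.card {x : G // IsConj a x} := by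
    have : Nat.card N * Nat.card H = Nat.card N * Nat.card {x : G // IsConj a x} := by
      rw [hHcard, ← hcardG, mul_comm]
    exact Nat.eq_of_mul_eq_mul_left hNpos this
  have hH1 : Nat.card H + 1 = Nat.card N := by rw [hHeq, hcardN]
  have hHne : H ≠ ⊥ := by
    intro h
    have h1 : Nat.card H = 1 := by rw [h]; exact Subgroup.card_bot
    have h2 : Nat.card N = 2 := by omega
    rw [h1, h2] at hHcard
    omega
  have hfpf : ∀ c ∈ H, c ≠ 1 → ∀ n ∈ N, c * n = n * c → n = 1 := by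
    intro c hc hc1 n hn hcn
    by_contra hn1
    have hcN : c ∈ N := by
      rw [← hcentN n hn hn1, Subgroup.mem_centralizer_iff]
      intro h hh
      rw [Set.mem_singleton_iff] at hh
      rw [hh]
      exact hcn.symm
    have := hH.disjoint
    rw [Subgroup.disjoint_def] at this
    exact hc1 (this hcN hc)
  obtain ⟨h1, h2⟩ := Helper1.PrimeGraph.frobenius_of_fpf N H hH hN1 hHne hfpf
  exact ⟨H, h1, h2, hH1⟩

/-- The converse: a Frobenius complement of order `|N| - 1` forces `N = O_p(G)`. -/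
theorem gf_core_of_frobenius (p : ℕ) [hp : Fact p.Prime] (N : Subgroup G) [N.Normal]
    (hNp : IsPGroup p N) (hN1 : N ≠ ⊥) (H : Subgroup G)
    (hker : frobeniusKernel H = (N : Set G)) (hcard : Nat.card H + 1 = Nat.card N) :
    N = pCore p G := by
  apply le_antisymm (Helper14.le_pCore p inferInstance hNp)
  intro x hx
  by_contra hxN
  have hxk : x ∉ frobeniusKernel H := by rw [hker]; exact hxN
  have hx' : x ≠ 1 ∧ ∃ g : G, x ∈ MulAut.conj g • H := by
    unfold frobeniusKernel at hxk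
    simp only [Set.mem_setOf_eq, not_or, not_forall, not_not] at hxk
    exact hxk
  obtain ⟨hx1, g, hg⟩ := hx'
  obtain ⟨h, hh, hgh⟩ := Subgroup.mem_pointwise_smul_iff_inv_smul_mem.mp hg |>
    fun hm => (⟨_, hm, rfl⟩ : ∃ h, h ∈ H ∧ h = (MulAut.conj g)⁻¹ • x)
  have hord : orderOf h = orderOf x := by
    rw [hgh]
    show orderOf ((MulAut.conj g)⁻¹ x) = orderOf x
    exact MulEquiv.orderOf_eq _ x
  have hdvd : orderOf x ∣ Nat.card H := by
    rw [← hord]
    have := orderOf_dvd_natCard (⟨h, hh⟩ : H)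
    rwa [Subgroup.orderOf_mk] at this
  obtain ⟨k, hk⟩ := (Helper14.pCore_isPGroup (G := G) p) ⟨x, hx⟩
  have hk' : x ^ (p ^ k) = 1 := by
    have := congrArg Subtype.val hk
    simpa using this
  obtain ⟨i, -, hi⟩ := (Nat.dvd_prime_pow hp.out).mp (orderOf_dvd_of_pow_eq_one hk')
  have hi0 : i ≠ 0 := by
    intro h0
    rw [h0, pow_zero] at hi
    exact hx1 (orderOf_eq_one_iff.mp hi)
  have hpH : p ∣ Nat.card H := by
    refine dvd_trans ?_ hdvd
    rw [hi]
    exact dvd_pow_self p hi0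
  haveI : Nontrivial N := (Subgroup.nontrivial_iff_ne_bot N).mpr hN1
  obtain ⟨n, hn0, hn⟩ := hNp.nontrivial_iff_card.mp inferInstance
  have hpN : p ∣ Nat.card N := by
    rw [hn]
    exact dvd_pow_self p hn0.ne'
  rw [← hcard] at hpN
  have : p ∣ 1 := (Nat.dvd_add_right hpH).mp hpN
  exact hp.out.one_lt.ne' (Nat.dvd_one.mp this)


end GagolaFrob

section GagolaFrobMain

variable {G : Type u} [Group G] [Finite G]

/-- Gagola: the support `N` of a character vanishing off two classes equals `O_p(G)` exactly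
when `G` is a doubly transitive Frobenius group with kernel `N`. -/
theorem gagola_frobenius_iff (hG : 2 < Nat.card G) (χ : IrrCharacter G)
    (hχ : Nat.card {C : ConjClasses G // ∃ g ∈ C.carrier, (χ : G → ℂ) g ≠ 0} = 2)
    (p : ℕ) [hp : Fact p.Prime] (N : Subgroup G) [N.Normal]
    (hN : ∀ g : G, g ∈ N ↔ (χ : G → ℂ) g ≠ 0) (hNp : IsPGroup p N) (hN1 : N ≠ ⊥) :
    N = pCore p G ↔ ∃ H : Subgroup G, IsFrobeniusComplement H ∧
      frobeniusKernel H = (N : Set G) ∧ Nat.card H + 1 = Nat.card N := by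
  classical
  haveI : Fintype G := Fintype.ofFinite G
  constructor
  · intro hcore
    obtain ⟨hne, a, ha, hχa, hsupp⟩ := gagola_setup hG χ hχ
    have hNeq : N = gagolaN χ := by
      ext g
      rw [hN, gagola_ne_zero_iff χ a ha hχa hsupp hne]
    have hmem : ∀ g : G, g ∈ N ↔ g = 1 ∨ IsConj a g := by
      intro g
      rw [hNeq]
      exact mem_gagolaN_iff χ a ha hsupp hne g
    have haN : a ∈ N := (hmem a).mpr (Or.inr (IsConj.refl a))
    obtain ⟨p', hp', hcomm', hexp'⟩ := gagolaN_elementaryAbelian χ a ha hsupp hne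
    rw [← hNeq] at hcomm' hexp'
    have hpp' : p' = p := by
      have h1 : orderOf a ∣ p' := orderOf_dvd_of_pow_eq_one (hexp' a haN)
      have h2 : orderOf a = p' := by
        rcases (Nat.dvd_prime hp').mp h1 with h | h
        · exact absurd (orderOf_eq_one_iff.mp h) ha
        · exact h
      obtain ⟨k, hk⟩ := hNp ⟨a, haN⟩
      have hk' : a ^ (p ^ k) = 1 := by
        have := congrArg Subtype.val hk
        simpa using this
      have h3 : p' ∣ p ^ k := by
        rw [← h2]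
        exact orderOf_dvd_of_pow_eq_one hk'
      have h4 : p' ∣ p := hp'.dvd_of_dvd_pow h3
      exact (Nat.prime_dvd_prime_iff_eq hp' hp.out).mp h4
    rw [hpp'] at hexp'
    have hcomm : ∀ x ∈ N, ∀ y ∈ N, x * y = y * x := by
      intro x hx y hy
      have := hcomm'.is_comm.comm (⟨x, hx⟩ : N) ⟨y, hy⟩
      exact congrArg Subtype.val this
    have htrans : ∀ x ∈ N, ∀ y ∈ N, x ≠ 1 → y ≠ 1 → ∃ g : G, g * x * g⁻¹ = y := by
      intro x hx y hy hx1 hy1
      have h1 : IsConj a x := ((hmem x).mp hx).resolve_left hx1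
      have h2 : IsConj a y := ((hmem y).mp hy).resolve_left hy1
      exact isConj_iff.mp (h1.symm.trans h2)
    have hsyl := (gagola_sylow hG χ hχ p N hN hNp).1
    have hcent := fun x hx => gagola_card_centralizer_quotient hG χ hχ N hN hN1 x hx
    have hcenter := fun P => gagola_center_le hG χ hχ p N hN hNp hN1 P
    have hcardN : Nat.card N = Nat.card {x : G // IsConj a x} + 1 := by
      have := card_gagolaN χ a ha hsupp hne
      rwa [← hNeq] at this
    exact gf_frobenius p N hG hcore hN1 hcomm hexp' htrans hsyl hcent hcenter a haN ha hcardN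
  · rintro ⟨H, -, hker, hcard⟩
    exact gf_core_of_frobenius p N hNp hN1 H hker hcard

end GagolaFrobMain

end Cfsg.Agent.Helper24
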