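import Mathlib

/-!
# A quaternion action on an elementary abelian 3-group

`A` is a finite abelian group of exponent `3` with endomorphisms `I`, `J` such that
`I² = J² = -1`, `JI = -IJ`.  If a set of automorphisms normalizing `{±I, ±J, ±IJ}` is transitive on
the nonzero elements, then `|A| = 9`.  (Kernel-counting version of the tensor product argument.)
-/

set_option autoImplicit false

namespace Cfsg.Agent.Helper24.QuatModule

variable {A : Type*} [AddCommGroup A]

section basic

variable (h3 : ∀ a : A, 3 • a = 0) (I J : A →+ A)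
  (hI : ∀ a, I (I a) = -a) (hJ : ∀ a, J (J a) = -a) (hJI : ∀ a, J (I a) = -(I (J a)))

include h3 in
theorem eq_zero_of_two_nsmul {a : A} (h : a + a = 0) : a = 0 := by
  have := h3 a
  have h' : 3 • a = (a + a) + a := by abel
  rw [h', h, zero_add] at this
  exact this

include hI in
theorem I_injective : Function.Injective I := by
  intro a b hab
  have := congrArg I hab
  rw [hI, hI] at this
  exact neg_injective this

include hI in
theorem eq_zero_of_I {a : A} (h : I a = 0) : a = 0 := by
  have := hI a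
  rw [h, map_zero] at this
  exact neg_eq_zero.mp this.symm

/-- The four nilpotent operators. -/
def T0 (a : A) : A := I a + J a + I (J a)
def T1 (a : A) : A := I a - J a - I (J a)
def T2 (a : A) : A := -I a + J a - I (J a)
def T3 (a : A) : A := -I a - J a + I (J a)

include h3 hI hJ hJI in
theorem T0_T0 (a : A) : T0 I J (T0 I J a) = 0 := by
  unfold T0
  simp only [map_add, map_neg, hI, hJ, hJI, neg_neg]
  have := h3 a
  have h' : 3 • a = a + a + a := by abel
  rw [h'] at this
  have e : -a + I (J a) + -J a + (-I (J a) + -a + I a) + (J a + -I a + -a) = -(a + a + a) := by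
    abel
  rw [e, this, neg_zero]

include h3 hI hJ hJI in
theorem exists_T0_eq_zero [Nontrivial A] : ∃ v : A, v ≠ 0 ∧ T0 I J v = 0 := by
  obtain ⟨a, ha⟩ := exists_ne (0 : A)
  by_cases h : T0 I J a = 0
  · exact ⟨a, ha, h⟩
  · exact ⟨T0 I J a, h, T0_T0 h3 I J hI hJ hJI a⟩

include hI hJ hJI in
theorem T1_I (a : A) : T1 I J (I a) = I (T0 I J a) := by
  unfold T1 T0
  simp only [map_add, map_neg, hI, hJ, hJI, neg_neg]
  abel

include hI hJ hJI in
theorem T2_J (a : A) : T2 I J (J a) = J (T0 I J a) := by
  unfold T2 T0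
  simp only [map_add, map_neg, hI, hJ, hJI, neg_neg]
  abel

include hI hJ hJI in
theorem T3_IJ (a : A) : T3 I J (I (J a)) = I (J (T0 I J a)) := by
  unfold T3 T0
  simp only [map_add, map_neg, hI, hJ, hJI, neg_neg]
  abel

include hI hJ hJI in
theorem T0_I (a : A) : T0 I J (I a) = I (T1 I J a) := by
  unfold T1 T0
  simp only [map_add, map_neg, map_sub, hI, hJ, hJI, neg_neg]
  abel

include hI hJ hJI in
theorem T0_J (a : A) : T0 I J (J a) = J (T2 I J a) := by
  unfold T2 T0
  simp only [map_add, map_neg, map_sub, hI, hJ, hJI, neg_neg]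
  abel

include hI hJ hJI in
theorem T0_IJ (a : A) : T0 I J (I (J a)) = I (J (T3 I J a)) := by
  unfold T3 T0
  simp only [map_add, map_neg, map_sub, hI, hJ, hJI, neg_neg]
  abel

include h3 hI in
theorem disj01 {a : A} (h0 : T0 I J a = 0) (h1 : T1 I J a = 0) : a = 0 := by
  apply eq_zero_of_I I hI
  apply eq_zero_of_two_nsmul h3
  have : I a + I a = T0 I J a + T1 I J a := by unfold T0 T1; abel
  rw [this, h0, h1, add_zero]

include h3 hJ in
theorem disj02 {a : A} (h0 : T0 I J a = 0) (h2 : T2 I J a = 0) : a = 0 := by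
  apply eq_zero_of_I J hJ
  apply eq_zero_of_two_nsmul h3
  have : J a + J a = T0 I J a + T2 I J a := by unfold T0 T2; abel
  rw [this, h0, h2, add_zero]

include h3 hI hJ in
theorem disj03 {a : A} (h0 : T0 I J a = 0) (h3' : T3 I J a = 0) : a = 0 := by
  apply eq_zero_of_I J hJ
  apply eq_zero_of_I I hI
  apply eq_zero_of_two_nsmul h3
  have : I (J a) + I (J a) = T0 I J a + T3 I J a := by unfold T0 T3; abel
  rw [this, h0, h3', add_zero]

include h3 hI hJ in
theorem disj12 {a : A} (h1 : T1 I J a = 0) (h2 : T2 I J a = 0) : a = 0 := by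
  apply eq_zero_of_I J hJ
  apply eq_zero_of_I I hI
  apply eq_zero_of_two_nsmul h3
  have : I (J a) + I (J a) = -(T1 I J a + T2 I J a) := by unfold T1 T2; abel
  rw [this, h1, h2, add_zero, neg_zero]

include h3 hJ in
theorem disj13 {a : A} (h1 : T1 I J a = 0) (h3' : T3 I J a = 0) : a = 0 := by
  apply eq_zero_of_I J hJ
  apply eq_zero_of_two_nsmul h3
  have : J a + J a = -(T1 I J a + T3 I J a) := by unfold T1 T3; abel
  rw [this, h1, h3', add_zero, neg_zero]

include h3 hI in
theorem disj23 {a : A} (h2 : T2 I J a = 0) (h3' : T3 I J a = 0) : a = 0 := by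
  apply eq_zero_of_I I hI
  apply eq_zero_of_two_nsmul h3
  have : I a + I a = -(T2 I J a + T3 I J a) := by unfold T2 T3; abel
  rw [this, h2, h3', add_zero, neg_zero]


include h3 hI hJI in
theorem not_same_axis [Nontrivial A] :
    ¬ (∀ a, J a = I a) ∧ ¬ (∀ a, J a = -I a) := by
  obtain ⟨a, ha⟩ := exists_ne (0 : A)
  constructor
  · intro h
    apply ha
    apply eq_zero_of_two_nsmul h3
    have h1 := hJI a
    rw [h (I a), h a, hI] at h1
    have : a + a = -(-a) + a := by rw [neg_neg]
    rw [this, ← h1, neg_add_cancel]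
  · intro h
    apply ha
    apply eq_zero_of_two_nsmul h3
    have h1 := hJI a
    rw [h (I a), h a, hI, map_neg, hI, neg_neg] at h1
    nth_rewrite 1 [h1]
    exact neg_add_cancel a

/-- The six elements `±I, ±J, ±IJ`. -/
def S6 (X : A →+ A) : Prop :=
  X = I ∨ X = -I ∨ X = J ∨ X = -J ∨ X = I.comp J ∨ X = -(I.comp J)

include h3 hI hJ hJI in
theorem conj_mem [Nontrivial A] (g : A ≃+ A) (I' J' : A →+ A)
    (hgI : ∀ a, g (I a) = I' (g a)) (hgJ : ∀ a, g (J a) = J' (g a))
    (hI' : S6 I J I') (hJ' : S6 I J J') (v : A) (hv : T0 I J v = 0) :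
    T0 I J (g v) = 0 ∨ T1 I J (g v) = 0 ∨ T2 I J (g v) = 0 ∨ T3 I J (g v) = 0 := by
  have hsum : I' (g v) + J' (g v) + I' (J' (g v)) = 0 := by
    rw [← hgJ, ← hgI, ← hgI, ← map_add, ← map_add]
    have : I v + J v + I (J v) = T0 I J v := rfl
    rw [this, hv, map_zero]
  have hax : ¬ (∀ b, J' b = I' b) ∧ ¬ (∀ b, J' b = -I' b) := by
    obtain ⟨h1, h2⟩ := not_same_axis h3 I J hI hJI
    constructor
    · intro h
      apply h1
      intro a
      apply g.injective
      rw [hgJ, hgI, h]
    · intro h
      apply h2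
      intro a
      apply g.injective
      rw [hgJ, map_neg, hgI, h]
  set w := g v with hw
  unfold S6 at hI' hJ'
  rcases hI' with h1 | h1 | h1 | h1 | h1 | h1 <;> rcases hJ' with h2 | h2 | h2 | h2 | h2 | h2 <;>
    rw [h1, h2] at hsum hax <;>
    (try simp only [AddMonoidHom.neg_apply, AddMonoidHom.comp_apply, map_neg, hI, hJ, hJI,
      neg_neg] at hsum)
  all_goals
    first
    | (refine (hax.1 ?_).elim; intro b; simp; done)
    | (refine (hax.2 ?_).elim; intro b; simp; done)
    | (left; unfold T0; linear_combination (norm := abel1) hsum)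
    | (left; unfold T0; linear_combination (norm := abel1) -hsum)
    | (right; left; unfold T1; linear_combination (norm := abel1) hsum)
    | (right; left; unfold T1; linear_combination (norm := abel1) -hsum)
    | (right; right; left; unfold T2; linear_combination (norm := abel1) hsum)
    | (right; right; left; unfold T2; linear_combination (norm := abel1) -hsum)
    | (right; right; right; unfold T3; linear_combination (norm := abel1) hsum)
    | (right; right; right; unfold T3; linear_combination (norm := abel1) -hsum)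


/-- Arithmetic: `3^n + 3 = 4 * 3^k` with `k ≥ 1` forces `n = 2`. -/
theorem arith_three (n k : ℕ) (hk : 1 ≤ k) (h : 3 ^ n + 3 = 4 * 3 ^ k) : n = 2 := by
  obtain ⟨k1, rfl⟩ : ∃ k1, k = k1 + 1 := ⟨k - 1, by omega⟩
  rcases n with _ | n1
  · rw [pow_zero, pow_succ] at h
    have : 0 < 3 ^ k1 := by positivity
    omega
  · rw [pow_succ, pow_succ] at h
    have h' : 3 ^ n1 + 1 = 4 * 3 ^ k1 := by omega
    rcases k1 with _ | k2
    · rw [pow_zero] at h'
      rcases n1 with _ | n2
      · rw [pow_zero] at h'; omega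
      · rcases n2 with _ | n3
        · rfl
        · rw [pow_succ, pow_succ] at h'
          have : 0 < 3 ^ n3 := by positivity
          omega
    · rw [pow_succ] at h'
      rcases n1 with _ | n2
      · rw [pow_zero] at h'
        have : 0 < 3 ^ k2 := by positivity
        omega
      · rw [pow_succ] at h'
        omega

include h3 hI hJ hJI in
theorem card_eq_nine [Finite A] [Nontrivial A] (n : ℕ) (hcard : Nat.card A = 3 ^ n)
    (𝒢 : Set (A ≃+ A))
    (htrans : ∀ a b : A, a ≠ 0 → b ≠ 0 → ∃ g ∈ 𝒢, g a = b)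
    (hnorm : ∀ g ∈ 𝒢, ∃ I' J' : A →+ A, (∀ a, g (I a) = I' (g a)) ∧
      (∀ a, g (J a) = J' (g a)) ∧ S6 I J I' ∧ S6 I J J') :
    Nat.card A = 9 := by
  classical
  haveI : Fintype A := Fintype.ofFinite A
  obtain ⟨v₀, hv₀, hT⟩ := exists_T0_eq_zero h3 I J hI hJ hJI
  have hcover : ∀ w : A, w ≠ 0 →
      T0 I J w = 0 ∨ T1 I J w = 0 ∨ T2 I J w = 0 ∨ T3 I J w = 0 := by
    intro w hw
    obtain ⟨g, hg, rfl⟩ := htrans v₀ w hv₀ hw
    obtain ⟨I', J', hgI, hgJ, hI', hJ'⟩ := hnorm g hg
    exact conj_mem h3 I J hI hJ hJI g I' J' hgI hgJ hI' hJ' v₀ hT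
  have hJinj : Function.Injective J := I_injective J hJ
  have hIinj : Function.Injective I := I_injective I hI
  set K0 := Finset.univ.filter (fun v : A => T0 I J v = 0) with hK0
  set K1 := Finset.univ.filter (fun v : A => T1 I J v = 0) with hK1
  set K2 := Finset.univ.filter (fun v : A => T2 I J v = 0) with hK2
  set K3 := Finset.univ.filter (fun v : A => T3 I J v = 0) with hK3
  have mem0 : ∀ v, v ∈ K0 ↔ T0 I J v = 0 := fun v => by simp [hK0]
  have mem1 : ∀ v, v ∈ K1 ↔ T1 I J v = 0 := fun v => by simp [hK1]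
  have mem2 : ∀ v, v ∈ K2 ↔ T2 I J v = 0 := fun v => by simp [hK2]
  have mem3 : ∀ v, v ∈ K3 ↔ T3 I J v = 0 := fun v => by simp [hK3]
  have c1 : K1.card = K0.card := by
    apply le_antisymm
    · apply Finset.card_le_card_of_injOn (fun v => I v)
      · intro v hv
        have hv' : T1 I J v = 0 := (mem1 v).mp hv
        apply (mem0 _).mpr
        rw [T0_I I J hI hJ hJI, hv', map_zero]
      · intro a _ b _ hab
        exact hIinj hab
    · apply Finset.card_le_card_of_injOn (fun v => I v)
      · intro v hv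
        have hv' : T0 I J v = 0 := (mem0 v).mp hv
        apply (mem1 _).mpr
        rw [T1_I I J hI hJ hJI, hv', map_zero]
      · intro a _ b _ hab
        exact hIinj hab
  have c2 : K2.card = K0.card := by
    apply le_antisymm
    · apply Finset.card_le_card_of_injOn (fun v => J v)
      · intro v hv
        have hv' : T2 I J v = 0 := (mem2 v).mp hv
        apply (mem0 _).mpr
        rw [T0_J I J hI hJ hJI, hv', map_zero]
      · intro a _ b _ hab
        exact hJinj hab
    · apply Finset.card_le_card_of_injOn (fun v => J v)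
      · intro v hv
        have hv' : T0 I J v = 0 := (mem0 v).mp hv
        apply (mem2 _).mpr
        rw [T2_J I J hI hJ hJI, hv', map_zero]
      · intro a _ b _ hab
        exact hJinj hab
  have c3 : K3.card = K0.card := by
    apply le_antisymm
    · apply Finset.card_le_card_of_injOn (fun v => I (J v))
      · intro v hv
        have hv' : T3 I J v = 0 := (mem3 v).mp hv
        apply (mem0 _).mpr
        rw [T0_IJ I J hI hJ hJI, hv', map_zero, map_zero]
      · intro a _ b _ hab
        exact hJinj (hIinj hab)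
    · apply Finset.card_le_card_of_injOn (fun v => I (J v))
      · intro v hv
        have hv' : T0 I J v = 0 := (mem0 v).mp hv
        apply (mem3 _).mpr
        rw [T3_IJ I J hI hJ hJI, hv', map_zero, map_zero]
      · intro a _ b _ hab
        exact hJinj (hIinj hab)
  -- double counting
  let c : A → ℕ := fun v => (if T0 I J v = 0 then 1 else 0) + (if T1 I J v = 0 then 1 else 0) +
    (if T2 I J v = 0 then 1 else 0) + (if T3 I J v = 0 then 1 else 0)
  have hsum : K0.card + K1.card + K2.card + K3.card = ∑ v : A, c v := by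
    simp only [hK0, hK1, hK2, hK3, Finset.card_filter, c, Finset.sum_add_distrib]
  have hc0 : c 0 = 4 := by
    simp [c, T0, T1, T2, T3]
  have hc1 : ∀ v ∈ Finset.univ.erase (0 : A), c v = 1 := by
    intro v hv
    have hv0 : v ≠ 0 := (Finset.mem_erase.mp hv).1
    have d01 := fun h0 h1 => hv0 (disj01 h3 I J hI (a := v) h0 h1)
    have d02 := fun h0 h2 => hv0 (disj02 h3 I J hJ (a := v) h0 h2)
    have d03 := fun h0 h3' => hv0 (disj03 h3 I J hI hJ (a := v) h0 h3')
    have d12 := fun h1 h2 => hv0 (disj12 h3 I J hI hJ (a := v) h1 h2)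
    have d13 := fun h1 h3' => hv0 (disj13 h3 I J hJ (a := v) h1 h3')
    have d23 := fun h2 h3' => hv0 (disj23 h3 I J hI (a := v) h2 h3')
    rcases hcover v hv0 with h | h | h | h
    · have e1 : ¬ T1 I J v = 0 := fun h' => d01 h h'
      have e2 : ¬ T2 I J v = 0 := fun h' => d02 h h'
      have e3 : ¬ T3 I J v = 0 := fun h' => d03 h h'
      simp [c, h, e1, e2, e3]
    · have e0 : ¬ T0 I J v = 0 := fun h' => d01 h' h
      have e2 : ¬ T2 I J v = 0 := fun h' => d12 h h'
      have e3 : ¬ T3 I J v = 0 := fun h' => d13 h h'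
      simp [c, h, e0, e2, e3]
    · have e0 : ¬ T0 I J v = 0 := fun h' => d02 h' h
      have e1 : ¬ T1 I J v = 0 := fun h' => d12 h' h
      have e3 : ¬ T3 I J v = 0 := fun h' => d23 h h'
      simp [c, h, e0, e1, e3]
    · have e0 : ¬ T0 I J v = 0 := fun h' => d03 h' h
      have e1 : ¬ T1 I J v = 0 := fun h' => d13 h' h
      have e2 : ¬ T2 I J v = 0 := fun h' => d23 h' h
      simp [c, h, e0, e1, e2]
  have hsum2 : ∑ v : A, c v = 4 + (Fintype.card A - 1) := by
    rw [← Finset.add_sum_erase Finset.univ c (Finset.mem_univ (0 : A)), hc0,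
      Finset.sum_congr rfl hc1, Finset.sum_const, smul_eq_mul, mul_one,
      Finset.card_erase_of_mem (Finset.mem_univ _), Finset.card_univ]
  -- the kernel is a subgroup
  let Ksub : AddSubgroup A := (I + J + I.comp J).ker
  have hKsub : Nat.card Ksub = K0.card := by
    rw [Nat.card_eq_fintype_card, Fintype.card_subtype]
    congr 1
    ext x
    simp only [Finset.mem_filter, Finset.mem_univ, true_and, mem0]
    rfl
  have hdvd : K0.card ∣ 3 ^ n := by
    rw [← hKsub, ← hcard]
    exact AddSubgroup.card_addSubgroup_dvd_card Ksub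
  obtain ⟨k, -, hk⟩ := (Nat.dvd_prime_pow Nat.prime_three).mp hdvd
  have hk1 : 1 ≤ k := by
    by_contra hcon
    have hk0 : k = 0 := by omega
    rw [hk0, pow_zero] at hk
    have h1 : (0 : A) ∈ K0 := (mem0 0).mpr (by simp [T0])
    have h2 : v₀ ∈ K0 := (mem0 v₀).mpr hT
    have := Finset.card_le_one.mp (le_of_eq hk) _ h1 _ h2
    exact hv₀ this.symm
  have hA : Fintype.card A = 3 ^ n := by rw [← Nat.card_eq_fintype_card, hcard]
  have hApos : 0 < 3 ^ n := by positivity
  have hmain : 3 ^ n + 3 = 4 * 3 ^ k := by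
    have := hsum.trans hsum2
    rw [c1, c2, c3, hk, hA] at this
    omega
  have hn := arith_three n k hk1 hmain
  rw [hcard, hn]
  norm_num


end basic

end Cfsg.Agent.Helper24.QuatModule
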