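import Mathlib
import Cfsg.Prelude.Def_Transfer
import Cfsg.Agent.Helper9.PResidual
import Cfsg.Agent.Helper24.QuatModule

/-!
# Transitive linear groups with a normal quaternion subgroup in characteristic 3

`H` acts on the elementary abelian `3`-group `V`, transitively on `V \ {1}`, and a normal
subgroup `R ≅ Q₈` acts fixed-point-freely.  Then `|V| = 9`; if moreover point stabilizers are
`3`-groups then `O^3(H) ≤ R`.
-/

set_option autoImplicit false

namespace Cfsg.Agent.Helper24.SolvTrans

open QuaternionGroup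

variable {H V : Type*} [Group H] [CommGroup V]

/-- An involution acting fixed-point-freely on an abelian group inverts it. -/
theorem inverts_of_fpf_invol (ρ : H →* MulAut V) (z : H) (hz2 : z * z = 1)
    (hfpf : ∀ v : V, ρ z v = v → v = 1) (v : V) : ρ z v = v⁻¹ := by
  have h1 : ρ z (v * ρ z v) = v * ρ z v := by
    rw [map_mul, ← MulAut.mul_apply, ← map_mul, hz2, map_one, MulAut.one_apply, mul_comm]
  have h2 := hfpf _ h1
  exact (eq_inv_of_mul_eq_one_right h2)

theorem exceptional_card [Finite V] [Nontrivial V]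
    (ρ : H →* MulAut V) (h3 : ∀ v : V, v ^ 3 = 1) (n : ℕ) (hcard : Nat.card V = 3 ^ n)
    (R : Subgroup H) [hRn : R.Normal] (e : R ≃* QuaternionGroup 2)
    (hfpf : ∀ r ∈ R, r ≠ 1 → ∀ v : V, ρ r v = v → v = 1)
    (htrans : ∀ v w : V, v ≠ 1 → w ≠ 1 → ∃ h : H, ρ h v = w) :
    Nat.card V = 9 := by
  -- the generators
  set i : H := (e.symm (a 1) : H) with hi
  set j : H := (e.symm (xa 0) : H) with hj
  set z : H := (e.symm (a 2) : H) with hz
  have hiR : i ∈ R := (e.symm (a 1)).2
  have hjR : j ∈ R := (e.symm (xa 0)).2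
  have hzR : z ∈ R := (e.symm (a 2)).2
  have hfacts : (a 1 : QuaternionGroup 2) * a 1 = a 2 ∧ (xa 0 : QuaternionGroup 2) * xa 0 = a 2 ∧
      (a 2 : QuaternionGroup 2) * a 2 = 1 ∧ (a 2 : QuaternionGroup 2) ≠ 1 ∧
      (xa 0 : QuaternionGroup 2) * a 1 = a 2 * (a 1 * xa 0) := by decide
  obtain ⟨f1, f2, f3, f4, f5⟩ := hfacts
  have hii : i * i = z := by
    rw [hi, hz, ← Subgroup.coe_mul, ← map_mul, f1]
  have hjj : j * j = z := by
    rw [hj, hz, ← Subgroup.coe_mul, ← map_mul, f2]
  have hzz : z * z = 1 := by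
    rw [hz, ← Subgroup.coe_mul, ← map_mul, f3, map_one, Subgroup.coe_one]
  have hz1 : z ≠ 1 := by
    intro h
    apply f4
    have : e.symm (a 2) = 1 := Subtype.ext h
    have := congrArg e this
    rwa [MulEquiv.apply_symm_apply, map_one] at this
  have hji : j * i = z * (i * j) := by
    rw [hj, hi, hz, ← Subgroup.coe_mul, ← Subgroup.coe_mul, ← Subgroup.coe_mul, ← map_mul,
      ← map_mul, ← map_mul, f5]
  have hzinv : ∀ v : V, ρ z v = v⁻¹ :=
    inverts_of_fpf_invol ρ z hzz (hfpf z hzR hz1)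
  -- classification of elements of `R`
  have hinvol : ∀ x ∈ R, x * x = 1 → x ≠ 1 → x = z := by
    intro x hx hxx hx1
    have key : ∀ q : QuaternionGroup 2, q * q = 1 → q ≠ 1 → q = a 2 := by decide
    have h1 : e ⟨x, hx⟩ * e ⟨x, hx⟩ = 1 := by
      rw [← map_mul]
      have : (⟨x, hx⟩ : R) * ⟨x, hx⟩ = 1 := Subtype.ext hxx
      rw [this, map_one]
    have h2 : e ⟨x, hx⟩ ≠ 1 := by
      intro h
      apply hx1
      have := congrArg e.symm h
      rw [MulEquiv.symm_apply_apply, map_one] at this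
      exact congrArg Subtype.val this
    have h3' := key _ h1 h2
    have := congrArg e.symm h3'
    rw [MulEquiv.symm_apply_apply] at this
    rw [hz, ← this]
  have hsq : ∀ x ∈ R, x * x = z → x = i ∨ x = z * i ∨ x = j ∨ x = z * j ∨ x = i * j ∨
      x = z * (i * j) := by
    intro x hx hxx
    have key : ∀ q : QuaternionGroup 2, q * q = a 2 → q = a 1 ∨ q = a 2 * a 1 ∨ q = xa 0 ∨
        q = a 2 * xa 0 ∨ q = a 1 * xa 0 ∨ q = a 2 * (a 1 * xa 0) := by decide
    have h1 : e ⟨x, hx⟩ * e ⟨x, hx⟩ = a 2 := by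
      rw [← map_mul]
      have : (⟨x, hx⟩ : R) * ⟨x, hx⟩ = e.symm (a 2) := Subtype.ext hxx
      rw [this, MulEquiv.apply_symm_apply]
    have hback : ∀ q : QuaternionGroup 2, e ⟨x, hx⟩ = q → x = (e.symm q : H) := by
      intro q hq
      have := congrArg e.symm hq
      rw [MulEquiv.symm_apply_apply] at this
      exact congrArg Subtype.val this
    rcases key _ h1 with h | h | h | h | h | h
    · left; exact hback _ h
    · right; left
      rw [hback _ h, map_mul, Subgroup.coe_mul]
    · right; right; left; exact hback _ h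
    · right; right; right; left
      rw [hback _ h, map_mul, Subgroup.coe_mul]
    · right; right; right; right; left
      rw [hback _ h, map_mul, Subgroup.coe_mul]
    · right; right; right; right; right
      rw [hback _ h, map_mul, map_mul, Subgroup.coe_mul, Subgroup.coe_mul]
  -- pass to the additive group
  let toA : H → ((Additive V) →+ (Additive V)) := fun h => MonoidHom.toAdditive (ρ h).toMonoidHom
  have toA_apply : ∀ (h : H) (v : V), toA h (Additive.ofMul v) = Additive.ofMul (ρ h v) :=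
    fun h v => rfl
  have toA_mul : ∀ (h h' : H) (x : (Additive V)), toA (h * h') x = toA h (toA h' x) := by
    intro h h' x
    show Additive.ofMul (ρ (h * h') (Additive.toMul x)) = _
    rw [map_mul]
    rfl
  have toA_z : ∀ x : (Additive V), toA z x = -x := by
    intro x
    show Additive.ofMul (ρ z (Additive.toMul x)) = _
    rw [hzinv]
    rfl
  have h3A : ∀ x : (Additive V), 3 • x = 0 := by
    intro x
    show Additive.ofMul ((Additive.toMul x) ^ 3) = 0
    rw [h3]
    rfl
  have hIA : ∀ x : (Additive V), toA i (toA i x) = -x := by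
    intro x
    rw [← toA_mul, hii, toA_z]
  have hJA : ∀ x : (Additive V), toA j (toA j x) = -x := by
    intro x
    rw [← toA_mul, hjj, toA_z]
  have hJIA : ∀ x : (Additive V), toA j (toA i x) = -(toA i (toA j x)) := by
    intro x
    rw [← toA_mul, hji, toA_mul, toA_z, toA_mul]
  haveI : Finite (Additive V) := inferInstanceAs (Finite V)
  haveI : Nontrivial (Additive V) := inferInstanceAs (Nontrivial V)
  have hcardA : Nat.card (Additive V) = 3 ^ n := hcard
  let 𝒢 : Set ((Additive V) ≃+ (Additive V)) := Set.range (fun h : H => MulEquiv.toAdditive (ρ h))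
  have hg_apply : ∀ (h : H) (x : (Additive V)), (MulEquiv.toAdditive (ρ h)) x = toA h x := fun h x => rfl
  have htransA : ∀ x y : (Additive V), x ≠ 0 → y ≠ 0 → ∃ g ∈ 𝒢, g x = y := by
    intro x y hx hy
    obtain ⟨h, hh⟩ := htrans (Additive.toMul x) (Additive.toMul y) hx hy
    refine ⟨_, ⟨h, rfl⟩, ?_⟩
    show Additive.ofMul (ρ h (Additive.toMul x)) = y
    rw [hh]
    rfl
  have hS6 : ∀ x ∈ R, x * x = z → QuatModule.S6 (toA i) (toA j) (toA x) := by
    intro x hx hxx
    unfold QuatModule.S6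
    rcases hsq x hx hxx with h | h | h | h | h | h
    · left; rw [h]
    · right; left
      rw [h]; apply AddMonoidHom.ext; intro y
      rw [toA_mul, toA_z]; rfl
    · right; right; left; rw [h]
    · right; right; right; left
      rw [h]; apply AddMonoidHom.ext; intro y
      rw [toA_mul, toA_z]; rfl
    · right; right; right; right; left
      rw [h]; apply AddMonoidHom.ext; intro y
      rw [toA_mul]; rfl
    · right; right; right; right; right
      rw [h]; apply AddMonoidHom.ext; intro y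
      rw [toA_mul, toA_z, toA_mul]; rfl
  have hnormA : ∀ g ∈ 𝒢, ∃ I' J' : (Additive V) →+ (Additive V), (∀ x, g (toA i x) = I' (g x)) ∧
      (∀ x, g (toA j x) = J' (g x)) ∧ QuatModule.S6 (toA i) (toA j) I' ∧
      QuatModule.S6 (toA i) (toA j) J' := by
    rintro g ⟨h, rfl⟩
    have hconjz : h * z * h⁻¹ = z := by
      apply hinvol _ (hRn.conj_mem z hzR h)
      · calc h * z * h⁻¹ * (h * z * h⁻¹) = h * (z * z) * h⁻¹ := by group
          _ = 1 := by rw [hzz]; group
      · intro hc
        apply hz1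
        calc z = h⁻¹ * (h * z * h⁻¹) * h := by group
          _ = 1 := by rw [hc]; group
    refine ⟨toA (h * i * h⁻¹), toA (h * j * h⁻¹), ?_, ?_, ?_, ?_⟩
    · intro x
      show toA h (toA i x) = toA (h * i * h⁻¹) (toA h x)
      rw [← toA_mul, ← toA_mul]
      congr 1
      group
    · intro x
      show toA h (toA j x) = toA (h * j * h⁻¹) (toA h x)
      rw [← toA_mul, ← toA_mul]
      congr 1
      group
    · apply hS6 _ (hRn.conj_mem i hiR h)
      calc h * i * h⁻¹ * (h * i * h⁻¹) = h * (i * i) * h⁻¹ := by group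
        _ = z := by rw [hii, hconjz]
    · apply hS6 _ (hRn.conj_mem j hjR h)
      calc h * j * h⁻¹ * (h * j * h⁻¹) = h * (j * j) * h⁻¹ := by group
        _ = z := by rw [hjj, hconjz]
  exact QuatModule.card_eq_nine (A := Additive V) h3A (toA i) (toA j) hIA hJA hJIA n hcardA 𝒢 htransA hnormA

theorem exceptional_pResidual_le [Finite V] [Nontrivial V]
    (ρ : H →* MulAut V) (h3 : ∀ v : V, v ^ 3 = 1) (n : ℕ) (hcard : Nat.card V = 3 ^ n)
    (R : Subgroup H) [hRn : R.Normal] (e : R ≃* QuaternionGroup 2)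
    (hfpf : ∀ r ∈ R, r ≠ 1 → ∀ v : V, ρ r v = v → v = 1)
    (htrans : ∀ v w : V, v ≠ 1 → w ≠ 1 → ∃ h : H, ρ h v = w)
    (hstab : ∀ v : V, v ≠ 1 → ∀ h : H, ρ h v = v → ∃ k : ℕ, h ^ (3 ^ k) = 1) :
    Cfsg.pResidual 3 H ≤ R := by
  classical
  have h9 := exceptional_card ρ h3 n hcard R e hfpf htrans
  obtain ⟨v₀, hv₀⟩ := exists_ne (1 : V)
  have hR8 : Nat.card R = 8 := by
    rw [Nat.card_congr e.toEquiv, Nat.card_eq_fintype_card, QuaternionGroup.card]
  haveI : Finite R := Nat.finite_of_card_ne_zero (by rw [hR8]; norm_num)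
  have hne : ∀ h : H, ρ h v₀ ≠ 1 := by
    intro h hh
    apply hv₀
    have : ρ h v₀ = ρ h 1 := by rw [hh, map_one]
    exact (ρ h).injective this
  let f : R → {v : V // v ≠ 1} := fun r => ⟨ρ (r : H) v₀, hne r⟩
  have hfinj : Function.Injective f := by
    intro r r' hrr
    have h1 : ρ (r : H) v₀ = ρ (r' : H) v₀ := congrArg Subtype.val hrr
    by_contra hne'
    have h2 : ((r'⁻¹ * r : R) : H) ≠ 1 := by
      intro h
      apply hne'
      have : r'⁻¹ * r = 1 := Subtype.ext h
      exact (inv_mul_eq_one.mp this).symm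
    apply hv₀
    apply hfpf _ (r'⁻¹ * r).2 h2
    rw [Subgroup.coe_mul, map_mul, MulAut.mul_apply, h1, ← MulAut.mul_apply, ← map_mul,
      Subgroup.coe_inv, inv_mul_cancel, map_one, MulAut.one_apply]
  have hcard2 : Nat.card {v : V // v ≠ 1} = 8 := by
    haveI : Fintype V := Fintype.ofFinite V
    rw [Nat.card_eq_fintype_card, Fintype.card_subtype, Finset.filter_ne',
      Finset.card_erase_of_mem (Finset.mem_univ _), Finset.card_univ, ← Nat.card_eq_fintype_card, h9]
  have hbij := Function.Injective.bijective_of_nat_card_le hfinj (by rw [hcard2, hR8])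
  have hP : IsPGroup 3 (H ⧸ R) := by
    intro q
    obtain ⟨h, rfl⟩ := QuotientGroup.mk_surjective q
    obtain ⟨r, hr⟩ := hbij.2 ⟨ρ h v₀, hne h⟩
    have hr' : ρ (r : H) v₀ = ρ h v₀ := congrArg Subtype.val hr
    have hfix : ρ ((r : H)⁻¹ * h) v₀ = v₀ := by
      rw [map_mul, MulAut.mul_apply, ← hr', ← MulAut.mul_apply, ← map_mul, inv_mul_cancel,
        map_one, MulAut.one_apply]
    obtain ⟨k, hk⟩ := hstab v₀ hv₀ _ hfix
    refine ⟨k, ?_⟩
    have hmk : ((((r : H)⁻¹ * h : H)) : H ⧸ R) = (h : H ⧸ R) := by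
      rw [QuotientGroup.mk_mul, QuotientGroup.mk_inv, (QuotientGroup.eq_one_iff (r : H)).mpr r.2,
        inv_one, one_mul]
    rw [← hmk, ← QuotientGroup.mk_pow, hk]
    rfl
  exact Cfsg.Agent.Helper9.pResidual_le_of_isPGroup_quotient R hP


end Cfsg.Agent.Helper24.SolvTrans
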