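import Mathlib
import Cfsg.Prelude.Def_Transfer
import Cfsg.Agent.Helper14.PCore
import Cfsg.Agent.Helper7.Fitting
import Cfsg.Agent.Helper9.NPC
import Cfsg.Agent.S0044
import Cfsg.Agent.S3785
import Cfsg.Agent.Helper24.SolvTransA
import Cfsg.Agent.Helper24.SolvTransB

/-!
# Solvable linear groups transitive on nonzero vectors with `p`-group point stabilizers

Such a group `H` (with `O_p(H) = 1`) has a normal `p`-complement and abelian Sylow
`p`-subgroups.
-/

set_option autoImplicit false

namespace Cfsg.Agent.Helper24.SolvTrans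

open Cfsg

variable {H V : Type*} [Group H] [Finite H] [CommGroup V] [Finite V] [Nontrivial V]

/-- An element centralizing every `O_r(H)` lies in `F(H)` (`H` solvable); if it is a `p`-element
and `O_p(H) = 1` it is trivial. -/
theorem eq_one_of_centralizes_cores [Group.IsSolvable H] (p : ℕ) [hp : Fact p.Prime]
    (hcore : pCore p H = ⊥) (y : H) (k : ℕ) (hy : y ^ (p ^ k) = 1)
    (hcent : ∀ r : ℕ, r.Prime → r ≠ p → ∀ x ∈ pCore r H, y * x = x * y) : y = 1 := by
  have h1 : fittingSubgroup H ≤ Subgroup.centralizer {y} := by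
    rw [Cfsg.Agent.Helper7.fittingSubgroup_eq_pCoreSup, Cfsg.Agent.Helper7.pCoreSup_le_iff]
    intro r hr x hx
    rw [Subgroup.mem_centralizer_iff]
    intro z hz
    rw [Set.mem_singleton_iff] at hz
    rw [hz]
    by_cases hrp : r = p
    · rw [hrp, hcore, Subgroup.mem_bot] at hx
      rw [hx, mul_one, one_mul]
    · exact hcent r hr hrp x hx
  have h2 : y ∈ Subgroup.centralizer (fittingSubgroup H : Set H) := by
    rw [Subgroup.mem_centralizer_iff]
    intro x hx
    have := Subgroup.mem_centralizer_iff.mp (h1 hx) y rfl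
    exact this.symm
  have h3 : y ∈ fittingSubgroup H := Cfsg.Agent.S0044.result h2
  obtain ⟨j, -, hj⟩ := (Nat.dvd_prime_pow hp.out).mp (orderOf_dvd_of_pow_eq_one hy)
  have h4 : y ∈ pCore p H := Cfsg.Agent.S3785.mem_pCore_of_mem_fitting h3 hj
  rw [hcore, Subgroup.mem_bot] at h4
  exact h4

theorem solv_trans_main [Group.IsSolvable H] (p : ℕ) [hp : Fact p.Prime] (ρ : H →* MulAut V)
    (hVp : ∀ v : V, v ^ p = 1) (hcore : pCore p H = ⊥)
    (htrans : ∀ v w : V, v ≠ 1 → w ≠ 1 → ∃ h : H, ρ h v = w)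
    (hstab : ∀ v : V, v ≠ 1 → ∀ h : H, ρ h v = v → ∃ k : ℕ, h ^ (p ^ k) = 1) :
    HasNormalPComplement p H ∧ ∀ Q : Sylow p H, IsMulCommutative (Q : Subgroup H) := by
  -- `V` is a `p`-group
  have hVpg : IsPGroup p V := fun v => ⟨1, by rw [pow_one]; exact hVp v⟩
  obtain ⟨n, hn⟩ := IsPGroup.iff_card.mp hVpg
  -- elements of order prime to `p` act fixed-point-freely
  have hfpf : ∀ h : H, h ≠ 1 → (orderOf h).Coprime p → ∀ v : V, ρ h v = v → v = 1 := by
    intro h h1 hcop v hv
    by_contra hv1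
    obtain ⟨k, hk⟩ := hstab v hv1 h hv
    have h2 : orderOf h ∣ p ^ k := orderOf_dvd_of_pow_eq_one hk
    have h3 : orderOf h = 1 := Nat.Coprime.eq_one_of_dvd (Nat.Coprime.pow_right k hcop) h2
    exact h1 (orderOf_eq_one_iff.mp h3)
  -- structure of the cores
  have hkill : ∀ r : ℕ, r.Prime → r ≠ p →
      (∀ α β : MulAut (pCore r H), α * β = β * α) ∨ ¬ p ∣ Nat.card (MulAut (pCore r H)) ∨
      (r = 2 ∧ Nonempty (pCore r H ≃* QuaternionGroup 2) ∧
        Nat.card (MulAut (pCore r H)) = 24) := by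
    intro r hr hrp
    haveI : Fact r.Prime := ⟨hr⟩
    have hRp : IsPGroup r (pCore r H) := Cfsg.Agent.Helper14.pCore_isPGroup r
    have hRfpf : ∀ a ∈ pCore r H, a ≠ 1 → ∀ v : V, ρ a v = v → v = 1 := by
      intro a ha a1
      apply hfpf a a1
      obtain ⟨j, hj⟩ := hRp ⟨a, ha⟩
      have hj' : a ^ (r ^ j) = 1 := by
        have := congrArg Subtype.val hj
        simpa using this
      have h1 : orderOf a ∣ r ^ j := orderOf_dvd_of_pow_eq_one hj'
      have h2 : Nat.Coprime (r ^ j) p :=
        Nat.Coprime.pow_left j ((Nat.coprime_primes hr hp.out).mpr hrp)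
      exact Nat.Coprime.coprime_dvd_left h1 h2
    rcases fpf_cyclic_or_quaternion ρ r (pCore r H) hRp hRfpf with hc | ⟨hr2, m, e⟩
    · left
      intro α β
      have e := IsCyclic.mulAutMulEquiv (pCore r H)
      apply e.injective
      rw [map_mul, map_mul, mul_comm]
    · have hp2 : p ≠ 2 := fun h => hrp (hr2.trans h.symm)
      rcases mulAut_cases (R := pCore r H) (Or.inr ⟨m, e⟩) with h | h | ⟨h1, h2⟩
      · exact Or.inl h
      · right; left
        obtain ⟨t, ht⟩ := IsPGroup.iff_card.mp h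
        rw [ht]
        intro hdvd
        have := (Nat.prime_dvd_prime_iff_eq hp.out Nat.prime_two).mp
          (hp.out.dvd_of_dvd_pow hdvd)
        exact hp2 this
      · right; right
        exact ⟨hr2, h1, h2⟩
  have h24 : p ≠ 2 → ¬ p ^ 2 ∣ 24 := by
    intro hp2' h
    have hle : p ^ 2 ≤ 24 := Nat.le_of_dvd (by norm_num) h
    have hp5 : p < 5 := by nlinarith
    have hp2 := hp.out.two_le
    interval_cases p
    · exact hp2' rfl
    · norm_num at h
    · exact absurd hp.out (by norm_num)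
  -- commutators in a `p`-subgroup
  have hAB : ∀ Q : Sylow p H, IsMulCommutative (Q : Subgroup H) := by
    intro Q
    refine ⟨⟨fun a b => ?_⟩⟩
    apply Subtype.ext
    rw [Subgroup.coe_mul, Subgroup.coe_mul]
    set c : H := (a : H) * b * (a : H)⁻¹ * (b : H)⁻¹ with hc
    have hcQ : c ∈ (Q : Subgroup H) :=
      Subgroup.mul_mem _ (Subgroup.mul_mem _ (Subgroup.mul_mem _ a.2 b.2)
        (Subgroup.inv_mem _ a.2)) (Subgroup.inv_mem _ b.2)
    obtain ⟨k, hk⟩ := Q.2 ⟨c, hcQ⟩
    have hk' : c ^ (p ^ k) = 1 := by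
      have := congrArg Subtype.val hk
      simpa using this
    have hc1 : c = 1 := by
      apply eq_one_of_centralizes_cores p hcore c k hk'
      intro r hr hrp x hx
      haveI : Fact r.Prime := ⟨hr⟩
      let φ : H →* MulAut (pCore r H) := MulAut.conjNormal
      have hφ : φ (a : H) * φ (b : H) = φ (b : H) * φ (a : H) := by
        rcases hkill r hr hrp with h | h | ⟨hr2, -, h⟩
        · exact h _ _
        · obtain ⟨ka, hka⟩ := Q.2 a
          have hka' : (a : H) ^ (p ^ ka) = 1 := by
            have := congrArg Subtype.val hka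
            simpa using this
          rw [map_eq_one_of_not_dvd p φ h (a : H) ka hka', one_mul, mul_one]
        · have hp2 : p ≠ 2 := fun h' => hrp (hr2.trans h'.symm)
          exact commute_map_of_sq_not_dvd p φ (by rw [h]; exact h24 hp2) (Q : Subgroup H) Q.2
            (a : H) (b : H) a.2 b.2
      have hφc : φ c = 1 := by
        rw [hc, map_mul, map_mul, map_mul, map_inv, map_inv, hφ]
        group
      have h2 : c * x * c⁻¹ = x := by
        have e1 : ((φ c) ⟨x, hx⟩ : H) = c * x * c⁻¹ := MulAut.conjNormal_apply c ⟨x, hx⟩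
        rw [hφc, MulAut.one_apply] at e1
        exact e1.symm
      calc c * x = (c * x * c⁻¹) * c := by group
        _ = x * c := by rw [h2]
    calc (a : H) * b = c * (b * a) := by rw [hc]; group
      _ = b * a := by rw [hc1, one_mul]
  refine ⟨?_, hAB⟩
  -- the normal `p`-complement
  obtain ⟨P⟩ : Nonempty (Sylow p H) := inferInstance
  rw [Cfsg.Agent.Helper9.hasNormalPComplement_iff_inf_pResidual P, eq_bot_iff]
  rintro y ⟨hyP, hyR⟩
  rw [Subgroup.mem_bot]
  obtain ⟨k, hk⟩ := P.2 ⟨y, hyP⟩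
  have hk' : y ^ (p ^ k) = 1 := by
    have := congrArg Subtype.val hk
    simpa using this
  by_cases hex : p = 3 ∧ Nonempty (pCore 2 H ≃* QuaternionGroup 2)
  · obtain ⟨hp3, ⟨e⟩⟩ := hex
    subst hp3
    haveI : Fact (Nat.Prime 2) := ⟨Nat.prime_two⟩
    have hR2 : IsPGroup 2 (pCore 2 H) := Cfsg.Agent.Helper14.pCore_isPGroup 2
    have hRfpf : ∀ a ∈ pCore 2 H, a ≠ 1 → ∀ v : V, ρ a v = v → v = 1 := by
      intro a ha a1
      apply hfpf a a1
      obtain ⟨j, hj⟩ := hR2 ⟨a, ha⟩
      have hj' : a ^ (2 ^ j) = 1 := by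
        have := congrArg Subtype.val hj
        simpa using this
      have h1 : orderOf a ∣ 2 ^ j := orderOf_dvd_of_pow_eq_one hj'
      have h2 : Nat.Coprime (2 ^ j) 3 := Nat.Coprime.pow_left j (by norm_num)
      exact Nat.Coprime.coprime_dvd_left h1 h2
    have hle := exceptional_pResidual_le ρ hVp n hn (pCore 2 H) e hRfpf htrans hstab
    have hy2 := hle hyR
    obtain ⟨j, hj⟩ := hR2 ⟨y, hy2⟩
    have hj' : y ^ (2 ^ j) = 1 := by
      have := congrArg Subtype.val hj
      simpa using this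
    have h1 : orderOf y ∣ Nat.gcd (2 ^ j) (3 ^ k) :=
      Nat.dvd_gcd (orderOf_dvd_of_pow_eq_one hj') (orderOf_dvd_of_pow_eq_one hk')
    have h2 : Nat.gcd (2 ^ j) (3 ^ k) = 1 :=
      Nat.Coprime.pow j k (by norm_num)
    rw [h2, Nat.dvd_one] at h1
    exact orderOf_eq_one_iff.mp h1
  · apply eq_one_of_centralizes_cores p hcore y k hk'
    intro r hr hrp x hx
    haveI : Fact r.Prime := ⟨hr⟩
    let φ : H →* MulAut (pCore r H) := MulAut.conjNormal
    have hφy : φ y = 1 := by
      rcases hkill r hr hrp with h | h | ⟨h1, h2, h3⟩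
      · exact map_eq_one_of_comm p φ h y hyR k hk'
      · exact map_eq_one_of_not_dvd p φ h y k hk'
      · apply map_eq_one_of_not_dvd p φ _ y k hk'
        rw [h3]
        intro hdvd
        have h4 : p ∣ 2 ^ 3 * 3 := by norm_num; exact hdvd
        rcases (Nat.Prime.dvd_mul hp.out).mp h4 with h5 | h5
        · have := (Nat.prime_dvd_prime_iff_eq hp.out Nat.prime_two).mp
            (hp.out.dvd_of_dvd_pow h5)
          exact hrp (h1.trans this.symm)
        · have hp3 := (Nat.prime_dvd_prime_iff_eq hp.out Nat.prime_three).mp h5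
          apply hex
          subst h1
          exact ⟨hp3, h2⟩
    have h2 : y * x * y⁻¹ = x := by
      have e1 : ((φ y) ⟨x, hx⟩ : H) = y * x * y⁻¹ := MulAut.conjNormal_apply y ⟨x, hx⟩
      rw [hφy, MulAut.one_apply] at e1
      exact e1.symm
    calc y * x = (y * x * y⁻¹) * y := by group
      _ = x * y := by rw [h2]

end Cfsg.Agent.Helper24.SolvTrans
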