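import Mathlib
import Cfsg.Agent.Helper24.GagolaFrob
import Cfsg.Agent.Helper24.SolvTransC

/-!
# Gagola characters of solvable groups

If `G` is solvable with an irreducible character vanishing off two classes, then `O_p(G) ≠ 1` for a
unique prime `p`, and `G / O_p(G)` has a normal `p`-complement and abelian Sylow `p`-subgroups.
-/

set_option autoImplicit false

namespace Cfsg.Agent.Helper24

open Cfsg

universe u

section GagolaSolv

variable {G : Type u} [Group G] [Finite G]

/-- `O_p(G / O_p(G)) = 1`. -/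
theorem pCore_quotient_pCore (p : ℕ) [Fact p.Prime] : pCore p (G ⧸ pCore p G) = ⊥ := by
  set C := pCore p G with hC
  set Kb := pCore p (G ⧸ C) with hKb
  haveI hKbn : Kb.Normal := Helper14.pCore_normal p
  have hKbp : IsPGroup p Kb := Helper14.pCore_isPGroup p
  set K : Subgroup G := Kb.comap (QuotientGroup.mk' C) with hK
  haveI hKn : K.Normal := Subgroup.Normal.comap hKbn _
  have hKcard : Nat.card K = Nat.card Kb * Nat.card C := Helper1.PrimeGraph.card_comap_mk C Kb
  obtain ⟨a, ha⟩ := IsPGroup.iff_card.mp hKbp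
  obtain ⟨b, hb⟩ := IsPGroup.iff_card.mp (Helper14.pCore_isPGroup (G := G) p)
  have hKp : IsPGroup p K := by
    apply IsPGroup.of_card (n := a + b)
    rw [hKcard, ha, hb, pow_add]
  have hKC : K ≤ C := Helper14.le_pCore p hKn hKp
  rw [eq_bot_iff]
  intro q hq
  obtain ⟨g, rfl⟩ := QuotientGroup.mk_surjective q
  have hgK : g ∈ K := hq
  rw [Subgroup.mem_bot]
  exact (QuotientGroup.eq_one_iff g).mpr (hKC hgK)

theorem gagola_solvable [hs : Group.IsSolvable G] (hG : 2 < Nat.card G) (χ : IrrCharacter G)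
    (hχ : Nat.card {C : ConjClasses G // ∃ g ∈ C.carrier, (χ : G → ℂ) g ≠ 0} = 2) :
    ∃ p : ℕ, p.Prime ∧ (∀ q : ℕ, q.Prime → (pCore q G ≠ ⊥ ↔ q = p)) ∧
      HasNormalPComplement p (G ⧸ pCore p G) ∧
      ∀ Q : Sylow p (G ⧸ pCore p G), IsMulCommutative (Q : Subgroup (G ⧸ pCore p G)) := by
  obtain ⟨N, hNn, hN1, hmin, ⟨p, hp, hcommN, hexp⟩, hsupp, htransN⟩ := gagola_main hG χ hχ
  haveI : Fact p.Prime := ⟨hp⟩
  haveI := hNn
  have hN : ∀ g : G, g ∈ N ↔ (χ : G → ℂ) g ≠ 0 := fun g => (hsupp g).symm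
  have hNp : IsPGroup p N := by
    intro x
    refine ⟨1, ?_⟩
    rw [pow_one]
    apply Subtype.ext
    simpa using hexp x x.2
  obtain ⟨⟨a, haN⟩, ha1'⟩ := (Subgroup.ne_bot_iff_exists_ne_one).mp hN1
  have ha1 : a ≠ 1 := fun h => ha1' (Subtype.ext h)
  have haord : orderOf a = p := by
    rcases (Nat.dvd_prime hp).mp (orderOf_dvd_of_pow_eq_one (hexp a haN)) with h | h
    · exact absurd (orderOf_eq_one_iff.mp h) ha1
    · exact h
  refine ⟨p, hp, ?_, ?_⟩
  · intro q hq
    haveI : Fact q.Prime := ⟨hq⟩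
    constructor
    · intro hne
      have hle : N ≤ pCore q G := hmin _ (Helper14.pCore_normal q) hne
      obtain ⟨j, hj⟩ := (Helper14.pCore_isPGroup (G := G) q) ⟨a, hle haN⟩
      have hj' : a ^ (q ^ j) = 1 := by
        have := congrArg Subtype.val hj
        simpa using this
      have h1 : p ∣ q ^ j := by
        rw [← haord]
        exact orderOf_dvd_of_pow_eq_one hj'
      exact ((Nat.prime_dvd_prime_iff_eq hp hq).mp (hp.dvd_of_dvd_pow h1)).symm
    · rintro rfl hbot
      have hle : N ≤ pCore q G := Helper14.le_pCore q hNn hNp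
      rw [hbot, le_bot_iff] at hle
      exact hN1 hle
  -- the action of `G / O_p(G)` on `N`
  set C := pCore p G with hC
  have hsyl := (gagola_sylow hG χ hχ p N hN hNp).1
  have hCcent : C ≤ Subgroup.centralizer (N : Set G) := by
    intro c hc
    rw [Subgroup.mem_centralizer_iff]
    intro x hx
    by_cases hx1 : x = 1
    · rw [hx1, one_mul, mul_one]
    · obtain ⟨P, hP⟩ := hsyl x hx hx1
      have hcP : c ∈ (P : Subgroup G) := Helper14.pCore_le_sylow p P hc
      rw [← hP] at hcP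
      exact Subgroup.mem_centralizer_iff.mp hcP x rfl
  let ρ₀ : G →* MulAut N := MulAut.conjNormal
  have hker : C ≤ ρ₀.ker := by
    intro c hc
    rw [MonoidHom.mem_ker]
    ext x
    rw [MulAut.conjNormal_apply, MulAut.one_apply]
    have := Subgroup.mem_centralizer_iff.mp (hCcent hc) x x.2
    calc c * (x : G) * c⁻¹ = ((x : G) * c) * c⁻¹ := by rw [this]
      _ = x := by group
  let ρ : (G ⧸ C) →* MulAut N := QuotientGroup.lift C ρ₀ hker
  have hρ : ∀ (g : G) (x : N), ((ρ (g : G ⧸ C) x : N) : G) = g * x * g⁻¹ := by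
    intro g x
    show ((QuotientGroup.lift C ρ₀ hker (g : G ⧸ C)) x : G) = _
    rw [QuotientGroup.lift_mk]
    exact MulAut.conjNormal_apply g x
  letI : CommGroup N :=
    { (inferInstance : Group N) with
      mul_comm := fun x y => hcommN.is_comm.comm x y }
  haveI : Nontrivial N := (Subgroup.nontrivial_iff_ne_bot N).mpr hN1
  have hVp : ∀ v : N, v ^ p = 1 := by
    intro v
    apply Subtype.ext
    simpa using hexp v v.2
  have htrans : ∀ v w : N, v ≠ 1 → w ≠ 1 → ∃ h : G ⧸ C, ρ h v = w := by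
    intro v w hv hw
    have hv' : (v : G) ≠ 1 := fun h => hv (Subtype.ext h)
    have hw' : (w : G) ≠ 1 := fun h => hw (Subtype.ext h)
    obtain ⟨g, hg⟩ := htransN v v.2 w w.2 hv' hw'
    refine ⟨(g : G ⧸ C), ?_⟩
    apply Subtype.ext
    rw [hρ, hg]
  have hstab : ∀ v : N, v ≠ 1 → ∀ h : G ⧸ C, ρ h v = v → ∃ k : ℕ, h ^ (p ^ k) = 1 := by
    intro v hv h hh
    obtain ⟨g, rfl⟩ := QuotientGroup.mk_surjective h
    have hv' : (v : G) ≠ 1 := fun h => hv (Subtype.ext h)
    obtain ⟨P, hP⟩ := hsyl v v.2 hv'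
    have hgv : g * (v : G) * g⁻¹ = v := by
      rw [← hρ, hh]
    have hgP : g ∈ (P : Subgroup G) := by
      rw [← hP, Subgroup.mem_centralizer_iff]
      intro x hx
      rw [Set.mem_singleton_iff] at hx
      rw [hx]
      calc (v : G) * g = (g * (v : G) * g⁻¹) * g := by rw [hgv]
        _ = g * v := by group
    obtain ⟨k, hk⟩ := P.2 ⟨g, hgP⟩
    have hk' : g ^ (p ^ k) = 1 := by
      have := congrArg Subtype.val hk
      simpa using this
    refine ⟨k, ?_⟩
    rw [← QuotientGroup.mk_pow, hk']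
    rfl
  exact SolvTrans.solv_trans_main (H := G ⧸ C) (V := N) p ρ hVp (pCore_quotient_pCore p) htrans
    hstab

end GagolaSolv

end Cfsg.Agent.Helper24
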