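import Mathlib

/-!
# Jordan's theorem toolkit, part A: unitary representations, contraction of commutators

Abstract setting: `V` a complex inner product space, `ρ : G →* (V →ₗ[ℂ] V)` norm preserving
(`hu : ∀ g v, ‖ρ g v‖ = ‖v‖`).  `Bd X t` says the operator `X` has norm at most `t`.
-/

namespace Cfsg.Agent.Helper24.Jordan

open scoped InnerProductSpace

variable {G : Type*} [Group G]
variable {V : Type*} [NormedAddCommGroup V] [InnerProductSpace ℂ V]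

/-- `X` is bounded by `t`. -/
def Bd (X : V →ₗ[ℂ] V) (t : ℝ) : Prop := ∀ v, ‖X v‖ ≤ t * ‖v‖

theorem Bd.mono {X : V →ₗ[ℂ] V} {s t : ℝ} (h : Bd X s) (hst : s ≤ t) : Bd X t := fun v =>
  (h v).trans (mul_le_mul_of_nonneg_right hst (norm_nonneg v))

theorem Bd.mul {X Y : V →ₗ[ℂ] V} {s t : ℝ} (hX : Bd X s) (hY : Bd Y t) (hs : 0 ≤ s) :
    Bd (X * Y) (s * t) := fun v => by
  have h1 := hX (Y v)
  have h2 := hY v
  rw [Module.End.mul_apply]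
  calc ‖X (Y v)‖ ≤ s * ‖Y v‖ := h1
    _ ≤ s * (t * ‖v‖) := mul_le_mul_of_nonneg_left h2 hs
    _ = s * t * ‖v‖ := by ring

theorem Bd.sub {X Y : V →ₗ[ℂ] V} {s t : ℝ} (hX : Bd X s) (hY : Bd Y t) :
    Bd (X - Y) (s + t) := fun v => by
  rw [LinearMap.sub_apply]
  calc ‖X v - Y v‖ ≤ ‖X v‖ + ‖Y v‖ := norm_sub_le _ _
    _ ≤ s * ‖v‖ + t * ‖v‖ := add_le_add (hX v) (hY v)
    _ = (s + t) * ‖v‖ := by ring

section unitary

variable (ρ : G →* (V →ₗ[ℂ] V)) (hu : ∀ g v, ‖ρ g v‖ = ‖v‖)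

include hu

theorem inner_map_map (g : G) (u v : V) : ⟪ρ g u, ρ g v⟫_ℂ = ⟪u, v⟫_ℂ := by
  let f : V →ₗᵢ[ℂ] V := ⟨ρ g, hu g⟩
  exact f.inner_map_map u v

theorem map_inv_apply (g : G) (v : V) : ρ g (ρ g⁻¹ v) = v := by
  rw [← Module.End.mul_apply, ← map_mul, mul_inv_cancel, map_one, Module.End.one_apply]

theorem inv_map_apply (g : G) (v : V) : ρ g⁻¹ (ρ g v) = v := by
  rw [← Module.End.mul_apply, ← map_mul, inv_mul_cancel, map_one, Module.End.one_apply]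

theorem inner_map_left (g : G) (u v : V) : ⟪ρ g u, v⟫_ℂ = ⟪u, ρ g⁻¹ v⟫_ℂ := by
  rw [← inner_map_map ρ hu g u (ρ g⁻¹ v), map_inv_apply ρ hu]

theorem Bd.mul_unitary {X : V →ₗ[ℂ] V} {t : ℝ} (hX : Bd X t) (g : G) : Bd (X * ρ g) t := fun v => by
  rw [Module.End.mul_apply]
  have := hX (ρ g v)
  rwa [hu] at this

theorem Bd.unitary_mul {X : V →ₗ[ℂ] V} {t : ℝ} (hX : Bd X t) (g : G) : Bd (ρ g * X) t := fun v => by
  rw [Module.End.mul_apply, hu]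
  exact hX v

/-- lower bound for the real part of `⟪ρ g v, v⟫`. -/
theorem re_inner_ge {g : G} {t : ℝ} (h : Bd (ρ g - 1) t) (_ht : 0 ≤ t) (v : V) :
    (1 - t ^ 2 / 2) * ‖v‖ ^ 2 ≤ (⟪ρ g v, v⟫_ℂ).re := by
  have h1 := h v
  rw [LinearMap.sub_apply, Module.End.one_apply] at h1
  have h2 : ‖ρ g v - v‖ ^ 2 ≤ (t * ‖v‖) ^ 2 := by
    apply pow_le_pow_left₀ (norm_nonneg _) h1
  have h3 := @norm_sub_sq ℂ V _ _ _ (ρ g v) v
  rw [hu] at h3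
  have h4 : RCLike.re ⟪ρ g v, v⟫_ℂ = (⟪ρ g v, v⟫_ℂ).re := rfl
  rw [h4] at h3
  nlinarith

theorem re_inner_pos {g : G} {t : ℝ} (h : Bd (ρ g - 1) t) (ht : 0 ≤ t) (ht2 : t ^ 2 < 2) {v : V}
    (hv : v ≠ 0) : 0 < (⟪ρ g v, v⟫_ℂ).re := by
  have h1 := re_inner_ge ρ hu h ht v
  have h2 : 0 < ‖v‖ ^ 2 := by positivity
  have h3 : 0 < (1 - t ^ 2 / 2) * ‖v‖ ^ 2 := by
    apply mul_pos _ h2
    linarith
  linarith

/-- shifting by the scalar `c = 1 - t²/2` improves the bound to `√(1 - c²)`. -/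
theorem shift_bound {g : G} {t : ℝ} (h : Bd (ρ g - 1) t) (ht : 0 ≤ t) (ht2 : t ^ 2 ≤ 2) :
    Bd (ρ g - ((1 - t ^ 2 / 2 : ℝ) : ℂ) • (1 : V →ₗ[ℂ] V)) (Real.sqrt (1 - (1 - t ^ 2 / 2) ^ 2)) := by
  intro v
  set c : ℝ := 1 - t ^ 2 / 2 with hc
  have hc0 : 0 ≤ c := by rw [hc]; linarith
  rw [LinearMap.sub_apply, LinearMap.smul_apply, Module.End.one_apply]
  have h1 := re_inner_ge ρ hu h ht v
  rw [← hc] at h1
  have h3 := @norm_sub_sq ℂ V _ _ _ (ρ g v) ((c : ℂ) • v)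
  rw [hu, inner_smul_right, norm_smul] at h3
  have h4 : RCLike.re ((c : ℂ) * ⟪ρ g v, v⟫_ℂ) = c * (⟪ρ g v, v⟫_ℂ).re := by
    show ((c : ℂ) * ⟪ρ g v, v⟫_ℂ).re = _
    rw [Complex.re_ofReal_mul]
  rw [h4] at h3
  have h5 : ‖(c : ℂ)‖ = c := by
    rw [Complex.norm_real, Real.norm_of_nonneg hc0]
  rw [h5] at h3
  have h6 : ‖ρ g v - (c : ℂ) • v‖ ^ 2 ≤ (1 - c ^ 2) * ‖v‖ ^ 2 := by
    rw [h3]
    nlinarith [mul_le_mul_of_nonneg_left h1 hc0]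
  have h7 : 0 ≤ 1 - c ^ 2 := by
    rw [hc]; nlinarith [sq_nonneg t, sq_nonneg (t ^ 2)]
  have h8 : ‖ρ g v - (c : ℂ) • v‖ ≤ Real.sqrt ((1 - c ^ 2) * ‖v‖ ^ 2) :=
    Real.le_sqrt_of_sq_le h6
  rw [Real.sqrt_mul h7, Real.sqrt_sq (norm_nonneg v)] at h8
  exact h8

/-- the commutator bound: `‖ρ [a,b] - 1‖ ≤ 2 r s`. -/
theorem commutator_bound {a b : G} {c : ℂ} {r s : ℝ} (hr : 0 ≤ r) (hs : 0 ≤ s)
    (ha : Bd (ρ a - c • (1 : V →ₗ[ℂ] V)) r) (hb : Bd (ρ b - 1) s) :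
    Bd (ρ (a * b * a⁻¹ * b⁻¹) - 1) (2 * r * s) := by
  have h1 : ρ (a * b * a⁻¹ * b⁻¹) - 1 = (ρ a * ρ b - ρ b * ρ a) * ρ (a⁻¹ * b⁻¹) := by
    have e1 : ρ a * ρ a⁻¹ = 1 := by rw [← map_mul, mul_inv_cancel, map_one]
    have e2 : ρ b * ρ b⁻¹ = 1 := by rw [← map_mul, mul_inv_cancel, map_one]
    rw [map_mul, map_mul, map_mul, map_mul, sub_mul]
    have e3 : ρ b * ρ a * (ρ a⁻¹ * ρ b⁻¹) = 1 := by
      calc ρ b * ρ a * (ρ a⁻¹ * ρ b⁻¹) = ρ b * (ρ a * ρ a⁻¹) * ρ b⁻¹ := by noncomm_ring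
        _ = 1 := by rw [e1, mul_one, e2]
    rw [e3]
    noncomm_ring
  have h2 : ρ a * ρ b - ρ b * ρ a
      = (ρ a - c • (1 : V →ₗ[ℂ] V)) * (ρ b - 1) - (ρ b - 1) * (ρ a - c • (1 : V →ₗ[ℂ] V)) := by
    simp only [sub_mul, mul_sub, smul_mul_assoc, mul_smul_comm, one_mul, mul_one, smul_sub]
    abel
  rw [h1]
  apply Bd.mul_unitary ρ hu
  rw [h2]
  have h3 := (ha.mul hb hr).sub (hb.mul ha hs)
  apply h3.mono
  linarith [mul_comm r s]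

end unitary

end Cfsg.Agent.Helper24.Jordan
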