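import Cfsg.Agent.Helper24.JordanA

/-!
# Jordan's theorem toolkit, part B: Frobenius' commutator lemma and the abelian normal subgroup
-/

namespace Cfsg.Agent.Helper24.Jordan

open scoped InnerProductSpace

theorem sqrt3_lt_two : Real.sqrt 3 < 2 := by
  rw [Real.sqrt_lt' (by norm_num)]; norm_num

variable {G : Type*} [Group G]
variable {V : Type*} [NormedAddCommGroup V] [InnerProductSpace ℂ V]
variable (ρ : G →* (V →ₗ[ℂ] V)) (hu : ∀ g v, ‖ρ g v‖ = ‖v‖)

theorem conj_pow_eq {a b : G} (hcomm : Commute a (a * b * a⁻¹ * b⁻¹)) (k : ℕ) :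
    a ^ k * b * (a ^ k)⁻¹ = (a * b * a⁻¹ * b⁻¹) ^ k * b := by
  induction k with
  | zero => simp
  | succ k ih =>
    have h1 : a ^ (k + 1) * b * (a ^ (k + 1))⁻¹ = a * (a ^ k * b * (a ^ k)⁻¹) * a⁻¹ := by
      rw [pow_succ']; group
    rw [h1, ih]
    have h2 : Commute a ((a * b * a⁻¹ * b⁻¹) ^ k) := hcomm.pow_right k
    have h3 : a * ((a * b * a⁻¹ * b⁻¹) ^ k * b) * a⁻¹
        = (a * (a * b * a⁻¹ * b⁻¹) ^ k) * (b * a⁻¹) := by group
    rw [h3, h2.eq, pow_succ]
    group

include hu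

theorem frobenius_lemma [Finite G] (hinj : Function.Injective ρ) {a b : G}
    (hcomm : Commute a (a * b * a⁻¹ * b⁻¹))
    (hpos : ∀ v : V, v ≠ 0 → 0 < (⟪ρ b v, v⟫_ℂ).re) : a * b * a⁻¹ * b⁻¹ = 1 := by
  by_contra hc
  set c := a * b * a⁻¹ * b⁻¹ with hcdef
  have hρc : ρ c ≠ 1 := by
    intro h
    apply hc
    apply hinj
    rw [h, map_one]
  obtain ⟨x, hx⟩ : ∃ x, ρ c x ≠ x := by
    by_contra hne
    push Not at hne
    apply hρc
    ext v
    rw [hne v, Module.End.one_apply]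
  set w := ρ c x - x with hw
  have hw0 : w ≠ 0 := sub_ne_zero.mpr hx
  set u := ρ b⁻¹ w with hudef
  have hbu : ρ b u = w := map_inv_apply ρ hu b w
  have hu0 : u ≠ 0 := by
    intro h
    apply hw0
    rw [← hbu, h, map_zero]
  set N := Nat.card G with hN
  have hNpos : 0 < N := Nat.card_pos
  have haN : a ^ N = 1 := pow_card_eq_one'
  have hcN : c ^ N = 1 := by
    have := conj_pow_eq hcomm N
    rw [haN] at this
    simp only [one_mul, inv_one, mul_one] at this
    exact (mul_eq_right.mp this.symm)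
  -- the sum
  have hsum : ∑ k ∈ Finset.range N, ⟪ρ b (ρ (a ^ k)⁻¹ u), ρ (a ^ k)⁻¹ u⟫_ℂ = 0 := by
    have h1 : ∀ k, ⟪ρ b (ρ (a ^ k)⁻¹ u), ρ (a ^ k)⁻¹ u⟫_ℂ = ⟪ρ (c ^ k) w, u⟫_ℂ := by
      intro k
      rw [← inner_map_map ρ hu (a ^ k) (ρ b (ρ (a ^ k)⁻¹ u)) (ρ (a ^ k)⁻¹ u), map_inv_apply ρ hu]
      have h2 : ρ (a ^ k) (ρ b (ρ (a ^ k)⁻¹ u)) = ρ (a ^ k * b * (a ^ k)⁻¹) u := by
        rw [map_mul, map_mul, Module.End.mul_apply, Module.End.mul_apply]
      rw [h2, conj_pow_eq hcomm k, map_mul, Module.End.mul_apply, hbu]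
    rw [Finset.sum_congr rfl (fun k _ => h1 k), ← sum_inner]
    have h3 : ∑ k ∈ Finset.range N, ρ (c ^ k) w = 0 := by
      have h4 : ∀ k, ρ (c ^ k) w = ρ (c ^ (k + 1)) x - ρ (c ^ k) x := by
        intro k
        rw [hw, map_sub, ← Module.End.mul_apply, ← map_mul, ← pow_succ]
      rw [Finset.sum_congr rfl (fun k _ => h4 k), Finset.sum_range_sub (fun k => ρ (c ^ k) x),
        hcN, pow_zero, sub_self]
    rw [h3, inner_zero_left]
  have hpos' : 0 < (∑ k ∈ Finset.range N, ⟪ρ b (ρ (a ^ k)⁻¹ u), ρ (a ^ k)⁻¹ u⟫_ℂ).re := by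
    rw [Complex.re_sum]
    apply Finset.sum_pos
    · intro k _
      apply hpos
      intro h
      apply hu0
      have := hu (a ^ k)⁻¹ u
      rw [h, norm_zero] at this
      exact norm_eq_zero.mp this.symm
    · exact ⟨0, Finset.mem_range.mpr hNpos⟩
  rw [hsum] at hpos'
  simp at hpos'

/-- a uniform gap: elements moving every vector very little are trivial. -/
theorem exists_eps [Finite G] (hinj : Function.Injective ρ) :
    ∃ ε : ℝ, 0 < ε ∧ ∀ g : G, Bd (ρ g - 1) ε → g = 1 := by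
  classical
  letI : Fintype G := Fintype.ofFinite G
  have hex : ∀ g : G, g ≠ 1 → ∃ v : V, ρ g v ≠ v := by
    intro g hg
    by_contra hne
    push Not at hne
    apply hg
    apply hinj
    rw [map_one]
    ext v
    rw [hne v, Module.End.one_apply]
  choose vv hvv using hex
  let f : G → ℝ := fun g => if h : g = 1 then 1 else ‖ρ g (vv g h) - vv g h‖ / ‖vv g h‖
  have hf : ∀ g, 0 < f g := by
    intro g
    by_cases h : g = 1
    · simp only [f, h, dif_pos]; norm_num
    · simp only [f, h, dif_neg, not_false_eq_true]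
      have h1 : vv g h ≠ 0 := by
        intro h0
        apply hvv g h
        rw [h0, map_zero]
      have h2 : ρ g (vv g h) - vv g h ≠ 0 := sub_ne_zero.mpr (hvv g h)
      positivity
  obtain ⟨g0, _, hg0⟩ := Finset.exists_min_image Finset.univ f ⟨1, Finset.mem_univ 1⟩
  refine ⟨f g0 / 2, by have := hf g0; linarith, ?_⟩
  intro g hg
  by_contra h
  have h1 : vv g h ≠ 0 := by
    intro h0
    apply hvv g h
    rw [h0, map_zero]
  have h2 : 0 < ‖vv g h‖ := norm_pos_iff.mpr h1
  have h3 := hg (vv g h)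
  rw [LinearMap.sub_apply, Module.End.one_apply] at h3
  have h4 : f g = ‖ρ g (vv g h) - vv g h‖ / ‖vv g h‖ := by
    simp only [f, h, dif_neg, not_false_eq_true]
  have h5 := hg0 g (Finset.mem_univ g)
  have h6 : ‖ρ g (vv g h) - vv g h‖ = f g * ‖vv g h‖ := by
    rw [h4]; field_simp
  have h7 : 0 < f g := hf g
  have h8 : f g * ‖vv g h‖ ≤ f g0 / 2 * ‖vv g h‖ := by rw [← h6]; exact h3
  have h9 : f g ≤ f g0 / 2 := le_of_mul_le_mul_right h8 h2
  linarith

/-- the commutator sequence `b, [a,b], [a,[a,b]], …`. -/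
def bseq (a b : G) : ℕ → G
  | 0 => b
  | (k + 1) => a * bseq a b k * a⁻¹ * (bseq a b k)⁻¹

/-- the set of elements very close to the identity (all eigenvalues within 30 degrees of `1`). -/
def TSet : Set G := {g | ∃ t : ℝ, 0 ≤ t ∧ t ^ 2 < 2 - Real.sqrt 3 ∧ Bd (ρ g - 1) t}

theorem commute_of_mem_TSet [Finite G] (hinj : Function.Injective ρ) {a b : G}
    (ha : a ∈ TSet ρ) (hb : b ∈ TSet ρ) : a * b = b * a := by
  obtain ⟨ta, hta0, hta, hBa⟩ := ha
  obtain ⟨tb, htb0, htb, hBb⟩ := hb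
  have hs3 := sqrt3_lt_two
  have hs3' : 0 ≤ Real.sqrt 3 := Real.sqrt_nonneg 3
  set c : ℝ := 1 - ta ^ 2 / 2 with hc
  set r : ℝ := Real.sqrt (1 - c ^ 2) with hr
  have hr0 : 0 ≤ r := Real.sqrt_nonneg _
  have hshift : Bd (ρ a - ((c : ℝ) : ℂ) • (1 : V →ₗ[ℂ] V)) r :=
    shift_bound ρ hu hBa hta0 (by linarith)
  have hrlt : r < 1 / 2 := by
    rw [hr, Real.sqrt_lt' (by norm_num)]
    have h1 : Real.sqrt 3 < 2 - ta ^ 2 := by linarith
    have h2 : (3 : ℝ) < (2 - ta ^ 2) ^ 2 := by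
      have := (Real.sqrt_lt' (by linarith : (0 : ℝ) < 2 - ta ^ 2)).mp h1
      exact this
    rw [hc]
    nlinarith
  set q : ℝ := 2 * r with hq
  have hq0 : 0 ≤ q := by rw [hq]; linarith
  have hq1 : q < 1 := by rw [hq]; linarith
  -- bounds along the sequence
  have hseq : ∀ k, Bd (ρ (bseq a b k) - 1) (q ^ k * tb) := by
    intro k
    induction k with
    | zero => simpa [bseq] using hBb
    | succ k ih =>
      have h1 : 0 ≤ q ^ k * tb := by positivity
      have := commutator_bound ρ hu hr0 h1 hshift ih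
      simp only [bseq]
      apply this.mono
      rw [pow_succ, hq]
      apply le_of_eq; ring
  have hle : ∀ k, q ^ k * tb ≤ tb := by
    intro k
    have : q ^ k ≤ 1 := pow_le_one₀ hq0 hq1.le
    calc q ^ k * tb ≤ 1 * tb := mul_le_mul_of_nonneg_right this htb0
      _ = tb := one_mul tb
  have hsq : ∀ k, (q ^ k * tb) ^ 2 < 2 := by
    intro k
    have h1 : 0 ≤ q ^ k * tb := by positivity
    have h2 : (q ^ k * tb) ^ 2 ≤ tb ^ 2 := pow_le_pow_left₀ h1 (hle k) 2
    linarith
  obtain ⟨ε, hε, hεg⟩ := exists_eps ρ hu hinj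
  obtain ⟨K, hK⟩ := exists_pow_lt_of_lt_one (show 0 < ε / (tb + 1) by positivity) hq1
  have hK1 : bseq a b K = 1 := by
    apply hεg
    apply (hseq K).mono
    have h1 : q ^ K * (tb + 1) < ε := by
      rwa [lt_div_iff₀ (by linarith)] at hK
    have h2 : 0 ≤ q ^ K := by positivity
    nlinarith
  -- descent
  have hdesc : ∀ j, j ≤ K → Commute a (bseq a b (K - j)) := by
    intro j
    induction j with
    | zero => intro _; rw [Nat.sub_zero, hK1]; exact Commute.one_right a
    | succ j ih =>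
      intro hj
      have h1 : K - j = (K - (j + 1)) + 1 := by omega
      have h2 := ih (by omega)
      rw [h1] at h2
      simp only [bseq] at h2
      set b' := bseq a b (K - (j + 1)) with hb'
      have h3 := frobenius_lemma ρ hu hinj h2
        (fun v hv => re_inner_pos ρ hu (hseq (K - (j + 1))) (by positivity) (hsq _) hv)
      -- a b' a⁻¹ b'⁻¹ = 1
      have h4 : a * b' = b' * a := by
        have : a * b' * a⁻¹ * b'⁻¹ * (b' * a) = b' * a := by rw [h3, one_mul]
        rw [← this]; group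
      exact h4
  have := hdesc K le_rfl
  rw [Nat.sub_self] at this
  exact this.eq

theorem conj_mem_TSet {g : G} (hg : g ∈ TSet ρ) (x : G) : x * g * x⁻¹ ∈ TSet ρ := by
  obtain ⟨t, ht0, ht, hB⟩ := hg
  refine ⟨t, ht0, ht, ?_⟩
  have h1 : ρ (x * g * x⁻¹) - 1 = ρ x * (ρ g - 1) * ρ x⁻¹ := by
    have e1 : ρ x * ρ x⁻¹ = 1 := by rw [← map_mul, mul_inv_cancel, map_one]
    rw [map_mul, map_mul, mul_sub, sub_mul, mul_one, e1]
  rw [h1]
  exact Bd.mul_unitary ρ hu (Bd.unitary_mul ρ hu hB x) x⁻¹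

/-- the abelian normal subgroup of Jordan's theorem. -/
def jordanSubgroup : Subgroup G := Subgroup.closure (TSet ρ)

theorem jordanSubgroup_normal : (jordanSubgroup ρ).Normal := by
  constructor
  intro n hn x
  unfold jordanSubgroup at hn ⊢
  induction hn using Subgroup.closure_induction with
  | mem y hy => exact Subgroup.subset_closure (conj_mem_TSet ρ hu hy x)
  | one => simp
  | mul a b _ _ iha ihb =>
    have : x * (a * b) * x⁻¹ = (x * a * x⁻¹) * (x * b * x⁻¹) := by group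
    rw [this]; exact Subgroup.mul_mem _ iha ihb
  | inv a _ iha =>
    have : x * a⁻¹ * x⁻¹ = (x * a * x⁻¹)⁻¹ := by group
    rw [this]; exact Subgroup.inv_mem _ iha

theorem jordanSubgroup_comm [Finite G] (hinj : Function.Injective ρ) :
    ∀ x ∈ jordanSubgroup ρ, ∀ y ∈ jordanSubgroup ρ, x * y = y * x := by
  have h1 : jordanSubgroup ρ ≤ Subgroup.centralizer (TSet ρ) := by
    unfold jordanSubgroup
    rw [Subgroup.closure_le]
    intro a ha
    rw [SetLike.mem_coe, Subgroup.mem_centralizer_iff]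
    intro b hb
    exact commute_of_mem_TSet ρ hu hinj hb ha
  have h2 : jordanSubgroup ρ ≤ Subgroup.centralizer (jordanSubgroup ρ : Set G) := by
    conv_lhs => unfold jordanSubgroup
    rw [Subgroup.closure_le]
    intro a ha
    rw [SetLike.mem_coe, Subgroup.mem_centralizer_iff]
    intro b hb
    have := h1 hb
    rw [Subgroup.mem_centralizer_iff] at this
    exact (this a ha).symm
  intro x hx y hy
  have := h2 hx
  rw [Subgroup.mem_centralizer_iff] at this
  exact (this y hy).symm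

end Cfsg.Agent.Helper24.Jordan
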