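import Cfsg.Agent.Helper24.JordanB

/-!
# Jordan's theorem toolkit, part C: unitary representations of finite abelian groups

Isotypic decomposition of a unitary representation `σ : A →* End V` of a finite abelian
group via the projections `proj σ ψ`, `ψ` running over the dual group.
-/

namespace Cfsg.Agent.Helper24.Jordan

open scoped InnerProductSpace ComplexConjugate

variable {V : Type*} [NormedAddCommGroup V] [InnerProductSpace ℂ V]

theorem norm_sq_sum_orth {ι : Type*} [Fintype ι] (x : ι → V)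
    (h : ∀ i j, i ≠ j → ⟪x i, x j⟫_ℂ = 0) : ‖∑ i, x i‖ ^ 2 = ∑ i, ‖x i‖ ^ 2 := by
  classical
  rw [← @inner_self_eq_norm_sq ℂ V _ _ _ (∑ i, x i), sum_inner]
  simp_rw [inner_sum]
  have h1 : ∀ i, ∑ j, ⟪x i, x j⟫_ℂ = ⟪x i, x i⟫_ℂ := by
    intro i
    rw [Finset.sum_eq_single i]
    · intro j _ hj
      exact h i j (Ne.symm hj)
    · intro hi
      exact absurd (Finset.mem_univ i) hi
  simp_rw [h1]
  rw [map_sum]
  apply Finset.sum_congr rfl
  intro i _
  exact @inner_self_eq_norm_sq ℂ V _ _ _ (x i)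

variable {A : Type*} [CommGroup A] [Fintype A]

/-- the dual group. -/
abbrev Dual (A : Type*) [CommGroup A] := AddChar (Additive A) ℂ

/-- evaluation of a dual element on a group element. -/
noncomputable def ev (ψ : Dual A) (a : A) : ℂ := ψ (Additive.ofMul a)

theorem ev_mul (ψ : Dual A) (a b : A) : ev ψ (a * b) = ev ψ a * ev ψ b := by
  unfold ev
  rw [ofMul_mul, AddChar.map_add_eq_mul]

theorem ev_one (ψ : Dual A) : ev ψ (1 : A) = 1 := by
  unfold ev
  rw [ofMul_one, AddChar.map_zero_eq_one]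

theorem ev_inv (ψ : Dual A) (a : A) : ev ψ a⁻¹ = conj (ev ψ a) := by
  unfold ev
  rw [ofMul_inv, AddChar.map_neg_eq_conj]

theorem norm_ev (ψ : Dual A) (a : A) : ‖ev ψ a‖ = 1 := by
  unfold ev
  exact AddChar.norm_apply ψ _

theorem conj_ev_mul_ev (ψ : Dual A) (a : A) : conj (ev ψ a) * ev ψ a = 1 := by
  rw [← Complex.normSq_eq_conj_mul_self, Complex.normSq_eq_norm_sq, norm_ev]
  simp

theorem sum_ev_one : ∑ ψ : Dual A, ev ψ (1 : A) = (Fintype.card A : ℂ) := by
  classical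
  have := AddChar.sum_apply_eq_ite (α := Additive A) (Additive.ofMul (1 : A))
  unfold ev
  rw [this, if_pos (show Additive.ofMul (1 : A) = 0 from rfl)]
  congr 1
  exact Fintype.card_congr Additive.toMul

theorem sum_ev_ne {a : A} (ha : a ≠ 1) : ∑ ψ : Dual A, ev ψ a = 0 := by
  classical
  have := AddChar.sum_apply_eq_ite (α := Additive A) (Additive.ofMul a)
  unfold ev
  rw [this, if_neg]
  exact ha

theorem exists_ev_ne {ψ φ : Dual A} (h : ψ ≠ φ) : ∃ a : A, ev ψ a ≠ ev φ a := by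
  obtain ⟨a, ha⟩ := DFunLike.ne_iff.mp h
  exact ⟨Additive.toMul a, ha⟩

variable (σ : A →* (V →ₗ[ℂ] V))

/-- the isotypic projection attached to `ψ`. -/
noncomputable def proj (ψ : Dual A) (v : V) : V :=
  (Fintype.card A : ℂ)⁻¹ • ∑ h : A, conj (ev ψ h) • σ h v

theorem sum_proj (v : V) : ∑ ψ : Dual A, proj σ ψ v = v := by
  classical
  unfold proj
  rw [← Finset.smul_sum, Finset.sum_comm]
  have h1 : ∀ h : A, ∑ ψ : Dual A, conj (ev ψ h) • σ h v
      = (if h = 1 then (Fintype.card A : ℂ) else 0) • σ h v := by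
    intro h
    rw [← Finset.sum_smul]
    congr 1
    have : ∀ ψ : Dual A, conj (ev ψ h) = ev ψ h⁻¹ := fun ψ => (ev_inv ψ h).symm
    rw [Finset.sum_congr rfl (fun ψ _ => this ψ)]
    by_cases hh : h = 1
    · rw [if_pos hh, hh, inv_one, sum_ev_one]
    · rw [if_neg hh, sum_ev_ne (by simpa using hh)]
  rw [Finset.sum_congr rfl (fun h _ => h1 h)]
  rw [Finset.sum_eq_single (1 : A)]
  · rw [if_pos rfl, map_one, Module.End.one_apply, smul_smul, inv_mul_cancel₀, one_smul]
    exact_mod_cast Fintype.card_ne_zero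
  · intro h _ hh
    rw [if_neg hh, zero_smul]
  · intro h
    exact absurd (Finset.mem_univ _) h

theorem map_proj (g : A) (ψ : Dual A) (v : V) : σ g (proj σ ψ v) = ev ψ g • proj σ ψ v := by
  unfold proj
  rw [map_smul, smul_comm (ev ψ g)]
  congr 1
  rw [map_sum, Finset.smul_sum]
  rw [← Fintype.sum_equiv (Equiv.mulLeft g) (fun h => σ g (conj (ev ψ h) • σ h v))
    (fun h' => ev ψ g • conj (ev ψ h') • σ h' v)]
  intro h
  rw [Equiv.coe_mulLeft, map_smul, map_mul, Module.End.mul_apply, smul_smul, ev_mul, map_mul,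
    ← mul_assoc, mul_comm (ev ψ g), mul_assoc, mul_comm (ev ψ g), ← mul_assoc]
  congr 1
  rw [mul_assoc, mul_comm (conj (ev ψ h)), ← mul_assoc, conj_ev_mul_ev, one_mul]

section unitary

variable (hu : ∀ g v, ‖σ g v‖ = ‖v‖)

include hu

theorem inner_proj_proj {ψ φ : Dual A} (h : ψ ≠ φ) (v w : V) :
    ⟪proj σ ψ v, proj σ φ w⟫_ℂ = 0 := by
  obtain ⟨a, ha⟩ := exists_ev_ne h
  have h1 := inner_map_map σ hu a (proj σ ψ v) (proj σ φ w)
  rw [map_proj, map_proj, inner_smul_left, inner_smul_right, ← mul_assoc] at h1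
  by_contra hne
  have h2 : conj (ev ψ a) * ev φ a = 1 := by
    have := mul_right_cancel₀ hne (h1.trans (one_mul _).symm)
    exact this
  apply ha
  have h3 : ev ψ a * (conj (ev ψ a) * ev φ a) = ev ψ a := by rw [h2, mul_one]
  rw [← mul_assoc, mul_comm (ev ψ a), conj_ev_mul_ev, one_mul] at h3
  exact h3.symm

theorem norm_sq_eq_sum_proj (v : V) : ‖v‖ ^ 2 = ∑ ψ : Dual A, ‖proj σ ψ v‖ ^ 2 := by
  conv_lhs => rw [← sum_proj σ v]
  exact norm_sq_sum_orth _ (fun i j hij => inner_proj_proj σ hu hij v v)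

theorem bd_of_ev (g : A) (t : ℝ) (ht : 0 ≤ t)
    (h : ∀ ψ : Dual A, (∃ v, proj σ ψ v ≠ 0) → ‖ev ψ g - 1‖ ≤ t) : Bd (σ g - 1) t := by
  intro v
  rw [LinearMap.sub_apply, Module.End.one_apply]
  have h1 : σ g v - v = ∑ ψ : Dual A, (ev ψ g - 1) • proj σ ψ v := by
    conv_lhs => rw [← sum_proj σ v, map_sum]
    rw [← Finset.sum_sub_distrib]
    apply Finset.sum_congr rfl
    intro ψ _
    rw [map_proj, sub_smul, one_smul]
  have h2 : ‖σ g v - v‖ ^ 2 = ∑ ψ : Dual A, ‖(ev ψ g - 1) • proj σ ψ v‖ ^ 2 := by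
    rw [h1]
    apply norm_sq_sum_orth
    intro i j hij
    rw [inner_smul_left, inner_smul_right, inner_proj_proj σ hu hij, mul_zero, mul_zero]
  have h3 : ‖σ g v - v‖ ^ 2 ≤ (t * ‖v‖) ^ 2 := by
    rw [h2, mul_pow, norm_sq_eq_sum_proj σ hu v, Finset.mul_sum]
    apply Finset.sum_le_sum
    intro ψ _
    rw [norm_smul, mul_pow]
    by_cases hp : proj σ ψ v = 0
    · rw [hp, norm_zero]; simp
    · have := h ψ ⟨v, hp⟩
      apply mul_le_mul_of_nonneg_right _ (sq_nonneg _)
      exact pow_le_pow_left₀ (norm_nonneg _) this 2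
  exact (pow_le_pow_iff_left₀ (norm_nonneg _) (by positivity) (by norm_num)).mp h3

theorem card_support_le [FiniteDimensional ℂ V] :
    Nat.card {ψ : Dual A // ∃ v, proj σ ψ v ≠ 0} ≤ Module.finrank ℂ V := by
  classical
  letI : Fintype {ψ : Dual A // ∃ v, proj σ ψ v ≠ 0} := Fintype.ofFinite _
  rw [Nat.card_eq_fintype_card]
  let x : {ψ : Dual A // ∃ v, proj σ ψ v ≠ 0} → V := fun ψ => proj σ ψ.1 ψ.2.choose
  have hx : ∀ ψ, x ψ ≠ 0 := fun ψ => ψ.2.choose_spec
  have horth : Pairwise fun i j => ⟪x i, x j⟫_ℂ = 0 := by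
    intro i j hij
    apply inner_proj_proj σ hu
    intro h
    exact hij (Subtype.ext h)
  exact (linearIndependent_of_ne_zero_of_inner_eq_zero hx horth).fintype_card_le_finrank

end unitary

end Cfsg.Agent.Helper24.Jordan
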