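import Cfsg.Agent.Helper24.JordanC

/-!
# Jordan's theorem toolkit, part D: the twelve arcs and the index bound `12 ^ n`
-/

namespace Cfsg.Agent.Helper24.Jordan

open scoped InnerProductSpace ComplexConjugate

/-- index of the arc of length `π/6` containing `z`. -/
noncomputable def arcIdx (z : ℂ) : ℤ := ⌈6 * Complex.arg z / Real.pi⌉

theorem arcIdx_bounds (z : ℂ) : -5 ≤ arcIdx z ∧ arcIdx z ≤ 6 := by
  have hpi := Real.pi_pos
  have h1 := Complex.neg_pi_lt_arg z
  have h2 := Complex.arg_le_pi z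
  unfold arcIdx
  constructor
  · have : (-6 : ℤ) < ⌈6 * Complex.arg z / Real.pi⌉ := by
      rw [Int.lt_ceil]
      rw [lt_div_iff₀ hpi]
      push_cast
      nlinarith
    omega
  · rw [Int.ceil_le]
    rw [div_le_iff₀ hpi]
    push_cast
    nlinarith

theorem abs_arg_sub_lt {z w : ℂ} (h : arcIdx z = arcIdx w) :
    |Complex.arg z - Complex.arg w| < Real.pi / 6 := by
  have hpi := Real.pi_pos
  unfold arcIdx at h
  have h1 := Int.ceil_lt_add_one (6 * Complex.arg z / Real.pi)
  have h2 := Int.le_ceil (6 * Complex.arg z / Real.pi)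
  have h3 := Int.ceil_lt_add_one (6 * Complex.arg w / Real.pi)
  have h4 := Int.le_ceil (6 * Complex.arg w / Real.pi)
  rw [h] at h1 h2
  have h5 : 6 * Complex.arg z / Real.pi - 6 * Complex.arg w / Real.pi < 1 := by linarith
  have h6 : 6 * Complex.arg w / Real.pi - 6 * Complex.arg z / Real.pi < 1 := by linarith
  have h7 : 6 * Complex.arg z / Real.pi - 6 * Complex.arg w / Real.pi
      = (Complex.arg z - Complex.arg w) * (6 / Real.pi) := by ring
  have h8 : 6 * Complex.arg w / Real.pi - 6 * Complex.arg z / Real.pi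
      = -(Complex.arg z - Complex.arg w) * (6 / Real.pi) := by ring
  rw [h7] at h5
  rw [h8] at h6
  have h9 : (0 : ℝ) < 6 / Real.pi := by positivity
  have h10 : Real.pi / 6 * (6 / Real.pi) = 1 := by field_simp
  rw [abs_lt]
  constructor
  · by_contra hc
    push Not at hc
    have : Real.pi / 6 * (6 / Real.pi) ≤ -(Complex.arg z - Complex.arg w) * (6 / Real.pi) := by
      apply mul_le_mul_of_nonneg_right _ h9.le
      linarith
    linarith
  · by_contra hc
    push Not at hc
    have : Real.pi / 6 * (6 / Real.pi) ≤ (Complex.arg z - Complex.arg w) * (6 / Real.pi) := by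
      apply mul_le_mul_of_nonneg_right hc h9.le
    linarith

theorem norm_sub_sq_lt {z w : ℂ} (hz : ‖z‖ = 1) (hw : ‖w‖ = 1) (h : arcIdx z = arcIdx w) :
    ‖z - w‖ ^ 2 < 2 - Real.sqrt 3 := by
  have h1 := abs_arg_sub_lt h
  have hz' : z = Complex.exp (Complex.arg z * Complex.I) := by
    have := Complex.norm_mul_exp_arg_mul_I z
    rw [hz] at this
    simpa using this.symm
  have hw' : w = Complex.exp (Complex.arg w * Complex.I) := by
    have := Complex.norm_mul_exp_arg_mul_I w
    rw [hw] at this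
    simpa using this.symm
  have h2 : ‖z - w‖ ^ 2 = 2 - 2 * Real.cos (Complex.arg z - Complex.arg w) := by
    rw [Complex.sq_norm, Complex.normSq_sub, Complex.normSq_eq_norm_sq, Complex.normSq_eq_norm_sq,
      hz, hw]
    have h3 : z * (starRingEnd ℂ) w
        = Complex.exp (((Complex.arg z - Complex.arg w : ℝ) : ℂ) * Complex.I) := by
      conv_lhs => rw [hz', hw']
      rw [← Complex.exp_conj, ← Complex.exp_add]
      congr 1
      simp only [map_mul, Complex.conj_ofReal, Complex.conj_I]
      push_cast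
      ring
    rw [h3, Complex.exp_ofReal_mul_I_re]
    ring
  rw [h2]
  have h4 : Real.cos (Real.pi / 6) < Real.cos |Complex.arg z - Complex.arg w| := by
    apply Real.cos_lt_cos_of_nonneg_of_le_pi (abs_nonneg _) _ h1
    linarith [Real.pi_pos]
  rw [Real.cos_abs, Real.cos_pi_div_six] at h4
  linarith

/-- the arc index as an element of `Fin 12`. -/
noncomputable def arcFin (z : ℂ) : Fin 12 :=
  ⟨(arcIdx z + 5).toNat, by have := arcIdx_bounds z; omega⟩

theorem arcIdx_eq_of_arcFin_eq {z w : ℂ} (h : arcFin z = arcFin w) : arcIdx z = arcIdx w := by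
  have h1 := arcIdx_bounds z
  have h2 := arcIdx_bounds w
  have h3 : (arcIdx z + 5).toNat = (arcIdx w + 5).toNat := by
    have := congrArg Fin.val h
    exact this
  omega

variable {G : Type*} [Group G]
variable {V : Type*} [NormedAddCommGroup V] [InnerProductSpace ℂ V]
variable (ρ : G →* (V →ₗ[ℂ] V)) (hu : ∀ g v, ‖ρ g v‖ = ‖v‖)

include hu

theorem index_le [Finite G] [FiniteDimensional ℂ V] (H : Subgroup G)
    (hH : ∀ x ∈ H, ∀ y ∈ H, x * y = y * x) :
    ((jordanSubgroup ρ).subgroupOf H).index ≤ 12 ^ Module.finrank ℂ V := by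
  classical
  letI : CommGroup H :=
    { (inferInstance : Group H) with
      mul_comm := fun x y => Subtype.ext (hH x x.2 y y.2) }
  letI : Fintype H := Fintype.ofFinite H
  set σ : H →* (V →ₗ[ℂ] V) := ρ.comp H.subtype with hσdef
  have hσ : ∀ g v, ‖σ g v‖ = ‖v‖ := fun g v => hu (g : G) v
  let S := {ψ : Dual H // ∃ v, proj σ ψ v ≠ 0}
  let f : H → (S → Fin 12) := fun h ψ => arcFin (ev ψ.1 h)
  have hs3 : (0 : ℝ) < 2 - Real.sqrt 3 := by linarith [sqrt3_lt_two]
  have key : ∀ h h' : H, f h = f h' → h⁻¹ * h' ∈ (jordanSubgroup ρ).subgroupOf H := by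
    intro h h' hff
    rw [Subgroup.mem_subgroupOf]
    apply Subgroup.subset_closure
    -- the bound for each ψ in the support
    have hb : ∀ ψ : Dual H, (∃ v, proj σ ψ v ≠ 0) → ‖ev ψ (h⁻¹ * h') - 1‖ ^ 2 < 2 - Real.sqrt 3 := by
      intro ψ hψ
      have h1 : arcFin (ev ψ h) = arcFin (ev ψ h') := congrFun hff ⟨ψ, hψ⟩
      have h2 := norm_sub_sq_lt (norm_ev ψ h') (norm_ev ψ h) (arcIdx_eq_of_arcFin_eq h1.symm)
      have h3 : ev ψ (h⁻¹ * h') - 1 = conj (ev ψ h) * (ev ψ h' - ev ψ h) := by
        rw [ev_mul, ev_inv, mul_sub, conj_ev_mul_ev]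
      rw [h3, norm_mul, RCLike.norm_conj, norm_ev, one_mul]
      exact h2
    let F : Dual H → ℝ := fun ψ => if (∃ v, proj σ ψ v ≠ 0) then ‖ev ψ (h⁻¹ * h') - 1‖ else 0
    obtain ⟨ψ0, _, hψ0⟩ := Finset.exists_max_image (Finset.univ : Finset (Dual H)) F
      ⟨0, Finset.mem_univ _⟩
    refine ⟨F ψ0, ?_, ?_, ?_⟩
    · simp only [F]
      split_ifs
      · exact norm_nonneg _
      · exact le_refl _
    · simp only [F]
      split_ifs with hc
      · exact hb ψ0 hc
      · simpa using hs3
    · have : ρ ((h⁻¹ * h' : H) : G) = σ (h⁻¹ * h') := rfl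
      rw [this]
      apply bd_of_ev σ hσ
      · simp only [F]
        split_ifs
        · exact norm_nonneg _
        · exact le_refl _
      · intro ψ hψ
        have := hψ0 ψ (Finset.mem_univ _)
        simp only [F] at this
        rw [if_pos hψ] at this
        exact this
  -- counting
  rw [Subgroup.index_eq_card]
  let K := (jordanSubgroup ρ).subgroupOf H
  let j : (H ⧸ K) → (S → Fin 12) := fun q => f q.out
  have hj : Function.Injective j := by
    intro q q' hqq
    have := key q.out q'.out hqq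
    have h2 : (q.out : H ⧸ K) = (q'.out : H ⧸ K) := QuotientGroup.eq.mpr this
    rwa [QuotientGroup.out_eq', QuotientGroup.out_eq'] at h2
  calc Nat.card (H ⧸ K) ≤ Nat.card (S → Fin 12) := Nat.card_le_card_of_injective j hj
    _ = 12 ^ Nat.card S := by
      rw [Nat.card_fun, Nat.card_eq_fintype_card (α := Fin 12), Fintype.card_fin]
    _ ≤ 12 ^ Module.finrank ℂ V :=
      Nat.pow_le_pow_right (by norm_num) (card_support_le σ hσ)

/-- **Jordan's theorem, abelian-subgroup form** for unitary representations. -/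
theorem jordan_unitary [Finite G] [FiniteDimensional ℂ V] (hinj : Function.Injective ρ) :
    ∃ A : Subgroup G, A.Normal ∧ (∀ x ∈ A, ∀ y ∈ A, x * y = y * x) ∧
      ∀ H : Subgroup G, (∀ x ∈ H, ∀ y ∈ H, x * y = y * x) →
        (A.subgroupOf H).index ≤ 12 ^ Module.finrank ℂ V :=
  ⟨jordanSubgroup ρ, jordanSubgroup_normal ρ hu, jordanSubgroup_comm ρ hu hinj,
    fun H hH => index_le ρ hu H hH⟩

end Cfsg.Agent.Helper24.Jordan
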