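import Mathlib
import Cfsg.Prelude.Def_Characters
import Cfsg.Agent.Helper24.SmallDegree
import Cfsg.Agent.Helper24.ColumnOrth
import Cfsg.Agent.Helper24.Linear

/-!
A simple group with more than `|G| / p²` conjugacy classes has abelian Sylow `p`-subgroups.
-/

namespace Cfsg.Agent.Helper24

open Representation Module

universe u

section ManyClasses

theorem sylow_comm_of_many_classes {G : Type u} [Group G] [Finite G] [IsSimpleGroup G] (p : ℕ)
    [Fact p.Prime] (hmany : Nat.card G < p ^ 2 * Nat.card (ConjClasses G))
    (P : Sylow p G) (a b : G) (ha : a ∈ P) (hb : b ∈ P) : a * b = b * a := by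
  classical
  haveI := Fintype.ofFinite G
  haveI : Fintype (IrrCharacter G) := Fintype.ofFinite _
  have hpp : p.Prime := Fact.out
  obtain ⟨m, hm⟩ := (IsPGroup.iff_card).mp P.isPGroup'
  by_cases hp2 : p ^ 2 ∣ Nat.card G
  · obtain ⟨χ, hχ1, hχd⟩ : ∃ χ : IrrCharacter G, χ ≠ trivIrr G ∧ irrDeg χ < p := by
      by_contra hcon
      push Not at hcon
      have hsum := sum_irrDeg_sq (G := G)
      have hk : Fintype.card (IrrCharacter G) = Nat.card (ConjClasses G) := by
        rw [← Nat.card_eq_fintype_card, card_irr_eq_card_conjClasses]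
      have h1 : 1 + (Fintype.card (IrrCharacter G) - 1) * p ^ 2 ≤
          ∑ χ : IrrCharacter G, irrDeg χ ^ 2 := by
        rw [← Finset.add_sum_erase _ _ (Finset.mem_univ (trivIrr G))]
        have ht : irrDeg (trivIrr G) = 1 := by rw [irrDeg_eq_one_iff]; rfl
        rw [ht, one_pow]
        apply Nat.add_le_add_left
        have : (Finset.univ.erase (trivIrr G)).card = Fintype.card (IrrCharacter G) - 1 := by
          rw [Finset.card_erase_of_mem (Finset.mem_univ _), Finset.card_univ]
        rw [← this, ← smul_eq_mul, ← Finset.sum_const]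
        apply Finset.sum_le_sum
        intro χ hχ
        exact Nat.pow_le_pow_left (hcon χ (Finset.ne_of_mem_erase hχ)) 2
      rw [hsum, hk] at h1
      obtain ⟨c, hc⟩ := hp2
      have hkpos : 0 < Nat.card (ConjClasses G) := Nat.card_pos
      rw [hc] at hmany h1
      have h2 : c < Nat.card (ConjClasses G) := Nat.lt_of_mul_lt_mul_left hmany
      have h3 : c ≤ Nat.card (ConjClasses G) - 1 := by omega
      have h4 : p ^ 2 * c ≤ p ^ 2 * (Nat.card (ConjClasses G) - 1) := Nat.mul_le_mul_left _ h3
      have h5 : (Nat.card (ConjClasses G) - 1) * p ^ 2 = p ^ 2 * (Nat.card (ConjClasses G) - 1) :=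
        mul_comm _ _
      omega
    obtain ⟨n, ρ, hρ, hρχ⟩ := χ.2
    haveI := hρ
    have hn : irrDeg χ = n := by
      have h1 : (χ : G → ℂ) 1 = (n : ℂ) := by
        rw [← hρχ, char_one, finrank_fin_fun]
      rw [irrDeg_spec] at h1
      exact_mod_cast h1
    have hnpos : 0 < n := by rw [← hn]; exact irrDeg_pos χ
    have hinj : Function.Injective ρ := by
      rw [← MonoidHom.ker_eq_bot_iff]
      rcases (MonoidHom.normal_ker (ρ : G →* _)).eq_bot_or_eq_top with h | h
      · exact h
      · exfalso
        have hall : ∀ g : G, (χ : G → ℂ) g = (n : ℂ) := by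
          intro g
          have hg : g ∈ (ρ : G →* _).ker := by rw [h]; trivial
          rw [← hρχ]
          unfold character
          rw [MonoidHom.mem_ker.mp hg]
          have : LinearMap.trace ℂ (Fin n → ℂ) 1 = (finrank ℂ (Fin n → ℂ) : ℂ) :=
            LinearMap.trace_one ℂ (Fin n → ℂ)
          rw [this, finrank_fin_fun]
        have h0 := classInner_irr_ne hχ1
        unfold classInner at h0
        simp only [hall, trivIrr_apply, map_one, mul_one, Finset.sum_const, Finset.card_univ,
          nsmul_eq_mul] at h0
        rw [← Nat.card_eq_fintype_card] at h0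
        have hG0 : (Nat.card G : ℂ) ≠ 0 := by
          have := Nat.card_pos (α := G)
          exact_mod_cast this.ne'
        rw [← mul_assoc, inv_mul_cancel₀ hG0, one_mul] at h0
        have : n = 0 := by exact_mod_cast h0
        omega
    have hinjP : Function.Injective (MonoidHom.comp ρ (P : Subgroup G).subtype :
        Representation ℂ (P : Subgroup G) (Fin n → ℂ)) := by
      intro x y hxy
      exact Subtype.ext (hinj hxy)
    have hdeg : ∀ q : ℕ, q.Prime → q ∣ Nat.card (P : Subgroup G) →
        finrank ℂ (Fin n → ℂ) < q := by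
      intro q hq hqd
      rw [hm] at hqd
      have := (Nat.prime_dvd_prime_iff_eq hq hpp).mp (hq.dvd_of_dvd_pow hqd)
      rw [finrank_fin_fun, this, ← hn]
      exact hχd
    have := comm_of_faithful_small_degree _ hinjP hdeg ⟨a, ha⟩ ⟨b, hb⟩
    exact congrArg Subtype.val this
  · have hm1 : m ≤ 1 := by
      by_contra hcon
      push Not at hcon
      apply hp2
      have h1 : p ^ 2 ∣ p ^ m := pow_dvd_pow p hcon
      have h2 : p ^ m ∣ Nat.card G := by
        rw [← hm]
        exact Subgroup.card_subgroup_dvd_card _
      exact h1.trans h2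
    have hcyc : IsCyclic (P : Subgroup G) := by
      interval_cases m
      · rw [pow_zero] at hm
        haveI : Subsingleton (P : Subgroup G) := (Nat.card_eq_one_iff_unique.mp hm).1
        exact isCyclic_of_subsingleton
      · rw [pow_one] at hm
        exact isCyclic_of_prime_card hm
    have := mul_comm' (⟨a, ha⟩ : (P : Subgroup G)) ⟨b, hb⟩
    exact congrArg Subtype.val this

end ManyClasses

end Cfsg.Agent.Helper24
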