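import Mathlib
import Cfsg.Prelude.Def_Solvable
import Cfsg.Agent.Helper4.McLDefs

set_option autoImplicit false

/-! S5075, piece DIMR: unique axes imply unique centres. -/

namespace Cfsg.Agent.S5075P

variable {p : ℕ} [Fact p.Prime] {V : Type*} [AddCommGroup V] [Module (ZMod p) V]
variable {G : Subgroup (V ≃ₗ[ZMod p] V)}

/-! ### DIMR -/
theorem dimR_of_dimL (hopp : ∀ v φ, InI0 G v φ → ∃ w ψ, InI G w ψ ∧ φ w ≠ 0 ∧ ψ v ≠ 0)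
    (h : DimL G) : DimR G := by
  intro v v₂ φ hv hv₂
  obtain ⟨w, ψ, hw, hφw, hψv⟩ := hopp v φ hv
  refine ⟨ψ v₂ / ψ v, ?_⟩
  by_contra hne
  have hne' : v₂ - (ψ v₂ / ψ v) • v ≠ 0 := fun h0 => hne (sub_eq_zero.mp h0)
  have h1 : InI G (v₂ - (ψ v₂ / ψ v) • v) φ := hv₂.sub_left (hv.1.smul_left _)
  have h2 : ψ (v₂ - (ψ v₂ / ψ v) • v) = 0 := by
    rw [map_sub, map_smul, smul_eq_mul, div_mul_cancel₀ _ hψv, sub_self]
  have h3 : InI G (v₂ - (ψ v₂ / ψ v) • v) ψ := h1.lemma1 hw h2 hφw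
  obtain ⟨c, hc⟩ := h _ φ ψ ⟨h1, hne', hv.2.2⟩ h3
  apply hψv
  rw [hc, LinearMap.smul_apply, hv.1.1, smul_zero]

end Cfsg.Agent.S5075P

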