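import Mathlib
import Cfsg.Prelude.Def_Solvable
import Cfsg.Agent.Helper4.McLDefs

set_option autoImplicit false

/-! S5075, piece STAR: an invariant subspace contains all centres or lies in all axes. -/

namespace Cfsg.Agent.S5075P

variable {p : ℕ} [Fact p.Prime] {V : Type*} [AddCommGroup V] [Module (ZMod p) V]
variable {G : Subgroup (V ≃ₗ[ZMod p] V)}

/-! ### STAR -/
theorem star (hG : Conn G) (V₁ : Submodule (ZMod p) V)
    (hinv : ∀ v φ, InI0 G v φ → ∀ x ∈ V₁, tv v φ x ∈ V₁) :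
    (∀ v φ, InI0 G v φ → v ∈ V₁) ∨ (∀ v φ, InI0 G v φ → ∀ x ∈ V₁, φ x = 0) := by
  have hdich : ∀ v φ, InI0 G v φ → v ∉ V₁ → ∀ x ∈ V₁, φ x = 0 := by
    intro v φ hv hvV x hx
    by_contra hne
    apply hvV
    have h1 := hinv v φ hv x hx
    rw [tv_apply hv.1.1] at h1
    have h2 : φ x • v ∈ V₁ := by
      have := V₁.sub_mem h1 hx
      rwa [add_sub_cancel_left] at this
    have h3 := V₁.smul_mem (φ x)⁻¹ h2
    rwa [smul_smul, inv_mul_cancel₀ hne, one_smul] at h3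
  have hP := hG.conn (fun v _ => v ∈ V₁) (by
    intro v φ w ψ hv hw hvV hwV
    have hψ := hdich w ψ hw hwV
    have hψv : ψ v = 0 := hψ v hvV
    refine ⟨?_, hψv⟩
    by_contra hφw
    have h1 : InI G v ψ := hv.1.lemma1 hw.1 hψv hφw
    obtain ⟨w', ψ', hw', hψw', hψ'v⟩ := hG.opp v ψ ⟨h1, hv.2.1, hw.2.2⟩
    have hw'V : w' ∉ V₁ := fun hmem => hψw' (hψ w' hmem)
    have hw'0 : w' ≠ 0 := by
      intro h0
      apply hψw'
      rw [h0, map_zero]
    have hψ'0 : ψ' ≠ 0 := by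
      intro h0
      apply hψ'v
      rw [h0, LinearMap.zero_apply]
    exact hψ'v (hdich w' ψ' ⟨hw', hw'0, hψ'0⟩ hw'V v hvV))
  rcases hP with hP | hP
  · exact Or.inl hP
  · exact Or.inr (fun v φ hv => hdich v φ hv (hP v φ hv))

end Cfsg.Agent.S5075P

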