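import Mathlib
import Cfsg.Agent.Helper1.Ito5
import Cfsg.Agent.Helper1.ClsGraph1

/-!
Normal subgroups with two `G`-class sizes (Alemany–Beltrán–Felipe), part A:
basic consequences of the hypothesis, mixed pairs and good elements.
-/

set_option autoImplicit false

namespace Cfsg.Agent.Helper24.NIto

open Subgroup Cfsg.Agent.Helper1.Ito

variable {G : Type*} [Group G]

/-- the hypothesis: `N` is normal and every element of `N` has centralizer of index `1` or `m` -/
structure Hyp (N : Subgroup G) (m : ℕ) : Prop where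
  normal : N.Normal
  two : ∀ x ∈ N, (centralizer ({x} : Set G)).index = 1 ∨ (centralizer ({x} : Set G)).index = m

variable {N : Subgroup G} {m : ℕ}

theorem Hyp.index_eq (h : Hyp N m) {x : G} (hx : x ∈ N) (hxz : x ∉ center G) :
    (centralizer ({x} : Set G)).index = m := by
  rcases h.two x hx with h1 | h1
  · exact absurd (index_eq_one_iff.mp h1) hxz
  · exact h1

theorem Hyp.m_pos [Finite G] (h : Hyp N m) {x : G} (hx : x ∈ N) (hxz : x ∉ center G) : 0 < m := by
  rw [← h.index_eq hx hxz]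
  exact Nat.pos_of_ne_zero index_ne_zero_of_finite

theorem Hyp.one_lt [Finite G] (h : Hyp N m) {x : G} (hx : x ∈ N) (hxz : x ∉ center G) : 1 < m := by
  have h0 := h.m_pos hx hxz
  have h1 : m ≠ 1 := by
    intro h1
    apply hxz
    rw [← index_eq_one_iff, h.index_eq hx hxz, h1]
  omega

/-- F1: comparable centralizers of noncentral elements of `N` are equal -/
theorem Hyp.cent_eq [Finite G] (h : Hyp N m) {x y : G} (hx : x ∈ N) (hxz : x ∉ center G)
    (hy : y ∈ N) (hyz : y ∉ center G)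
    (hle : centralizer ({x} : Set G) ≤ centralizer ({y} : Set G)) :
    centralizer ({x} : Set G) = centralizer ({y} : Set G) := by
  apply le_antisymm hle
  have h1 := relIndex_mul_index hle
  rw [h.index_eq hx hxz, h.index_eq hy hyz] at h1
  have h2 : (centralizer ({x} : Set G)).relIndex (centralizer ({y} : Set G)) = 1 := by
    have hn0 : 0 < m := h.m_pos hx hxz
    exact Nat.eq_of_mul_eq_mul_right hn0 (by rw [h1, one_mul])
  exact relIndex_eq_one.mp h2

/-- the orders of the centralizers of two noncentral elements of `N` agree -/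
theorem Hyp.card_cent_eq [Finite G] (h : Hyp N m) {x y : G} (hx : x ∈ N) (hxz : x ∉ center G)
    (hy : y ∈ N) (hyz : y ∉ center G) :
    Nat.card (centralizer ({x} : Set G)) = Nat.card (centralizer ({y} : Set G)) := by
  have h1 := (centralizer ({x} : Set G)).card_mul_index
  have h2 := (centralizer ({y} : Set G)).card_mul_index
  rw [h.index_eq hx hxz] at h1
  rw [h.index_eq hy hyz] at h2
  exact Nat.eq_of_mul_eq_mul_right (h.m_pos hx hxz) (h1.trans h2.symm)

/-- F2 -/
theorem Hyp.cent_le_of_coprime [Finite G] (h : Hyp N m) {x y : G} (hx : x ∈ N)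
    (hxz : x ∉ center G) (hyN : y ∈ N) (hy : y ∈ centralizer ({x} : Set G))
    (hcop : (orderOf x).Coprime (orderOf y)) :
    centralizer ({x} : Set G) ≤ centralizer ({y} : Set G) := by
  have hc : Commute x y := (mem_cent.mp hy).symm
  obtain ⟨k, hk⟩ := exists_pow_eq_left hc hcop
  obtain ⟨j, hj⟩ := exists_pow_eq_left hc.symm hcop.symm
  have hxyN : x * y ∈ N := mul_mem hx hyN
  have hxy : x * y ∉ center G := by
    intro hmem
    apply hxz
    rw [← hk]
    exact pow_mem hmem k
  have h1 : centralizer ({x * y} : Set G) ≤ centralizer ({x} : Set G) := by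
    have := cent_le_cent_pow (x * y) k
    rwa [hk] at this
  have h2 : centralizer ({x * y} : Set G) ≤ centralizer ({y} : Set G) := by
    have := cent_le_cent_pow (x * y) j
    rw [hc.eq] at this
    rwa [hj, ← hc.eq] at this
  rw [← h.cent_eq hxyN hxy hx hxz h1]
  exact h2

/-- F3 -/
theorem Hyp.cent_pow_eq [Finite G] (h : Hyp N m) {x : G} (hx : x ∈ N) (hxz : x ∉ center G)
    {k : ℕ} (hk : x ^ k ∉ center G) :
    centralizer ({x ^ k} : Set G) = centralizer ({x} : Set G) :=
  (h.cent_eq hx hxz (pow_mem hx k) hk (cent_le_cent_pow x k)).symm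

/-- mixed pairs: a noncentral `q`-element of `N` commuting with a noncentral `s`-element of `N`,
`q ≠ s` -/
theorem Hyp.mixed_cent_eq [Finite G] (h : Hyp N m) {q s : ℕ} (hq : q.Prime) (hs : s.Prime)
    (hqs : q ≠ s) {a b : G} (ha : a ∈ N) (haz : a ∉ center G) (haq : IsQ q a)
    (hb : b ∈ N) (hbz : b ∉ center G) (hbs : IsQ s b) (hba : b ∈ centralizer ({a} : Set G)) :
    centralizer ({a} : Set G) = centralizer ({b} : Set G) :=
  h.cent_eq ha haz hb hbz (h.cent_le_of_coprime ha haz hb hba (haq.coprime hq hs hqs hbs))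

theorem Hyp.mixed_comm [Finite G] (h : Hyp N m) {q s : ℕ} (hq : q.Prime) (hs : s.Prime)
    (hqs : q ≠ s) {a b : G} (ha : a ∈ N) (haz : a ∉ center G) (haq : IsQ q a)
    (hb : b ∈ N) (hbz : b ∉ center G) (hbs : IsQ s b) (hba : b ∈ centralizer ({a} : Set G)) :
    ∀ c ∈ centralizer ({a} : Set G), c ∈ N → ∀ d ∈ centralizer ({a} : Set G), c * d = d * c := by
  have heq := h.mixed_cent_eq hq hs hqs ha haz haq hb hbz hbs hba
  intro c hc hcN d hd
  obtain ⟨α, β, hab, hQa, hcopb⟩ := exists_pow_split c q hq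
  have hca : c ^ α ∈ centralizer ({b} : Set G) := heq ▸ pow_mem hc α
  have hcb : c ^ β ∈ centralizer ({a} : Set G) := pow_mem hc β
  have h1 := h.cent_le_of_coprime hb hbz (pow_mem hcN α) hca (hbs.coprime hs hq hqs.symm hQa)
  have h2 := h.cent_le_of_coprime ha haz (pow_mem hcN β) hcb (haq.coprime' hq hcopb)
  have hd1 : d * c ^ α = c ^ α * d := mem_cent.mp (h1 (heq ▸ hd))
  have hd2 : d * c ^ β = c ^ β * d := mem_cent.mp (h2 hd)
  rw [hab, mul_assoc, ← hd2, ← mul_assoc, ← hd1, mul_assoc]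

/-- `x` is good: a noncentral element of `N` whose centralizer is the centralizer of a mixed pair -/
def Good (N : Subgroup G) (x : G) : Prop :=
  x ∈ N ∧ x ∉ center G ∧ ∃ (q s : ℕ) (a b : G), q.Prime ∧ s.Prime ∧ q ≠ s ∧
    a ∈ N ∧ a ∉ center G ∧ IsQ q a ∧ b ∈ N ∧ b ∉ center G ∧ IsQ s b ∧
    b ∈ centralizer ({a} : Set G) ∧ centralizer ({x} : Set G) = centralizer ({a} : Set G)

theorem Good.mem {x : G} (hx : Good N x) : x ∈ N := hx.1

theorem Good.not_mem_center {x : G} (hx : Good N x) : x ∉ center G := hx.2.1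

/-- elements of `C(x) ⊓ N` are central in `C(x)`, for good `x` -/
theorem Good.comm [Finite G] (h : Hyp N m) {x : G} (hx : Good N x) :
    ∀ c ∈ centralizer ({x} : Set G), c ∈ N → ∀ d ∈ centralizer ({x} : Set G), c * d = d * c := by
  obtain ⟨-, -, q, s, a, b, hq, hs, hqs, ha, haz, haq, hb, hbz, hbs, hba, heq⟩ := hx
  rw [heq]
  exact h.mixed_comm hq hs hqs ha haz haq hb hbz hbs hba

theorem Good.cent_eq [Finite G] (h : Hyp N m) {x c : G} (hx : Good N x)
    (hc : c ∈ centralizer ({x} : Set G)) (hcN : c ∈ N) (hcz : c ∉ center G) :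
    centralizer ({c} : Set G) = centralizer ({x} : Set G) := by
  symm
  apply h.cent_eq hx.1 hx.2.1 hcN hcz
  intro d hd
  rw [mem_cent]
  exact (hx.comm h c hc hcN d hd).symm

theorem Good.of_cent_eq {x y : G} (hx : Good N x) (hy : y ∈ N) (hyz : y ∉ center G)
    (heq : centralizer ({y} : Set G) = centralizer ({x} : Set G)) : Good N y := by
  obtain ⟨-, -, q, s, a, b, hq, hs, hqs, ha, haz, haq, hb, hbz, hbs, hba, heq'⟩ := hx
  exact ⟨hy, hyz, q, s, a, b, hq, hs, hqs, ha, haz, haq, hb, hbz, hbs, hba, heq.trans heq'⟩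

theorem Good.of_mem [Finite G] (h : Hyp N m) {x c : G} (hx : Good N x)
    (hc : c ∈ centralizer ({x} : Set G)) (hcN : c ∈ N) (hcz : c ∉ center G) : Good N c :=
  hx.of_cent_eq hcN hcz (hx.cent_eq h hc hcN hcz)

theorem good_of_mixed {q s : ℕ} (hq : q.Prime) (hs : s.Prime)
    (hqs : q ≠ s) {a b : G} (ha : a ∈ N) (haz : a ∉ center G) (haq : IsQ q a)
    (hb : b ∈ N) (hbz : b ∉ center G) (hbs : IsQ s b) (hba : b ∈ centralizer ({a} : Set G)) :
    Good N a :=
  ⟨ha, haz, q, s, a, b, hq, hs, hqs, ha, haz, haq, hb, hbz, hbs, hba, rfl⟩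

theorem conj_mem_center_iff' {w : G} (g : G) : g * w * g⁻¹ ∈ center G ↔ w ∈ center G := by
  constructor
  · intro hz
    have := (center G).normal_of_characteristic.conj_mem _ hz g⁻¹
    simpa [mul_assoc] using this
  · intro hz
    exact (center G).normal_of_characteristic.conj_mem _ hz g

theorem isQ_conj' {q : ℕ} {w : G} (hw : IsQ q w) (g : G) : IsQ q (g * w * g⁻¹) := by
  obtain ⟨k, hk⟩ := hw
  exact ⟨k, by rw [conj_pow, hk, mul_one, mul_inv_cancel]⟩

theorem cent_conj_eq (g x : G) (K : Subgroup G)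
    (hK : centralizer ({x} : Set G) = K) :
    centralizer ({g * x * g⁻¹} : Set G) = K.map (MulAut.conj g).toMonoidHom := by
  ext c
  rw [mem_map]
  constructor
  · intro hc
    refine ⟨g⁻¹ * c * g, ?_, ?_⟩
    · rw [← hK, conj_mem_cent_conj g]
      have : g * (g⁻¹ * c * g) * g⁻¹ = c := by group
      rwa [this]
    · simp [mul_assoc]
  · rintro ⟨d, hd, rfl⟩
    rw [← hK] at hd
    exact (conj_mem_cent_conj g d x).mp hd

theorem Good.conj (hN : N.Normal) {x : G} (hx : Good N x) (g : G) : Good N (g * x * g⁻¹) := by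
  obtain ⟨hxN, hxz, q, s, a, b, hq, hs, hqs, ha, haz, haq, hb, hbz, hbs, hba, heq⟩ := hx
  refine ⟨hN.conj_mem x hxN g, (conj_mem_center_iff' g).not.mpr hxz, q, s, g * a * g⁻¹,
    g * b * g⁻¹, hq, hs, hqs, hN.conj_mem a ha g, (conj_mem_center_iff' g).not.mpr haz,
    isQ_conj' haq g, hN.conj_mem b hb g, (conj_mem_center_iff' g).not.mpr hbz, isQ_conj' hbs g,
    (conj_mem_cent_conj g b a).mp hba, ?_⟩
  rw [cent_conj_eq g x _ heq, cent_conj_eq g a _ rfl]

section sylow

variable [Finite G] {r : ℕ} [hr : Fact r.Prime]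

/-- every `r`-element of `G` lies in `N` -/
theorem isQ_mem (hN : N.Normal) (R : Sylow r G) (hRN : (R : Subgroup G) ≤ N) {g : G}
    (hg : IsQ r g) : g ∈ N := by
  have hp : IsPGroup r (zpowers g) := by
    obtain ⟨k, hk⟩ := hg
    rintro ⟨_, ⟨j, rfl⟩⟩
    refine ⟨k, ?_⟩
    apply Subtype.ext
    show (g ^ j) ^ (r ^ k) = 1
    rw [← zpow_natCast, ← zpow_mul, mul_comm, zpow_mul, zpow_natCast, hk, one_zpow]
  obtain ⟨P, hP⟩ := hp.exists_le_sylow
  obtain ⟨c, hc⟩ := MulAction.exists_smul_eq G R P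
  have hgP : g ∈ (P : Subgroup G) := hP (mem_zpowers g)
  rw [← hc, Sylow.coe_subgroup_smul, Subgroup.mem_pointwise_smul_iff_inv_smul_mem] at hgP
  have h1 : c⁻¹ * g * c ∈ N := by
    apply hRN
    simpa [MulAut.smul_def, mul_assoc] using hgP
  have := hN.conj_mem _ h1 c
  simpa [mul_assoc] using this

end sylow

end Cfsg.Agent.Helper24.NIto
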