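import Mathlib
import Cfsg.Agent.Helper24.NItoA
import Cfsg.Agent.Helper1.Ito3
import Cfsg.Agent.Helper23.PGroup

/-!
Normal subgroups with two `G`-class sizes, part B: noncentral `r`-elements in centralizers,
bad elements, second-centre elements, and the cyclic-action bound.
-/

set_option autoImplicit false

namespace Cfsg.Agent.Helper24.NIto

open Subgroup Cfsg.Agent.Helper1.Ito
open scoped commutatorElement

variable {G : Type*} [Group G] [Finite G] {N : Subgroup G} {m : ℕ}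

section sylow

variable {r : ℕ} [hr : Fact r.Prime]

/-- F4: the centralizer of a noncentral element of `N` contains a noncentral `r`-element -/
theorem Hyp.exists_r_elt (h : Hyp N m) (R : Sylow r G) (hRN : (R : Subgroup G) ≤ N)
    (hRZ : ¬ (R : Subgroup G) ≤ center G) {y : G} (hy : y ∈ N) (hyz : y ∉ center G) :
    ∃ x ∈ centralizer ({y} : Set G), x ∉ center G ∧ IsQ r x := by
  by_contra hcon
  push Not at hcon
  obtain ⟨x₀, hx₀R, hx₀z⟩ : ∃ x₀ ∈ (R : Subgroup G), x₀ ∉ center G := by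
    by_contra hc
    push Not at hc
    exact hRZ hc
  have hx₀N : x₀ ∈ N := hRN hx₀R
  have hx₀r : IsQ r x₀ := by
    obtain ⟨k, hk⟩ := R.isPGroup' ⟨x₀, hx₀R⟩
    exact ⟨k, congrArg Subtype.val hk⟩
  have hcard := h.card_cent_eq hy hyz hx₀N hx₀z
  obtain ⟨T⟩ : Nonempty (Sylow r (centralizer ({y} : Set G))) := inferInstance
  set T' : Subgroup G := (T : Subgroup (centralizer ({y} : Set G))).map
    (centralizer ({y} : Set G)).subtype with hT'
  have hT'p : IsPGroup r T' := T.isPGroup'.map _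
  have hT'card : Nat.card T' = r ^ (Nat.card (centralizer ({y} : Set G))).factorization r := by
    rw [hT', Subgroup.card_map_of_injective (Subgroup.subtype_injective _)]
    exact T.card_eq_multiplicity
  have hT'Z : T' ≤ center G := by
    intro t ht
    by_contra htz
    have htC : t ∈ centralizer ({y} : Set G) := by
      rw [hT'] at ht
      obtain ⟨t', -, rfl⟩ := ht
      exact t'.2
    apply hcon t htC htz
    obtain ⟨k, hk⟩ := hT'p ⟨t, ht⟩
    exact ⟨k, by simpa using congrArg Subtype.val hk⟩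
  have hT'n : T'.Normal := by
    refine ⟨fun t ht g => ?_⟩
    have := (Subgroup.mem_center_iff.mp (hT'Z ht)) g
    rw [this, mul_inv_cancel_right]
    exact ht
  have hyp : IsPGroup r (zpowers x₀) := by
    obtain ⟨k, hk⟩ := hx₀r
    rw [IsPGroup]
    rintro ⟨_, ⟨j, rfl⟩⟩
    refine ⟨k, ?_⟩
    apply Subtype.ext
    show (x₀ ^ j) ^ (r ^ k) = 1
    rw [← zpow_natCast, ← zpow_mul, mul_comm, zpow_mul, zpow_natCast, hk, one_zpow]
  have hHp : IsPGroup r (T' ⊔ zpowers x₀ : Subgroup G) := IsPGroup.to_sup_of_normal_left hT'p hyp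
  have hHle : T' ⊔ zpowers x₀ ≤ centralizer ({x₀} : Set G) := by
    apply sup_le
    · exact hT'Z.trans (center_le_cent x₀)
    · rw [zpowers_le]
      exact self_mem_cent x₀
  have hlt : T' < T' ⊔ zpowers x₀ := by
    apply lt_of_le_of_ne le_sup_left
    intro heq
    apply hx₀z
    apply hT'Z
    rw [heq]
    exact le_sup_right (a := T') (mem_zpowers x₀)
  obtain ⟨j, hj⟩ := IsPGroup.iff_card.mp hHp
  have hcardlt : Nat.card T' < Nat.card (T' ⊔ zpowers x₀ : Subgroup G) := by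
    by_contra hge
    push Not at hge
    exact hlt.ne (Subgroup.eq_of_le_of_card_ge hlt.le hge)
  rw [hT'card, hj] at hcardlt
  have hjk : (Nat.card (centralizer ({y} : Set G))).factorization r + 1 ≤ j := by
    by_contra hlt'
    push Not at hlt'
    have : r ^ j ≤ r ^ (Nat.card (centralizer ({y} : Set G))).factorization r :=
      Nat.pow_le_pow_right hr.out.pos (by omega)
    omega
  have hdvd : r ^ ((Nat.card (centralizer ({y} : Set G))).factorization r + 1) ∣
      Nat.card (centralizer ({y} : Set G)) := by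
    refine (pow_dvd_pow r hjk).trans ?_
    rw [← hj, hcard]
    exact Subgroup.card_dvd_of_le hHle
  exact Nat.pow_succ_factorization_not_dvd Nat.card_pos.ne' hr.out hdvd

/-- noncentral `s`-elements of `N`, `s ≠ r`, are good -/
theorem Hyp.good_of_ne (h : Hyp N m) (R : Sylow r G) (hRN : (R : Subgroup G) ≤ N)
    (hRZ : ¬ (R : Subgroup G) ≤ center G) {s : ℕ} (hs : s.Prime) (hsr : s ≠ r) {y : G}
    (hy : y ∈ N) (hyz : y ∉ center G) (hys : IsQ s y) : Good N y := by
  obtain ⟨x, hxC, hxz, hxr⟩ := h.exists_r_elt R hRN hRZ hy hyz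
  exact good_of_mixed hs hr.out hsr hy hyz hys (isQ_mem h.normal R hRN hxr) hxz hxr hxC

/-- a bad element has a noncentral `r`-part which is bad with the same centralizer -/
theorem Hyp.bad_part (h : Hyp N m) (R : Sylow r G) (hRN : (R : Subgroup G) ≤ N)
    (hRZ : ¬ (R : Subgroup G) ≤ center G) {x : G} (hx : x ∈ N) (hxz : x ∉ center G)
    (hbad : ¬ Good N x) :
    ∃ k : ℕ, x ^ k ∉ center G ∧ IsQ r (x ^ k) ∧ ¬ Good N (x ^ k) ∧
      centralizer ({x ^ k} : Set G) = centralizer ({x} : Set G) := by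
  obtain ⟨q, k, hq, -, hk1, hk2⟩ := exists_noncentral_part' hxz
  have heq := h.cent_pow_eq hx hxz hk1
  have hbad' : ¬ Good N (x ^ k) := fun hg => hbad (hg.of_cent_eq hx hxz heq.symm)
  refine ⟨k, hk1, ?_, hbad', heq⟩
  by_cases hqr : q = r
  · exact hqr ▸ hk2
  · exact absurd (h.good_of_ne R hRN hRZ hq hqr (pow_mem hx k) hk1 hk2) hbad'

/-- the `r'`-elements of prime power order in `C_N(x)` are central, for bad `x` -/
theorem Hyp.bad_central (h : Hyp N m) (R : Sylow r G) (hRN : (R : Subgroup G) ≤ N)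
    (hRZ : ¬ (R : Subgroup G) ≤ center G) {x : G} (hx : x ∈ N) (hxz : x ∉ center G)
    (hbad : ¬ Good N x) {s : ℕ} (hs : s.Prime) (hsr : s ≠ r) {y : G} (hy : y ∈ N)
    (hyC : y ∈ centralizer ({x} : Set G)) (hys : IsQ s y) : y ∈ center G := by
  by_contra hyz
  obtain ⟨k, hk1, hk2, hbad', heq⟩ := h.bad_part R hRN hRZ hx hxz hbad
  apply hbad'
  have hyC' : y ∈ centralizer ({x ^ k} : Set G) := heq ▸ hyC
  exact good_of_mixed hr.out hs hsr.symm (pow_mem hx k) hk1 hk2 hy hyz hys hyC'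

end sylow

/-- second-centre elements: `K ≤ M ≤ P`, `P` a `p`-group normalizing `M` and `K`, `M ≰ K` -/
theorem exists_second_center {p : ℕ} [hp : Fact p.Prime] (P M K : Subgroup G)
    (hP : IsPGroup p P) (hMP : M ≤ P)
    (hMn : ∀ g ∈ P, ∀ x ∈ M, g * x * g⁻¹ ∈ M) (hKn : ∀ g ∈ P, ∀ x ∈ K, g * x * g⁻¹ ∈ K)
    (hne : ¬ M ≤ K) :
    ∃ w ∈ M, w ∉ K ∧ w ^ p ∈ K ∧ ∀ g ∈ P, ⁅w, g⁆ ∈ K := by
  -- step 1: an element central modulo `K`
  obtain ⟨w₀, hw₀M, hw₀K, hw₀c⟩ : ∃ w₀ ∈ M, w₀ ∉ K ∧ ∀ g ∈ P, ⁅w₀, g⁆ ∈ K := by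
    set K' : Subgroup P := K.subgroupOf P with hK'
    have hK'n : K'.Normal := by
      refine ⟨fun x hx g => ?_⟩
      rw [hK', mem_subgroupOf] at hx ⊢
      exact hKn g g.2 x hx
    set M' : Subgroup P := M.subgroupOf P with hM'
    have hM'n : M'.Normal := by
      refine ⟨fun x hx g => ?_⟩
      rw [hM', mem_subgroupOf] at hx ⊢
      exact hMn g g.2 x hx
    set M'' : Subgroup (P ⧸ K') := M'.map (QuotientGroup.mk' K') with hM''
    have hM''n : M''.Normal := hM'n.map _ (QuotientGroup.mk'_surjective K')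
    have hM''ne : M'' ≠ ⊥ := by
      intro hbot
      apply hne
      intro x hx
      have h1 : (QuotientGroup.mk' K' ⟨x, hMP hx⟩ : P ⧸ K') ∈ M'' :=
        ⟨⟨x, hMP hx⟩, mem_subgroupOf.mpr hx, rfl⟩
      rw [hbot, mem_bot, QuotientGroup.mk'_apply, QuotientGroup.eq_one_iff] at h1
      exact mem_subgroupOf.mp h1
    have hQp : IsPGroup p (P ⧸ K') := hP.to_quotient K'
    obtain ⟨b, hbM, hbc, hb1⟩ :=
      Cfsg.Agent.Helper23.exists_mem_inf_center_ne_one hQp M'' hM''ne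
    obtain ⟨w, hwM, rfl⟩ := hbM
    refine ⟨(w : G), mem_subgroupOf.mp hwM, ?_, ?_⟩
    · intro hwK
      apply hb1
      rw [QuotientGroup.mk'_apply, QuotientGroup.eq_one_iff]
      exact mem_subgroupOf.mpr hwK
    · intro g hg
      have h1 := (mem_center_iff.mp hbc) (QuotientGroup.mk' K' ⟨g, hg⟩)
      have h2 : (QuotientGroup.mk' K' ⁅w, ⟨g, hg⟩⁆ : P ⧸ K') = 1 := by
        rw [map_commutatorElement, commutatorElement_eq_one_iff_commute]
        exact h1.symm
      rw [QuotientGroup.mk'_apply, QuotientGroup.eq_one_iff] at h2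
      have h3 := mem_subgroupOf.mp h2
      have h4 : ((⁅w, ⟨g, hg⟩⁆ : P) : G) = ⁅(w : G), g⁆ := by
        simp [commutatorElement_def]
      rwa [h4] at h3
  -- step 2: powers
  have hpowc : ∀ n : ℕ, ∀ g ∈ P, ⁅w₀ ^ n, g⁆ ∈ K := by
    intro n
    induction n with
    | zero => intro g _; simp
    | succ n ih =>
      intro g hg
      rw [pow_succ', comm_mul_left]
      exact mul_mem (hKn w₀ (hMP hw₀M) _ (ih g hg)) (hw₀c g hg)
  obtain ⟨n, hn⟩ := hP ⟨w₀, hMP hw₀M⟩
  have hn' : w₀ ^ (p ^ n) = 1 := by simpa using congrArg Subtype.val hn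
  have hex : ∃ j : ℕ, w₀ ^ (p ^ j) ∈ K := ⟨n, hn' ▸ one_mem K⟩
  classical
  set j := Nat.find hex with hj
  have hjK : w₀ ^ (p ^ j) ∈ K := Nat.find_spec hex
  have hj0 : j ≠ 0 := by
    intro h0
    rw [h0, pow_zero, pow_one] at hjK
    exact hw₀K hjK
  obtain ⟨i, hi⟩ := Nat.exists_eq_succ_of_ne_zero hj0
  refine ⟨w₀ ^ (p ^ i), pow_mem hw₀M _, ?_, ?_, hpowc _⟩
  · intro hK
    have := Nat.find_min' hex hK
    omega
  · rw [← pow_mul, ← pow_succ]
    have : i + 1 = j := by omega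
    rw [this]
    exact hjK

/-- the cyclic-action bound: a `q`-group `Q` acting on a `q'`-group `V` through an abelian
quotient `Q/(Q ⊓ C)` of exponent `q`, with all fixed points of elements outside `C` lying in a
subgroup `D` not containing `V`. -/
theorem card_le_of_action {q : ℕ} [hq : Fact q.Prime] (Q C V D : Subgroup G)
    (hQ : IsPGroup q Q)
    (hQV : ∀ g ∈ Q, ∀ v ∈ V, g * v * g⁻¹ ∈ V)
    (hVcop : (Nat.card V).Coprime q)
    (hker1 : ∀ g ∈ Q, g ∈ C → ∀ v ∈ V, g * v * g⁻¹ = v)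
    (hker2 : ∀ g ∈ Q, (∀ v ∈ V, g * v * g⁻¹ = v) → g ∈ C)
    (hcomm : ∀ a ∈ Q, ∀ b ∈ Q, ⁅a, b⁆ ∈ C)
    (hpow : ∀ g ∈ Q, g ^ q ∈ C)
    (hfix : ∀ g ∈ Q, g ∉ C → ∀ v ∈ V, g * v * g⁻¹ = v → v ∈ D)
    (hVD : ¬ V ≤ D) :
    Nat.card Q ≤ q * Nat.card (Q ⊓ C : Subgroup G) := by
  have hRV : Q ≤ normalizer (V : Set G) := by
    intro g hg
    rw [mem_normalizer_iff]
    intro c
    constructor
    · exact hQV g hg c
    · intro hc
      have := hQV g⁻¹ (inv_mem hg) _ hc
      simpa [mul_assoc] using this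
  set φ := conjAut Q V hRV with hφ
  have hker : ∀ t : Q, φ t = 1 ↔ (t : G) ∈ C := by
    intro t
    constructor
    · intro ht
      apply hker2 t t.2
      intro v hv
      have h1 : φ t ⟨v, hv⟩ = ⟨v, hv⟩ := by rw [ht]; rfl
      exact congrArg Subtype.val h1
    · intro ht
      ext v
      exact hker1 t t.2 ht v v.2
  have : Finite (MulAut V) := Finite.of_injective (fun f : MulAut V => (f : V → V))
    (fun f g hfg => MulEquiv.ext (congrFun hfg))
  set J : Subgroup (MulAut V) := φ.range with hJ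
  have : IsMulCommutative J := by
    refine ⟨⟨?_⟩⟩
    rintro ⟨_, ⟨t₁, rfl⟩⟩ ⟨_, ⟨t₂, rfl⟩⟩
    apply Subtype.ext
    show φ t₁ * φ t₂ = φ t₂ * φ t₁
    have h1 : t₁ * t₂ = ⁅t₁, t₂⁆ * (t₂ * t₁) := by rw [commutatorElement_def]; group
    have h2' : φ ⁅t₁, t₂⁆ = 1 := by
      rw [hker]
      exact hcomm t₁ t₁.2 t₂ t₂.2
    rw [← map_mul, h1, map_mul, h2', one_mul, map_mul]
  have hJp : IsPGroup q J := by
    rw [hJ, MonoidHom.range_eq_map]
    exact (hQ.to_subgroup ⊤).map φ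
  have hcop : (Nat.card J).Coprime (Nat.card V) := by
    obtain ⟨a, ha⟩ := IsPGroup.iff_card.mp hJp
    rw [ha]
    exact (Nat.Coprime.pow_right a hVcop).symm
  have hJc : IsCyclic J := by
    by_contra hnc
    have := Cfsg.Agent.Helper3.Broad.gen_fix J hnc hcop ⊤ (fun _ _ _ _ => mem_top _)
      (D.comap V.subtype) (by
        rintro _ ⟨t, rfl⟩ hT v - hv
        show (v : G) ∈ D
        apply hfix t t.2 _ v v.2
        · exact congrArg Subtype.val hv
        · intro htC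
          exact hT ((hker t).mpr htC))
    apply hVD
    intro v hv
    exact this (mem_top (⟨v, hv⟩ : V))
  have hexp : ∀ T : J, T ^ q = 1 := by
    rintro ⟨_, ⟨t, rfl⟩⟩
    apply Subtype.ext
    show φ t ^ q = 1
    rw [← map_pow, hker]
    exact hpow t t.2
  have hcardJ : Nat.card J ∣ q := by
    rw [← IsCyclic.exponent_eq_card]
    exact Monoid.exponent_dvd_of_forall_pow_eq_one hexp
  have hkerEq : φ.ker = (Q ⊓ C).subgroupOf Q := by
    ext t
    rw [MonoidHom.mem_ker, hker, mem_subgroupOf, mem_inf]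
    exact ⟨fun ht => ⟨t.2, ht⟩, fun ht => ht.2⟩
  have h1 := φ.ker.card_mul_index
  rw [Subgroup.index_ker, ← hJ, hkerEq,
    Nat.card_congr (subgroupOfEquivOfLe (inf_le_left : Q ⊓ C ≤ Q)).toEquiv] at h1
  have h3 : Nat.card J ≤ q := Nat.le_of_dvd hq.out.pos hcardJ
  calc Nat.card Q = Nat.card (Q ⊓ C : Subgroup G) * Nat.card J := h1.symm
    _ ≤ Nat.card (Q ⊓ C : Subgroup G) * q := Nat.mul_le_mul_left _ h3
    _ = q * Nat.card (Q ⊓ C : Subgroup G) := mul_comm _ _

end Cfsg.Agent.Helper24.NIto
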