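import Mathlib
import Cfsg.Agent.Helper24.NItoB

/-!
Normal subgroups with two `G`-class sizes, part C: components of good elements, their
`q`-parts, the fixed-point congruence, and the second-centre bound.
-/

set_option autoImplicit false

namespace Cfsg.Agent.Helper24.NIto

open Subgroup Cfsg.Agent.Helper1.Ito
open scoped commutatorElement

variable {G : Type*} [Group G] [Finite G] {N : Subgroup G} {m : ℕ}

/-- the component of `x` -/
def comp (N : Subgroup G) (x : G) : Subgroup G := centralizer ({x} : Set G) ⊓ N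

omit [Finite G] in
theorem mem_comp {x c : G} : c ∈ comp N x ↔ c ∈ centralizer ({x} : Set G) ∧ c ∈ N := Iff.rfl

theorem Good.comp_comm (h : Hyp N m) {x : G} (hx : Good N x) :
    ∀ c ∈ comp N x, ∀ d ∈ comp N x, c * d = d * c :=
  fun c hc d hd => hx.comm h c hc.1 hc.2 d hd.1

/-- the `q`-part of the component of a good element -/
def Good.part (h : Hyp N m) {x : G} (hx : Good N x) (q : ℕ) : Subgroup G :=
  qPart (comp N x) (hx.comp_comm h) q

theorem Good.mem_part (h : Hyp N m) {x : G} (hx : Good N x) {q : ℕ} {c : G} :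
    c ∈ hx.part h q ↔ c ∈ centralizer ({x} : Set G) ∧ c ∈ N ∧ IsQ q c := by
  unfold Good.part
  rw [mem_qPart, mem_comp, and_assoc]

theorem Good.isPGroup_part (h : Hyp N m) {x : G} (hx : Good N x) (q : ℕ) :
    IsPGroup q (hx.part h q) := by
  rintro ⟨c, hc⟩
  obtain ⟨k, hk⟩ := ((hx.mem_part h).mp hc).2.2
  exact ⟨k, Subtype.ext hk⟩

theorem Good.part_le_cent (h : Hyp N m) {x : G} (hx : Good N x) (q : ℕ) :
    hx.part h q ≤ centralizer ({x} : Set G) := fun _ hc => ((hx.mem_part h).mp hc).1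

theorem Good.part_le (h : Hyp N m) {x : G} (hx : Good N x) (q : ℕ) :
    hx.part h q ≤ N := fun _ hc => ((hx.mem_part h).mp hc).2.1

theorem Good.part_comm (h : Hyp N m) {x : G} (hx : Good N x) {q : ℕ} {c d : G}
    (hc : c ∈ hx.part h q) (hd : d ∈ centralizer ({x} : Set G)) : c * d = d * c :=
  hx.comm h c ((hx.mem_part h).mp hc).1 ((hx.mem_part h).mp hc).2.1 d hd

theorem Good.cent_eq_of_mem_part (h : Hyp N m) {x : G} (hx : Good N x) {q : ℕ} {c : G}
    (hc : c ∈ hx.part h q) (hcz : c ∉ center G) :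
    centralizer ({c} : Set G) = centralizer ({x} : Set G) :=
  hx.cent_eq h ((hx.mem_part h).mp hc).1 ((hx.mem_part h).mp hc).2.1 hcz

/-- `g` normalizes the centralizer of `x` -/
def Nrm (g x : G) : Prop :=
  ∀ c : G, c ∈ centralizer ({x} : Set G) ↔ g * c * g⁻¹ ∈ centralizer ({x} : Set G)

omit [Finite G] in
theorem nrm_of_comm {g x : G} (hgx : ⁅g, x⁆ ∈ center G) : Nrm g x := by
  intro c
  have h1 : g * x * g⁻¹ = ⁅g, x⁆ * x := by rw [commutatorElement_def]; group
  have h3 := conj_mem_cent_conj g c x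
  rw [h1, cent_central_mul hgx] at h3
  exact h3

omit [Finite G] in
theorem nrm_of_comm' {g x : G} (hgx : ⁅x, g⁆ ∈ center G) : Nrm g x := by
  apply nrm_of_comm
  rw [← commutatorElement_inv]
  exact inv_mem hgx

omit [Finite G] in
theorem Nrm.inv {g x : G} (hg : Nrm g x) : Nrm g⁻¹ x := by
  intro c
  rw [hg (g⁻¹ * c * g⁻¹⁻¹)]
  have : g * (g⁻¹ * c * g⁻¹⁻¹) * g⁻¹ = c := by group
  rw [this]

theorem Good.nrm_of_conj_mem (h : Hyp N m) {x : G} (hx : Good N x) {c g : G}
    (hc : c ∈ comp N x) (hcz : c ∉ center G) (hgc : g * c * g⁻¹ ∈ comp N x) : Nrm g x := by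
  intro d
  have e1 := hx.cent_eq h hc.1 hc.2 hcz
  have e2 := hx.cent_eq h hgc.1 hgc.2 ((conj_mem_center_iff' g).not.mpr hcz)
  have := conj_mem_cent_conj g d c
  rwa [e1, e2] at this

theorem Good.conj_mem_part (h : Hyp N m) {x : G} (hx : Good N x) {q : ℕ} {g c : G}
    (hg : Nrm g x) (hc : c ∈ hx.part h q) : g * c * g⁻¹ ∈ hx.part h q := by
  rw [hx.mem_part h] at hc ⊢
  exact ⟨(hg c).mp hc.1, h.normal.conj_mem c hc.2.1 g, isQ_conj' hc.2.2 g⟩

/-- a good element has noncentral elements in a part for a prime different from `q` -/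
theorem Good.exists_part_ne (h : Hyp N m) {x : G} (hx : Good N x) (q : ℕ) :
    ∃ t : ℕ, t.Prime ∧ t ≠ q ∧ ∃ v ∈ hx.part h t, v ∉ center G := by
  have hx' := hx
  obtain ⟨-, -, q₁, s₁, a, b, hq₁, hs₁, hqs, ha, haz, haq, hb, hbz, hbs, hba, heq⟩ := hx'
  by_cases hq : q₁ = q
  · refine ⟨s₁, hs₁, fun hs => hqs (hq.trans hs.symm), b, ?_, hbz⟩
    rw [hx.mem_part h]
    exact ⟨heq ▸ hba, hb, hbs⟩
  · refine ⟨q₁, hq₁, hq, a, ?_, haz⟩
    rw [hx.mem_part h]
    exact ⟨heq ▸ self_mem_cent a, ha, haq⟩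

section sylow

variable {r : ℕ} [hr : Fact r.Prime]

theorem Good.exists_mem_part_r (h : Hyp N m) (R : Sylow r G) (hRN : (R : Subgroup G) ≤ N)
    (hRZ : ¬ (R : Subgroup G) ≤ center G) {x : G} (hx : Good N x) :
    ∃ v ∈ hx.part h r, v ∉ center G := by
  obtain ⟨v, hvC, hvz, hvr⟩ := h.exists_r_elt R hRN hRZ hx.1 hx.2.1
  exact ⟨v, (hx.mem_part h).mpr ⟨hvC, isQ_mem h.normal R hRN hvr, hvr⟩, hvz⟩

/-- every `r`-element of `C(x)` lies in the `r`-part -/
theorem Good.mem_part_r (h : Hyp N m) (R : Sylow r G) (hRN : (R : Subgroup G) ≤ N)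
    {x : G} (hx : Good N x) {c : G} (hc : c ∈ centralizer ({x} : Set G)) (hcr : IsQ r c) :
    c ∈ hx.part h r :=
  (hx.mem_part h).mpr ⟨hc, isQ_mem h.normal R hRN hcr, hcr⟩

end sylow

/-- fixed-point congruence for a `p`-subgroup acting by conjugation on a finite set of elements -/
theorem dvd_card_of_no_fixed {p : ℕ} [hp : Fact p.Prime] (P : Subgroup G) (hP : IsPGroup p P)
    (Ω : Set G) (hstab : ∀ g ∈ P, ∀ v ∈ Ω, g * v * g⁻¹ ∈ Ω)
    (hfix : ∀ v ∈ Ω, ∃ g ∈ P, g * v * g⁻¹ ≠ v) : p ∣ Nat.card Ω := by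
  letI : MulAction P Ω :=
    { smul := fun g v => ⟨(g : G) * v * (g : G)⁻¹, hstab g g.2 v v.2⟩
      one_smul := fun v => by apply Subtype.ext; show (1 : G) * v * (1 : G)⁻¹ = v; simp
      mul_smul := fun g k v => by
        apply Subtype.ext
        show ((g * k : P) : G) * v * ((g * k : P) : G)⁻¹ = (g : G) * ((k : G) * v * (k : G)⁻¹) * (g : G)⁻¹
        simp [mul_assoc] }
  have h1 := hP.card_modEq_card_fixedPoints Ω
  have h2 : IsEmpty (MulAction.fixedPoints P Ω) := by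
    refine ⟨fun ⟨v, hv⟩ => ?_⟩
    obtain ⟨g, hg, hne⟩ := hfix v v.2
    apply hne
    have := hv ⟨g, hg⟩
    exact congrArg Subtype.val this
  have h3 : Nat.card (MulAction.fixedPoints P Ω) = 0 := Nat.card_of_isEmpty
  rw [h3] at h1
  exact (Nat.modEq_zero_iff_dvd).mp h1

/-- the second-centre bound: a `q`-group `Q` all of whose commutators with a good element `w` are
central, `w ^ q` central -/
theorem Good.card_le_of_second_center (h : Hyp N m) {q : ℕ} [hq : Fact q.Prime] (Q : Subgroup G)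
    (hQ : IsPGroup q Q) {w : G} (hw : Good N w) (hwq : w ^ q ∈ center G)
    (hwc : ∀ g ∈ Q, ⁅w, g⁆ ∈ center G) :
    Nat.card Q ≤ q * Nat.card (Q ⊓ centralizer ({w} : Set G) : Subgroup G) := by
  obtain ⟨t, ht, htq, v₀, hv₀, hv₀z⟩ := hw.exists_part_ne h q
  have hnrm : ∀ g ∈ Q, Nrm g w := fun g hg => nrm_of_comm' (hwc g hg)
  apply card_le_of_action Q (centralizer ({w} : Set G)) (hw.part h t) (center G) hQ
  · intro g hg v hv
    exact hw.conj_mem_part h (hnrm g hg) hv
  · haveI : Fact t.Prime := ⟨ht⟩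
    obtain ⟨k, hk⟩ := IsPGroup.iff_card.mp (hw.isPGroup_part h t)
    rw [hk]
    exact Nat.Coprime.pow_left k ((Nat.coprime_primes ht hq.out).mpr htq)
  · intro g _ hgC v hv
    rw [← hw.part_comm h hv hgC, mul_inv_cancel_right]
  · intro g _ hgv
    have h1 := hgv v₀ hv₀
    rw [← hw.cent_eq_of_mem_part h hv₀ hv₀z, mem_cent]
    calc g * v₀ = g * v₀ * g⁻¹ * g := by group
      _ = v₀ * g := by rw [h1]
  · intro a ha b hb
    let ψ : Q →* center G :=
      { toFun := fun g => ⟨⁅w, (g : G)⁆, hwc g g.2⟩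
        map_one' := by apply Subtype.ext; simp
        map_mul' := fun a b => by
          apply Subtype.ext
          show ⁅w, (a : G) * (b : G)⁆ = ⁅w, (a : G)⁆ * ⁅w, (b : G)⁆
          rw [comm_mul_right, central_conj (hwc b b.2)] }
    have h1 : ψ ⁅(⟨a, ha⟩ : Q), ⟨b, hb⟩⁆ = 1 := by
      rw [map_commutatorElement, commutatorElement_eq_one_iff_commute]
      exact mul_comm' (ψ ⟨a, ha⟩) (ψ ⟨b, hb⟩)
    have h2' : ⁅w, ⁅a, b⁆⁆ = 1 := congrArg Subtype.val h1
    rw [mem_cent]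
    exact ((commutatorElement_eq_one_iff_commute.mp h2').eq).symm
  · intro g hg
    rw [mem_cent]
    have h1 : ⁅w, g ^ q⁆ = 1 := by
      rw [comm_pow_right (hwc g hg), ← comm_pow_left (hwc g hg), comm_central_left hwq]
    exact ((commutatorElement_eq_one_iff_commute.mp h1).eq).symm
  · intro g _ hgC v hv hgv
    by_contra hvz
    apply hgC
    rw [← hw.cent_eq_of_mem_part h hv hvz, mem_cent]
    calc g * v = g * v * g⁻¹ * g := by group
      _ = v * g := by rw [hgv]
  · intro hle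
    exact hv₀z (hle hv₀)

end Cfsg.Agent.Helper24.NIto
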