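import Mathlib
import Cfsg.Agent.Helper24.NItoC

/-!
Normal subgroups with two `G`-class sizes, part D: the context (`r ∣ m`), Sylow orders of
centralizers, central `r`-elements.
-/

set_option autoImplicit false

namespace Cfsg.Agent.Helper24.NIto

open Subgroup Cfsg.Agent.Helper1.Ito
open scoped commutatorElement

variable {G : Type*} [Group G] [Finite G] {N : Subgroup G} {m : ℕ} {r : ℕ} [hr : Fact r.Prime]

/-- the context of the main case: `r ∣ m` -/
structure Ctx (N : Subgroup G) (m r : ℕ) [Fact r.Prime] (R : Sylow r G) : Prop where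
  hyp : Hyp N m
  hRN : (R : Subgroup G) ≤ N
  hRZ : ¬ (R : Subgroup G) ≤ center G
  hrm : r ∣ m

variable {R : Sylow r G}

theorem Ctx.smul (c : Ctx N m r R) (g : G) : Ctx N m r (g • R) := by
  refine ⟨c.hyp, ?_, ?_, c.hrm⟩
  · intro x hx
    rw [Sylow.coe_subgroup_smul, Subgroup.mem_pointwise_smul_iff_inv_smul_mem] at hx
    have h1 : g⁻¹ * x * g ∈ N := by
      apply c.hRN
      simpa [MulAut.smul_def, mul_assoc] using hx
    have := c.hyp.normal.conj_mem _ h1 g
    simpa [mul_assoc] using this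
  · intro hle
    apply c.hRZ
    intro x hx
    have h1 : g * x * g⁻¹ ∈ ((g • R : Sylow r G) : Subgroup G) := by
      rw [Sylow.coe_subgroup_smul, Subgroup.mem_pointwise_smul_iff_inv_smul_mem]
      simpa [MulAut.smul_def, mul_assoc] using hx
    exact (conj_mem_center_iff' g).mp (hle h1)

theorem Ctx.isQ_of_mem (_c : Ctx N m r R) {g : G} (hg : g ∈ (R : Subgroup G)) : IsQ r g := by
  obtain ⟨k, hk⟩ := R.isPGroup' ⟨g, hg⟩
  exact ⟨k, congrArg Subtype.val hk⟩

/-- an element of `N` centralizing a Sylow `r`-subgroup is central -/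
theorem Ctx.center_of_comm (c : Ctx N m r R) {z : G} (hz : z ∈ N)
    (hzc : ∀ g ∈ (R : Subgroup G), g * z = z * g) : z ∈ center G := by
  by_contra hzz
  have hle : (R : Subgroup G) ≤ centralizer ({z} : Set G) := fun g hg => mem_cent.mpr (hzc g hg)
  have h1 := index_dvd_of_le hle
  rw [c.hyp.index_eq hz hzz] at h1
  exact R.not_dvd_index (c.hrm.trans h1)

/-- a second-centre element of `R` -/
theorem Ctx.exists_sc (c : Ctx N m r R) :
    ∃ u ∈ (R : Subgroup G), u ∉ center G ∧ u ^ r ∈ center G ∧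
      ∀ g ∈ (R : Subgroup G), ⁅u, g⁆ ∈ center G := by
  obtain ⟨w, hwR, hwK, hwr, hwc⟩ := NIto.exists_second_center (p := r) (R : Subgroup G) (R : Subgroup G)
    ((R : Subgroup G) ⊓ center G) R.isPGroup' le_rfl
    (fun g hg x hx => by
      have : g * x * g⁻¹ = (⟨g, hg⟩ * ⟨x, hx⟩ * ⟨g, hg⟩⁻¹ : (R : Subgroup G)) := rfl
      rw [this]; exact SetLike.coe_mem _)
    (fun g hg x hx => ⟨(R : Subgroup G).mul_mem ((R : Subgroup G).mul_mem hg (mem_inf.mp hx).1)
      ((R : Subgroup G).inv_mem hg), (conj_mem_center_iff' g).mpr (mem_inf.mp hx).2⟩)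
    (fun hle => c.hRZ (fun x hx => (hle hx).2))
  exact ⟨w, hwR, fun hz => hwK ⟨hwR, hz⟩, hwr.2, fun g hg => (hwc g hg).2⟩

/-- the order of the centralizer of a noncentral element of `N` -/
theorem Hyp.card_cent (h : Hyp N m) {x : G} (hx : x ∈ N) (hxz : x ∉ center G) :
    Nat.card (centralizer ({x} : Set G)) = Nat.card G / m := by
  have h1 := (centralizer ({x} : Set G)).card_mul_index
  rw [h.index_eq hx hxz] at h1
  rw [← h1, Nat.mul_div_cancel _ (h.m_pos hx hxz)]

/-- the `r`-part of the order of the centralizers of noncentral elements of `N` -/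
noncomputable def cr (G : Type*) [Group G] (m r : ℕ) : ℕ := r ^ (Nat.card G / m).factorization r

theorem Hyp.card_dvd_cr (h : Hyp N m) {x : G} (hx : x ∈ N) (hxz : x ∉ center G)
    {Q : Subgroup G} (hQ : IsPGroup r Q) (hQC : Q ≤ centralizer ({x} : Set G)) :
    Nat.card Q ∣ cr G m r := by
  obtain ⟨k, hk⟩ := IsPGroup.iff_card.mp hQ
  have h1 : Nat.card Q ∣ Nat.card (centralizer ({x} : Set G)) := Subgroup.card_dvd_of_le hQC
  rw [h.card_cent hx hxz, hk] at h1
  rw [hk, cr]
  apply pow_dvd_pow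
  have hne : Nat.card G / m ≠ 0 := by
    rw [← h.card_cent hx hxz]; exact Nat.card_pos.ne'
  exact (hr.out.pow_dvd_iff_le_factorization hne).mp h1

theorem Hyp.card_le_cr (h : Hyp N m) {x : G} (hx : x ∈ N) (hxz : x ∉ center G)
    {Q : Subgroup G} (hQ : IsPGroup r Q) (hQC : Q ≤ centralizer ({x} : Set G)) :
    Nat.card Q ≤ cr G m r :=
  Nat.le_of_dvd (pow_pos hr.out.pos _) (h.card_dvd_cr hx hxz hQ hQC)

/-- a Sylow `r`-subgroup of the centralizer, as a subgroup of `G` -/
theorem Hyp.exists_sylow_cent (h : Hyp N m) {x : G} (hx : x ∈ N) (hxz : x ∉ center G) :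
    ∃ T : Subgroup G, T ≤ centralizer ({x} : Set G) ∧ IsPGroup r T ∧ Nat.card T = cr G m r := by
  obtain ⟨T⟩ : Nonempty (Sylow r (centralizer ({x} : Set G))) := inferInstance
  refine ⟨(T : Subgroup (centralizer ({x} : Set G))).map (centralizer ({x} : Set G)).subtype,
    ?_, T.isPGroup'.map _, ?_⟩
  · rintro _ ⟨t, -, rfl⟩
    exact t.2
  · rw [Subgroup.card_map_of_injective (Subgroup.subtype_injective _), T.card_eq_multiplicity,
      h.card_cent hx hxz, cr]

theorem Ctx.r_mul_cr_dvd (c : Ctx N m r R) {x : G} (hx : x ∈ N) (hxz : x ∉ center G) :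
    r * cr G m r ∣ Nat.card (R : Subgroup G) := by
  have h1 : Nat.card (R : Subgroup G) = r ^ (Nat.card G).factorization r := R.card_eq_multiplicity
  have hm := c.hyp.m_pos hx hxz
  have h2 : Nat.card G = (Nat.card G / m) * m := by
    have := (centralizer ({x} : Set G)).card_mul_index
    rw [c.hyp.index_eq hx hxz, c.hyp.card_cent hx hxz] at this
    exact this.symm
  have hne : Nat.card G / m ≠ 0 := by
    rw [← c.hyp.card_cent hx hxz]; exact Nat.card_pos.ne'
  have h3 : (Nat.card G).factorization r =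
      (Nat.card G / m).factorization r + m.factorization r := by
    conv_lhs => rw [h2]
    rw [Nat.factorization_mul hne hm.ne']
    rfl
  have h4 : 1 ≤ m.factorization r :=
    (hr.out.pow_dvd_iff_le_factorization hm.ne').mp (by simpa using c.hrm)
  rw [h1, h3, cr, ← pow_succ']
  exact pow_dvd_pow r (by omega)

theorem Ctx.r_mul_cr_le (c : Ctx N m r R) {x : G} (hx : x ∈ N) (hxz : x ∉ center G) :
    r * cr G m r ≤ Nat.card (R : Subgroup G) :=
  Nat.le_of_dvd Nat.card_pos (c.r_mul_cr_dvd hx hxz)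

/-- a noncentral element of `R` exists -/
theorem Ctx.exists_noncentral (c : Ctx N m r R) : ∃ x ∈ (R : Subgroup G), x ∉ center G := by
  by_contra hc
  push Not at hc
  exact c.hRZ hc

/-- conjugating a subgroup into `R` -/
theorem exists_conj_le (R : Sylow r G) {Q : Subgroup G} (hQ : IsPGroup r Q) :
    ∃ g : G, ∀ x ∈ Q, g * x * g⁻¹ ∈ (R : Subgroup G) := by
  obtain ⟨P, hP⟩ := hQ.exists_le_sylow
  obtain ⟨g, hg⟩ := MulAction.exists_smul_eq G P R
  refine ⟨g, fun x hx => ?_⟩
  have h1 : x ∈ (P : Subgroup G) := hP hx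
  rw [← hg, Sylow.coe_subgroup_smul, Subgroup.mem_pointwise_smul_iff_inv_smul_mem]
  simpa [MulAut.smul_def, mul_assoc] using h1

end Cfsg.Agent.Helper24.NIto
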