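import Mathlib
import Cfsg.Agent.Helper24.NItoD

/-!
Normal subgroups with two `G`-class sizes, part E: consequences of a good second-centre element,
the order of the `r`-part, and the case `|R : Z(R)| > r²` when all noncentral elements are good.
-/

set_option autoImplicit false

namespace Cfsg.Agent.Helper24.NIto

open Subgroup Cfsg.Agent.Helper1.Ito
open scoped commutatorElement Pointwise

variable {G : Type*} [Group G] [Finite G] {N : Subgroup G} {m : ℕ} {r : ℕ} [hr : Fact r.Prime]
  {R : Sylow r G}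

/-- `R ⊓ C(x)` is abelian for good `x` -/
theorem Ctx.inf_cent_comm (c : Ctx N m r R) {x : G} (hx : Good N x) :
    ∀ a ∈ (R : Subgroup G) ⊓ centralizer ({x} : Set G),
      ∀ b ∈ (R : Subgroup G) ⊓ centralizer ({x} : Set G), a * b = b * a :=
  fun a ha b hb => hx.comm c.hyp a ha.2 (c.hRN ha.1) b hb.2

theorem Ctx.isPGroup_inf (_c : Ctx N m r R) (K : Subgroup G) :
    IsPGroup r ((R : Subgroup G) ⊓ K : Subgroup G) :=
  R.isPGroup'.to_le inf_le_left

/-- consequences of a good second-centre element -/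
theorem Ctx.card_of_good_sc (c : Ctx N m r R) {u : G} (hu : Good N u)
    (hur : u ^ r ∈ center G) (huc : ∀ g ∈ (R : Subgroup G), ⁅u, g⁆ ∈ center G) :
    Nat.card (R : Subgroup G) = r * cr G m r ∧
      Nat.card ((R : Subgroup G) ⊓ centralizer ({u} : Set G) : Subgroup G) = cr G m r := by
  have h1 := hu.card_le_of_second_center c.hyp (R : Subgroup G) R.isPGroup' hur huc
  have h2 := c.hyp.card_le_cr hu.1 hu.2.1 (c.isPGroup_inf (centralizer ({u} : Set G))) inf_le_right
  have h3 := c.r_mul_cr_le hu.1 hu.2.1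
  have h4 : r * Nat.card ((R : Subgroup G) ⊓ centralizer ({u} : Set G) : Subgroup G) ≤
      r * cr G m r := Nat.mul_le_mul_left _ h2
  constructor
  · omega
  · have h5 : r * cr G m r ≤
        r * Nat.card ((R : Subgroup G) ⊓ centralizer ({u} : Set G) : Subgroup G) := by omega
    have := Nat.le_of_mul_le_mul_left h5 hr.out.pos
    omega

/-- the `r`-part of a good component has order `cr` -/
theorem Ctx.card_part_r (c : Ctx N m r R) {x : G} (hx : Good N x) :
    Nat.card (hx.part c.hyp r) = cr G m r := by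
  apply le_antisymm
  · exact c.hyp.card_le_cr hx.1 hx.2.1 (hx.isPGroup_part c.hyp r) (hx.part_le_cent c.hyp r)
  · obtain ⟨T, hTC, hTp, hTcard⟩ := c.hyp.exists_sylow_cent (r := r) hx.1 hx.2.1
    rw [← hTcard]
    apply Subgroup.card_le_of_le
    intro t ht
    apply hx.mem_part_r c.hyp R c.hRN (hTC ht)
    obtain ⟨k, hk⟩ := hTp ⟨t, ht⟩
    exact ⟨k, congrArg Subtype.val hk⟩

/-- a subgroup of `R` properly containing a subgroup of index `≤ r` is `R` -/
theorem Ctx.eq_of_lt (_c : Ctx N m r R) {M K : Subgroup G} (hMK : M ≤ K)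
    (hKR : K ≤ (R : Subgroup G)) (hM : Nat.card (R : Subgroup G) ≤ r * Nat.card M)
    {a : G} (haK : a ∈ K) (haM : a ∉ M) : K = (R : Subgroup G) := by
  apply Subgroup.eq_of_le_of_card_ge hKR
  have hKp : IsPGroup r K := R.isPGroup'.to_le hKR
  have hMp : IsPGroup r M := hKp.to_le hMK
  obtain ⟨i, hi⟩ := IsPGroup.iff_card.mp hMp
  obtain ⟨j, hj⟩ := IsPGroup.iff_card.mp hKp
  have hlt : Nat.card M < Nat.card K := by
    by_contra hge
    push Not at hge
    have := Subgroup.eq_of_le_of_card_ge hMK hge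
    exact haM (this ▸ haK)
  rw [hi, hj] at hlt
  have hij : i < j := (Nat.pow_lt_pow_iff_right hr.out.one_lt).mp hlt
  calc Nat.card (R : Subgroup G) ≤ r * Nat.card M := hM
    _ = r ^ (i + 1) := by rw [hi, pow_succ']
    _ ≤ r ^ j := Nat.pow_le_pow_right hr.out.pos hij
    _ = Nat.card K := hj.symm

/-- uniqueness of abelian subgroups of index `r`, when `|R : R ⊓ Z| > r²` -/
theorem Ctx.inf_cent_unique (c : Ctx N m r R)
    (hbig : r ^ 2 * Nat.card ((R : Subgroup G) ⊓ center G : Subgroup G) < Nat.card (R : Subgroup G))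
    {x y : G} (hx : Good N x) (hy : Good N y)
    (hxc : Nat.card (R : Subgroup G) ≤
      r * Nat.card ((R : Subgroup G) ⊓ centralizer ({x} : Set G) : Subgroup G))
    (hyc : Nat.card (R : Subgroup G) ≤
      r * Nat.card ((R : Subgroup G) ⊓ centralizer ({y} : Set G) : Subgroup G)) :
    (R : Subgroup G) ⊓ centralizer ({x} : Set G) ≤ (R : Subgroup G) ⊓ centralizer ({y} : Set G) := by
  set M₁ := (R : Subgroup G) ⊓ centralizer ({x} : Set G) with hM₁
  set M₂ := (R : Subgroup G) ⊓ centralizer ({y} : Set G) with hM₂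
  by_contra hnle
  obtain ⟨a, haM₁, haM₂⟩ := SetLike.not_le_iff_exists.mp hnle
  -- `M₁ ⊓ M₂` centralizes `R`
  set K : Subgroup G := (R : Subgroup G) ⊓ centralizer ((M₁ ⊓ M₂ : Subgroup G) : Set G) with hK
  have hM₂K : M₂ ≤ K := by
    intro b hb
    refine Subgroup.mem_inf.mpr ⟨hb.1, mem_centralizer_iff.mpr ?_⟩
    intro d hd
    exact c.inf_cent_comm hy d hd.2 b hb
  have haK : a ∈ K := by
    refine Subgroup.mem_inf.mpr ⟨haM₁.1, mem_centralizer_iff.mpr ?_⟩
    intro d hd
    exact c.inf_cent_comm hx d hd.1 a haM₁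
  have hKR : K = (R : Subgroup G) := c.eq_of_lt hM₂K inf_le_left hyc haK haM₂
  have hle : M₁ ⊓ M₂ ≤ (R : Subgroup G) ⊓ center G := by
    intro d hd
    refine ⟨hd.1.1, ?_⟩
    apply c.center_of_comm (c.hRN hd.1.1)
    intro g hg
    have hgK : g ∈ K := hKR ▸ hg
    exact ((mem_centralizer_iff.mp hgK.2) d hd).symm
  -- counting
  have h1 : M₂.relIndex M₁ ≤ r := by
    have h2 : M₂.relIndex M₁ ≤ M₂.relIndex (R : Subgroup G) :=
      relIndex_le_of_le_right inf_le_left (by
        rw [relIndex]; exact index_ne_zero_of_finite)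
    have h3 : Nat.card M₂ * M₂.relIndex (R : Subgroup G) = Nat.card (R : Subgroup G) := by
      have := (M₂.subgroupOf (R : Subgroup G)).card_mul_index
      rwa [Nat.card_congr (subgroupOfEquivOfLe (inf_le_left : M₂ ≤ R)).toEquiv] at this
    have h4 : Nat.card M₂ * M₂.relIndex (R : Subgroup G) ≤ Nat.card M₂ * r := by
      rw [h3, mul_comm]; exact hyc
    exact h2.trans (Nat.le_of_mul_le_mul_left h4 Nat.card_pos)
  have h5 : Nat.card (M₁ ⊓ M₂ : Subgroup G) * M₂.relIndex M₁ = Nat.card M₁ := by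
    have := ((M₁ ⊓ M₂).subgroupOf M₁).card_mul_index
    rw [Nat.card_congr (subgroupOfEquivOfLe (inf_le_left : M₁ ⊓ M₂ ≤ M₁)).toEquiv] at this
    have e : ((M₁ ⊓ M₂).subgroupOf M₁).index = M₂.relIndex M₁ := by
      show (M₁ ⊓ M₂).relIndex M₁ = _
      exact inf_relIndex_left _ _
    rw [e] at this
    exact this
  have h6 : Nat.card (M₁ ⊓ M₂ : Subgroup G) ≤
      Nat.card ((R : Subgroup G) ⊓ center G : Subgroup G) := Subgroup.card_le_of_le hle
  have h7 : Nat.card M₁ ≤ Nat.card ((R : Subgroup G) ⊓ center G : Subgroup G) * r := by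
    rw [← h5]
    exact Nat.mul_le_mul h6 h1
  have h8 : Nat.card (R : Subgroup G) ≤
      r * (Nat.card ((R : Subgroup G) ⊓ center G : Subgroup G) * r) :=
    hxc.trans (Nat.mul_le_mul_left _ h7)
  have h9 : r * (Nat.card ((R : Subgroup G) ⊓ center G : Subgroup G) * r) =
      r ^ 2 * Nat.card ((R : Subgroup G) ⊓ center G : Subgroup G) := by ring
  omega

end Cfsg.Agent.Helper24.NIto
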