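import Mathlib
import Cfsg.Agent.Helper24.NItoE
import Cfsg.Agent.Helper1.ClsGraph7

/-!
Normal subgroups with two `G`-class sizes, part F: general tools (`p`-group lemmas, Sylow
subgroups meeting a normal subgroup, the fixed-point divisibility and its arithmetic).
-/

set_option autoImplicit false

namespace Cfsg.Agent.Helper24.NIto

open Subgroup Cfsg.Agent.Helper1.Ito
open scoped commutatorElement Pointwise

variable {G : Type*} [Group G] [Finite G] {N : Subgroup G} {m : ℕ}

/-- the complement of a subgroup in a subgroup -/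
theorem card_diff (X K : Subgroup G) :
    Nat.card {v : G | v ∈ X ∧ v ∉ K} + Nat.card (X ⊓ K : Subgroup G) = Nat.card X := by
  classical
  have e : X ≃ {v : G | v ∈ X ∧ v ∉ K} ⊕ (X ⊓ K : Subgroup G) :=
    { toFun := fun v => if h : (v : G) ∈ K then Sum.inr ⟨v, ⟨v.2, h⟩⟩ else Sum.inl ⟨v, ⟨v.2, h⟩⟩
      invFun := fun w => Sum.elim (fun a => ⟨a.1, a.2.1⟩) (fun b => ⟨b.1, b.2.1⟩) w
      left_inv := fun v => by
        by_cases h : (v : G) ∈ K <;> simp [h]
      right_inv := fun w => by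
        rcases w with a | b
        · have : (a : G) ∉ K := a.2.2
          simp [this]
        · have : (b : G) ∈ K := b.2.2
          simp [this] }
  rw [Nat.card_congr e, Nat.card_sum]

/-- a subgroup of a `p`-group of index at most `p` is normalized by it -/
theorem normal_of_card_le {p : ℕ} [hp : Fact p.Prime] (P H : Subgroup G) (hP : IsPGroup p P)
    (hHP : H ≤ P) (hcard : Nat.card P ≤ p * Nat.card H) :
    ∀ g ∈ P, ∀ x ∈ H, g * x * g⁻¹ ∈ H := by
  by_cases hHeq : H = P
  · intro g hg x hx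
    rw [hHeq] at hx ⊢
    exact mul_mem (mul_mem hg hx) (inv_mem hg)
  have hlt : Nat.card H < Nat.card P := by
    by_contra hge
    push Not at hge
    exact hHeq (Subgroup.eq_of_le_of_card_ge hHP hge)
  obtain ⟨i, hi⟩ := IsPGroup.iff_card.mp hP
  obtain ⟨j, hj⟩ := IsPGroup.iff_card.mp (hP.to_le hHP)
  have hji : j < i := by
    rw [hi, hj] at hlt
    exact (Nat.pow_lt_pow_iff_right hp.out.one_lt).mp hlt
  have hij : i ≤ j + 1 := by
    rw [hi, hj, ← pow_succ'] at hcard
    exact (Nat.pow_le_pow_iff_right hp.out.one_lt).mp hcard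
  have hi' : i = j + 1 := by omega
  have hidx : (H.subgroupOf P).index = p := by
    have h1 := (H.subgroupOf P).card_mul_index
    rw [Nat.card_congr (subgroupOfEquivOfLe hHP).toEquiv, hi, hj, hi', pow_succ] at h1
    exact Nat.eq_of_mul_eq_mul_left (pow_pos hp.out.pos j) h1
  have hn : (H.subgroupOf P).Normal := by
    apply normal_of_index_eq_minFac_card
    rw [hidx, hi, Nat.pow_minFac (by omega), hp.out.minFac_eq]
  intro g hg x hx
  have := hn.conj_mem ⟨x, hHP hx⟩ (mem_subgroupOf.mpr hx) ⟨g, hg⟩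
  exact mem_subgroupOf.mp this

/-- in a `p`-group, a subgroup properly containing a subgroup of index at most `p` is everything -/
theorem eq_of_lt_pgroup {p : ℕ} [hp : Fact p.Prime] {P M K : Subgroup G} (hP : IsPGroup p P)
    (hMK : M ≤ K) (hKP : K ≤ P) (hM : Nat.card P ≤ p * Nat.card M)
    {a : G} (haK : a ∈ K) (haM : a ∉ M) : K = P := by
  apply Subgroup.eq_of_le_of_card_ge hKP
  have hKp : IsPGroup p K := hP.to_le hKP
  have hMp : IsPGroup p M := hKp.to_le hMK
  obtain ⟨i, hi⟩ := IsPGroup.iff_card.mp hMp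
  obtain ⟨j, hj⟩ := IsPGroup.iff_card.mp hKp
  have hlt : Nat.card M < Nat.card K := by
    by_contra hge
    push Not at hge
    have := Subgroup.eq_of_le_of_card_ge hMK hge
    exact haM (this ▸ haK)
  rw [hi, hj] at hlt
  have hij : i < j := (Nat.pow_lt_pow_iff_right hp.out.one_lt).mp hlt
  calc Nat.card P ≤ p * Nat.card M := hM
    _ = p ^ (i + 1) := by rw [hi, pow_succ']
    _ ≤ p ^ j := Nat.pow_le_pow_right hp.out.pos hij
    _ = Nat.card K := hj.symm

/-- the normalizer condition in a `p`-group, elementwise -/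
theorem exists_normalizing {p : ℕ} [hp : Fact p.Prime] (P T : Subgroup G) (hP : IsPGroup p P)
    (hTP : T ≤ P) (hne : T ≠ P) :
    ∃ g ∈ P, g ∉ T ∧ ∀ t, t ∈ T ↔ g * t * g⁻¹ ∈ T := by
  haveI : Group.IsNilpotent P := hP.isNilpotent
  have hnc : NormalizerCondition P := Group.normalizerCondition_of_isNilpotent
  have hlt : T.subgroupOf P < ⊤ := by
    rw [lt_top_iff_ne_top]
    intro htop
    apply hne
    apply le_antisymm hTP
    intro x hx
    have : (⟨x, hx⟩ : P) ∈ T.subgroupOf P := htop ▸ mem_top _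
    exact mem_subgroupOf.mp this
  obtain ⟨g, hgn, hgT⟩ := SetLike.exists_of_lt (hnc _ hlt)
  refine ⟨g, g.2, fun h => hgT (mem_subgroupOf.mpr h), fun t => ?_⟩
  rw [mem_normalizer_iff] at hgn
  constructor
  · intro ht
    have := (hgn ⟨t, hTP ht⟩).mp (mem_subgroupOf.mpr ht)
    exact mem_subgroupOf.mp this
  · intro ht
    have htP : t ∈ P := by
      have h1 : g⁻¹.1 * (g.1 * t * g.1⁻¹) * (g⁻¹.1)⁻¹ ∈ P :=
        mul_mem (mul_mem g⁻¹.2 (hTP ht)) (inv_mem g⁻¹.2)
      simpa [mul_assoc] using h1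
    have := (hgn ⟨t, htP⟩).mpr (mem_subgroupOf.mpr ht)
    exact mem_subgroupOf.mp this

section sylow

variable {q : ℕ} [hq : Fact q.Prime]

/-- the index of `Q ⊓ N` in `N` is prime to `q`, for a Sylow `q`-subgroup `Q` and normal `N` -/
theorem not_dvd_relIndex_sylow (hN : N.Normal) (Q : Sylow q G) :
    ¬ q ∣ (Q : Subgroup G).relIndex N := by
  intro hd
  haveI := hN
  have h1 : (Q : Subgroup G).relIndex ((Q : Subgroup G) ⊔ N) = (Q : Subgroup G).relIndex N :=
    Cfsg.Agent.Helper1.ClsGraph.relIndex_sup_normal (Q : Subgroup G) N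
  have h2 : (Q : Subgroup G).relIndex ((Q : Subgroup G) ⊔ N) ∣ (Q : Subgroup G).index :=
    relIndex_dvd_index_of_le le_sup_left
  rw [h1] at h2
  exact Q.not_dvd_index (hd.trans h2)

/-- a `q`-subgroup of `N` has order dividing that of `Q ⊓ N` -/
theorem card_dvd_sylow_inf (hN : N.Normal) (Q : Sylow q G) {K : Subgroup G} (hK : IsPGroup q K)
    (hKN : K ≤ N) : Nat.card K ∣ Nat.card ((Q : Subgroup G) ⊓ N : Subgroup G) := by
  have h1 : Nat.card ((Q : Subgroup G) ⊓ N : Subgroup G) * (Q : Subgroup G).relIndex N =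
      Nat.card N := by
    have := (((Q : Subgroup G) ⊓ N).subgroupOf N).card_mul_index
    rw [Nat.card_congr (subgroupOfEquivOfLe (inf_le_right : (Q : Subgroup G) ⊓ N ≤ N)).toEquiv]
      at this
    have e : (((Q : Subgroup G) ⊓ N).subgroupOf N).index = (Q : Subgroup G).relIndex N := by
      show ((Q : Subgroup G) ⊓ N).relIndex N = _
      exact inf_relIndex_right _ _
    rwa [e] at this
  have h2 : Nat.card K ∣ Nat.card N := Subgroup.card_dvd_of_le hKN
  obtain ⟨k, hk⟩ := IsPGroup.iff_card.mp hK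
  rw [← h1, hk] at h2
  rw [hk]
  apply Nat.Coprime.dvd_of_dvd_mul_right _ h2
  apply Nat.Coprime.pow_left
  exact (Nat.Prime.coprime_iff_not_dvd hq.out).mpr (not_dvd_relIndex_sylow hN Q)

end sylow

/-- the fixed-point divisibility: a `q`-group normalizing `C(y)` and not inside it -/
theorem fp_dvd (h : Hyp N m) {q : ℕ} [hq : Fact q.Prime] {y : G} (hy : Good N y)
    (P : Subgroup G) (hP : IsPGroup q P) (hnrm : ∀ a ∈ P, Nrm a y)
    (hnot : ¬ P ≤ centralizer ({y} : Set G)) (t : ℕ) :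
    q ∣ Nat.card (hy.part h t) - Nat.card (hy.part h t ⊓ center G : Subgroup G) := by
  obtain ⟨a₀, ha₀P, ha₀C⟩ := SetLike.not_le_iff_exists.mp hnot
  have h1 := dvd_card_of_no_fixed P hP {v : G | v ∈ hy.part h t ∧ v ∉ center G}
    (fun g hg v hv => ⟨hy.conj_mem_part h (hnrm g hg) hv.1, (conj_mem_center_iff' g).not.mpr hv.2⟩)
    (fun v hv => ⟨a₀, ha₀P, fun hfix => ha₀C (by
      rw [← hy.cent_eq_of_mem_part h hv.1 hv.2, mem_cent]
      calc a₀ * v = a₀ * v * a₀⁻¹ * a₀ := by group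
        _ = v * a₀ := by rw [hfix])⟩)
  have h2 := card_diff (hy.part h t) (center G)
  have h3 : Nat.card {v : G | v ∈ hy.part h t ∧ v ∉ center G} =
      Nat.card (hy.part h t) - Nat.card (hy.part h t ⊓ center G : Subgroup G) := by omega
  rwa [h3] at h1

/-- arithmetic of the fixed-point divisibility -/
theorem arith_aux {p t : ℕ} (hp : p.Prime) (ht : t.Prime) (hpt : p ≠ t) {A B : ℕ}
    (hA : ∃ i, A = t ^ i) (hB : ∃ j, B = t ^ j) (hlt : B < A) (hle : A ≤ t * B)
    (hdvd : p ∣ A - B) : p ∣ t - 1 := by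
  obtain ⟨i, rfl⟩ := hA
  obtain ⟨j, rfl⟩ := hB
  have hji : j < i := (Nat.pow_lt_pow_iff_right ht.one_lt).mp hlt
  have hij : i ≤ j + 1 := by
    rw [← pow_succ'] at hle
    exact (Nat.pow_le_pow_iff_right ht.one_lt).mp hle
  have hi : i = j + 1 := by omega
  subst hi
  have e : t ^ (j + 1) - t ^ j = t ^ j * (t - 1) := by
    rw [pow_succ, Nat.mul_sub, mul_one]
  rw [e] at hdvd
  have hcop : Nat.Coprime p (t ^ j) :=
    Nat.Coprime.pow_right j ((Nat.coprime_primes hp ht).mpr hpt)
  exact hcop.dvd_of_dvd_mul_left hdvd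

end Cfsg.Agent.Helper24.NIto
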