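import Mathlib
import Cfsg.Agent.Helper24.NItoF

/-!
Normal subgroups with two `G`-class sizes, part G: Sylow subgroups for a second prime, and the
fixed-point contradiction.
-/

set_option autoImplicit false

namespace Cfsg.Agent.Helper24.NIto

open Subgroup Cfsg.Agent.Helper1.Ito
open scoped commutatorElement Pointwise

variable {G : Type*} [Group G] [Finite G] {N : Subgroup G} {m : ℕ}

omit [Finite G] in
theorem isPGroup_zpowers {q : ℕ} {g : G} (hg : IsQ q g) : IsPGroup q (zpowers g) := by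
  obtain ⟨k, hk⟩ := hg
  rintro ⟨_, ⟨j, rfl⟩⟩
  refine ⟨k, ?_⟩
  apply Subtype.ext
  show (g ^ j) ^ (q ^ k) = 1
  rw [← zpow_natCast, ← zpow_mul, mul_comm, zpow_mul, zpow_natCast, hk, one_zpow]

omit [Finite G] in
theorem isQ_of_mem_pgroup {q : ℕ} {P : Subgroup G} (hP : IsPGroup q P) {g : G} (hg : g ∈ P) :
    IsQ q g := by
  obtain ⟨k, hk⟩ := hP ⟨g, hg⟩
  exact ⟨k, congrArg Subtype.val hk⟩

/-- comparing indices: `|A : A ⊓ T| ≤ |B : T|` for `A, T ≤ B` -/
theorem card_inf_le_mul {A B T : Subgroup G} (hAB : A ≤ B) (hTB : T ≤ B) {k : ℕ}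
    (hB : Nat.card B ≤ k * Nat.card T) : Nat.card A ≤ k * Nat.card (A ⊓ T : Subgroup G) := by
  have h1 : T.relIndex B ≤ k := by
    have h3 : Nat.card T * T.relIndex B = Nat.card B := by
      have := (T.subgroupOf B).card_mul_index
      rwa [Nat.card_congr (subgroupOfEquivOfLe hTB).toEquiv] at this
    have h4 : Nat.card T * T.relIndex B ≤ Nat.card T * k := by
      rw [h3, mul_comm]; exact hB
    exact Nat.le_of_mul_le_mul_left h4 Nat.card_pos
  have h2 : T.relIndex A ≤ T.relIndex B :=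
    relIndex_le_of_le_right hAB (by rw [relIndex]; exact index_ne_zero_of_finite)
  have h5 : Nat.card (A ⊓ T : Subgroup G) * T.relIndex A = Nat.card A := by
    have := ((A ⊓ T).subgroupOf A).card_mul_index
    rw [Nat.card_congr (subgroupOfEquivOfLe (inf_le_left : A ⊓ T ≤ A)).toEquiv] at this
    have e : ((A ⊓ T).subgroupOf A).index = T.relIndex A := by
      show (A ⊓ T).relIndex A = _
      exact inf_relIndex_left _ _
    rwa [e] at this
  calc Nat.card A = Nat.card (A ⊓ T : Subgroup G) * T.relIndex A := h5.symm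
    _ ≤ Nat.card (A ⊓ T : Subgroup G) * k := Nat.mul_le_mul_left _ (h2.trans h1)
    _ = k * Nat.card (A ⊓ T : Subgroup G) := mul_comm _ _

section sylow

variable {q : ℕ} [hq : Fact q.Prime]

/-- conjugating a `q`-element into a Sylow `q`-subgroup -/
theorem exists_conj_mem (Q : Sylow q G) {y : G} (hy : IsQ q y) :
    ∃ g : G, g * y * g⁻¹ ∈ (Q : Subgroup G) := by
  obtain ⟨g, hg⟩ := exists_conj_le Q (isPGroup_zpowers hy)
  exact ⟨g, hg y (mem_zpowers y)⟩

/-- a Sylow `q`-subgroup of the centralizer containing a given `q`-subgroup -/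
theorem Hyp.exists_sylow_cent' (h : Hyp N m) {x : G} (hx : x ∈ N) (hxz : x ∉ center G)
    {K : Subgroup G} (hK : IsPGroup q K) (hKC : K ≤ centralizer ({x} : Set G)) :
    ∃ T : Subgroup G, K ≤ T ∧ T ≤ centralizer ({x} : Set G) ∧ IsPGroup q T ∧
      Nat.card T = cr G m q := by
  have hK' : IsPGroup q (K.subgroupOf (centralizer ({x} : Set G))) :=
    hK.comap_of_injective _ (Subgroup.subtype_injective _)
  obtain ⟨T, hT⟩ := hK'.exists_le_sylow
  refine ⟨(T : Subgroup (centralizer ({x} : Set G))).map (centralizer ({x} : Set G)).subtype,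
    ?_, ?_, T.isPGroup'.map _, ?_⟩
  · intro k hk
    exact ⟨⟨k, hKC hk⟩, hT (mem_subgroupOf.mpr hk), rfl⟩
  · rintro _ ⟨t, -, rfl⟩
    exact t.2
  · rw [Subgroup.card_map_of_injective (Subgroup.subtype_injective _), T.card_eq_multiplicity,
      h.card_cent hx hxz, cr]

/-- A1: the Sylow `q`-subgroups of `G` have order at most `q` times the `q`-part of the order of
the centralizers, if `N` has a noncentral `q`-element and these are good -/
theorem Hyp.card_sylow_le (h : Hyp N m)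
    (hgood : ∀ w ∈ N, w ∉ center G → IsQ q w → Good N w)
    {y : G} (hyN : y ∈ N) (hyz : y ∉ center G) (hyq : IsQ q y) (Q : Sylow q G) :
    Nat.card (Q : Subgroup G) ≤ q * cr G m q := by
  obtain ⟨g, hg⟩ := exists_conj_mem Q hyq
  have hgN : g * y * g⁻¹ ∈ N := h.normal.conj_mem y hyN g
  have hgz : g * y * g⁻¹ ∉ center G := (conj_mem_center_iff' g).not.mpr hyz
  obtain ⟨w, hwM, hwK, hwq, hwc⟩ := NIto.exists_second_center (p := q) (Q : Subgroup G)
    ((Q : Subgroup G) ⊓ N) ((Q : Subgroup G) ⊓ N ⊓ center G) Q.isPGroup' inf_le_left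
    (fun a ha x hx => ⟨(Q : Subgroup G).mul_mem ((Q : Subgroup G).mul_mem ha hx.1)
      ((Q : Subgroup G).inv_mem ha), h.normal.conj_mem x hx.2 a⟩)
    (fun a ha x hx => ⟨⟨(Q : Subgroup G).mul_mem ((Q : Subgroup G).mul_mem ha hx.1.1)
      ((Q : Subgroup G).inv_mem ha), h.normal.conj_mem x hx.1.2 a⟩,
      (conj_mem_center_iff' a).mpr hx.2⟩)
    (fun hle => hgz (hle ⟨hg, hgN⟩).2)
  have hwz : w ∉ center G := fun hz => hwK ⟨hwM, hz⟩
  have hwG : Good N w := hgood w hwM.2 hwz (isQ_of_mem_pgroup Q.isPGroup' hwM.1)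
  have h1 := hwG.card_le_of_second_center h (Q : Subgroup G) Q.isPGroup' hwq.2
    (fun a ha => (hwc a ha).2)
  have h2 := h.card_le_cr hwG.1 hwG.2.1
    (Q.isPGroup'.to_le (inf_le_left : (Q : Subgroup G) ⊓ centralizer ({w} : Set G) ≤ Q))
    inf_le_right
  exact h1.trans (Nat.mul_le_mul_left _ h2)

/-- Q1: if the `q`-elements of `C_N(g)` are central, some Sylow `q`-subgroup `Q` of `G` has
`|Q ⊓ N : Q ⊓ N ⊓ Z| ≤ q` -/
theorem Hyp.exists_sylow_of_central (h : Hyp N m)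
    (hgood : ∀ w ∈ N, w ∉ center G → IsQ q w → Good N w)
    {y₁ : G} (hy₁N : y₁ ∈ N) (hy₁z : y₁ ∉ center G) (hy₁q : IsQ q y₁)
    {g : G} (hgN : g ∈ N) (hgz : g ∉ center G)
    (hcen : ∀ v ∈ N, v ∈ centralizer ({g} : Set G) → IsQ q v → v ∈ center G) :
    ∃ Q : Sylow q G,
      Nat.card ((Q : Subgroup G) ⊓ N : Subgroup G) ≤
        q * Nat.card ((Q : Subgroup G) ⊓ N ⊓ center G : Subgroup G) ∧
      ∀ x ∈ N, x ∉ center G → (Q : Subgroup G) ≤ centralizer ({x} : Set G) →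
        (Q : Subgroup G) ⊓ N ≤ center G := by
  obtain ⟨T, hTC, hTp, hTcard⟩ := h.exists_sylow_cent (r := q) hgN hgz
  obtain ⟨Q, hTQ⟩ := hTp.exists_le_sylow
  have hA1 := h.card_sylow_le hgood hy₁N hy₁z hy₁q Q
  rw [← hTcard] at hA1
  refine ⟨Q, ?_, ?_⟩
  · have h1 := card_inf_le_mul (inf_le_left : (Q : Subgroup G) ⊓ N ≤ Q) hTQ hA1
    refine h1.trans (Nat.mul_le_mul_left _ (Subgroup.card_le_of_le ?_))
    intro v hv
    exact ⟨hv.1, hcen v hv.1.2 (hTC hv.2) (isQ_of_mem_pgroup Q.isPGroup' hv.1.1)⟩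
  · intro x hxN hxz hQx
    have h1 := h.card_le_cr hxN hxz Q.isPGroup' hQx
    rw [← hTcard] at h1
    have hTQeq : T = Q := Subgroup.eq_of_le_of_card_ge hTQ h1
    intro v hv
    exact hcen v hv.2 (hTC (hTQeq ▸ hv.1)) (isQ_of_mem_pgroup Q.isPGroup' hv.1)

end sylow

variable {r : ℕ} [hr : Fact r.Prime] {R : Sylow r G}

/-- the fixed-point contradiction -/
theorem Ctx.fp_contra (c : Ctx N m r R) {q : ℕ} [hq : Fact q.Prime] (hqr : q ≠ r) (Q : Sylow q G)
    (hcard : Nat.card ((Q : Subgroup G) ⊓ N : Subgroup G) ≤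
      q * Nat.card ((Q : Subgroup G) ⊓ N ⊓ center G : Subgroup G))
    {y : G} (hy : Good N y) (hyQ : y ∈ (Q : Subgroup G))
    (hQy : ¬ (Q : Subgroup G) ≤ centralizer ({y} : Set G))
    (P : Subgroup G) (hP : IsPGroup r P) (hPn : ∀ a ∈ P, Nrm a y)
    (hPy : ¬ P ≤ centralizer ({y} : Set G))
    (hX : Nat.card (hy.part c.hyp r) ≤
      r * Nat.card (hy.part c.hyp r ⊓ center G : Subgroup G)) : False := by
  have hN := c.hyp.normal
  set Q₁ : Subgroup G := (Q : Subgroup G) ⊓ N with hQ₁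
  have hQ₁p : IsPGroup q Q₁ := Q.isPGroup'.to_le inf_le_left
  have hyQ₁ : y ∈ Q₁ := ⟨hyQ, hy.1⟩
  -- `Q₁` centralizes `y`
  have hQ₁C : Q₁ ≤ centralizer ({y} : Set G) := by
    have hK : Q₁ ⊓ centralizer ({y} : Set G) = Q₁ :=
      eq_of_lt_pgroup (M := Q₁ ⊓ center G) hQ₁p
        (inf_le_inf_left _ (center_le_cent y)) inf_le_left hcard
        (a := y) ⟨hyQ₁, self_mem_cent y⟩ (fun hm => hy.2.1 hm.2)
    rw [← hK]
    exact inf_le_right
  -- the `q`-part of the component of `y` is `Q₁`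
  have hQ₁S : Q₁ ≤ hy.part c.hyp q := by
    intro v hv
    rw [hy.mem_part c.hyp]
    exact ⟨hQ₁C hv, hv.2, isQ_of_mem_pgroup hQ₁p hv⟩
  have hSQ₁ : Q₁ = hy.part c.hyp q := by
    apply Subgroup.eq_of_le_of_card_ge hQ₁S
    exact Nat.le_of_dvd Nat.card_pos
      (card_dvd_sylow_inf hN Q (hy.isPGroup_part c.hyp q) (hy.part_le c.hyp q))
  -- `Q` normalizes `C(y)`
  have hQn : ∀ a ∈ (Q : Subgroup G), Nrm a y := by
    intro a ha
    apply hy.nrm_of_conj_mem c.hyp (c := y) ⟨self_mem_cent y, hy.1⟩ hy.2.1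
    have : a * y * a⁻¹ ∈ Q₁ := ⟨(Q : Subgroup G).mul_mem ((Q : Subgroup G).mul_mem ha hyQ)
      ((Q : Subgroup G).inv_mem ha), hN.conj_mem y hy.1 a⟩
    exact ⟨hQ₁C this, this.2⟩
  have h1 := fp_dvd c.hyp hy (Q : Subgroup G) Q.isPGroup' hQn hQy r
  have h2 := fp_dvd c.hyp hy P hP hPn hPy q
  -- arithmetic for `r`
  obtain ⟨v, hv, hvz⟩ := hy.exists_mem_part_r c.hyp R c.hRN c.hRZ
  have hXlt : Nat.card (hy.part c.hyp r ⊓ center G : Subgroup G) < Nat.card (hy.part c.hyp r) := by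
    by_contra hge
    push Not at hge
    have := Subgroup.eq_of_le_of_card_ge (inf_le_left : hy.part c.hyp r ⊓ center G ≤ _) hge
    exact hvz (this ▸ hv).2
  have h3 : q ∣ r - 1 := arith_aux hq.out hr.out hqr
    (IsPGroup.iff_card.mp (hy.isPGroup_part c.hyp r))
    (IsPGroup.iff_card.mp ((hy.isPGroup_part c.hyp r).to_le inf_le_left)) hXlt hX h1
  rw [← hSQ₁] at h2
  have hSlt : Nat.card (Q₁ ⊓ center G : Subgroup G) < Nat.card Q₁ := by
    by_contra hge
    push Not at hge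
    have := Subgroup.eq_of_le_of_card_ge (inf_le_left : Q₁ ⊓ center G ≤ _) hge
    exact hy.2.1 (this ▸ hyQ₁).2
  have h4 : r ∣ q - 1 := arith_aux hr.out hq.out hqr.symm
    (IsPGroup.iff_card.mp hQ₁p)
    (IsPGroup.iff_card.mp (hQ₁p.to_le inf_le_left)) hSlt hcard h2
  have hr2 := hr.out.two_le
  have hq2 := hq.out.two_le
  have h5 := Nat.le_of_dvd (by omega) h3
  have h6 := Nat.le_of_dvd (by omega) h4
  omega

end Cfsg.Agent.Helper24.NIto
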