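import Mathlib
import Cfsg.Agent.Helper24.NItoG

/-!
Normal subgroups with two `G`-class sizes, part H: the case where all noncentral elements of `N`
are good.
-/

set_option autoImplicit false

namespace Cfsg.Agent.Helper24.NIto

open Subgroup Cfsg.Agent.Helper1.Ito
open scoped commutatorElement Pointwise

variable {G : Type*} [Group G] [Finite G] {N : Subgroup G} {m : ℕ} {r : ℕ} [hr : Fact r.Prime]
  {R : Sylow r G}

omit [Finite G] in
theorem mem_smul_sylow {g x : G} {R : Sylow r G} :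
    x ∈ ((g • R : Sylow r G) : Subgroup G) ↔ g⁻¹ * x * g ∈ (R : Subgroup G) := by
  rw [Sylow.coe_subgroup_smul, Subgroup.mem_pointwise_smul_iff_inv_smul_mem]
  simp [MulAut.smul_def, mul_assoc]

/-- `N` is transitive on the Sylow `r`-subgroups of `G` -/
theorem exists_mem_smul_eq (hN : N.Normal) (R : Sylow r G) (hRN : (R : Subgroup G) ≤ N) (g : G) :
    ∃ n ∈ N, n • R = g • R := by
  have hgR : ((g • R : Sylow r G) : Subgroup G) ≤ N := by
    intro x hx
    rw [mem_smul_sylow] at hx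
    have := hN.conj_mem _ (hRN hx) g
    simpa [mul_assoc] using this
  obtain ⟨n, hn⟩ := MulAction.exists_smul_eq N (R.subtype hRN) ((g • R).subtype hgR)
  refine ⟨n, n.2, ?_⟩
  rw [Sylow.smul_subtype hRN n] at hn
  exact Sylow.subtype_injective hn

theorem card_smul_sylow (g : G) (R : Sylow r G) :
    Nat.card ((g • R : Sylow r G) : Subgroup G) = Nat.card (R : Subgroup G) := by
  rw [Sylow.card_eq_multiplicity, Sylow.card_eq_multiplicity]

/-- a Sylow `r`-subgroup normalizing the centralizer of a good element, if `|R| = r · cr` -/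
theorem Ctx.exists_sylow_nrm (c : Ctx N m r R)
    (hRcard : Nat.card (R : Subgroup G) = r * cr G m r) {y : G} (hy : Good N y) :
    ∃ R' : Sylow r G, (R' : Subgroup G) ≤ N ∧ (∀ a ∈ (R' : Subgroup G), Nrm a y) ∧
      ¬ (R' : Subgroup G) ≤ centralizer ({y} : Set G) := by
  obtain ⟨t, ht⟩ := exists_conj_le R (hy.isPGroup_part c.hyp r)
  have c' := c.smul t⁻¹
  refine ⟨t⁻¹ • R, c'.hRN, ?_, ?_⟩
  · have hXR : hy.part c.hyp r ≤ ((t⁻¹ • R : Sylow r G) : Subgroup G) := by
      intro x hx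
      rw [mem_smul_sylow]
      simpa using ht x hx
    have hnorm := normal_of_card_le ((t⁻¹ • R : Sylow r G) : Subgroup G) (hy.part c.hyp r)
      (t⁻¹ • R).isPGroup' hXR (by rw [card_smul_sylow, hRcard, c.card_part_r hy])
    obtain ⟨v, hv, hvz⟩ := hy.exists_mem_part_r c.hyp R c.hRN c.hRZ
    intro a ha
    have h1 := hnorm a ha v hv
    exact hy.nrm_of_conj_mem c.hyp (c := v) ⟨hy.part_le_cent c.hyp r hv, hy.part_le c.hyp r hv⟩ hvz
      ⟨hy.part_le_cent c.hyp r h1, hy.part_le c.hyp r h1⟩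
  · intro hle
    apply hy.2.1
    apply c'.center_of_comm hy.1
    intro g hg
    exact mem_cent.mp (hle hg)

/-- the case `|R : Z(R)| > r²`: impossible -/
theorem Ctx.world2a (c : Ctx N m r R) (hall : ∀ g ∈ N, g ∉ center G → Good N g)
    (hbig : r ^ 2 * Nat.card ((R : Subgroup G) ⊓ center G : Subgroup G) <
      Nat.card (R : Subgroup G)) : False := by
  obtain ⟨u, huR, huz, hur, huc⟩ := c.exists_sc
  have hu : Good N u := hall u (c.hRN huR) huz
  obtain ⟨hRcard, hA₀card⟩ := c.card_of_good_sc hu hur huc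
  -- `R ⊓ C(u)` is not central
  obtain ⟨c₀, hc₀, hc₀z⟩ : ∃ c₀ ∈ (R : Subgroup G) ⊓ centralizer ({u} : Set G), c₀ ∉ center G := by
    by_contra hcon
    push Not at hcon
    have h1 : (R : Subgroup G) ⊓ centralizer ({u} : Set G) ≤ (R : Subgroup G) ⊓ center G :=
      fun x hx => ⟨hx.1, hcon x hx⟩
    have h2 := Subgroup.card_le_of_le h1
    rw [hA₀card] at h2
    have h3 : r * cr G m r ≤ r * Nat.card ((R : Subgroup G) ⊓ center G : Subgroup G) :=
      Nat.mul_le_mul_left _ h2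
    have h4 : r * Nat.card ((R : Subgroup G) ⊓ center G : Subgroup G) ≤
        r ^ 2 * Nat.card ((R : Subgroup G) ⊓ center G : Subgroup G) := by
      apply Nat.mul_le_mul_right
      have := hr.out.pos
      nlinarith
    omega
  have hc₀N : c₀ ∈ N := c.hRN hc₀.1
  have e₀ : centralizer ({c₀} : Set G) = centralizer ({u} : Set G) :=
    hu.cent_eq c.hyp hc₀.2 hc₀N hc₀z
  -- the key: large `R ⊓ C(g')` forces `C(g') = C(u)`
  have key : ∀ g' : G, Good N g' → Nat.card (R : Subgroup G) ≤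
      r * Nat.card ((R : Subgroup G) ⊓ centralizer ({g'} : Set G) : Subgroup G) →
      centralizer ({g'} : Set G) = centralizer ({u} : Set G) := by
    intro g' hg' hcard
    have hle := c.inf_cent_unique hbig hu hg' (by rw [hRcard, hA₀card]) hcard
    have h1 : c₀ ∈ centralizer ({g'} : Set G) := (hle hc₀).2
    rw [← e₀]
    exact (hg'.cent_eq c.hyp h1 hc₀N hc₀z).symm
  -- every noncentral element of `N` is conjugate into the component of `u`
  have claim1 : ∀ g ∈ N, g ∉ center G → ∃ t : G, t * g * t⁻¹ ∈ comp N u := by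
    intro g hgN hgz
    have hg := hall g hgN hgz
    obtain ⟨t, ht⟩ := exists_conj_le R (hg.isPGroup_part c.hyp r)
    refine ⟨t, ?_, c.hyp.normal.conj_mem g hgN t⟩
    have hg' : Good N (t * g * t⁻¹) := hg.conj c.hyp.normal t
    have hmap : (hg.part c.hyp r).map (MulAut.conj t).toMonoidHom ≤
        (R : Subgroup G) ⊓ centralizer ({t * g * t⁻¹} : Set G) := by
      rintro _ ⟨x, hx, rfl⟩
      exact ⟨ht x hx, (conj_mem_cent_conj t x g).mp (hg.part_le_cent c.hyp r hx)⟩
    have h1 := Subgroup.card_le_of_le hmap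
    rw [Subgroup.card_map_of_injective (MulAut.conj t).injective, c.card_part_r hg] at h1
    have h2 := key _ hg' (by rw [hRcard]; exact Nat.mul_le_mul_left _ h1)
    rw [← h2]
    exact self_mem_cent _
  -- the normalizer of `R` normalizes `C(u)`
  have claim2 : ∀ k : G, k • R = R → Nrm k u := by
    intro k hk
    have hu' : Good N (k * u * k⁻¹) := hu.conj c.hyp.normal k
    have hkR : ∀ x ∈ (R : Subgroup G), k * x * k⁻¹ ∈ (R : Subgroup G) := by
      intro x hx
      have : k * x * k⁻¹ ∈ ((k • R : Sylow r G) : Subgroup G) := by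
        rw [mem_smul_sylow]
        simpa [mul_assoc] using hx
      rwa [hk] at this
    have hmap : ((R : Subgroup G) ⊓ centralizer ({u} : Set G)).map (MulAut.conj k).toMonoidHom ≤
        (R : Subgroup G) ⊓ centralizer ({k * u * k⁻¹} : Set G) := by
      rintro _ ⟨x, hx, rfl⟩
      exact ⟨hkR x hx.1, (conj_mem_cent_conj k x u).mp hx.2⟩
    have h1 := Subgroup.card_le_of_le hmap
    rw [Subgroup.card_map_of_injective (MulAut.conj k).injective, hA₀card] at h1
    have h2 := key _ hu' (by rw [hRcard]; exact Nat.mul_le_mul_left _ h1)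
    intro d
    have := conj_mem_cent_conj k d u
    rwa [h2] at this
  -- `N` is covered by `N`-conjugates of the component
  have claim3 : ∀ g ∈ N, ∃ n ∈ N, n * g * n⁻¹ ∈ comp N u := by
    intro g hgN
    by_cases hgz : g ∈ center G
    · refine ⟨1, one_mem _, ?_⟩
      have : g ∈ comp N u := ⟨center_le_cent u hgz, hgN⟩
      simpa using this
    obtain ⟨t, ht⟩ := claim1 g hgN hgz
    obtain ⟨n', hn'N, hn'⟩ := exists_mem_smul_eq c.hyp.normal R c.hRN t⁻¹
    have hk : (t * n') • R = R := by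
      rw [mul_smul, hn', smul_inv_smul]
    have hnrm := (claim2 _ hk).inv
    refine ⟨n'⁻¹, inv_mem hn'N, ?_, c.hyp.normal.conj_mem g hgN _⟩
    have := (hnrm (t * g * t⁻¹)).mp ht.1
    have e : (t * n')⁻¹ * (t * g * t⁻¹) * (t * n')⁻¹⁻¹ = n'⁻¹ * g * n'⁻¹⁻¹ := by group
    rwa [e] at this
  have hNle : N ≤ comp N u := Cfsg.Agent.Helper1.ClsGraph.le_of_forall_conj_mem claim3
  apply huz
  apply c.center_of_comm (c.hRN huR)
  intro g hg
  exact mem_cent.mp (hNle (c.hRN hg)).1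

/-- the case `|R : Z(R)| ≤ r²`: `N` normalizes all centralizers -/
theorem Ctx.world2b (c : Ctx N m r R) (hall : ∀ g ∈ N, g ∉ center G → Good N g)
    (hsmall : Nat.card (R : Subgroup G) ≤
      r ^ 2 * Nat.card ((R : Subgroup G) ⊓ center G : Subgroup G)) :
    ∀ g ∈ N, g ∉ center G → ∀ n ∈ N, Nrm n g := by
  obtain ⟨u, huR, huz, hur, huc⟩ := c.exists_sc
  have hu : Good N u := hall u (c.hRN huR) huz
  obtain ⟨hRcard, -⟩ := c.card_of_good_sc hu hur huc
  have hcr : cr G m r ≤ r * Nat.card ((R : Subgroup G) ⊓ center G : Subgroup G) := by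
    rw [hRcard, pow_two, mul_assoc] at hsmall
    exact Nat.le_of_mul_le_mul_left hsmall hr.out.pos
  intro g hgN hgz
  have hg := hall g hgN hgz
  set L : Subgroup G := N ⊓ normalizer (centralizer ({g} : Set G) : Set G) with hL
  have hcenL : N ⊓ center G ≤ L := by
    intro z hz
    exact ⟨hz.1, le_normalizer (center_le_cent g hz.2)⟩
  suffices hNL : N ≤ L by
    intro n hn
    exact mem_normalizer_iff.mp (hNL hn).2
  rw [← relIndex_eq_one]
  by_contra hne
  obtain ⟨q, hqp, hqd⟩ := Nat.exists_prime_and_dvd hne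
  haveI : Fact q.Prime := ⟨hqp⟩
  -- it suffices to find a Sylow `q`-subgroup `Q` with `Q ⊓ N ≤ L`
  suffices hex : ∃ Q : Sylow q G, (Q : Subgroup G) ⊓ N ≤ L by
    obtain ⟨Q, hQ⟩ := hex
    have h1 : L.relIndex N ∣ ((Q : Subgroup G) ⊓ N).relIndex N := relIndex_dvd_of_le_left N hQ
    rw [inf_relIndex_right] at h1
    exact not_dvd_relIndex_sylow c.hyp.normal Q (hqd.trans h1)
  by_cases hqr : q = r
  · subst hqr
    obtain ⟨R', hR'N, hR'n, -⟩ := c.exists_sylow_nrm hRcard hg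
    exact ⟨R', fun x hx => ⟨hx.2, mem_normalizer_iff.mpr (hR'n x hx.1)⟩⟩
  by_cases hex1 : ∃ y₁ ∈ N, y₁ ∉ center G ∧ IsQ q y₁
  swap
  · push Not at hex1
    obtain ⟨Q⟩ : Nonempty (Sylow q G) := inferInstance
    refine ⟨Q, fun x hx => hcenL ⟨hx.2, ?_⟩⟩
    by_contra hxz
    exact hex1 x hx.2 hxz (isQ_of_mem_pgroup Q.isPGroup' hx.1)
  obtain ⟨y₁, hy₁N, hy₁z, hy₁q⟩ := hex1
  have hgood : ∀ w ∈ N, w ∉ center G → IsQ q w → Good N w := fun w hw hwz _ => hall w hw hwz
  by_cases hex2 : ∃ y ∈ N, y ∈ centralizer ({g} : Set G) ∧ y ∉ center G ∧ IsQ q y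
  · obtain ⟨y, hyN, hyC, hyz, hyq⟩ := hex2
    obtain ⟨T, hKT, hTC, hTp, hTcard⟩ := c.hyp.exists_sylow_cent' hgN hgz (isPGroup_zpowers hyq)
      (by rw [zpowers_le]; exact hyC)
    obtain ⟨Q, hTQ⟩ := hTp.exists_le_sylow
    have hA1 := c.hyp.card_sylow_le hgood hy₁N hy₁z hy₁q Q
    rw [← hTcard] at hA1
    have hnorm := normal_of_card_le (Q : Subgroup G) T Q.isPGroup' hTQ hA1
    refine ⟨Q, fun x hx => ⟨hx.2, mem_normalizer_iff.mpr ?_⟩⟩
    have h1 := hnorm x hx.1 y (hKT (mem_zpowers y))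
    exact hg.nrm_of_conj_mem c.hyp (c := y) ⟨hyC, hyN⟩ hyz
      ⟨hTC h1, c.hyp.normal.conj_mem y hyN x⟩
  · push Not at hex2
    have hcen : ∀ v ∈ N, v ∈ centralizer ({g} : Set G) → IsQ q v → v ∈ center G := by
      intro v hvN hvC hvq
      by_contra hvz
      exact hex2 v hvN hvC hvz hvq
    obtain ⟨Q, hcard, hQx⟩ := c.hyp.exists_sylow_of_central hgood hy₁N hy₁z hy₁q hgN hgz hcen
    refine ⟨Q, ?_⟩
    by_cases hQZ : (Q : Subgroup G) ⊓ N ≤ center G
    · exact fun x hx => hcenL ⟨hx.2, hQZ hx⟩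
    exfalso
    obtain ⟨y, hyQN, hyz⟩ := SetLike.not_le_iff_exists.mp hQZ
    have hy : Good N y := hall y hyQN.2 hyz
    have hQy : ¬ (Q : Subgroup G) ≤ centralizer ({y} : Set G) :=
      fun hle => hQZ (hQx y hyQN.2 hyz hle)
    obtain ⟨R', hR'N, hR'n, hR'y⟩ := c.exists_sylow_nrm hRcard hy
    apply c.fp_contra hqr Q hcard hy hyQN.1 hQy (R' : Subgroup G) R'.isPGroup' hR'n hR'y
    rw [c.card_part_r hy]
    refine hcr.trans (Nat.mul_le_mul_left _ (Subgroup.card_le_of_le ?_))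
    intro v hv
    exact ⟨(hy.mem_part c.hyp).mpr ⟨center_le_cent y hv.2, c.hRN hv.1, c.isQ_of_mem hv.1⟩, hv.2⟩

end Cfsg.Agent.Helper24.NIto
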