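import Mathlib
import Cfsg.Agent.Helper24.NItoH

/-!
Normal subgroups with two `G`-class sizes, part I: the case where some noncentral element of `N`
is bad.
-/

set_option autoImplicit false

namespace Cfsg.Agent.Helper24.NIto

open Subgroup Cfsg.Agent.Helper1.Ito
open scoped commutatorElement Pointwise

variable {G : Type*} [Group G] [Finite G] {N : Subgroup G} {m : ℕ} {r : ℕ} [hr : Fact r.Prime]
  {R : Sylow r G}

/-- good and bad elements do not commute -/
theorem Good.not_comm (h : Hyp N m) {v t : G} (hv : Good N v) (htN : t ∈ N) (htz : t ∉ center G)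
    (hbad : ¬ Good N t) (hcomm : v * t = t * v) : False :=
  hbad (hv.of_mem h (mem_cent.mpr hcomm.symm) htN htz)

/-- the data of the second prime `s` in the bad case -/
structure SData (N : Subgroup G) (m r : ℕ) (s : ℕ) [Fact s.Prime] (y : G) : Prop where
  hsr : s ≠ r
  good : Good N y
  exQ : ∃ Q : Sylow s G, Nat.card ((Q : Subgroup G) ⊓ N : Subgroup G) ≤
      s * Nat.card ((Q : Subgroup G) ⊓ N ⊓ center G : Subgroup G) ∧ y ∈ (Q : Subgroup G) ∧
      ¬ (Q : Subgroup G) ≤ centralizer ({y} : Set G)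
  isQ : IsQ s y

/-- the contradiction from a good second-centre element of `R` -/
theorem Ctx.bad_of_good_sc (c : Ctx N m r R) {s : ℕ} [hs : Fact s.Prime] {y : G}
    (d : SData N m r s y) (hXR : d.good.part c.hyp r ≤ (R : Subgroup G))
    {t₁ : G} (ht₁N : t₁ ∈ N) (ht₁z : t₁ ∉ center G) (hbad : ¬ Good N t₁)
    {u : G} (hu : Good N u) (hur : u ^ r ∈ center G)
    (huc : ∀ g ∈ (R : Subgroup G), ⁅u, g⁆ ∈ center G) : False := by
  have hy := d.good
  obtain ⟨Q, hcard, hyQ, hQy⟩ := d.exQ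
  obtain ⟨hRcard, -⟩ := c.card_of_good_sc hu hur huc
  have hXcard := c.card_part_r hy
  have hnorm := normal_of_card_le (R : Subgroup G) (hy.part c.hyp r) R.isPGroup' hXR
    (by rw [hRcard, hXcard])
  obtain ⟨v, hv, hvz⟩ := hy.exists_mem_part_r c.hyp R c.hRN c.hRZ
  have hPn : ∀ a ∈ (R : Subgroup G), Nrm a y := by
    intro a ha
    have h1 := hnorm a ha v hv
    exact hy.nrm_of_conj_mem c.hyp (c := v) ⟨hy.part_le_cent c.hyp r hv, hy.part_le c.hyp r hv⟩ hvz
      ⟨hy.part_le_cent c.hyp r h1, hy.part_le c.hyp r h1⟩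
  have hPy : ¬ (R : Subgroup G) ≤ centralizer ({y} : Set G) := by
    intro hle
    apply hy.2.1
    apply c.center_of_comm hy.1
    intro g hg
    exact mem_cent.mp (hle hg)
  apply c.fp_contra d.hsr Q hcard hy hyQ hQy (R : Subgroup G) R.isPGroup' hPn hPy
  -- the bound `|X| ≤ r |X ⊓ Z|` from a bad element
  obtain ⟨T, hTC, hTp, hTcard⟩ := c.hyp.exists_sylow_cent (r := r) ht₁N ht₁z
  obtain ⟨k, hk⟩ := exists_conj_le R hTp
  have ht₂N : k * t₁ * k⁻¹ ∈ N := c.hyp.normal.conj_mem t₁ ht₁N k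
  have ht₂z : k * t₁ * k⁻¹ ∉ center G := (conj_mem_center_iff' k).not.mpr ht₁z
  have hbad₂ : ¬ Good N (k * t₁ * k⁻¹) := by
    intro hg
    apply hbad
    have := hg.conj c.hyp.normal k⁻¹
    have e : k⁻¹ * (k * t₁ * k⁻¹) * k⁻¹⁻¹ = t₁ := by group
    rwa [e] at this
  set T' : Subgroup G := T.map (MulAut.conj k).toMonoidHom with hT'
  have hT'R : T' ≤ (R : Subgroup G) := by
    rintro _ ⟨x, hx, rfl⟩
    exact hk x hx
  have hT'C : T' ≤ centralizer ({k * t₁ * k⁻¹} : Set G) := by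
    rintro _ ⟨x, hx, rfl⟩
    exact (conj_mem_cent_conj k x t₁).mp (hTC hx)
  have hT'card : Nat.card T' = cr G m r := by
    rw [hT', Subgroup.card_map_of_injective (MulAut.conj k).injective, hTcard]
  have h1 := card_inf_le_mul hT'R hXR (k := r) (by rw [hRcard, hXcard])
  have h2 : T' ⊓ hy.part c.hyp r ≤ hy.part c.hyp r ⊓ center G := by
    intro x hx
    refine ⟨hx.2, ?_⟩
    by_contra hxz
    have hxG : Good N x := hy.of_mem c.hyp (hy.part_le_cent c.hyp r hx.2)
      (hy.part_le c.hyp r hx.2) hxz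
    exact hxG.not_comm c.hyp ht₂N ht₂z hbad₂ (mem_cent.mp (hT'C hx.1))
  rw [hXcard, ← hT'card]
  exact h1.trans (Nat.mul_le_mul_left _ (Subgroup.card_le_of_le h2))

/-- the contradiction when the `r`-part is not normal in `R` and the second-centre element is bad -/
theorem Ctx.bad_of_not_normal (c : Ctx N m r R) {s : ℕ} [hs : Fact s.Prime] {y : G}
    (d : SData N m r s y) (hXR : d.good.part c.hyp r ≤ (R : Subgroup G))
    (hnX : ¬ ∀ a ∈ (R : Subgroup G), ∀ x ∈ d.good.part c.hyp r, a * x * a⁻¹ ∈ d.good.part c.hyp r)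
    {u : G} (huR : u ∈ (R : Subgroup G)) (huz : u ∉ center G) (hur : u ^ r ∈ center G)
    (huc : ∀ g ∈ (R : Subgroup G), ⁅u, g⁆ ∈ center G) (hubad : ¬ Good N u) : False := by
  have hy := d.good
  obtain ⟨Q, hcard, hyQ, hQy⟩ := d.exQ
  set X : Subgroup G := hy.part c.hyp r with hX
  have hXC : X ≤ centralizer ({y} : Set G) := hy.part_le_cent c.hyp r
  have hXN : X ≤ N := hy.part_le c.hyp r
  -- `r`-th powers of elements of `X` are central
  have hpowX : ∀ x ∈ X, x ^ r ∈ center G := by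
    intro x hx
    by_contra hxz
    have hz := huc x (hXR hx)
    have h1 : ⁅u, x ^ r⁆ = 1 := by
      rw [comm_pow_right hz, ← comm_pow_left hz, comm_central_left hur]
    have hxG : Good N (x ^ r) := hy.of_mem c.hyp (pow_mem (hXC hx) r) (pow_mem (hXN hx) r) hxz
    exact hxG.not_comm c.hyp (c.hRN huR) huz hubad
      ((commutatorElement_eq_one_iff_commute.mp h1).eq).symm
  obtain ⟨v₀, hv₀, hv₀z⟩ := hy.exists_mem_part_r c.hyp R c.hRN c.hRZ
  -- normalizing `X` implies normalizing `C(y)`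
  have hnrm_of : ∀ a : G, a * v₀ * a⁻¹ ∈ X → Nrm a y := fun a ha =>
    hy.nrm_of_conj_mem c.hyp (c := v₀) ⟨hXC hv₀, hXN hv₀⟩ hv₀z ⟨hXC ha, hXN ha⟩
  have hnorm_of_nrm : ∀ a : G, Nrm a y → a ∈ normalizer (X : Set G) := by
    intro a ha
    rw [mem_normalizer_iff]
    intro n
    constructor
    · exact fun hn => hy.conj_mem_part c.hyp ha hn
    · intro hn
      have := hy.conj_mem_part c.hyp ha.inv hn
      have e : a⁻¹ * (a * n * a⁻¹) * a⁻¹⁻¹ = n := by group
      rwa [e] at this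
  set T : Subgroup G := (R : Subgroup G) ⊓ normalizer (X : Set G) with hT
  have hTne : T ≠ (R : Subgroup G) := by
    intro hTR
    apply hnX
    intro a ha x hx
    have : a ∈ T := hTR ▸ ha
    exact (mem_normalizer_iff.mp this.2 x).mp hx
  obtain ⟨g, hgR, hgT, hgn⟩ := exists_normalizing (R : Subgroup G) T R.isPGroup' inf_le_left hTne
  have hXT : X ≤ T := by
    intro x hx
    refine ⟨hXR hx, mem_normalizer_iff.mpr ?_⟩
    intro n
    constructor
    · exact fun hn => mul_mem (mul_mem hx hn) (inv_mem hx)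
    · intro hn
      have := mul_mem (mul_mem (inv_mem hx) hn) hx
      have e : x⁻¹ * (x * n * x⁻¹) * x = n := by group
      rwa [e] at this
  have hgX : g ∉ normalizer (X : Set G) := fun h => hgT ⟨hgR, h⟩
  set Q' : Subgroup G := X.map (MulAut.conj g).toMonoidHom with hQ'
  have hQ'T : Q' ≤ T := by
    rintro _ ⟨x, hx, rfl⟩
    exact (hgn x).mp (hXT hx)
  have hQ'R : Q' ≤ (R : Subgroup G) := hQ'T.trans inf_le_left
  have hQ'p : IsPGroup r Q' := R.isPGroup'.to_le hQ'R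
  -- the TI property
  have hTI : ∀ a ∈ Q', a ∈ X → a ∈ center G := by
    rintro _ ⟨x, hx, rfl⟩ hax
    by_contra haz
    have hxz : x ∉ center G := fun hz => haz ((conj_mem_center_iff' g).mpr hz)
    apply hgX
    apply hnorm_of_nrm
    exact hy.nrm_of_conj_mem c.hyp (c := x) ⟨hXC hx, hXN hx⟩ hxz ⟨hXC hax, hXN hax⟩
  have hQ'n : ∀ a ∈ Q', Nrm a y := by
    intro a ha
    apply hnrm_of
    exact (mem_normalizer_iff.mp (hQ'T ha).2 v₀).mp hv₀
  have hQ'C : ∀ a ∈ Q', a ∈ centralizer ({y} : Set G) → a ∈ X ∧ a ∈ center G := by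
    intro a ha haC
    have haX : a ∈ X := hy.mem_part_r c.hyp R c.hRN haC (c.isQ_of_mem (hQ'R ha))
    exact ⟨haX, hTI a ha haX⟩
  have hQ'y : ¬ Q' ≤ centralizer ({y} : Set G) := by
    intro hle
    have h1 : g * v₀ * g⁻¹ ∈ Q' := ⟨v₀, hv₀, rfl⟩
    exact hv₀z ((conj_mem_center_iff' g).mp (hQ'C _ h1 (hle h1)).2)
  apply c.fp_contra d.hsr Q hcard hy hyQ hQy Q' hQ'p hQ'n hQ'y
  -- the bound from the cyclic action
  have hyS : y ∈ hy.part c.hyp s := (hy.mem_part c.hyp).mpr ⟨self_mem_cent y, hy.1, d.isQ⟩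
  have hJ : Nat.card Q' ≤ r * Nat.card (Q' ⊓ centralizer ({y} : Set G) : Subgroup G) := by
    apply card_le_of_action Q' (centralizer ({y} : Set G)) (hy.part c.hyp s) (center G) hQ'p
    · intro a ha v hv
      exact hy.conj_mem_part c.hyp (hQ'n a ha) hv
    · obtain ⟨k, hk⟩ := IsPGroup.iff_card.mp (hy.isPGroup_part c.hyp s)
      rw [hk]
      exact Nat.Coprime.pow_left k ((Nat.coprime_primes hs.out hr.out).mpr d.hsr)
    · intro a _ haC v hv
      rw [← hy.part_comm c.hyp hv haC, mul_inv_cancel_right]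
    · intro a _ hav
      have h1 := hav y hyS
      rw [mem_cent]
      calc a * y = a * y * a⁻¹ * a := by group
        _ = y * a := by rw [h1]
    · rintro _ ⟨x₁, hx₁, rfl⟩ _ ⟨x₂, hx₂, rfl⟩
      have hc : x₁ * x₂ = x₂ * x₁ := hy.part_comm c.hyp hx₁ (hXC hx₂)
      have h1 : ⁅(MulAut.conj g).toMonoidHom x₁, (MulAut.conj g).toMonoidHom x₂⁆ = 1 := by
        rw [← map_commutatorElement, commutatorElement_eq_one_iff_commute.mpr hc, map_one]
      rw [h1]
      exact one_mem _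
    · rintro _ ⟨x, hx, rfl⟩
      have h1 : ((MulAut.conj g).toMonoidHom x) ^ r = g * x ^ r * g⁻¹ := by
        simp [conj_pow]
      rw [h1]
      exact center_le_cent y ((conj_mem_center_iff' g).mpr (hpowX x hx))
    · intro a _ haC v hv hav
      by_contra hvz
      apply haC
      rw [← hy.cent_eq_of_mem_part c.hyp hv hvz, mem_cent]
      calc a * v = a * v * a⁻¹ * a := by group
        _ = v * a := by rw [hav]
    · intro hle
      exact hy.2.1 (hle hyS)
  have hcardQ' : Nat.card Q' = Nat.card X := by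
    rw [hQ', Subgroup.card_map_of_injective (MulAut.conj g).injective]
  rw [← hcardQ']
  refine hJ.trans (Nat.mul_le_mul_left _ (Subgroup.card_le_of_le ?_))
  intro a ha
  exact hQ'C a ha.1 ha.2

/-- the bad case is impossible -/
theorem Ctx.world1 (c : Ctx N m r R) {t₀ : G} (ht₀N : t₀ ∈ N) (ht₀z : t₀ ∉ center G)
    (hbad₀ : ¬ Good N t₀) {s : ℕ} [hs : Fact s.Prime] (hsr : s ≠ r) {y₀ : G} (hy₀N : y₀ ∈ N)
    (hy₀z : y₀ ∉ center G) (hy₀s : IsQ s y₀) : False := by
  obtain ⟨k, hk1, hk2, hbad, -⟩ := c.hyp.bad_part R c.hRN c.hRZ ht₀N ht₀z hbad₀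
  have ht₁N : t₀ ^ k ∈ N := pow_mem ht₀N k
  have hgood : ∀ w ∈ N, w ∉ center G → IsQ s w → Good N w := fun w hw hwz hws =>
    c.hyp.good_of_ne R c.hRN c.hRZ hs.out hsr hw hwz hws
  have hcen : ∀ v ∈ N, v ∈ centralizer ({t₀ ^ k} : Set G) → IsQ s v → v ∈ center G :=
    fun v hvN hvC hvs => c.hyp.bad_central R c.hRN c.hRZ ht₁N hk1 hbad hs.out hsr hvN hvC hvs
  obtain ⟨Q, hcard, hQx⟩ := c.hyp.exists_sylow_of_central hgood hy₀N hy₀z hy₀s ht₁N hk1 hcen
  obtain ⟨g, hg⟩ := exists_conj_mem Q hy₀s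
  have hyN : g * y₀ * g⁻¹ ∈ N := c.hyp.normal.conj_mem y₀ hy₀N g
  have hyz : g * y₀ * g⁻¹ ∉ center G := (conj_mem_center_iff' g).not.mpr hy₀z
  have hys : IsQ s (g * y₀ * g⁻¹) := isQ_conj' hy₀s g
  have hy : Good N (g * y₀ * g⁻¹) := hgood _ hyN hyz hys
  have d : SData N m r s (g * y₀ * g⁻¹) :=
    ⟨hsr, hy, ⟨Q, hcard, hg, fun hle => hyz (hQx _ hyN hyz hle ⟨hg, hyN⟩)⟩, hys⟩
  -- move `R` so that it contains the `r`-part
  obtain ⟨t, ht⟩ := exists_conj_le R (d.good.isPGroup_part c.hyp r)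
  have c' := c.smul t⁻¹
  have hXR : d.good.part c'.hyp r ≤ ((t⁻¹ • R : Sylow r G) : Subgroup G) := by
    intro x hx
    rw [mem_smul_sylow]
    simpa using ht x hx
  by_cases hnX : ∀ a ∈ ((t⁻¹ • R : Sylow r G) : Subgroup G), ∀ x ∈ d.good.part c'.hyp r,
      a * x * a⁻¹ ∈ d.good.part c'.hyp r
  · -- a second-centre element inside the `r`-part
    obtain ⟨v, hv, hvz⟩ := d.good.exists_mem_part_r c'.hyp _ c'.hRN c'.hRZ
    obtain ⟨w, hwM, hwK, hwr, hwc⟩ := NIto.exists_second_center (p := r)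
      ((t⁻¹ • R : Sylow r G) : Subgroup G) (d.good.part c'.hyp r)
      (d.good.part c'.hyp r ⊓ center G) (t⁻¹ • R).isPGroup' hXR hnX
      (fun a ha x hx => ⟨hnX a ha x hx.1, (conj_mem_center_iff' a).mpr hx.2⟩)
      (fun hle => hvz (hle hv).2)
    have hwz : w ∉ center G := fun hz => hwK ⟨hwM, hz⟩
    have hwG : Good N w := d.good.of_mem c'.hyp (d.good.part_le_cent c'.hyp r hwM)
      (d.good.part_le c'.hyp r hwM) hwz
    exact c'.bad_of_good_sc d hXR ht₁N hk1 hbad hwG hwr.2 (fun a ha => (hwc a ha).2)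
  · obtain ⟨u, huR, huz, hur, huc⟩ := c'.exists_sc
    by_cases hu : Good N u
    · exact c'.bad_of_good_sc d hXR ht₁N hk1 hbad hu hur huc
    · exact c'.bad_of_not_normal d hXR hnX huR huz hur huc hu

end Cfsg.Agent.Helper24.NIto
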