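import Mathlib
import Cfsg.Agent.Helper24.NItoI

/-!
Normal subgroups with two `G`-class sizes, part J: the remaining cases and the main theorem.
-/

set_option autoImplicit false

namespace Cfsg.Agent.Helper24.NIto

open Subgroup Cfsg.Agent.Helper1.Ito
open scoped commutatorElement Pointwise

variable {G : Type*} [Group G] [Finite G] {N : Subgroup G} {m : ℕ} {r : ℕ} [hr : Fact r.Prime]

omit [Finite G] hr in
/-- a subgroup whose commutators are central in `G` is nilpotent -/
theorem nilpotent_of_comm_central (hc : ∀ a ∈ N, ∀ b ∈ N, ⁅a, b⁆ ∈ center G) :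
    Group.IsNilpotent N := by
  letI : CommGroup (N ⧸ center N) :=
    { (inferInstance : Group (N ⧸ center N)) with
      mul_comm := by
        intro x y
        induction x using QuotientGroup.induction_on with
        | H a =>
          induction y using QuotientGroup.induction_on with
          | H b =>
            rw [← QuotientGroup.mk_mul, ← QuotientGroup.mk_mul, QuotientGroup.eq]
            rw [mem_center_iff]
            intro g
            apply Subtype.ext
            have h1 := hc (b : G)⁻¹ (inv_mem b.2) (a : G)⁻¹ (inv_mem a.2)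
            have h2 : (((a * b)⁻¹ * (b * a) : N) : G) = ⁅(b : G)⁻¹, (a : G)⁻¹⁆ := by
              simp [commutatorElement_def, mul_assoc]
            show (g : G) * (((a * b)⁻¹ * (b * a) : N) : G) = (((a * b)⁻¹ * (b * a) : N) : G) * g
            rw [h2]
            exact (mem_center_iff.mp h1) g }
  exact Subgroup.isNilpotent_of_ker_le_center (QuotientGroup.mk' (center N))
    (by rw [QuotientGroup.ker_mk'])

/-- if `N` normalizes all centralizers of its noncentral (good) elements, it is nilpotent -/
theorem nilpotent_of_nrm (h : Hyp N m) (hall : ∀ g ∈ N, g ∉ center G → Good N g)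
    (hnrm : ∀ g ∈ N, g ∉ center G → ∀ n ∈ N, Nrm n g) : Group.IsNilpotent N := by
  apply nilpotent_of_comm_central
  intro a ha b hb
  by_cases haz : a ∈ center G
  · rw [comm_central_left haz]
    exact one_mem _
  by_cases hbz : b ∈ center G
  · rw [← commutatorElement_inv, comm_central_left hbz, inv_one]
    exact one_mem _
  by_contra hz
  have hcN : ⁅a, b⁆ ∈ N := by
    rw [commutatorElement_def]
    exact mul_mem (mul_mem (mul_mem ha hb) (inv_mem ha)) (inv_mem hb)
  have h1 : ⁅a, b⁆ ∈ centralizer ({a} : Set G) := by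
    have e : ⁅a, b⁆ = a * (b * a⁻¹ * b⁻¹) := by rw [commutatorElement_def]; group
    rw [e]
    exact mul_mem (self_mem_cent a) ((hnrm a ha haz b hb a⁻¹).mp (inv_mem (self_mem_cent a)))
  have h2 : ⁅a, b⁆ ∈ centralizer ({b} : Set G) := by
    rw [commutatorElement_def]
    exact mul_mem ((hnrm b hb hbz a ha b).mp (self_mem_cent b)) (inv_mem (self_mem_cent b))
  have e1 := (hall a ha haz).cent_eq h h1 hcN hz
  have e2 := (hall b hb hbz).cent_eq h h2 hcN hz
  have hb' : b ∈ centralizer ({a} : Set G) := by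
    rw [← e1, e2]
    exact self_mem_cent b
  apply hz
  have : ⁅a, b⁆ = 1 := by
    rw [commutatorElement_eq_one_iff_commute]
    exact (mem_cent.mp hb').symm
  rw [this]
  exact one_mem _

/-- Case A: all noncentral elements of prime power order in `N` are `r`-elements -/
theorem nilpotent_of_central
    (hA : ∀ s : ℕ, s.Prime → s ≠ r → ∀ y ∈ N, IsQ s y → y ∈ center G) :
    Group.IsNilpotent N := by
  have hcentral : ∀ s : ℕ, s.Prime → s ≠ r → ∀ y : N, IsQ s y → y ∈ center N := by
    intro s hs hsr y hy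
    obtain ⟨k, hk⟩ := hy
    have hyz : (y : G) ∈ center G := hA s hs hsr y y.2 ⟨k, by
      have := congrArg Subtype.val hk
      simpa using this⟩
    rw [mem_center_iff]
    intro g
    apply Subtype.ext
    exact (mem_center_iff.mp hyz) g
  have hp : IsPGroup r (N ⧸ center N) := isPGroup_quotient_center hcentral
  haveI : Group.IsNilpotent (N ⧸ center N) := hp.isNilpotent
  exact Subgroup.isNilpotent_of_ker_le_center (QuotientGroup.mk' (center N))
    (by rw [QuotientGroup.ker_mk'])

/-- the case `r ∤ m`: `N` is abelian -/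
theorem comm_of_not_dvd (h : Hyp N m) (R : Sylow r G) (hRN : (R : Subgroup G) ≤ N)
    (hRZ : ¬ (R : Subgroup G) ≤ center G) (hrm : ¬ r ∣ m) {s : ℕ} (hs : s.Prime) (hsr : s ≠ r)
    {y₀ : G} (hy₀N : y₀ ∈ N) (hy₀z : y₀ ∉ center G) (hy₀s : IsQ s y₀) :
    ∀ a ∈ N, ∀ b ∈ N, a * b = b * a := by
  -- every element of `N` is `N`-conjugate into the centralizer of `R`
  have claim : ∀ x ∈ N, ∃ n ∈ N, n * x * n⁻¹ ∈ N ⊓ centralizer ((R : Subgroup G) : Set G) := by
    intro x hx
    have hidx : ¬ r ∣ (centralizer ({x} : Set G)).index := by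
      rcases h.two x hx with h1 | h1
      · rw [h1]
        exact hr.out.not_dvd_one
      · rwa [h1]
    -- a Sylow `r`-subgroup inside the centralizer
    obtain ⟨S⟩ : Nonempty (Sylow r (centralizer ({x} : Set G))) := inferInstance
    have hfac : (Nat.card (centralizer ({x} : Set G))).factorization r =
        (Nat.card G).factorization r := by
      rw [← Subgroup.card_mul_index (centralizer ({x} : Set G)),
        Nat.factorization_mul Nat.card_pos.ne' Subgroup.index_ne_zero_of_finite]
      simp [Nat.factorization_eq_zero_of_not_dvd hidx]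
    have hcard : Nat.card ((S : Subgroup (centralizer ({x} : Set G))).map
        (centralizer ({x} : Set G)).subtype) = r ^ (Nat.card G).factorization r := by
      rw [Subgroup.card_map_of_injective (Subgroup.subtype_injective _),
        Sylow.card_eq_multiplicity, hfac]
    set P : Sylow r G := Sylow.ofCard _ hcard with hP
    have hPC : (P : Subgroup G) ≤ centralizer ({x} : Set G) := Subgroup.map_subtype_le _
    obtain ⟨g, hg⟩ := MulAction.exists_smul_eq G R P
    obtain ⟨n, hnN, hn⟩ := exists_mem_smul_eq h.normal R hRN g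
    refine ⟨n⁻¹, inv_mem hnN, h.normal.conj_mem x hx _, mem_centralizer_iff.mpr ?_⟩
    intro d hd
    have hd' : d ∈ (R : Subgroup G) := hd
    have h1 : n * d * n⁻¹ ∈ (P : Subgroup G) := by
      rw [← hg, ← hn, mem_smul_sylow]
      simpa [mul_assoc] using hd'
    have h2 := mem_cent.mp (hPC h1)
    -- `n d n⁻¹` commutes with `x`
    have e1 : d * (n⁻¹ * x * n⁻¹⁻¹) = n⁻¹ * ((n * d * n⁻¹) * x) * n := by group
    have e2 : (n⁻¹ * x * n⁻¹⁻¹) * d = n⁻¹ * (x * (n * d * n⁻¹)) * n := by group
    rw [e1, e2, h2]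
  have hNle : N ≤ N ⊓ centralizer ((R : Subgroup G) : Set G) :=
    Cfsg.Agent.Helper1.ClsGraph.le_of_forall_conj_mem claim
  obtain ⟨x₀, hx₀R, hx₀z⟩ : ∃ x₀ ∈ (R : Subgroup G), x₀ ∉ center G := by
    by_contra hc
    push Not at hc
    exact hRZ hc
  have hcomm : ∀ n ∈ N, n * x₀ = x₀ * n := by
    intro n hn
    exact ((mem_centralizer_iff.mp (hNle hn).2) x₀ hx₀R).symm
  have hx₀r : IsQ r x₀ := isQ_of_mem_pgroup R.isPGroup' hx₀R
  have hgood : Good N x₀ := good_of_mixed hr.out hs hsr.symm (hRN hx₀R) hx₀z hx₀r hy₀N hy₀z hy₀s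
    (mem_cent.mpr (hcomm y₀ hy₀N))
  intro a ha b hb
  exact hgood.comp_comm h a ⟨mem_cent.mpr (hcomm a ha), ha⟩ b ⟨mem_cent.mpr (hcomm b hb), hb⟩

/-- **Main theorem**: a normal subgroup with two `G`-class sizes containing a noncentral Sylow
subgroup of `G` is nilpotent. -/
theorem main (R : Sylow r G) (hR : ¬ (R : Subgroup G) ≤ center G) (N : Subgroup G)
    [hN : N.Normal] (hRN : (R : Subgroup G) ≤ N) (m : ℕ)
    (h : ∀ x ∈ N, (centralizer ({x} : Set G)).index = 1 ∨ (centralizer ({x} : Set G)).index = m) :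
    Group.IsNilpotent N := by
  have hyp : Hyp N m := ⟨hN, h⟩
  by_cases hA : ∀ s : ℕ, s.Prime → s ≠ r → ∀ y ∈ N, IsQ s y → y ∈ center G
  · exact nilpotent_of_central hA
  push Not at hA
  obtain ⟨s, hs, hsr, y₀, hy₀N, hy₀s, hy₀z⟩ := hA
  haveI : Fact s.Prime := ⟨hs⟩
  by_cases hrm : r ∣ m
  · have c : Ctx N m r R := ⟨hyp, hRN, hR, hrm⟩
    by_cases hall : ∀ g ∈ N, g ∉ center G → Good N g
    · by_cases hbig : r ^ 2 * Nat.card ((R : Subgroup G) ⊓ center G : Subgroup G) <
          Nat.card (R : Subgroup G)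
      · exact (c.world2a hall hbig).elim
      · exact nilpotent_of_nrm hyp hall (c.world2b hall (not_lt.mp hbig))
    · push Not at hall
      obtain ⟨t₀, ht₀N, ht₀z, hbad⟩ := hall
      exact (c.world1 ht₀N ht₀z hbad hsr hy₀N hy₀z hy₀s).elim
  · apply nilpotent_of_comm_central
    intro a ha b hb
    have := comm_of_not_dvd hyp R hRN hR hrm hs hsr hy₀N hy₀z hy₀s a ha b hb
    rw [commutatorElement_eq_one_iff_commute.mpr this]
    exact one_mem _

end Cfsg.Agent.Helper24.NIto
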