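import Mathlib
import Cfsg.Prelude.Def_Characters
import Cfsg.Agent.Helper24.PermReal
import Cfsg.Agent.Helper24.ColumnOrth

/-!
Non-squares and real characters.
-/

namespace Cfsg.Agent.Helper24

open Cfsg

universe u

section NonSquare

variable {G : Type u} [Group G] [Finite G]

/-- The group-theoretic part: `x y` is not a square. -/
theorem not_square_mul (p : ℕ) [hpf : Fact p.Prime] (hp : p ≠ 2) (x : G)
    (hx : ∃ k : ℕ, orderOf x = p ^ k)
    (heven : Even (Nat.card (Subgroup.centralizer ({x} : Set G)))) (y : G)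
    (hy : y ∈ Subgroup.centralizer ({x} : Set G)) (hy2 : ∃ k : ℕ, orderOf y = 2 ^ k)
    (hmax : ∀ z ∈ Subgroup.centralizer ({x} : Set G), (∃ k : ℕ, orderOf z = 2 ^ k) →
      orderOf z ≤ orderOf y) : ¬ ∃ u : G, u * u = x * y := by
  rintro ⟨u, hu⟩
  obtain ⟨k, hk⟩ := hx
  obtain ⟨j, hj⟩ := hy2
  have hxy : x * y = y * x := Subgroup.mem_centralizer_iff.mp hy x (Set.mem_singleton x)
  have hpodd : Odd p := hpf.out.odd_of_ne_two hp
  -- j ≥ 1
  have hj1 : 1 ≤ j := by
    haveI : Fact (Nat.Prime 2) := ⟨Nat.prime_two⟩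
    obtain ⟨t, ht⟩ := exists_prime_orderOf_dvd_card' 2 (even_iff_two_dvd.mp heven)
    have ht' : orderOf (t : G) = 2 := by rw [Subgroup.orderOf_coe]; exact ht
    have := hmax (t : G) t.2 ⟨1, by rw [ht', pow_one]⟩
    rw [ht', hj] at this
    by_contra hcon
    have hj0 : j = 0 := by omega
    rw [hj0, pow_zero] at this
    omega
  obtain ⟨n, hn⟩ : ∃ n : ℕ, n = p ^ k := ⟨_, rfl⟩
  obtain ⟨m, hm⟩ : ∃ m : ℕ, m = 2 ^ j := ⟨_, rfl⟩
  obtain ⟨g, hg⟩ : ∃ g : G, g = x * y := ⟨_, rfl⟩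
  rw [← hg] at hu
  rw [← hn] at hk
  rw [← hm] at hj
  -- u commutes with g
  have hug : u * g = g * u := by rw [← hu]; group
  have hugpow : ∀ i : ℕ, u * g ^ i = g ^ i * u := by
    intro i
    exact (Commute.pow_right (show Commute u g from hug) i).eq
  have hgpow : ∀ i : ℕ, g ^ i = x ^ i * y ^ i := by
    intro i
    rw [hg]
    exact (show Commute x y from hxy).mul_pow i
  -- x is a power of g
  have hcop : Nat.Coprime m (orderOf x) := by
    rw [hk, hm, hn]
    apply Nat.Coprime.pow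
    rw [Nat.coprime_primes Nat.prime_two hpf.out]
    exact fun h => hp h.symm
  obtain ⟨c, hc⟩ := exists_pow_eq_self_of_coprime hcop
  have hym : y ^ m = 1 := by rw [← hj]; exact pow_orderOf_eq_one y
  have hxn : x ^ n = 1 := by rw [← hk]; exact pow_orderOf_eq_one x
  have hgm : g ^ m = x ^ m := by rw [hgpow, hym, mul_one]
  have hxg : x = g ^ (m * c) := by rw [pow_mul, hgm, hc]
  have hux : u * x = x * u := by rw [hxg]; exact hugpow _
  -- w = u ^ n
  obtain ⟨w, hw⟩ : ∃ w : G, w = u ^ n := ⟨_, rfl⟩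
  have hwC : w ∈ Subgroup.centralizer ({x} : Set G) := by
    rw [Subgroup.mem_centralizer_iff]
    intro h hh
    rw [Set.mem_singleton_iff] at hh
    rw [hh, hw]
    exact ((Commute.pow_right (show Commute x u from hux.symm) n)).eq
  have hwsq : w * w = y ^ n := by
    have h1 : u ^ n * u ^ n = (u * u) ^ n := by
      rw [← pow_two, ← pow_two, ← pow_mul, ← pow_mul, mul_comm]
    rw [hw, h1, hu, hgpow, hxn, one_mul]
  have hw2m : w ^ (2 ^ (j + 1)) = 1 := by
    rw [pow_succ, mul_comm, pow_mul, pow_two, hwsq, ← pow_mul, mul_comm, pow_mul, ← hm, hym,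
      one_pow]
  have hword : ∃ i : ℕ, orderOf w = 2 ^ i := by
    have := orderOf_dvd_of_pow_eq_one hw2m
    obtain ⟨i, -, hi⟩ := (Nat.dvd_prime_pow Nat.prime_two).mp this
    exact ⟨i, hi⟩
  have hle := hmax w hwC hword
  obtain ⟨i, hi⟩ := hword
  rw [hi, hj, hm] at hle
  have hij : i ≤ j := (Nat.pow_le_pow_iff_right (by norm_num)).mp hle
  have hwj : w ^ (2 ^ j) = 1 := by
    have : orderOf w ∣ 2 ^ j := by rw [hi]; exact pow_dvd_pow 2 hij
    exact orderOf_dvd_iff_pow_eq_one.mp this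
  obtain ⟨j', hjj⟩ : ∃ j', j = j' + 1 := ⟨j - 1, by omega⟩
  have h1 : (y ^ n) ^ (2 ^ j') = 1 := by
    rw [← hwsq, ← pow_two, ← pow_mul, ← pow_succ', ← hjj]
    exact hwj
  rw [← pow_mul] at h1
  have h2 : orderOf y ∣ n * 2 ^ j' := orderOf_dvd_of_pow_eq_one h1
  rw [hj, hm, hjj, pow_succ] at h2
  have h3 : 2 ∣ n := by
    have : 2 ^ j' * 2 ∣ 2 ^ j' * n := by rw [mul_comm (2 ^ j') n]; exact h2
    exact Nat.dvd_of_mul_dvd_mul_left (by positivity) this
  have h4 : Odd n := by rw [hn]; exact hpodd.pow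
  rw [← even_iff_two_dvd] at h3
  exact (Nat.not_even_iff_odd.mpr h4) h3

/-- A non-square is not a zero of some nonprincipal real-valued irreducible character. -/
theorem exists_real_irr_ne_zero_of_not_square (g : G) (hns : ¬ ∃ u : G, u * u = g) :
    ∃ χ : IrrCharacter G, ¬ ((χ : G → ℂ) = fun _ => (1 : ℂ)) ∧
      (∀ x : G, ((χ : G → ℂ) x).im = 0) ∧ (χ : G → ℂ) g ≠ 0 := by
  classical
  haveI : Fintype G := Fintype.ofFinite G
  haveI : Fintype (IrrCharacter G) := Fintype.ofFinite _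
  have hsum : ∑ χ : IrrCharacter G, fsInd (χ : G → ℂ) * (starRingEnd ℂ) ((χ : G → ℂ) g) = 0 := by
    unfold fsInd
    simp_rw [mul_assoc, Finset.sum_mul]
    rw [← Finset.mul_sum, Finset.sum_comm]
    have h1 : ∀ u : G, ∑ χ : IrrCharacter G,
        (χ : G → ℂ) (u * u) * (starRingEnd ℂ) ((χ : G → ℂ) g) = 0 := by
      intro u
      rw [sum_irr_mul_conj (u * u) g, if_neg]
      intro hc
      obtain ⟨c, hc⟩ := isConj_iff.mp hc
      apply hns
      refine ⟨c * u * c⁻¹, ?_⟩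
      rw [← hc]; group
    simp_rw [h1]
    simp
  by_contra hcon
  push Not at hcon
  rw [← Finset.add_sum_erase _ _ (Finset.mem_univ (trivIrr G)), fsInd_trivIrr] at hsum
  have h2 : ∑ χ ∈ Finset.univ.erase (trivIrr G),
      fsInd (χ : G → ℂ) * (starRingEnd ℂ) ((χ : G → ℂ) g) = 0 := by
    apply Finset.sum_eq_zero
    intro χ hχ
    have hne : χ ≠ trivIrr G := Finset.ne_of_mem_erase hχ
    by_cases h0 : fsInd (χ : G → ℂ) = 0
    · rw [h0, zero_mul]
    · have hreal := (fsInd_irr χ).2 h0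
      have hne' : ¬ ((χ : G → ℂ) = fun _ => (1 : ℂ)) := by
        intro h
        apply hne
        apply Subtype.ext
        exact h
      rw [hcon χ hne' hreal, map_zero, mul_zero]
  rw [h2, add_zero] at hsum
  simp at hsum

end NonSquare

end Cfsg.Agent.Helper24
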