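import Cfsg.Agent.Helper29.OC2K.Main
import Cfsg.Agent.Helper29.OC2K.REFLMEM
import Cfsg.Agent.Helper17.OC2KC2Defs
import Cfsg.Agent.Helper17.OC2KC2PM
import Cfsg.Agent.Helper11.OC2KC2GEODPERP
import Cfsg.Agent.Helper11.OC2KC2LOCB2FIN

set_option autoImplicit false
set_option linter.unusedSectionVars false
set_option linter.unusedVariables false

/-! # OC2K chapter CHAR2, case `q = 2`, `k = 4`, piece Q2SING (helper24): over `F₂`, in a block of
Witt index 1, if `B x η = 1` for every singular `x ≠ 0` of the block perpendicular to the nonsingular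
`a`, and `B a η = 1`, then `Q η = 0`.  (Duplicate of `Cfsg.Agent.Helper5.OC2KC2Q2SING`, which landed first and is
the one imported by the assembly; names here carry the suffix `24` so that the two never collide.) -/

namespace Cfsg.Agent.OC2K

open Matrix Cfsg.Agent.Helper28.Sg Cfsg.Agent.Helper28.Spin Cfsg.Agent.Helper12.OrthGen
  Cfsg.Agent.S2614 Cfsg.Agent.S5683P Cfsg.Agent.Helper28.NDM

variable {F : Type*} [Field F] [Fintype F] {t k : ℕ} {ι : Type} [Fintype ι] [DecidableEq ι] {Q : QuadraticForm F (ι → F)} [QHyp Q] {D : Fin t → Submodule F (ι → F)}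
  {M : Subgroup (OGq Q)}

/-- over the field with two elements every scalar is `0` or `1` -/
theorem C2.Q2SING24.zero_or_one (hq : Fintype.card F = 2) (s : F) : s = 0 ∨ s = 1 := by
  have h := FiniteField.pow_card s
  rw [hq] at h
  have h' : s * (s - 1) = 0 := by linear_combination h
  rcases mul_eq_zero.mp h' with h0 | h1
  · exact Or.inl h0
  · exact Or.inr (sub_eq_zero.mp h1)

theorem C2.Q2SING24.main (h2 : (2 : F) = 0) (hD : HD Q k D) (hk4 : k = 4) (hq : Fintype.card F = 2)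
    (hW : C2.Witt1 Q D) {b : Fin t} {a η : ι → F} (ha : a ∈ D b) (hQa : Q a ≠ 0) (hη : η ∈ D b)
    (hηa : B (Q) a η = 1)
    (hs : ∀ x ∈ D b, x ≠ 0 → Q x = 0 → B (Q) x a = 0 → B (Q) x η = 1) : Q η = 0 := by
  have ha0 : a ≠ 0 := by
    intro h0
    apply hQa
    rw [h0]
    exact map_zero _
  -- a singular vector `x₁ ≠ 0` of the block, `⊥ a`
  obtain ⟨z0, hz0, haz0, hz0a⟩ := C2.LOCB2FIN.aux_exists hD ha ha0
  obtain ⟨l0, hQx1, hax1⟩ := C2.LOCB2FIN.aux_sing h2 hQa haz0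
  obtain ⟨x₁, hx₁⟩ : ∃ x₁ : ι → F, x₁ = z0 + l0 • a := ⟨_, rfl⟩
  rw [← hx₁] at hQx1 hax1
  have hx1D : x₁ ∈ D b := by
    rw [hx₁]
    exact (D b).add_mem hz0 ((D b).smul_mem _ ha)
  have hx10 : x₁ ≠ 0 := by
    intro h0
    apply hz0a (-l0)
    rw [neg_smul]
    rw [hx₁] at h0
    exact eq_neg_of_add_eq_zero_left h0
  have hx1a : B (Q) x₁ a = 0 := by
    rw [B_comm]
    exact hax1
  -- `z₁ ⊥ a` with `B x₁ z₁ = 1`
  obtain ⟨z₁, hz1D, haz1, hx1z1⟩ : ∃ z₁ ∈ D b, B (Q) a z₁ = 0 ∧ B (Q) x₁ z₁ = 1 := by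
    by_contra hcon
    push Not at hcon
    have hperp : ∀ w ∈ D b, B (Q) a w = 0 → B (Q) w x₁ = 0 := by
      intro w hw haw
      rcases C2.Q2SING24.zero_or_one hq (B (Q) x₁ w) with h0 | h1
      · rw [B_comm]
        exact h0
      · exact absurd h1 (hcon w hw haw)
    obtain ⟨s, hs1⟩ := C2.GEODPERP.main hD ha ha0 hx1D hperp
    have hQ1 : Q x₁ = s * s * Q a := by
      rw [hs1]
      exact Q_smul (Q) s a
    rw [hQx1] at hQ1
    have hs0 : s = 0 := by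
      rcases mul_eq_zero.mp hQ1.symm with h | h
      · exact mul_self_eq_zero.mp h
      · exact absurd h hQa
    apply hx10
    rw [hs1, hs0, zero_smul]
  -- the second singular vector
  obtain ⟨x₂, hx₂⟩ : ∃ x₂ : ι → F, x₂ = z₁ + Q z₁ • x₁ := ⟨_, rfl⟩
  have hx2D : x₂ ∈ D b := by
    rw [hx₂]
    exact (D b).add_mem hz1D ((D b).smul_mem _ hx1D)
  have hx1x1 : B (Q) x₁ x₁ = 0 := by
    rw [B_self, h2, zero_mul]
  have hz1x1 : B (Q) z₁ x₁ = 1 := by
    rw [B_comm]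
    exact hx1z1
  have hQx2 : Q x₂ = 0 := by
    rw [hx₂, Q_add, Q_smul]
    have e1 : B (Q) z₁ (Q z₁ • x₁) = Q z₁ * B (Q) z₁ x₁ := by
      show QuadraticMap.polar (⇑Q) z₁ (Q z₁ • x₁) = Q z₁ * QuadraticMap.polar (⇑Q) z₁ x₁
      rw [QuadraticMap.polar_smul_right, smul_eq_mul]
    rw [e1, hz1x1, hQx1]
    linear_combination Q z₁ * h2
  have hx2a : B (Q) x₂ a = 0 := by
    have e1 : B (Q) x₂ a = B (Q) z₁ a + Q z₁ * B (Q) x₁ a := by
      rw [hx₂]
      show QuadraticMap.polar (⇑Q) (z₁ + Q z₁ • x₁) a =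
        QuadraticMap.polar (⇑Q) z₁ a + Q z₁ * QuadraticMap.polar (⇑Q) x₁ a
      rw [QuadraticMap.polar_add_left, QuadraticMap.polar_smul_left, smul_eq_mul]
    rw [e1, hx1a, B_comm (Q) z₁ a, haz1, mul_zero, add_zero]
  have hx1x2 : B (Q) x₁ x₂ = 1 := by
    have e1 : B (Q) x₁ x₂ = B (Q) x₁ z₁ + Q z₁ * B (Q) x₁ x₁ := by
      rw [hx₂]
      show QuadraticMap.polar (⇑Q) x₁ (z₁ + Q z₁ • x₁) =
        QuadraticMap.polar (⇑Q) x₁ z₁ + Q z₁ * QuadraticMap.polar (⇑Q) x₁ x₁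
      rw [QuadraticMap.polar_add_right, QuadraticMap.polar_smul_right, smul_eq_mul]
    rw [e1, hx1x1, hx1z1, mul_zero, add_zero]
  have hx20 : x₂ ≠ 0 := by
    intro h0
    rw [h0] at hx1x2
    have : B (Q) x₁ 0 = 0 := QuadraticMap.polar_zero_right _ _
    rw [this] at hx1x2
    exact zero_ne_one hx1x2
  have hx1η : B (Q) x₁ η = 1 := hs x₁ hx1D hx10 hQx1 hx1a
  have hx2η : B (Q) x₂ η = 1 := hs x₂ hx2D hx20 hQx2 hx2a
  -- the anisotropic part
  obtain ⟨a'', ha''⟩ : ∃ a'' : ι → F, a'' = η + (x₁ + x₂) := ⟨_, rfl⟩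
  have ha''D : a'' ∈ D b := by
    rw [ha'']
    exact (D b).add_mem hη ((D b).add_mem hx1D hx2D)
  have hx2x2 : B (Q) x₂ x₂ = 0 := by
    rw [B_self, h2, zero_mul]
  have hx1a'' : B (Q) x₁ a'' = 0 := by
    have e1 : B (Q) x₁ a'' = B (Q) x₁ η + (B (Q) x₁ x₁ + B (Q) x₁ x₂) := by
      rw [ha'']
      show QuadraticMap.polar (⇑Q) x₁ (η + (x₁ + x₂)) =
        QuadraticMap.polar (⇑Q) x₁ η + (QuadraticMap.polar (⇑Q) x₁ x₁ + QuadraticMap.polar (⇑Q) x₁ x₂)
      rw [QuadraticMap.polar_add_right, QuadraticMap.polar_add_right]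
    rw [e1, hx1η, hx1x1, hx1x2]
    linear_combination h2
  have haa'' : B (Q) a a'' = 1 := by
    have e1 : B (Q) a a'' = B (Q) a η + (B (Q) a x₁ + B (Q) a x₂) := by
      rw [ha'']
      show QuadraticMap.polar (⇑Q) a (η + (x₁ + x₂)) =
        QuadraticMap.polar (⇑Q) a η + (QuadraticMap.polar (⇑Q) a x₁ + QuadraticMap.polar (⇑Q) a x₂)
      rw [QuadraticMap.polar_add_right, QuadraticMap.polar_add_right]
    rw [e1, hηa, B_comm (Q) a x₁, hx1a, B_comm (Q) a x₂, hx2a, add_zero, add_zero]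
  have hQa'' : Q a'' = Q η + 1 := by
    have e1 : B (Q) η (x₁ + x₂) = B (Q) η x₁ + B (Q) η x₂ := by
      show QuadraticMap.polar (⇑Q) η (x₁ + x₂) =
        QuadraticMap.polar (⇑Q) η x₁ + QuadraticMap.polar (⇑Q) η x₂
      rw [QuadraticMap.polar_add_right]
    rw [ha'', Q_add, Q_add (Q) x₁ x₂, e1, hQx1, hQx2, hx1x2, B_comm (Q) η x₁, B_comm (Q) η x₂,
      hx1η, hx2η]
    linear_combination h2
  have hQa''ne : Q a'' ≠ 0 := by
    intro h0
    obtain ⟨s, hs1⟩ := hW b x₁ hx1D a'' ha''D hQx1 h0 hx1a'' hx10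
    have e1 : B (Q) a a'' = s * B (Q) a x₁ := by
      rw [hs1]
      show QuadraticMap.polar (⇑Q) a (s • x₁) = s * QuadraticMap.polar (⇑Q) a x₁
      rw [QuadraticMap.polar_smul_right, smul_eq_mul]
    rw [haa'', B_comm (Q) a x₁, hx1a, mul_zero] at e1
    exact one_ne_zero e1
  rcases C2.Q2SING24.zero_or_one hq (Q a'') with h0 | h1
  · exact absurd h0 hQa''ne
  · rw [hQa''] at h1
    linear_combination h1

end Cfsg.Agent.OC2K
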