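import Mathlib
import Cfsg.Prelude.Def_Characters
import Cfsg.Prelude.Def_OddOrderChar
import Cfsg.Prelude.Def_OddOrderLocal
import Cfsg.Prelude.Def_OddOrder

/-! Peterfalvi section 8, part A: the frozen B&G output statements as hypotheses (Props),
basic facts on `typeCore`, `typeA1`, `typeA`, `typeA0`, `supportR`. -/

set_option autoImplicit false
open Cfsg

namespace Cfsg.Agent.Helper24.PF8

universe u
variable {G : Type u} [Group G]

/-- The conclusion of S1385 (B&G Theorem I). -/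
def St1385 (G : Type u) [Group G] : Prop :=
  (∀ M : Subgroup G, IsCoatom M → Cfsg.IsOfTypeI M) ∨
      ∃ W₁ W₂ S T : Subgroup G, Cfsg.IsSelfNormalizingCyclic W₁ W₂ ∧ IsCoatom S ∧ IsCoatom T ∧
        Cfsg.IsComplIn ⁅S, S⁆ W₁ S ∧ Cfsg.IsComplIn ⁅T, T⁆ W₂ T ∧ S ⊓ T = W₁ ⊔ W₂ ∧
        (Cfsg.IsOfTypeII S ∨ Cfsg.IsOfTypeII T) ∧
        (Cfsg.IsOfTypeII S ∨ Cfsg.IsOfTypeIII S ∨ Cfsg.IsOfTypeIV S ∨ Cfsg.IsOfTypeV S) ∧
        (Cfsg.IsOfTypeII T ∨ Cfsg.IsOfTypeIII T ∨ Cfsg.IsOfTypeIV T ∨ Cfsg.IsOfTypeV T) ∧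
        ∀ M : Subgroup G, IsCoatom M → Cfsg.IsOfTypeI M ∨ ∃ g : G, M = S.map (MulAut.conj g).toMonoidHom ∨ M = T.map (MulAut.conj g).toMonoidHom

/-- The statement of S1389 (B&G Theorem II, first part), for all maximal subgroups. -/
def St1389 (G : Type u) [Group G] : Prop :=
  ∀ (M : Subgroup G) (_ : IsCoatom M),
    (∀ (p : ℕ), p.Prime → ∀ (P : Sylow p ↥(Cfsg.typeCore M)), (P : Subgroup ↥(Cfsg.typeCore M)) ≠ ⊥ →
        Subgroup.normalizer ((((P : Subgroup ↥(Cfsg.typeCore M)).map (Cfsg.typeCore M).subtype : Subgroup G)) : Set G) ≤ M) ∧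
      (Nat.card (Cfsg.fittingHallOf M)).Coprime (Cfsg.fittingHallOf M).index ∧
      (Nat.card (Cfsg.typeCore M)).Coprime (Cfsg.typeCore M).index

/-- The statement of S1390. -/
def St1390 (G : Type u) [Group G] : Prop :=
  ∀ (M : Subgroup G) (_ : IsCoatom M) (U : Subgroup G)
    (_ : (Cfsg.IsOfTypeI M ∧ Cfsg.IsComplIn (Cfsg.fittingHallOf M) U M) ∨ (Cfsg.IsOfTypeII M ∧ Cfsg.IsComplIn (Cfsg.fittingHallOf M) U ⁅M, M⁆)),
    (∀ (p : ℕ), p.Prime → ∀ P : Sylow p U, IsMulCommutative (P : Subgroup U) ∧ Cfsg.PRankLE p 2 (P : Subgroup U)) ∧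
      (∀ X : Set G, X ⊆ (U : Set G) \ {1} → X.Nonempty → Cfsg.fittingHallOf M ⊓ Subgroup.centralizer X ≠ ⊥ →
        Subgroup.centralizer X ≤ M ∧ ∀ L : Subgroup G, IsCoatom L → Subgroup.centralizer X ≤ L → L = M) ∧
      Cfsg.IsTISubset (Cfsg.typeA M \ Cfsg.typeA1 M)

/-- The statement of S1391 (tame embedding). -/
def St1391 (G : Type u) [Group G] : Prop :=
  ∀ (M : Subgroup G) (_ : IsCoatom M) (X : Set G) (_ : X = Cfsg.typeA M ∨ X = Cfsg.typeA0 M),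
    (∀ x ∈ X, ∀ g : G, g * x * g⁻¹ ∈ X → ∃ m ∈ M, m * x * m⁻¹ = g * x * g⁻¹) ∧
      (∀ x ∈ X, ¬ Subgroup.centralizer ({x} : Set G) ≤ M → x ∈ Cfsg.typeA1 M ∧ ∃! L : Subgroup G, IsCoatom L ∧ Subgroup.centralizer ({x} : Set G) ≤ L) ∧
      ∀ x ∈ X, ¬ Subgroup.centralizer ({x} : Set G) ≤ M → ∀ L : Subgroup G, IsCoatom L → Subgroup.centralizer ({x} : Set G) ≤ L →
        Cfsg.IsComplIn (Cfsg.fittingHallOf L) (M ⊓ L) L ∧
        Subgroup.centralizer ({x} : Set G) ≤ Subgroup.normalizer ((Cfsg.fittingHallOf L ⊓ Subgroup.centralizer ({x} : Set G) : Subgroup G) : Set G) ∧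
        Cfsg.IsComplIn (Cfsg.fittingHallOf L ⊓ Subgroup.centralizer ({x} : Set G)) (M ⊓ Subgroup.centralizer ({x} : Set G)) (Subgroup.centralizer ({x} : Set G)) ∧
        (∀ y ∈ X, (Nat.card (Cfsg.fittingHallOf L)).Coprime (Nat.card ↥(M ⊓ Subgroup.centralizer ({y} : Set G)))) ∧
        (x ∈ Cfsg.typeA L ∧ x ∉ Cfsg.typeA1 L) ∧
        (Cfsg.IsOfTypeI L ∨ Cfsg.IsOfTypeII L) ∧
        (Cfsg.IsOfTypeII L → ∃ E : Subgroup ↥M, Cfsg.IsFrobeniusComplement E ∧ Cfsg.frobeniusKernel E = ((Cfsg.fittingHall ↥M : Subgroup ↥M) : Set ↥M))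

/-! ### Basic facts -/

theorem fittingHallOf_le (M : Subgroup G) : Cfsg.fittingHallOf M ≤ M := by
  intro x hx
  obtain ⟨y, _, rfl⟩ := hx
  exact y.2

theorem conj_mem_fittingHallOf {M : Subgroup G} {m x : G} (hm : m ∈ M)
    (hx : x ∈ Cfsg.fittingHallOf M) : m * x * m⁻¹ ∈ Cfsg.fittingHallOf M := by
  obtain ⟨y, hy, rfl⟩ := hx
  refine ⟨⟨m, hm⟩ * y * ⟨m, hm⟩⁻¹, ?_, rfl⟩
  exact (Cfsg.fittingHall_normal M).conj_mem y hy ⟨m, hm⟩

theorem commutator_self_le (M : Subgroup G) : ⁅M, M⁆ ≤ M := by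
  rw [Subgroup.commutator_le]
  intro a ha b hb
  exact M.mul_mem (M.mul_mem (M.mul_mem ha hb) (M.inv_mem ha)) (M.inv_mem hb)

theorem conj_mem_commutator {M : Subgroup G} {m x : G} (hm : m ∈ M)
    (hx : x ∈ ⁅M, M⁆) : m * x * m⁻¹ ∈ ⁅M, M⁆ := by
  have hxM : x ∈ M := commutator_self_le M hx
  have h1 : m * x * m⁻¹ * x⁻¹ ∈ ⁅M, M⁆ := Subgroup.commutator_mem_commutator hm hxM
  have : m * x * m⁻¹ = (m * x * m⁻¹ * x⁻¹) * x := by group
  rw [this]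
  exact Subgroup.mul_mem _ h1 hx

theorem typeCore_le (M : Subgroup G) : Cfsg.typeCore M ≤ M := by
  unfold Cfsg.typeCore
  split_ifs
  · exact commutator_self_le M
  · exact fittingHallOf_le M

theorem conj_mem_typeCore {M : Subgroup G} {m x : G} (hm : m ∈ M)
    (hx : x ∈ Cfsg.typeCore M) : m * x * m⁻¹ ∈ Cfsg.typeCore M := by
  unfold Cfsg.typeCore at hx ⊢
  split_ifs at hx ⊢
  · exact conj_mem_commutator hm hx
  · exact conj_mem_fittingHallOf hm hx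

theorem conj_ne_one {m x : G} (hx : x ≠ 1) : m * x * m⁻¹ ≠ 1 := by
  intro h
  apply hx
  have : x = m⁻¹ * (m * x * m⁻¹) * m := by group
  rw [this, h]; group

theorem typeA1_subset (M : Subgroup G) : Cfsg.typeA1 M ⊆ (M : Set G) := fun _ hx =>
  typeCore_le M hx.1

theorem one_not_mem_typeA1 (M : Subgroup G) : (1 : G) ∉ Cfsg.typeA1 M := fun h => h.2 rfl

theorem conj_mem_typeA1 {M : Subgroup G} {m x : G} (hm : m ∈ M)
    (hx : x ∈ Cfsg.typeA1 M) : m * x * m⁻¹ ∈ Cfsg.typeA1 M :=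
  ⟨conj_mem_typeCore hm hx.1, fun h => conj_ne_one (fun h1 => hx.2 h1) h⟩

theorem typeA_subset (M : Subgroup G) : Cfsg.typeA M ⊆ (M : Set G) := by
  intro a ha
  unfold Cfsg.typeA at ha
  split_ifs at ha
  · exact ha.1
  · exact commutator_self_le M ha.1

theorem one_not_mem_typeA (M : Subgroup G) : (1 : G) ∉ Cfsg.typeA M := by
  intro ha
  unfold Cfsg.typeA at ha
  split_ifs at ha
  · exact ha.2.1 rfl
  · exact ha.2.1 rfl

theorem conj_comm {m a x : G} (h : a * x = x * a) :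
    (m * a * m⁻¹) * (m * x * m⁻¹) = (m * x * m⁻¹) * (m * a * m⁻¹) := by
  have e1 : (m * a * m⁻¹) * (m * x * m⁻¹) = m * (a * x) * m⁻¹ := by group
  have e2 : (m * x * m⁻¹) * (m * a * m⁻¹) = m * (x * a) * m⁻¹ := by group
  rw [e1, e2, h]

theorem conj_mem_typeA {M : Subgroup G} {m a : G} (hm : m ∈ M)
    (ha : a ∈ Cfsg.typeA M) : m * a * m⁻¹ ∈ Cfsg.typeA M := by
  unfold Cfsg.typeA at ha ⊢
  split_ifs at ha ⊢
  · obtain ⟨h1, h2, x, hx, hx1, hax⟩ := ha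
    exact ⟨M.mul_mem (M.mul_mem hm h1) (M.inv_mem hm), conj_ne_one h2,
      m * x * m⁻¹, conj_mem_fittingHallOf hm hx, conj_ne_one hx1, conj_comm hax⟩
  · obtain ⟨h1, h2, x, hx, hx1, hax⟩ := ha
    exact ⟨conj_mem_commutator hm h1, conj_ne_one h2,
      m * x * m⁻¹, conj_mem_typeCore hm hx, conj_ne_one hx1, conj_comm hax⟩

theorem typeA_subset_typeA0 (M : Subgroup G) : Cfsg.typeA M ⊆ Cfsg.typeA0 M :=
  fun _ h => Or.inl h

theorem typeA0_subset (M : Subgroup G) : Cfsg.typeA0 M ⊆ (M : Set G) := by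
  intro a ha
  rcases ha with ha | ⟨_, W₁, U, W₂, hP, m, hm, w, hw, _, _, rfl⟩
  · exact typeA_subset M ha
  · have hW : W₁ ⊔ W₂ ≤ M := by
      refine sup_le hP.W₁_compl.2.1 ?_
      exact hP.W₂_le.trans (inf_le_left.trans (fittingHallOf_le M))
    exact M.mul_mem (M.mul_mem hm (hW hw)) (M.inv_mem hm)

theorem one_not_mem_typeA0 (M : Subgroup G) : (1 : G) ∉ Cfsg.typeA0 M := by
  intro ha
  rcases ha with ha | ⟨_, W₁, U, W₂, hP, m, hm, w, hw, hw1, _, h⟩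
  · exact one_not_mem_typeA M ha
  · apply hw1
    have : w = 1 := by
      have : w = m⁻¹ * (m * w * m⁻¹) * m := by group
      rw [this, ← h]; group
    rw [this]; exact W₁.one_mem

theorem conj_mem_typeA0 {M : Subgroup G} {m a : G} (hm : m ∈ M)
    (ha : a ∈ Cfsg.typeA0 M) : m * a * m⁻¹ ∈ Cfsg.typeA0 M := by
  rcases ha with ha | ⟨hI, W₁, U, W₂, hP, m', hm', w, hw, hw1, hw2, rfl⟩
  · exact Or.inl (conj_mem_typeA hm ha)
  · refine Or.inr ⟨hI, W₁, U, W₂, hP, m * m', M.mul_mem hm hm', w, hw, hw1, hw2, ?_⟩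
    group

end Cfsg.Agent.Helper24.PF8
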