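import Cfsg.Agent.Helper24.PF8A

/-! Peterfalvi section 8, part B: (8.8) = S1537, the Dade hypothesis for `A₁(M)`, `A(M)`, `A₀(M)`. -/

set_option autoImplicit false
open Cfsg

namespace Cfsg.Agent.Helper24.PF8

universe u
variable {G : Type u} [Group G]

/-- Every maximal subgroup has one of the five types, and Type I excludes type P. -/
structure Types (G : Type u) [Group G] : Prop where
  cases : ∀ M : Subgroup G, IsCoatom M →
    Cfsg.IsOfTypeI M ∨ Cfsg.IsOfTypeII M ∨ Cfsg.IsOfTypeIII M ∨ Cfsg.IsOfTypeIV M ∨ Cfsg.IsOfTypeV M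
  excl : ∀ M : Subgroup G, IsCoatom M → Cfsg.IsOfTypeI M → ¬ Cfsg.IsOfTypeP M

theorem isOfTypeP_of_II {M : Subgroup G} (h : Cfsg.IsOfTypeII M) : Cfsg.IsOfTypeP M := by
  obtain ⟨W₁, U, W₂, hP, _⟩ := h; exact ⟨W₁, U, W₂, hP⟩
theorem isOfTypeP_of_III {M : Subgroup G} (h : Cfsg.IsOfTypeIII M) : Cfsg.IsOfTypeP M := by
  obtain ⟨W₁, U, W₂, hP, _⟩ := h; exact ⟨W₁, U, W₂, hP⟩
theorem isOfTypeP_of_IV {M : Subgroup G} (h : Cfsg.IsOfTypeIV M) : Cfsg.IsOfTypeP M := by
  obtain ⟨W₁, U, W₂, hP, _⟩ := h; exact ⟨W₁, U, W₂, hP⟩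
theorem isOfTypeP_of_V {M : Subgroup G} (h : Cfsg.IsOfTypeV M) : Cfsg.IsOfTypeP M := by
  obtain ⟨W₁, U, W₂, hP, _⟩ := h; exact ⟨W₁, U, W₂, hP⟩

theorem Types.typeP_of_not_I (hT : Types G) {M : Subgroup G} (hM : IsCoatom M)
    (h : ¬ Cfsg.IsOfTypeI M) : Cfsg.IsOfTypeP M := by
  rcases hT.cases M hM with h1 | h2 | h3 | h4 | h5
  · exact absurd h1 h
  · exact isOfTypeP_of_II h2
  · exact isOfTypeP_of_III h3
  · exact isOfTypeP_of_IV h4
  · exact isOfTypeP_of_V h5

theorem Types.typeCore_eq_of_I (hT : Types G) {M : Subgroup G} (hM : IsCoatom M)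
    (h : Cfsg.IsOfTypeI M) : Cfsg.typeCore M = Cfsg.fittingHallOf M := by
  unfold Cfsg.typeCore
  rw [if_neg]
  rintro (h3 | h4)
  · exact hT.excl M hM h (isOfTypeP_of_III h3)
  · exact hT.excl M hM h (isOfTypeP_of_IV h4)

theorem fittingHallOf_le_commutator_of_typeP {M : Subgroup G} (h : Cfsg.IsOfTypeP M) :
    Cfsg.fittingHallOf M ≤ ⁅M, M⁆ := by
  obtain ⟨W₁, U, W₂, hP⟩ := h
  exact hP.U_compl.1

theorem typeCore_le_commutator_of_typeP {M : Subgroup G} (h : Cfsg.IsOfTypeP M) :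
    Cfsg.typeCore M ≤ ⁅M, M⁆ := by
  unfold Cfsg.typeCore
  split_ifs
  · exact le_rfl
  · exact fittingHallOf_le_commutator_of_typeP h

theorem Types.typeA1_subset_typeA (hT : Types G) {M : Subgroup G} (hM : IsCoatom M) :
    Cfsg.typeA1 M ⊆ Cfsg.typeA M := by
  intro a ha
  by_cases hI : Cfsg.IsOfTypeI M
  · have hc := hT.typeCore_eq_of_I hM hI
    have ha' : a ∈ Cfsg.fittingHallOf M := by rw [← hc]; exact ha.1
    unfold Cfsg.typeA
    rw [if_pos hI]
    exact ⟨fittingHallOf_le M ha', fun h => ha.2 h, a, ha', fun h => ha.2 h, rfl⟩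
  · have hP := hT.typeP_of_not_I hM hI
    unfold Cfsg.typeA
    rw [if_neg hI]
    exact ⟨typeCore_le_commutator_of_typeP hP ha.1, fun h => ha.2 h, a, ha.1, fun h => ha.2 h, rfl⟩

theorem fittingHallOf_ne_bot_of_I {M : Subgroup G} (h : Cfsg.IsOfTypeI M) :
    Cfsg.fittingHallOf M ≠ ⊥ := by
  intro hb
  apply h.1.2.2.1
  unfold Cfsg.fittingHallOf at hb
  exact (Subgroup.map_eq_bot_iff_of_injective _ M.subtype_injective).mp hb

theorem fittingHallOf_ne_bot_of_typeP {M : Subgroup G} (h : Cfsg.IsOfTypeP M) :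
    Cfsg.fittingHallOf M ≠ ⊥ := by
  obtain ⟨W₁, U, W₂, hP⟩ := h
  intro hb
  apply hP.H_not_cyclic
  rw [hb]
  infer_instance

theorem Types.typeCore_ne_bot (hT : Types G) {M : Subgroup G} (hM : IsCoatom M) :
    Cfsg.typeCore M ≠ ⊥ := by
  by_cases hI : Cfsg.IsOfTypeI M
  · rw [hT.typeCore_eq_of_I hM hI]; exact fittingHallOf_ne_bot_of_I hI
  · have hP := hT.typeP_of_not_I hM hI
    have h1 := fittingHallOf_ne_bot_of_typeP hP
    unfold Cfsg.typeCore
    split_ifs
    · intro hb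
      apply h1
      have := fittingHallOf_le_commutator_of_typeP hP
      rw [hb] at this
      exact le_bot_iff.mp this
    · exact h1

theorem Types.typeA1_nonempty (hT : Types G) {M : Subgroup G} (hM : IsCoatom M) :
    (Cfsg.typeA1 M).Nonempty := by
  obtain ⟨x, hx, hx1⟩ := (Subgroup.ne_bot_iff_exists_ne_one (H := Cfsg.typeCore M)).mp
    (hT.typeCore_ne_bot hM) |> fun ⟨x, hx⟩ => (⟨x.1, x.2, fun h => hx (Subtype.ext h)⟩ :
      ∃ x : G, x ∈ Cfsg.typeCore M ∧ x ≠ 1)
  exact ⟨x, hx, hx1⟩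

/-- A nonempty `M`-invariant subset of `M ∖ 1` has set-normaliser `M`
(`M` maximal in a simple group). -/
theorem normalizer_eq_of_invariant [IsSimpleGroup G] {M : Subgroup G} (hM : IsCoatom M) {A : Set G}
    (hne : A.Nonempty) (h1 : (1 : G) ∉ A) (hAM : A ⊆ (M : Set G))
    (hconj : ∀ m ∈ M, ∀ a ∈ A, m * a * m⁻¹ ∈ A) : Subgroup.normalizer A = M := by
  have hle : M ≤ Subgroup.normalizer A := by
    intro m hm
    rw [Subgroup.mem_set_normalizer_iff]
    intro a
    constructor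
    · exact hconj m hm a
    · intro h
      have := hconj m⁻¹ (M.inv_mem hm) _ h
      have e : m⁻¹ * (m * a * m⁻¹) * m⁻¹⁻¹ = a := by group
      rwa [e] at this
  rcases hM.le_iff_eq (by
      -- normalizer ≠ ⊤
      intro htop
      have hN : (Subgroup.closure A).Normal := by
        constructor
        intro n hn g
        have hg : g ∈ Subgroup.normalizer A := by rw [htop]; trivial
        refine Subgroup.closure_induction (p := fun x _ => g * x * g⁻¹ ∈ Subgroup.closure A)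
          ?_ ?_ ?_ ?_ hn
        · intro x hx
          exact Subgroup.subset_closure ((Subgroup.mem_set_normalizer_iff.mp hg x).mp hx)
        · simp
        · intro x y _ _ hx hy
          have : g * (x * y) * g⁻¹ = (g * x * g⁻¹) * (g * y * g⁻¹) := by group
          rw [this]; exact Subgroup.mul_mem _ hx hy
        · intro x _ hx
          have : g * x⁻¹ * g⁻¹ = (g * x * g⁻¹)⁻¹ := by group
          rw [this]; exact Subgroup.inv_mem _ hx
      rcases hN.eq_bot_or_eq_top with hb | ht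
      · obtain ⟨a, ha⟩ := hne
        have : a ∈ Subgroup.closure A := Subgroup.subset_closure ha
        rw [hb, Subgroup.mem_bot] at this
        exact h1 (this ▸ ha)
      · have : Subgroup.closure A ≤ M := (Subgroup.closure_le M).mpr hAM
        rw [ht] at this
        exact hM.1 (top_le_iff.mp this)) |>.mp hle with h
  exact h

end Cfsg.Agent.Helper24.PF8
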