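import Cfsg.Agent.Helper24.PF8B

/-! Peterfalvi section 8, part C: (8.8) = S1537, the Dade hypothesis. -/

set_option autoImplicit false
open Cfsg

namespace Cfsg.Agent.Helper24.PF8

universe u
variable {G : Type u} [Group G]

theorem isComplIn_sup {A B M : Subgroup G} (h : Cfsg.IsComplIn A B M) : A ⊔ B = M := by
  apply le_antisymm (sup_le h.1 h.2.1)
  intro m hm
  obtain ⟨a, ha, b, hb, rfl⟩ := h.2.2.2 m hm
  exact Subgroup.mul_mem _ (Subgroup.mem_sup_left ha) (Subgroup.mem_sup_right hb)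

/-- The two possible shapes of `R(a)` for `a` in `A(M)` or `A₀(M)`. -/
theorem supportR_cases (h1391 : St1391 G) {M : Subgroup G} (hM : IsCoatom M) {X : Set G}
    (hX : X = Cfsg.typeA M ∨ X = Cfsg.typeA0 M) {a : G} (ha : a ∈ X) :
    (Subgroup.centralizer ({a} : Set G) ≤ M ∧ Cfsg.supportR M a = ⊥) ∨
    (¬ Subgroup.centralizer ({a} : Set G) ≤ M ∧ ∃ L : Subgroup G, IsCoatom L ∧
      Subgroup.centralizer ({a} : Set G) ≤ L ∧
      Cfsg.supportR M a = Cfsg.fittingHallOf L ⊓ Subgroup.centralizer ({a} : Set G)) := by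
  by_cases hc : Subgroup.centralizer ({a} : Set G) ≤ M
  · left
    refine ⟨hc, ?_⟩
    unfold Cfsg.supportR
    rw [dif_neg]
    intro h
    exact h.1 hc
  · right
    refine ⟨hc, ?_⟩
    have hex := ((h1391 M hM X hX).2.1 a ha hc).2
    have h : ¬ Subgroup.centralizer ({a} : Set G) ≤ M ∧
      ∃! L : Subgroup G, IsCoatom L ∧ Subgroup.centralizer ({a} : Set G) ≤ L := ⟨hc, hex⟩
    refine ⟨Classical.choose h.2.exists, (Classical.choose_spec h.2.exists).1,
      (Classical.choose_spec h.2.exists).2, ?_⟩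
    unfold Cfsg.supportR
    rw [dif_pos h]

theorem dadeHypothesis_of_subset (h1391 : St1391 G) {M : Subgroup G} (hM : IsCoatom M) {X : Set G}
    (hX : X = Cfsg.typeA M ∨ X = Cfsg.typeA0 M) {A : Set G} (hAX : A ⊆ X)
    (h1 : (1 : G) ∉ A) (hAM : A ⊆ (M : Set G)) (hconj : ∀ m ∈ M, ∀ a ∈ A, m * a * m⁻¹ ∈ A) :
    Cfsg.DadeHypothesis A M (Cfsg.supportR M) := by
  have H := h1391 M hM X hX
  refine ⟨h1, hAM, hconj, ?_, ?_, ?_, ?_, ?_, ?_⟩
  · intro a ha g hg
    exact H.1 a (hAX ha) g (hAX hg)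
  · intro a ha
    rcases supportR_cases h1391 hM hX (hAX ha) with ⟨_, h2⟩ | ⟨_, L, _, _, h2⟩
    · rw [h2]; exact bot_le
    · rw [h2]; exact inf_le_right
  · intro a ha c hc u hu
    rcases supportR_cases h1391 hM hX (hAX ha) with ⟨_, h2⟩ | ⟨hnc, L, hL, hcL, h2⟩
    · rw [h2] at hu ⊢
      rw [Subgroup.mem_bot] at hu ⊢
      rw [hu]; group
    · rw [h2] at hu ⊢
      have hn := (H.2.2 a (hAX ha) hnc L hL hcL).2.1 hc
      exact (Subgroup.mem_normalizer_iff.mp hn u).mp hu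
  · intro a ha
    rcases supportR_cases h1391 hM hX (hAX ha) with ⟨_, h2⟩ | ⟨hnc, L, hL, hcL, h2⟩
    · rw [h2]; exact bot_inf_eq _
    · rw [h2]
      exact (H.2.2 a (hAX ha) hnc L hL hcL).2.2.1.2.2.1
  · intro a ha
    rcases supportR_cases h1391 hM hX (hAX ha) with ⟨hc, h2⟩ | ⟨hnc, L, hL, hcL, h2⟩
    · rw [h2, bot_sup_eq]
      exact inf_eq_right.mpr hc
    · rw [h2]
      exact isComplIn_sup (H.2.2 a (hAX ha) hnc L hL hcL).2.2.1
  · intro a ha b hb
    rcases supportR_cases h1391 hM hX (hAX ha) with ⟨_, h2⟩ | ⟨hnc, L, hL, hcL, h2⟩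
    · rw [h2]
      simp
    · rw [h2]
      have hcop := (H.2.2 a (hAX ha) hnc L hL hcL).2.2.2.1 b (hAX hb)
      exact Nat.Coprime.coprime_dvd_left (Subgroup.card_dvd_of_le inf_le_left) hcop

/-- Peterfalvi (8.8) = S1537 from `Types` and S1391. -/
theorem s1537_of [IsSimpleGroup G] (hT : Types G) (h1391 : St1391 G) (M : Subgroup G)
    (hM : IsCoatom M) (A : Set G)
    (hA : A = Cfsg.typeA1 M ∨ A = Cfsg.typeA M ∨ A = Cfsg.typeA0 M) :
    Subgroup.normalizer A = M ∧ Cfsg.DadeHypothesis A M (Cfsg.supportR M) := by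
  have hne1 := hT.typeA1_nonempty hM
  have hsub := hT.typeA1_subset_typeA hM
  rcases hA with rfl | rfl | rfl
  · refine ⟨normalizer_eq_of_invariant hM hne1 (one_not_mem_typeA1 M) (typeA1_subset M)
      (fun m hm a ha => conj_mem_typeA1 hm ha), ?_⟩
    exact dadeHypothesis_of_subset h1391 hM (Or.inl rfl) hsub (one_not_mem_typeA1 M)
      (typeA1_subset M) (fun m hm a ha => conj_mem_typeA1 hm ha)
  · refine ⟨normalizer_eq_of_invariant hM (hne1.mono hsub) (one_not_mem_typeA M) (typeA_subset M)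
      (fun m hm a ha => conj_mem_typeA hm ha), ?_⟩
    exact dadeHypothesis_of_subset h1391 hM (Or.inl rfl) subset_rfl (one_not_mem_typeA M)
      (typeA_subset M) (fun m hm a ha => conj_mem_typeA hm ha)
  · refine ⟨normalizer_eq_of_invariant hM (hne1.mono (hsub.trans (typeA_subset_typeA0 M)))
      (one_not_mem_typeA0 M) (typeA0_subset M)
      (fun m hm a ha => conj_mem_typeA0 hm ha), ?_⟩
    exact dadeHypothesis_of_subset h1391 hM (Or.inr rfl) subset_rfl (one_not_mem_typeA0 M)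
      (typeA0_subset M) (fun m hm a ha => conj_mem_typeA0 hm ha)

end Cfsg.Agent.Helper24.PF8
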