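import Cfsg.Agent.Helper24.PF8C

/-! Peterfalvi section 8, part D: (8.9) = S1538: for Type II, `A₀(M)`, `A(M)`, `A₁(M)` are TI. -/

set_option autoImplicit false
open Cfsg

namespace Cfsg.Agent.Helper24.PF8

universe u
variable {G : Type u} [Group G]

theorem fittingHallOf_le_fittingOf (M : Subgroup G) : Cfsg.fittingHallOf M ≤ Cfsg.fittingOf M := by
  unfold Cfsg.fittingHallOf Cfsg.fittingOf
  apply Subgroup.map_mono
  apply sSup_le
  intro N hN
  exact le_sSup ⟨hN.1, hN.2.1⟩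

theorem fittingOf_le (M : Subgroup G) : Cfsg.fittingOf M ≤ M := by
  intro x hx
  obtain ⟨y, _, rfl⟩ := hx
  exact y.2

theorem conj_mem_fittingOf {M : Subgroup G} {m x : G} (hm : m ∈ M)
    (hx : x ∈ Cfsg.fittingOf M) : m * x * m⁻¹ ∈ Cfsg.fittingOf M := by
  obtain ⟨y, hy, rfl⟩ := hx
  refine ⟨⟨m, hm⟩ * y * ⟨m, hm⟩⁻¹, ?_, rfl⟩
  have hn : (Cfsg.fittingSubgroup ↥M).Normal := Subgroup.sSup_normal _ (fun _ h => h.1)
  exact hn.conj_mem y hy ⟨m, hm⟩

/-- A nontrivial subgroup of a maximal subgroup `M` of a simple group normalised by `M` has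
normaliser `M`. -/
theorem normalizer_subgroup_eq [IsSimpleGroup G] {M N : Subgroup G} (hM : IsCoatom M)
    (hN1 : N ≠ ⊥) (hNM : N ≤ M) (hconj : ∀ m ∈ M, ∀ a ∈ N, m * a * m⁻¹ ∈ N) :
    Subgroup.normalizer (N : Set G) = M := by
  have hle : M ≤ Subgroup.normalizer (N : Set G) := by
    intro m hm
    rw [Subgroup.mem_normalizer_iff]
    intro a
    constructor
    · exact hconj m hm a
    · intro h
      have := hconj m⁻¹ (M.inv_mem hm) _ h
      have e : m⁻¹ * (m * a * m⁻¹) * m⁻¹⁻¹ = a := by group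
      rwa [e] at this
  refine (hM.le_iff_eq ?_).mp hle
  intro htop
  have hN : N.Normal := Subgroup.normalizer_eq_top_iff.mp htop
  rcases hN.eq_bot_or_eq_top with hb | ht
  · exact hN1 hb
  · rw [ht] at hNM
    exact hM.1 (top_le_iff.mp hNM)

/-- `Types` extended by: Type II excludes Types III and IV. -/
structure Types2 (G : Type u) [Group G] : Prop extends Types G where
  excl2 : ∀ M : Subgroup G, IsCoatom M → Cfsg.IsOfTypeII M →
    ¬ (Cfsg.IsOfTypeIII M ∨ Cfsg.IsOfTypeIV M)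

/-- For `M` of Type II, every element of `A₀(M)` has its centraliser in `M`. -/
theorem centralizer_le_of_typeII [IsSimpleGroup G] (hT : Types2 G) (h1391 : St1391 G)
    {M : Subgroup G} (hM : IsCoatom M) (hII : Cfsg.IsOfTypeII M) {x : G}
    (hx : x ∈ Cfsg.typeA0 M) : Subgroup.centralizer ({x} : Set G) ≤ M := by
  by_contra hc
  have h1 := ((h1391 M hM _ (Or.inr rfl)).2.1 x hx hc).1
  have hcore : Cfsg.typeCore M = Cfsg.fittingHallOf M := by
    unfold Cfsg.typeCore
    rw [if_neg (hT.excl2 M hM hII)]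
  have hxF : x ∈ Cfsg.fittingOf M := by
    apply fittingHallOf_le_fittingOf
    rw [← hcore]; exact h1.1
  obtain ⟨W₁, U, W₂, hP, _, _, hTI, _⟩ := hII
  have hF1 : Cfsg.fittingOf M ≠ ⊥ := by
    intro hb
    rw [hb, Subgroup.mem_bot] at hxF
    exact h1.2 hxF
  have hN : Subgroup.normalizer ((Cfsg.fittingOf M : Subgroup G) : Set G) = M :=
    normalizer_subgroup_eq hM hF1 (fittingOf_le M) (fun m hm a ha => conj_mem_fittingOf hm ha)
  apply hc
  intro g hg
  by_contra hgM
  rw [← hN] at hgM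
  have hgx : g * x * g⁻¹ = x := by
    have := Subgroup.mem_centralizer_iff.mp hg x rfl
    rw [← this]; group
  have := hTI g hgM x hxF (by rw [hgx]; exact hxF)
  exact h1.2 this

/-- A subset satisfying the Dade fusion condition all of whose elements have centralisers in the
normaliser is a TI-subset. -/
theorem isTISubset_of_fusion {M : Subgroup G} {A : Set G} (hN : Subgroup.normalizer A = M)
    (hfus : ∀ a ∈ A, ∀ g : G, g * a * g⁻¹ ∈ A → ∃ x ∈ M, x * a * x⁻¹ = g * a * g⁻¹)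
    (hc : ∀ a ∈ A, Subgroup.centralizer ({a} : Set G) ≤ M) : Cfsg.IsTISubset A := by
  intro g hg x hx hgx
  exfalso
  apply hg
  rw [hN]
  obtain ⟨m, hm, hmx⟩ := hfus x hx g hgx
  have : m⁻¹ * g ∈ Subgroup.centralizer ({x} : Set G) := by
    rw [Subgroup.mem_centralizer_iff]
    intro y hy
    rw [Set.mem_singleton_iff] at hy
    subst hy
    have e : m⁻¹ * g * y = m⁻¹ * (g * y * g⁻¹) * g := by group
    rw [e, ← hmx]; group
  have h2 := hc x hx this
  have : g = m * (m⁻¹ * g) := by group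
  rw [this]
  exact M.mul_mem hm h2

/-- Peterfalvi (8.9) = S1538. -/
theorem s1538_of [IsSimpleGroup G] (hT : Types2 G) (h1391 : St1391 G) (M : Subgroup G)
    (hM : IsCoatom M) (hII : Cfsg.IsOfTypeII M) :
    (Cfsg.IsTISubset (Cfsg.typeA0 M) ∧ Subgroup.normalizer (Cfsg.typeA0 M) = M) ∧
    (Cfsg.IsTISubset (Cfsg.typeA M) ∧ Subgroup.normalizer (Cfsg.typeA M) = M) ∧
    (Cfsg.IsTISubset (Cfsg.typeA1 M) ∧ Subgroup.normalizer (Cfsg.typeA1 M) = M) := by
  have h0 := s1537_of hT.toTypes h1391 M hM _ (Or.inr (Or.inr rfl))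
  have hA := s1537_of hT.toTypes h1391 M hM _ (Or.inr (Or.inl rfl))
  have h1 := s1537_of hT.toTypes h1391 M hM _ (Or.inl rfl)
  have hsub := hT.toTypes.typeA1_subset_typeA hM
  refine ⟨⟨?_, h0.1⟩, ⟨?_, hA.1⟩, ⟨?_, h1.1⟩⟩
  · exact isTISubset_of_fusion h0.1 h0.2.fusion
      (fun a ha => centralizer_le_of_typeII hT h1391 hM hII ha)
  · exact isTISubset_of_fusion hA.1 hA.2.fusion
      (fun a ha => centralizer_le_of_typeII hT h1391 hM hII (typeA_subset_typeA0 M ha))
  · exact isTISubset_of_fusion h1.1 h1.2.fusion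
      (fun a ha => centralizer_le_of_typeII hT h1391 hM hII (typeA_subset_typeA0 M (hsub ha)))

end Cfsg.Agent.Helper24.PF8
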