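import Mathlib
import Cfsg.Prelude.Def_Characters
import Cfsg.Agent.Helper23.CharGalois
import Cfsg.Agent.Helper23.GaloisConj

/-!
A character all of whose values are positive reals and which contains the principal character
exactly once is the principal character (AM–GM and Galois conjugation, as in Burnside's theorem on
zeros of characters).
-/

set_option autoImplicit false

namespace Cfsg.Agent.Helper24

open Cfsg.Agent.Helper23

universe u v

/-- AM-GM bound: for a nonzero algebraic integer `x` in a number field `K ⊆ ℂ`,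
`#embeddings ≤ ∑_σ ‖σ x‖`. -/
theorem card_le_sum_norm (K : IntermediateField ℚ ℂ) [FiniteDimensional ℚ K] (x : K)
    (hx : x ≠ 0) (hint : IsIntegral ℤ x) :
    (Fintype.card (K →ₐ[ℚ] ℂ) : ℝ) ≤ ∑ σ : K →ₐ[ℚ] ℂ, ‖σ x‖ := by
  classical
  have hnorm_int : IsIntegral ℤ (Algebra.norm ℚ x) := Algebra.isIntegral_norm ℚ hint
  obtain ⟨m, hm⟩ := (IsIntegrallyClosed.isIntegral_iff (R := ℤ) (K := ℚ)).mp hnorm_int
  have hprod := Algebra.norm_eq_prod_embeddings ℚ ℂ x
  have hm0 : m ≠ 0 := by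
    intro h0
    have : Algebra.norm ℚ x = 0 := by rw [← hm, h0]; simp
    exact hx (Algebra.norm_eq_zero_iff.mp this)
  have h1 : ((m : ℚ) : ℂ) = ∏ σ : K →ₐ[ℚ] ℂ, σ x := by
    rw [← hprod, ← hm]; simp
  have h2 : (1 : ℝ) ≤ ∏ σ : K →ₐ[ℚ] ℂ, ‖σ x‖ := by
    rw [← norm_prod, ← h1]
    have h3 : ‖((m : ℚ) : ℂ)‖ = |(m : ℝ)| := by
      rw [show ((m : ℚ) : ℂ) = ((m : ℝ) : ℂ) by push_cast; rfl, Complex.norm_real]
      rfl
    rw [h3]
    have : (1 : ℤ) ≤ |m| := Int.one_le_abs hm0
    exact_mod_cast this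
  set E := Fintype.card (K →ₐ[ℚ] ℂ) with hE
  by_cases hE0 : E = 0
  · rw [hE0]; simp only [Nat.cast_zero]
    exact Finset.sum_nonneg (fun σ _ => by positivity)
  have hEpos : (0 : ℝ) < E := by exact_mod_cast Nat.pos_of_ne_zero hE0
  have key := Real.geom_mean_le_arith_mean_weighted Finset.univ
    (fun _ : K →ₐ[ℚ] ℂ => (E : ℝ)⁻¹) (fun σ => ‖σ x‖)
    (fun _ _ => by positivity)
    (by rw [Finset.sum_const, Finset.card_univ, nsmul_eq_mul, ← hE]; field_simp)
    (fun σ _ => by positivity)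
  rw [Real.finsetProd_rpow _ _ (fun σ _ => by positivity), ← Finset.mul_sum] at key
  have h5 : (1 : ℝ) ≤ (∏ σ : K →ₐ[ℚ] ℂ, ‖σ x‖) ^ (E : ℝ)⁻¹ :=
    Real.one_le_rpow h2 (by positivity)
  have h6 : (1 : ℝ) ≤ (E : ℝ)⁻¹ * ∑ σ : K →ₐ[ℚ] ℂ, ‖σ x‖ := h5.trans key
  calc (E : ℝ) = E * 1 := by ring
    _ ≤ E * ((E : ℝ)⁻¹ * ∑ σ : K →ₐ[ℚ] ℂ, ‖σ x‖) := by
        exact mul_le_mul_of_nonneg_left h6 hEpos.le
    _ = ∑ σ : K →ₐ[ℚ] ℂ, ‖σ x‖ := by field_simp

section

variable {Q : Type u} [Group Q] [Fintype Q]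
variable {V : Type v} [AddCommGroup V] [Module ℂ V] [FiniteDimensional ℂ V]

/-- A character with positive real values whose values sum to `|Q|` has degree at most one. -/
theorem finrank_le_one_of_pos_values (ρ : Representation ℂ Q V)
    (hpos : ∀ q : Q, ∃ r : ℝ, 0 < r ∧ ρ.character q = r)
    (hsum : ∑ q : Q, ρ.character q = (Nat.card Q : ℂ)) :
    Module.finrank ℂ V ≤ 1 := by
  classical
  set N := Nat.card Q with hN
  have hNpos : 0 < N := Nat.card_pos
  have hfd : FiniteDimensional ℚ (cyclo N) := finiteDimensional_cyclo N hNpos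
  let x : Q → cyclo N := fun g => ⟨ρ.character g, char_mem_cyclo ρ g⟩
  set E := Fintype.card (cyclo N →ₐ[ℚ] ℂ) with hE
  have hEpos : 0 < E := Fintype.card_pos_iff.mpr ⟨(cyclo N).val⟩
  -- real parts
  obtain ⟨r, hr⟩ : ∃ r : Q → ℝ, ∀ q, 0 < r q ∧ ρ.character q = r q :=
    ⟨fun q => (hpos q).choose, fun q => (hpos q).choose_spec⟩
  have hnorm : ∀ q, ‖ρ.character q‖ = r q := by
    intro q
    rw [(hr q).2, Complex.norm_real, Real.norm_of_nonneg (hr q).1.le]
  have hr1 : r 1 = (Module.finrank ℂ V : ℝ) := by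
    have h := (hr 1).2
    rw [Representation.char_one] at h
    exact_mod_cast h.symm
  have hsumr : ∑ q : Q, r q = (N : ℝ) := by
    have h : ∑ q : Q, ρ.character q = ((∑ q : Q, r q : ℝ) : ℂ) := by
      push_cast
      exact Finset.sum_congr rfl (fun q _ => (hr q).2)
    rw [h] at hsum
    exact_mod_cast hsum
  let R : Finset Q := Finset.univ.filter (fun q : Q => q ≠ 1)
  have h1 : ∀ g ∈ R, (E : ℝ) ≤ ∑ σ : cyclo N →ₐ[ℚ] ℂ, ‖σ (x g)‖ := by
    intro g _
    apply card_le_sum_norm (cyclo N) (x g) _ (char_isIntegral_cyclo ρ g)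
    intro h0
    have h2 := congrArg (fun y : cyclo N => (y : ℂ)) h0
    have h3 : ρ.character g = 0 := by simpa [x] using h2
    rw [(hr g).2] at h3
    have : r g = 0 := by exact_mod_cast h3
    exact (hr g).1.ne' this
  have h2 : ∀ σ : cyclo N →ₐ[ℚ] ℂ, ∑ g ∈ R, ‖σ (x g)‖ = ∑ g ∈ R, r g := by
    intro σ
    obtain ⟨k, hkcop, hk⟩ := exists_pow_of_embedding N hNpos σ
    have hσx : ∀ g, σ (x g) = ρ.character (g ^ k) := fun g => embedding_char ρ σ k hk g
    have hcop : (Nat.card Q).Coprime k := hkcop.symm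
    let e : Q ≃ Q := powCoprime hcop
    have he : ∀ g, e g = g ^ k := fun g => rfl
    have hmem : ∀ g, g ∈ R ↔ e g ∈ R := by
      intro g
      simp only [R, Finset.mem_filter, Finset.mem_univ, true_and, he]
      constructor
      · intro hg h1'
        apply hg
        have : e g = e 1 := by rw [he, he, h1', one_pow]
        exact e.injective this
      · intro hg h1'
        apply hg
        rw [h1', one_pow]
    exact Finset.sum_equiv e (s := R) (t := R) (f := fun g => ‖σ (x g)‖)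
      (g := fun g => r g) hmem (by
        intro g _
        simp only [hσx g, he g, hnorm])
  have h3 : (R.card : ℝ) * E ≤ ∑ g ∈ R, ∑ σ : cyclo N →ₐ[ℚ] ℂ, ‖σ (x g)‖ := by
    have := Finset.sum_le_sum h1
    rw [Finset.sum_const, nsmul_eq_mul] at this
    exact this
  rw [Finset.sum_comm, Finset.sum_congr rfl (fun σ _ => h2 σ), Finset.sum_const, Finset.card_univ,
    nsmul_eq_mul, ← hE, mul_comm] at h3
  have hE' : (0 : ℝ) < E := by exact_mod_cast hEpos
  have h4 : (R.card : ℝ) ≤ ∑ g ∈ R, r g := le_of_mul_le_mul_left h3 hE'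
  -- `R.card = N - 1` and `∑_R r = N - r 1`
  have hRcard : (R.card : ℝ) = (N : ℝ) - 1 := by
    have : R.card + 1 = N := by
      rw [hN, Nat.card_eq_fintype_card, ← Finset.card_univ (α := Q)]
      have : R = Finset.univ.erase (1 : Q) := by
        ext g
        simp [R]
      rw [this, Finset.card_erase_of_mem (Finset.mem_univ _)]
      have : 0 < (Finset.univ : Finset Q).card := Finset.card_pos.mpr ⟨1, Finset.mem_univ _⟩
      omega
    have h' : ((R.card + 1 : ℕ) : ℝ) = (N : ℝ) := by rw [this]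
    push_cast at h'
    linarith
  have hRsum : ∑ g ∈ R, r g = (N : ℝ) - r 1 := by
    have : ∑ g : Q, r g = r 1 + ∑ g ∈ R, r g := by
      have hR : R = Finset.univ.erase (1 : Q) := by
        ext g
        simp [R]
      rw [hR, Finset.add_sum_erase _ _ (Finset.mem_univ _)]
    rw [hsumr] at this
    linarith
  rw [hRcard, hRsum, hr1] at h4
  have : (Module.finrank ℂ V : ℝ) ≤ 1 := by linarith
  exact_mod_cast this

end

end Cfsg.Agent.Helper24
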