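import Mathlib
import Cfsg.Prelude.Def_Blocks
import Cfsg.Agent.Helper5.BlockSupport
import Cfsg.Agent.Helper24.Codegree

/-!
The principal block contains a nontrivial character of `p'`-degree iff `p` divides `|G|`.
-/

namespace Cfsg.Agent.Helper24

open Cfsg Cfsg.Agent.Helper5 Cfsg.Agent.Helper5.Loc Cfsg.Agent.Helper5.CC

universe u

section PrincipalPPrime

variable {G : Type u} [Group G] [Finite G]

theorem principal_pprime_trivial_iff (p : ℕ) [hp : Fact p.Prime] (M : Ideal AlgInt)
    (hM : IsPModular p M) :
    (∀ χ : IrrCharacter G, χ ∈ principalBlock M G → ¬ p ∣ charDegree (χ : G → ℂ) →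
      (χ : G → ℂ) = fun _ => (1 : ℂ)) ↔ ¬ p ∣ Nat.card G := by
  classical
  haveI : Fintype G := Fintype.ofFinite G
  haveI : Fintype (IrrCharacter G) := Fintype.ofFinite _
  have hMp := isPrime_of_isPModular hM
  have hB : IsPBlock M (principalBlock M G) := ⟨trivIrr G, rfl⟩
  have htriv : trivIrr G ∈ principalBlock M G := mem_blockOf_self hMp (trivIrr G)
  constructor
  · intro h hpG
    obtain ⟨z, hz⟩ := exists_prime_orderOf_dvd_card' p hpG
    have h0 := blockCoeff_eq_zero_of_singular hM hB z (by rw [hz])
    rw [blockCoeff_eq] at h0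
    have hG : (Nat.card G : ℂ)⁻¹ ≠ 0 := inv_ne_zero (by exact_mod_cast Nat.card_pos.ne')
    have h1 := (mul_eq_zero.mp h0).resolve_left hG
    rw [← Finset.add_sum_erase _ _ (Finset.mem_univ (trivIrr G)), if_pos htriv] at h1
    simp only [trivIrr_apply, map_one, mul_one] at h1
    have h2 : MemLocalIdeal M (∑ χ ∈ Finset.univ.erase (trivIrr G),
        (if χ ∈ principalBlock M G then (1 : ℂ) else 0) *
          ((χ : G → ℂ) 1 * (starRingEnd ℂ) ((χ : G → ℂ) z))) := by
      apply li_sum hMp
      intro χ hχ
      by_cases hχB : χ ∈ principalBlock M G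
      · rw [if_pos hχB, one_mul]
        have hne : χ ≠ trivIrr G := Finset.ne_of_mem_erase hχ
        have hdvd : p ∣ charDegree (χ : G → ℂ) := by
          by_contra hnd
          apply hne
          apply Subtype.ext
          exact h χ hχB hnd
        rw [charDegree_irr] at hdvd
        apply li_mul_right hMp
        · rw [irrDeg_spec]
          exact (memLocalIdeal_natCast_iff hM _).mpr hdvd
        · apply memLocalRing_of_isIntegral hMp
          rw [← irr_inv]
          exact irr_isIntegral χ _
      · rw [if_neg hχB, zero_mul]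
        exact memLocalIdeal_zero hMp
    have h3 : (1 : ℂ) = -(∑ χ ∈ Finset.univ.erase (trivIrr G),
        (if χ ∈ principalBlock M G then (1 : ℂ) else 0) *
          ((χ : G → ℂ) 1 * (starRingEnd ℂ) ((χ : G → ℂ) z))) := by
      linear_combination h1
    apply not_memLocalIdeal_one hMp
    rw [h3]
    exact li_neg h2
  · intro hpG χ hχ _
    have hloc : ∀ t : G, MemLocalRing M (blockCoeff ({trivIrr G} : Set (IrrCharacter G)) t) := by
      intro t
      rw [blockCoeff_eq]
      rw [Finset.sum_eq_single (trivIrr G)]
      · rw [if_pos (Set.mem_singleton _)]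
        simp only [trivIrr_apply, map_one, mul_one]
        exact memLocalRing_inv_natCast hM hpG
      · intro ψ _ hψ
        rw [if_neg (by simpa using hψ), zero_mul]
      · intro h; exact absurd (Finset.mem_univ _) h
    have h1 := act_sub_act_memLocalIdeal hMp (isClassFunction_blockCoeff _) hloc
      (χ := trivIrr G) (ψ := χ) hχ
    rw [act_blockCoeff, act_blockCoeff, if_pos (Set.mem_singleton _)] at h1
    by_cases hχt : χ = trivIrr G
    · rw [hχt]; rfl
    · rw [if_neg (by simpa using hχt), sub_zero] at h1
      exact absurd h1 (not_memLocalIdeal_one hMp)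

end PrincipalPPrime

end Cfsg.Agent.Helper24
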