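import Mathlib
import Cfsg.Prelude.Def_Characters
import Cfsg.Agent.Helper24.QP889Defs
import Cfsg.Agent.Helper24.CosetAverage

/-!
S0889, piece ISOM: multiplication by a character restricting irreducibly to a normal subgroup
`A` is an isometry on `A`-invariant functions.
-/

set_option autoImplicit false

namespace Cfsg.Agent.QP889

open Cfsg Cfsg.Agent.Helper24
open scoped ComplexConjugate

universe u

/-- the coset sums of `|ρ|²` are all equal to `|A|`. -/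
theorem isom_coset_sum {Γ : Type u} [Group Γ] [Fintype Γ] (A : Subgroup Γ) [A.Normal] [Fintype A]
    (ρ : Γ → ℂ) (hρ : IsIrrCharacter Γ ρ) (hρA : IsIrrCharacter A (fun a : A => ρ a)) (g : Γ) :
    ∑ n : A, ρ ((n : Γ) * g) * conj (ρ ((n : Γ) * g)) = (Nat.card A : ℂ) := by
  have h := (coset_average_theorem A ρ hρ hρA ρ hρ _ rfl).2.2 rfl
  have h1 := congrFun h g
  have hA : (Nat.card A : ℂ) ≠ 0 := by exact_mod_cast Nat.card_pos.ne'
  have h2 : (Nat.card A : ℂ)⁻¹ * ∑ n : A, ρ ((n : Γ) * g) * conj (ρ ((n : Γ) * g)) = 1 := h1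
  rw [inv_mul_eq_iff_eq_mul₀ hA, mul_one] at h2
  exact h2

theorem isom_sum_eq {Γ : Type u} [Group Γ] [Fintype Γ] (A : Subgroup Γ) [A.Normal]
    (ρ : Γ → ℂ) (hρ : IsIrrCharacter Γ ρ) (hρA : IsIrrCharacter A (fun a : A => ρ a))
    (F : Γ → ℂ) (hF : InvOn A F) :
    ∑ g : Γ, F g * (ρ g * conj (ρ g)) = ∑ g : Γ, F g := by
  classical
  haveI : Fintype A := Fintype.ofFinite _
  have hA : (Nat.card A : ℂ) ≠ 0 := by exact_mod_cast Nat.card_pos.ne'
  have h1 : ∀ n : A, ∑ g : Γ, F g * (ρ g * conj (ρ g)) =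
      ∑ g : Γ, F g * (ρ ((n : Γ) * g) * conj (ρ ((n : Γ) * g))) := by
    intro n
    rw [← Equiv.sum_comp (Equiv.mulLeft (n : Γ)) (fun g => F g * (ρ g * conj (ρ g)))]
    refine Finset.sum_congr rfl ?_
    intro g _
    simp only [Equiv.coe_mulLeft]
    rw [hF n n.2 g]
  have h2 : (Nat.card A : ℂ) * ∑ g : Γ, F g * (ρ g * conj (ρ g)) =
      (Nat.card A : ℂ) * ∑ g : Γ, F g := by
    calc (Nat.card A : ℂ) * ∑ g : Γ, F g * (ρ g * conj (ρ g))
        = ∑ n : A, ∑ g : Γ, F g * (ρ g * conj (ρ g)) := by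
          rw [Finset.sum_const, Finset.card_univ, nsmul_eq_mul, Nat.card_eq_fintype_card]
      _ = ∑ n : A, ∑ g : Γ, F g * (ρ ((n : Γ) * g) * conj (ρ ((n : Γ) * g))) :=
          Finset.sum_congr rfl (fun n _ => h1 n)
      _ = ∑ g : Γ, ∑ n : A, F g * (ρ ((n : Γ) * g) * conj (ρ ((n : Γ) * g))) :=
          Finset.sum_comm
      _ = ∑ g : Γ, F g * (Nat.card A : ℂ) := by
          refine Finset.sum_congr rfl ?_
          intro g _
          rw [← Finset.mul_sum, isom_coset_sum A ρ hρ hρA g]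
      _ = (Nat.card A : ℂ) * ∑ g : Γ, F g := by
          rw [← Finset.sum_mul, mul_comm]
  exact mul_left_cancel₀ hA h2

theorem classInner_mul_of_invOn {Γ : Type u} [Group Γ] [Fintype Γ] (A : Subgroup Γ) [A.Normal]
    (ρ : Γ → ℂ) (hρ : IsIrrCharacter Γ ρ) (hρA : IsIrrCharacter A (fun a : A => ρ a))
    (f₁ f₂ : Γ → ℂ) (h₁ : InvOn A f₁) (h₂ : InvOn A f₂) :
    classInner (fun g => ρ g * f₁ g) (fun g => ρ g * f₂ g) = classInner f₁ f₂ := by
  unfold classInner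
  congr 1
  have hF : InvOn A (fun g => f₁ g * conj (f₂ g)) := by
    intro a ha g
    show f₁ (a * g) * conj (f₂ (a * g)) = f₁ g * conj (f₂ g)
    rw [h₁ a ha g, h₂ a ha g]
  rw [← isom_sum_eq A ρ hρ hρA _ hF]
  refine Finset.sum_congr rfl ?_
  intro g _
  simp only [map_mul]
  ring

theorem eq_of_mul_eq {Γ : Type u} [Group Γ] [Fintype Γ] (A : Subgroup Γ) [A.Normal]
    (ρ : Γ → ℂ) (hρ : IsIrrCharacter Γ ρ) (hρA : IsIrrCharacter A (fun a : A => ρ a))
    (f₁ f₂ : Γ → ℂ) (h₁ : InvOn A f₁) (h₂ : InvOn A f₂)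
    (h : ∀ g, ρ g * f₁ g = ρ g * f₂ g) : f₁ = f₂ := by
  have hF : InvOn A (fun g => f₁ g - f₂ g) := by
    intro a ha g
    show f₁ (a * g) - f₂ (a * g) = f₁ g - f₂ g
    rw [h₁ a ha g, h₂ a ha g]
  have h1 := classInner_mul_of_invOn A ρ hρ hρA _ _ hF hF
  have h2 : (fun g => ρ g * (f₁ g - f₂ g)) = 0 := by
    funext g
    rw [mul_sub, h g, sub_self]
    rfl
  rw [h2] at h1
  have h3 : classInner (0 : Γ → ℂ) 0 = 0 := by
    unfold classInner
    simp
  rw [h3] at h1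
  -- the norm of the difference vanishes
  have hcard : (Nat.card Γ : ℂ) ≠ 0 := by exact_mod_cast Nat.card_pos.ne'
  unfold classInner at h1
  have h4 : ∑ g : Γ, (f₁ g - f₂ g) * conj (f₁ g - f₂ g) = 0 := by
    rcases mul_eq_zero.mp h1.symm with h5 | h5
    · exact absurd (inv_eq_zero.mp h5) hcard
    · exact h5
  have h5 : ∑ g : Γ, (Complex.normSq (f₁ g - f₂ g) : ℂ) = 0 := by
    rw [← h4]
    refine Finset.sum_congr rfl ?_
    intro g _
    rw [Complex.mul_conj]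
  have h6 : ∑ g : Γ, Complex.normSq (f₁ g - f₂ g) = 0 := by
    have : ((∑ g : Γ, Complex.normSq (f₁ g - f₂ g) : ℝ) : ℂ) = 0 := by
      rw [← h5]; push_cast; rfl
    exact_mod_cast this
  funext g
  have h7 := (Finset.sum_eq_zero_iff_of_nonneg (fun g _ => Complex.normSq_nonneg _)).mp h6 g
    (Finset.mem_univ g)
  exact sub_eq_zero.mp (Complex.normSq_eq_zero.mp h7)

end Cfsg.Agent.QP889
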