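import Mathlib
import Cfsg.Prelude.Def_Characters
import Cfsg.Agent.Helper24.QP889Defs
import Cfsg.Agent.Helper26.QP889LIFT
import Cfsg.Agent.Helper27.QP889GALF
import Cfsg.Agent.Helper13.QP889QPP
import Cfsg.Agent.Helper26.QP889QPT
import Cfsg.Agent.Helper24.TripleReduce
import Cfsg.Agent.Helper24.IndMore
import Cfsg.Agent.Helper24.Artin
import Cfsg.Agent.Helper24.Regular
import Cfsg.Agent.Helper29.SchurPC
import Cfsg.Agent.Helper8.CharComp

/-!
S0889: the lift package and the descent along a character triple.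
-/

set_option autoImplicit false

namespace Cfsg.Agent.QP889

open Cfsg Cfsg.Agent.Helper24
open scoped ComplexConjugate

universe u

/-- The lift package for a normal subgroup `N` and the constituent `ν` of `χ_N`. -/
theorem exists_pkg {G : Type u} [Group G] [Fintype G] [Group.IsSolvable G] (Z : Subgroup G)
    (χ : G → ℂ) (hχ : IsIrrCharacter G χ) (hqp : QPrel Z χ) (N : Subgroup G) [hN : N.Normal]
    (hZN : Z ≤ N) (ν : N → ℂ) (hν : IsIrrCharacter N ν) (e : ℕ)
    (hχN : (fun n : N => χ n) = (e : ℂ) • ν) :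
    ∃ (Γ : Type u) (_ : Group Γ) (_ : Fintype Γ) (p : Γ →* G) (ι : N →* Γ) (ρ β : Γ → ℂ),
      Group.IsSolvable Γ ∧ Function.Surjective p ∧ p.ker ≤ Subgroup.center Γ ∧
      (∀ n : N, p (ι n) = n) ∧ ι.range.Normal ∧ IsIrrCharacter Γ ρ ∧
      (∀ n : N, ρ (ι n) = ν n) ∧ IsIrrCharacter ι.range (fun a : ι.range => ρ a) ∧
      IsIrrCharacter Γ β ∧ InvOn ι.range β ∧
      (∀ g : Γ, χ (p g) = ρ g * β g) ∧ QPrel ι.range β := by
  classical
  have hχcf : IsClassFunction G χ := IsCharacter.isClassFunction (IsIrrCharacter.isCharacter hχ)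
  have hχN' : ∀ n : N, χ n = (e : ℂ) * ν n := fun n => congrFun hχN n
  have he0 : (e : ℂ) ≠ 0 := by
    intro h0
    have h1 := hχN' 1
    rw [h0, zero_mul] at h1
    exact irr_one_ne_zero ⟨χ, hχ⟩ h1
  have hinv : ∀ (g : G) (n : N), ν ⟨g * n * g⁻¹, hN.conj_mem n n.2 g⟩ = ν n := by
    intro g n
    have h1 := hχN' ⟨g * n * g⁻¹, hN.conj_mem n n.2 g⟩
    have h2 := hχN' n
    have h3 : χ (g * (n : G) * g⁻¹) = χ n := hχcf n g
    have h4 : (e : ℂ) * ν ⟨g * n * g⁻¹, hN.conj_mem n n.2 g⟩ = (e : ℂ) * ν n := by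
      rw [← h1, ← h2]; exact h3
    exact mul_left_cancel₀ he0 h4
  obtain ⟨Γ, hΓ, hΓf, p, ι, ρ, hsolv, hp, hker, hpι, hιn, hρ, hρι⟩ := exists_lift N ν hν hinv
  haveI := hιn
  refine ⟨Γ, hΓ, hΓf, p, ι, ρ, ?_⟩
  -- restriction of ρ to the image of N
  have hρA : IsIrrCharacter ι.range (fun a : ι.range => ρ a) := by
    apply isIrrCharacter_of_comp_surjective_irr ι.rangeRestrict ι.rangeRestrict_surjective
    have : (fun n : N => ρ ((ι.rangeRestrict n : ι.range) : Γ)) = ν := by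
      funext n
      exact hρι n
    rw [this]
    exact hν
  have hχhat : IsIrrCharacter Γ (fun g => χ (p g)) :=
    Helper8.isIrrCharacter_comp_surjective p hp hχ
  have he' : (fun a : ι.range => (fun g => χ (p g)) (a : Γ)) =
      (e : ℂ) • (fun a : ι.range => ρ a) := by
    funext a
    obtain ⟨n, hn⟩ := a.2
    simp only [Pi.smul_apply, smul_eq_mul]
    rw [← hn, hpι, hρι]
    exact hχN' n
  obtain ⟨β, hβ, hβA, hfac⟩ := exists_factor ι.range ρ (fun g => χ (p g)) hρ hρA hχhat e he'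
  have hZA : Z ≤ ι.range.map p := by
    intro z hz
    exact ⟨ι ⟨z, hZN hz⟩, ⟨_, rfl⟩, hpι _⟩
  have hqp' : QPrel ι.range (fun g => χ (p g)) := qprel_comp p hp Z χ hqp ι.range hZA
  have hqpβ : QPrel ι.range β :=
    qprel_factor ι.range ρ (fun g => χ (p g)) β hρ hρA hχhat hβ hβA hfac hqp'
  exact ⟨β, hsolv, hp, hker, hpι, hιn, hρ, hρι, hρA, hβ, hβA, hfac, hqpβ⟩

end Cfsg.Agent.QP889
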