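import Mathlib
import Cfsg.Prelude.Def_Characters
import Cfsg.Agent.Helper24.QP889Defs
import Cfsg.Agent.Helper21.QP889RESL
import Cfsg.Agent.Helper27.QP889GALF
import Cfsg.Agent.Helper27.QP889INV
import Cfsg.Agent.Helper24.QP889ISOM
import Cfsg.Agent.Helper24.QP889Pkg
import Cfsg.Agent.Helper24.MinNormalLinear
import Cfsg.Agent.Helper8.IndTrans

/-!
S0889: descent along the character triple `(G, L, φ)`.
-/

set_option autoImplicit false

namespace Cfsg.Agent.QP889

open Cfsg Cfsg.Agent.Helper24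
open scoped ComplexConjugate

universe u

theorem descend {G : Type u} [Group G] [Fintype G] [Group.IsSolvable G] (Z : Subgroup G)
    (χ : G → ℂ) (hχ : IsIrrCharacter G χ) (hqp : QPrel Z χ) (L : Subgroup G) [hL : L.Normal]
    (hZL : Z ≤ L) (φ : L → ℂ) (hφ : IsIrrCharacter L φ) (e : ℕ)
    (hχL : (fun l : L => χ l) = (e : ℂ) • φ) (H : Subgroup G) (hLH : L ≤ H) (hH : H ≠ ⊤)
    (ϑ : H → ℂ) (hϑ : IsCharacter H ϑ) (hind : indFun H ϑ = χ) :
    ∃ (Γ : Type u) (_ : Group Γ) (_ : Fintype Γ) (A : Subgroup Γ) (β : Γ → ℂ) (J : Subgroup Γ)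
      (τ : J → ℂ), Group.IsSolvable Γ ∧ A.Normal ∧ IsIrrCharacter Γ β ∧ QPrel A β ∧
      φ 1 * β 1 = χ 1 ∧ A ≤ J ∧ J ≠ ⊤ ∧ IsCharacter J τ ∧ indFun J τ = β := by
  classical
  obtain ⟨Γ, hΓ, hΓf, p, ι, ρ, β, hsolv, hp, hker, hpι, hιn, hρ, hρι, hρA, hβ, hβA, hfac, hqpβ⟩ :=
    exists_pkg Z χ hχ hqp L hZL φ hφ e hχL
  haveI := hιn
  set A : Subgroup Γ := ι.range with hA
  set J : Subgroup Γ := H.comap p with hJ
  have hAJ : A ≤ J := by
    rintro _ ⟨l, rfl⟩
    rw [hJ, Subgroup.mem_comap, hpι]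
    exact hLH l.2
  have hJtop : J ≠ ⊤ := by
    intro h
    apply hH
    rw [eq_top_iff]
    intro g _
    obtain ⟨x, rfl⟩ := hp g
    have : x ∈ J := by rw [h]; exact Subgroup.mem_top _
    exact this
  haveI : Fintype J := Fintype.ofFinite _
  -- the pulled back character of J
  set ϑh : J → ℂ := fun h => ϑ ⟨p h, h.2⟩ with hϑh
  have hϑirr : IsIrrCharacter H ϑ :=
    Cfsg.Agent.Helper29.SchurP.irr_of_indFun_irr H hϑ (by rw [hind]; exact hχ)
  have hϑhirr : IsIrrCharacter J ϑh :=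
    Helper8.isIrrCharacter_comp_surjective (p.subgroupComap H)
      (p.subgroupComap_surjective_of_surjective H hp) hϑirr
  have hindh : ∀ g : Γ, indFun J ϑh g = χ (p g) := by
    intro g
    have h1 := indFun_comap p hp H ϑ g
    rw [hind] at h1
    exact h1
  -- ρ restricted to J
  set A' : Subgroup J := A.subgroupOf J with hA'
  haveI hA'n : A'.Normal := Subgroup.normal_subgroupOf
  have hρJc : IsCharacter J (fun h : J => ρ h) :=
    Helper8.isCharacter_restrict J (IsIrrCharacter.isCharacter hρ)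
  have hρA' : IsIrrCharacter A' (fun a : A' => (fun h : J => ρ h) (a : J)) :=
    Helper8.isIrrCharacter_comp_surjective (Subgroup.subgroupOfEquivOfLe hAJ).toMonoidHom
      (Subgroup.subgroupOfEquivOfLe hAJ).surjective hρA
  have hρJ : IsIrrCharacter J (fun h : J => ρ h) :=
    isIrrCharacter_of_comp_irr A'.subtype hρJc hρA'
  -- ϑ restricted to L is a multiple of φ
  obtain ⟨t, ht⟩ := restrict_core_eq H L hLH ϑ hϑ φ hφ e (by rw [hind]; exact hχL)
  have ht' : (fun a : A' => ϑh (a : J)) = (t : ℂ) • (fun a : A' => (fun h : J => ρ h) (a : J)) := by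
    funext a
    have ha : ((a : J) : Γ) ∈ A := Subgroup.mem_subgroupOf.mp a.2
    obtain ⟨l, hl⟩ := ha
    simp only [Pi.smul_apply, smul_eq_mul]
    have h1 : ϑh (a : J) = ϑ ⟨l, hLH l.2⟩ := by
      show ϑ ⟨p ((a : J) : Γ), (a : J).2⟩ = ϑ ⟨l, hLH l.2⟩
      congr 1
      apply Subtype.ext
      show p ((a : J) : Γ) = l
      rw [← hl, hpι]
    rw [h1, ← hl, hρι]
    exact congrFun ht l
  obtain ⟨τ, hτ, hτA, hτfac⟩ :=
    exists_factor A' (fun h : J => ρ h) ϑh hρJ hρA' hϑhirr t ht'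
  refine ⟨Γ, hΓ, hΓf, A, β, J, τ, hsolv, hιn, hβ, hqpβ, ?_, hAJ, hJtop,
    IsIrrCharacter.isCharacter hτ, ?_⟩
  · have h1 := hfac 1
    rw [map_one] at h1
    have h2 : ρ 1 = φ 1 := by
      have := hρι 1
      rwa [map_one] at this
    rw [h1, h2]
  · -- cancellation
    have hτinv : ∀ a : J, (a : Γ) ∈ A → ∀ h : J, τ (a * h) = τ h :=
      fun a ha h => hτA a (Subgroup.mem_subgroupOf.mpr ha) h
    have hβ₂ : InvOn A (indFun J τ) := invOn_indFun A J hAJ τ hτinv
    have hρcf : IsClassFunction Γ ρ :=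
      IsCharacter.isClassFunction (IsIrrCharacter.isCharacter hρ)
    have h1 : indFun J ϑh = indFun J τ * ρ := by
      rw [← indFun_mul_restrict J τ ρ hρcf]
      congr 1
      funext h
      rw [Pi.mul_apply, hτfac h, mul_comm]
    have h2 : ∀ g, ρ g * indFun J τ g = ρ g * β g := by
      intro g
      rw [← hfac g, ← hindh g, h1, Pi.mul_apply, mul_comm]
    exact eq_of_mul_eq A ρ hρ hρA (indFun J τ) β hβ₂ hβA h2

end Cfsg.Agent.QP889
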