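import Mathlib
import Cfsg.Prelude.Def_Characters
import Cfsg.Agent.Helper24.QP889Defs
import Cfsg.Agent.Helper27.QP889MAXL
import Cfsg.Agent.Helper21.QP889VAN
import Cfsg.Agent.Helper25.QP889NORM
import Cfsg.Agent.Helper14.QP889GRP
import Cfsg.Agent.Helper25.QP889KEY
import Cfsg.Agent.Helper24.QP889SUPP
import Cfsg.Agent.Helper12.QP889RHOIRR
import Cfsg.Agent.Helper21.QP889CLIF
import Cfsg.Agent.Helper1.QP889CENT
import Cfsg.Agent.Helper1.QP889LIN
import Cfsg.Agent.Helper14.QP889COMM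
import Cfsg.Agent.Helper12.QP889PROJ
import Cfsg.Agent.Helper13.QP889QPH
import Cfsg.Agent.Helper24.QP889Pkg
import Cfsg.Agent.Helper24.QP889Desc
import Cfsg.Agent.Helper23.PrimSolv
import Cfsg.Agent.Helper5.IndFun

/-!
S0889: the induction step and the main theorem.
-/

set_option autoImplicit false
set_option maxHeartbeats 1000000

namespace Cfsg.Agent.QP889

open Cfsg Cfsg.Agent.Helper24
open scoped ComplexConjugate

universe u

theorem step (d : ℕ) (ih : ∀ d' < d, Claim.{u} d') : Claim.{u} d := by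
  intro G _ _ _ Z χ hZn hχ hqp hd K hZK hK ψ₀ hψ₀ hind
  classical
  haveI := hZn
  obtain ⟨H, ϑ, hmax, hKH, hϑ, hϑind⟩ := exists_coatom_ind K hK ψ₀ hψ₀
  have hχH : indFun H ϑ = χ := hϑind.trans hind
  have hZH : Z ≤ H := hZK.trans hKH
  have hirr : IsIrrCharacter G (indFun H ϑ) := by rw [hχH]; exact hχ
  obtain ⟨L, hLdef⟩ : ∃ L : Subgroup G, L = H.normalCore := ⟨_, rfl⟩
  haveI hLn : L.Normal := by rw [hLdef]; exact Subgroup.normalCore_normal H
  have hLH : L ≤ H := by rw [hLdef]; exact Subgroup.normalCore_le H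
  have hZL : Z ≤ L := by rw [hLdef]; exact Subgroup.normal_le_normalCore.mpr hZH
  obtain ⟨φ, e, hφ, hχL⟩ := hqp L hLn hZL
  obtain ⟨nφ, hnφpos, hnφ⟩ := isIrrCharacter_one hφ
  obtain ⟨nχ, hnχpos, hnχ⟩ := isIrrCharacter_one hχ
  by_cases hφ1 : nφ = 1
  · -- the linear case
    have hφ1' : φ 1 = 1 := by rw [hnφ, hφ1]; simp
    obtain ⟨M, r, a, hMn, hLM, hr, hsup, hinf, hidx, hrest⟩ :=
      Cfsg.Agent.Helper23.PrimSolv.maximal_structure L H hLH hmax inferInstance
    rw [← hLdef] at hLM hinf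
    haveI := hMn
    have hZM : Z ≤ M := hZL.trans hLM
    obtain ⟨ψ, f, hψ, hχM⟩ := hqp M hMn hZM
    obtain ⟨hsq, hvan, hnorm⟩ := sq_degree H M L hsup hinf ϑ hϑ hirr ψ hψ f
      (by rw [hχH]; exact hχM) φ hφ hφ1' e (by rw [hχH]; exact hχL)
    by_cases hHM : H ≤ M
    · have hHL : H = L := by rw [← hinf]; exact (inf_eq_left.mpr hHM).symm
      haveI : H.Normal := by rw [hHL]; exact hLn
      obtain ⟨ϑ', e'', hϑ', hres⟩ := hqp H inferInstance hZH
      exact false_of_normal H hmax.1 ϑ hϑ hirr ϑ' e'' hϑ' (by rw [hχH]; exact hres)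
    · obtain ⟨N, q, b, hNn, hMN, hMNne, -, -, hq, hqr, hrel⟩ := hrest hHM
      haveI := hNn
      obtain ⟨Γ, hΓ, hΓf, p, ι, ρ, β, hsolv, hp, hker, hpι, hιn, hρ, hρι, hρA, hβ, hβA, hfac,
        hqpβ⟩ := exists_pkg Z χ hχ hqp M hZM ψ hψ f hχM
      haveI := hιn
      haveI := hsolv
      set A : Subgroup Γ := ι.range with hAdef
      haveI hAn : A.Normal := hιn
      set Hh : Subgroup Γ := H.comap p with hHhdef
      have hsupΓ : A ⊔ Hh = ⊤ := sup_comap_eq_top p hp H M hsup ι hpι
      haveI : Fintype Hh := Fintype.ofFinite _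
      have hmemHh : ∀ x : Γ, x ∈ Hh ↔ p x ∈ H := fun x => Iff.rfl
      set ϑh : Hh → ℂ := fun h => ϑ ⟨p h, h.2⟩ with hϑhdef
      have hϑh : IsCharacter Hh ϑh := Helper8.isCharacter_comp (p.subgroupComap H) hϑ
      have hindχ : ∀ g, indFun Hh ϑh g = χ (p g) := by
        intro g
        have h1 := indFun_comap p hp H ϑ g
        rw [hχH] at h1
        exact h1
      have hindh : ∀ g, indFun Hh ϑh g = ρ g * β g := fun g => by rw [hindχ, hfac]
      have hirrh : IsIrrCharacter Γ (indFun Hh ϑh) := by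
        have h1 : indFun Hh ϑh = fun g => χ (p g) := funext hindχ
        rw [h1]
        exact Helper8.isIrrCharacter_comp_surjective p hp hχ
      -- degrees
      obtain ⟨nψ, hnψpos, hnψ⟩ := isIrrCharacter_one hψ
      obtain ⟨nβ, hnβpos, hnβ⟩ := isIrrCharacter_one hβ
      have hρ1 : ρ 1 = ψ 1 := by
        have := hρι 1
        rwa [map_one] at this
      have hϑh1 : ϑh 1 = ϑ 1 := by
        show ϑ ⟨p ((1 : Hh) : Γ), _⟩ = ϑ 1
        congr 1
        apply Subtype.ext
        show p ((1 : Hh) : Γ) = 1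
        rw [Subgroup.coe_one, map_one]
      have hχ1a : χ 1 = (H.index : ℂ) * ϑ 1 := by
        rw [← hχH]; exact Cfsg.Agent.Helper5.indFun_apply_one H ϑ
      have hχ1b : χ 1 = ρ 1 * β 1 := by
        have := hfac 1
        rwa [map_one] at this
      have hψ10 : ψ 1 ≠ 0 := irr_one_ne_zero ⟨ψ, hψ⟩
      have hdeg : ρ 1 * ϑh 1 = β 1 := by
        rw [hρ1, hϑh1]
        have h1 : ψ 1 * (ψ 1 * ϑ 1) = ψ 1 * β 1 := by
          rw [← hρ1, ← hχ1b, hχ1a, ← hsq, hρ1]; ring
        exact mul_left_cancel₀ hψ10 h1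
      have hidx1 : H.index ≠ 1 := fun h => hmax.1 (Subgroup.index_eq_one.mp h)
      have hidx0 : H.index ≠ 0 := Subgroup.index_ne_zero_of_finite
      have hsqn : nψ ^ 2 = H.index := by
        have : ((nψ ^ 2 : ℕ) : ℂ) = (H.index : ℂ) := by
          rw [← hsq, hnψ]; push_cast; ring
        exact_mod_cast this
      have hnψ2 : 2 ≤ nψ := by
        by_contra hlt
        have : nψ = 1 := by omega
        rw [this] at hsqn
        exact hidx1 hsqn.symm
      have hdn : nψ * nβ = d := by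
        have : ((nψ * nβ : ℕ) : ℂ) = (d : ℂ) := by
          rw [← hd, hχ1b, hρ1, hnψ, hnβ]; push_cast; ring
        exact_mod_cast this
      have hlt : nβ < d := by
        rw [← hdn]
        nlinarith
      have hβH : IsIrrCharacter Hh (fun h : Hh => β h) :=
        isIrrCharacter_restrict_of_sup A Hh hsupΓ β hβ hβA
      have hkey := key_identity Hh ρ β (IsIrrCharacter.isCharacter hρ) hβH ϑh hϑh hindh hirrh hdeg
      have hρHc : IsCharacter Hh (fun h : Hh => ρ h) :=
        Helper8.isCharacter_restrict Hh (IsIrrCharacter.isCharacter hρ)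
      have hρH : IsIrrCharacter Hh (fun h : Hh => ρ h) := by
        apply irr_of_conj_mul_irr (fun h : Hh => ρ h) ϑh hρHc hϑh
        rw [← hkey]
        exact hβH
      -- the normal subgroup of `Hh`
      set Kh : Subgroup Hh := ((H ⊓ N).comap p).subgroupOf Hh with hKhdef
      have hmemKh : ∀ x : Hh, x ∈ Kh ↔ p (x : Γ) ∈ N := by
        intro x
        rw [hKhdef, Subgroup.mem_subgroupOf, Subgroup.mem_comap, Subgroup.mem_inf]
        exact ⟨fun h => h.2, fun h => ⟨(hmemHh _).mp x.2, h⟩⟩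
      haveI hKhn : Kh.Normal := by
        have : Kh = (N.comap p).subgroupOf Hh := by
          ext x
          rw [hmemKh, Subgroup.mem_subgroupOf, Subgroup.mem_comap]
        rw [this]
        exact Subgroup.normal_subgroupOf
      have hAK : A.subgroupOf Hh ≤ Kh := by
        intro x hx
        rw [hmemKh]
        have hx' : (x : Γ) ∈ A := Subgroup.mem_subgroupOf.mp hx
        obtain ⟨m, hm⟩ := hx'
        rw [← hm, hpι]
        exact hMN m.2
      rcases clifford_dichotomy Kh (fun h : Hh => ρ h) hρH with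
        ⟨κ, e₂, hκ, hρK⟩ | ⟨T, σ, hKT, hT, hσ, hσind⟩
      · -- homogeneous restriction: contradiction via the centraliser of `M / L`
        set Y : Subgroup Hh := ((H ⊓ M).comap p).subgroupOf Hh with hYdef
        have hHMN : H ⊓ M ≤ H ⊓ N := inf_le_inf_left H hMN
        have hYK : Y ≤ Kh := by
          intro x hx
          rw [hKhdef, Subgroup.mem_subgroupOf, Subgroup.mem_comap]
          rw [hYdef, Subgroup.mem_subgroupOf, Subgroup.mem_comap] at hx
          exact hHMN hx
        have hYnorm : ∀ y ∈ Y, ‖(fun h : Hh => ρ h) y‖ = ‖(fun h : Hh => ρ h) 1‖ := by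
          intro y hy
          rw [hYdef, Subgroup.mem_subgroupOf, Subgroup.mem_comap, hinf] at hy
          show ‖ρ (y : Γ)‖ = ‖ρ ((1 : Hh) : Γ)‖
          rw [Subgroup.coe_one]
          have hyM : p (y : Γ) ∈ M := hLM hy
          have h1 : p (y : Γ) = p (ι ⟨p (y : Γ), hyM⟩) := by rw [hpι]
          rw [norm_eq_of_map_eq p hker ρ hρ _ _ h1, hρι, hρ1]
          exact hnorm ⟨p (y : Γ), hyM⟩ hy
        have hdeg' : ((fun h : Hh => ρ h) 1) ^ 2 = ((r ^ a : ℕ) : ℂ) := by
          show (ρ ((1 : Hh) : Γ)) ^ 2 = _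
          rw [Subgroup.coe_one, hρ1, hsq, hidx]
        have hKle : (H ⊓ N).comap p ≤ Hh := Subgroup.comap_mono inf_le_left
        have hidx' : Y.relIndex Kh = q ^ b := by
          rw [hYdef, hKhdef, Subgroup.relIndex_subgroupOf hKle, Subgroup.relIndex_comap,
            Subgroup.map_comap_eq_self_of_surjective hp, relIndex_eq H M N hsup hMN, hrel]
        have hall := norm_eq_of_homogeneous (fun h : Hh => ρ h) hρHc Kh Y hYK κ hκ e₂ hρK hYnorm
          r q a b hr hq hqr hdeg' hidx'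
        have hcent : ∀ k ∈ H ⊓ N, ∀ m ∈ M, k * m * k⁻¹ * m⁻¹ ∈ H.normalCore := by
          intro k hk m hm
          obtain ⟨x, rfl⟩ := hp k
          have hxH : x ∈ Hh := hk.1
          have hxK : (⟨x, hxH⟩ : Hh) ∈ Kh := by rw [hmemKh]; exact hk.2
          have h1 : ‖ρ x‖ = ‖ρ 1‖ := by
            have h0 := hall ⟨x, hxH⟩ hxK
            have h00 : ((1 : Hh) : Γ) = 1 := Subgroup.coe_one _
            simp only [h00] at h0
            exact h0
          have h2 := comm_mem_ker ρ hρ x (ι ⟨m, hm⟩) h1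
          have h3 : x * ι ⟨m, hm⟩ * x⁻¹ * (ι ⟨m, hm⟩)⁻¹ ∈ A :=
            A.mul_mem (hAn.conj_mem _ ⟨_, rfl⟩ x) (A.inv_mem ⟨_, rfl⟩)
          obtain ⟨m', hm'⟩ := h3
          have h4 : (m' : G) = p x * m * (p x)⁻¹ * m⁻¹ := by
            have h5 := congrArg p hm'
            rw [hpι] at h5
            rw [h5]
            simp only [map_mul, map_inv, hpι]
          rw [← hLdef, ← h4]
          by_contra hnot
          have h5 := hvan m' hnot
          rw [← hm', hρι, h5, hρ1] at h2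
          exact hψ10 h2.symm
        have hNM : N ≤ M := le_of_centralizes H M N hsup (by rw [hinf, hLdef]) hMN hcent
        exact hMNne (le_antisymm hMN hNM)
      · -- induced: contradiction with the inductive hypothesis
        have hϑhcf : IsClassFunction Hh ϑh := IsCharacter.isClassFunction hϑh
        have h1 : (fun h : Hh => β h) = indFun T (fun t : T => conj (σ t) * ϑh t) := by
          rw [hkey, ← conj_indFun_mul T σ ϑh hϑhcf, hσind]
        have hτ : IsCharacter T (fun t : T => conj (σ t) * ϑh t) :=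
          isCharacter_conj_mul σ (fun t : T => ϑh t) (IsIrrCharacter.isCharacter hσ)
            (Helper8.isCharacter_restrict T hϑh)
        have hqpH : QPrel (A.subgroupOf Hh) (fun h : Hh => β h) :=
          qprel_restrict_of_sup A Hh hsupΓ β hβ hβA hqpβ
        have hβ1 : (fun h : Hh => β h) 1 = (nβ : ℂ) := by
          show β ((1 : Hh) : Γ) = nβ
          rw [Subgroup.coe_one, hnβ]
        exact ih nβ hlt Hh (A.subgroupOf Hh) (fun h : Hh => β h) Subgroup.normal_subgroupOf hβH hqpH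
          hβ1 T (hAK.trans hKT) hT _ hτ h1.symm
  · -- the nonlinear case: descend along the character triple
    obtain ⟨Γ, hΓ, hΓf, A, β, J, τ, hsolv, hAn, hβ, hqpβ, hdeg, hAJ, hJ, hτ, hindβ⟩ :=
      descend Z χ hχ hqp L hZL φ hφ e hχL H hLH hmax.1 ϑ hϑ hχH
    haveI := hsolv
    obtain ⟨nβ, hnβpos, hnβ⟩ := isIrrCharacter_one hβ
    have hdn : nφ * nβ = d := by
      have : ((nφ * nβ : ℕ) : ℂ) = (d : ℂ) := by
        rw [← hd, ← hdeg, hnφ, hnβ]; push_cast; ring
      exact_mod_cast this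
    have hlt : nβ < d := by
      rw [← hdn]
      have : 2 ≤ nφ := by omega
      nlinarith
    exact ih nβ hlt Γ A β hAn hβ hqpβ hnβ J hAJ hJ τ hτ hindβ

end Cfsg.Agent.QP889

namespace Cfsg.Agent.QP889

universe u

theorem claim (d : ℕ) : Claim.{u} d :=
  Nat.strong_induction_on d (fun d ih => step d ih)

/-- Berger's theorem. -/
theorem berger {G : Type u} [Group G] [Fintype G] [Group.IsSolvable G] (χ : G → ℂ)
    (hχ : Cfsg.IsIrrCharacter G χ)
    (hqp : ∀ (N : Subgroup G), N.Normal → ∃ (ϑ : N → ℂ) (e : ℕ),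
      Cfsg.IsIrrCharacter N ϑ ∧ (fun n : N => χ n) = (e : ℂ) • ϑ)
    (K : Subgroup G) (hK : K ≠ ⊤) (ψ : K → ℂ) (hψ : Cfsg.IsCharacter K ψ) :
    Cfsg.indFun K ψ ≠ χ := by
  obtain ⟨d, -, hd⟩ := Cfsg.Agent.Helper24.isIrrCharacter_one hχ
  exact claim d G ⊥ χ Subgroup.normal_bot hχ (fun N hN _ => hqp N hN) hd K bot_le hK ψ hψ

end Cfsg.Agent.QP889
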