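import Mathlib
import Cfsg.Agent.Helper24.ColumnOrth
import Cfsg.Agent.Helper24.RealChar
import Cfsg.Agent.Helper24.Codegree
import Cfsg.Agent.Helper24.BrauerCong

/-!
If a non-identity real element has a centralizer of odd order, then some irreducible
character has even degree (column orthogonality modulo `2`).
-/

set_option autoImplicit false

namespace Cfsg.Agent.Helper24

open Cfsg

/-- The square of a finite sum is the sum of squares plus twice an integral element. -/
theorem exists_sq_sum_eq {ι : Type*} (s : Finset ι) (a : ι → ℂ)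
    (ha : ∀ i ∈ s, IsIntegral ℤ (a i)) :
    ∃ w : ℂ, IsIntegral ℤ w ∧ (∑ i ∈ s, a i) ^ 2 = ∑ i ∈ s, a i ^ 2 + 2 * w := by
  classical
  induction s using Finset.induction_on with
  | empty => exact ⟨0, isIntegral_zero, by simp⟩
  | insert j s hj ih =>
    obtain ⟨w, hw, hsq⟩ := ih (fun i hi => ha i (Finset.mem_insert_of_mem hi))
    have hsum : IsIntegral ℤ (∑ i ∈ s, a i) :=
      IsIntegral.sum _ fun i hi => ha i (Finset.mem_insert_of_mem hi)
    refine ⟨w + a j * ∑ i ∈ s, a i,
      hw.add ((ha j (Finset.mem_insert_self j s)).mul hsum), ?_⟩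
    rw [Finset.sum_insert hj, Finset.sum_insert hj, add_sq, hsq]
    ring

theorem exists_even_degree_of_real_odd_centralizer {G : Type*} [Group G] [Finite G] (x : G)
    (hx1 : x ≠ 1) (hreal : ∃ g : G, g * x * g⁻¹ = x⁻¹)
    (hodd : Odd (Nat.card (Subgroup.centralizer ({x} : Set G)))) :
    ∃ χ : IrrCharacter G, Even (charDegree (χ : G → ℂ)) := by
  classical
  by_contra hcon
  push Not at hcon
  haveI : Fintype G := Fintype.ofFinite G
  haveI : Fintype (IrrCharacter G) := Fintype.ofFinite _
  -- degrees are odd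
  have hdeg : ∀ χ : IrrCharacter G, ∃ m : ℕ, irrDeg χ = 2 * m + 1 := by
    intro χ
    have := hcon χ
    rw [Nat.not_even_iff_odd, charDegree_irr] at this
    exact this
  choose m hm using hdeg
  -- first relation: column of x against column of 1
  have h1 := sum_irr_mul_conj (G := G) x 1
  have hnc : ¬ IsConj x 1 := by
    intro h
    exact hx1 (isConj_one_left.mp h)
  rw [if_neg hnc] at h1
  have h1' : ∑ χ : IrrCharacter G, (χ : G → ℂ) x * ((2 * m χ + 1 : ℕ) : ℂ) = 0 := by
    rw [← h1]
    refine Finset.sum_congr rfl fun χ _ => ?_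
    rw [irrDeg_spec χ, Complex.conj_natCast, hm χ]
  -- second relation: column of x against column of x⁻¹
  obtain ⟨g, hg⟩ := hreal
  have hconj : IsConj x x⁻¹ := isConj_iff.mpr ⟨g, hg⟩
  have h2 := sum_irr_mul_conj (G := G) x x⁻¹
  rw [if_pos hconj] at h2
  have h2' : ∑ χ : IrrCharacter G, (χ : G → ℂ) x ^ 2 =
      (Nat.card (Subgroup.centralizer ({x} : Set G)) : ℂ) := by
    rw [← h2]
    refine Finset.sum_congr rfl fun χ _ => ?_
    rw [irr_inv, Complex.conj_conj, sq]
  -- the sum of the values is twice an algebraic integer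
  set u : ℂ := - ∑ χ : IrrCharacter G, (m χ : ℂ) * (χ : G → ℂ) x with hu
  have hu_int : IsIntegral ℤ u := by
    refine IsIntegral.neg (IsIntegral.sum _ fun χ _ => ?_)
    exact (isIntegral_natCast (m χ)).mul (irr_isIntegral χ x)
  have hs : ∑ χ : IrrCharacter G, (χ : G → ℂ) x = 2 * u := by
    have : ∑ χ : IrrCharacter G, (χ : G → ℂ) x * ((2 * m χ + 1 : ℕ) : ℂ) =
        2 * (∑ χ : IrrCharacter G, (m χ : ℂ) * (χ : G → ℂ) x) +
          ∑ χ : IrrCharacter G, (χ : G → ℂ) x := by
      rw [Finset.mul_sum, ← Finset.sum_add_distrib]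
      refine Finset.sum_congr rfl fun χ _ => ?_
      push_cast
      ring
    rw [this] at h1'
    rw [hu]
    linear_combination h1'
  obtain ⟨w, hw, hsq⟩ := exists_sq_sum_eq (Finset.univ : Finset (IrrCharacter G))
    (fun χ => (χ : G → ℂ) x) (fun χ _ => irr_isIntegral χ x)
  rw [hs, h2'] at hsq
  -- |C(x)| = 2 (2u² - w)
  have hfin : ((Nat.card (Subgroup.centralizer ({x} : Set G)) : ℤ) : ℂ) =
      ((2 : ℕ) : ℂ) * (2 * u ^ 2 - w) := by
    push_cast
    linear_combination -hsq
  have hint : IsIntegral ℤ (2 * u ^ 2 - w) := by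
    refine IsIntegral.sub ?_ hw
    exact (isIntegral_natCast 2).mul (hu_int.pow 2) |> fun h => by simpa using h
  have hdvd := int_dvd_of_eq_mul_isIntegral (d := 2) (by norm_num) hint hfin
  have : (2 : ℕ) ∣ Nat.card (Subgroup.centralizer ({x} : Set G)) := by
    exact_mod_cast hdvd
  exact (Nat.not_even_iff_odd.mpr hodd) (even_iff_two_dvd.mpr this)

end Cfsg.Agent.Helper24
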