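import Mathlib
import Cfsg.Agent.Helper24.HupField
import Cfsg.Agent.Helper24.HupCyclic
import Cfsg.Agent.Helper16.NearField3

/-!
# S3361 (regular solvable linear groups): the linear-algebra part

`H` is a subgroup of `GL(V)` acting regularly on the non-zero vectors.
Case A: `H` has an irreducible cyclic normal subgroup `A`.
-/

set_option autoImplicit false
set_option linter.style.haveILetI false

namespace Cfsg.Agent.Helper24.Reg

open Cfsg.Agent.Helper24.Hup Cfsg.Agent.Helper16.NearField

universe u

variable {q : ℕ} [hq : Fact q.Prime] {V : Type u} [AddCommGroup V] [Module (ZMod q) V] [Finite V]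
  [Nontrivial V] (H : Subgroup (V ≃ₗ[ZMod q] V))
  (hreg : ∀ v w : V, v ≠ 0 → w ≠ 0 → ∃! h : H, (h : V ≃ₗ[ZMod q] V) v = w)

include hreg

theorem trans_subtype : Trans (H.subtype) := by
  intro v w hv hw
  obtain ⟨h, hh, -⟩ := hreg v w hv hw
  exact ⟨h, hh⟩

/-- irreducibility hypothesis on a subgroup `A` of `H` -/
def Irr (A : Subgroup H) : Prop :=
  ∀ W : Submodule (ZMod q) V, (∀ a ∈ A, ∀ v ∈ W, ((a : H) : V ≃ₗ[ZMod q] V) v ∈ W) → W = ⊥ ∨ W = ⊤

omit hreg in
theorem cyc_eq_top (A : Subgroup H) (hirr : Irr H A) {v0 : V} (hv0 : v0 ≠ 0) :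
    cyc (spanAlg H.subtype A) v0 = ⊤ := by
  rcases hirr (cyc (spanAlg H.subtype A) v0) (fun a ha v hv =>
    inv_cyc _ v0 _ (rEnd_mem_spanAlg H.subtype ha) v hv) with h | h
  · exfalso
    have := self_mem_cyc (spanAlg H.subtype A) v0
    rw [h, Submodule.mem_bot] at this
    exact hv0 this
  · exact h

theorem card_spanAlg (A : Subgroup H) [A.Normal] (hA : ∀ a ∈ A, ∀ b ∈ A, a * b = b * a)
    (hirr : Irr H A) :
    Good H.subtype (spanAlg H.subtype A) ∧ Nat.card (spanAlg H.subtype A) = Nat.card V := by
  have hgood := good_spanAlg H.subtype (trans_subtype H hreg) A hA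
  refine ⟨hgood, ?_⟩
  obtain ⟨v0, hv0⟩ := exists_ne (0 : V)
  have htop := cyc_eq_top H A hirr hv0
  apply Nat.card_congr
  refine Equiv.ofBijective (fun k : spanAlg H.subtype A => (k : Module.End (ZMod q) V) v0) ⟨?_, ?_⟩
  · intro k k' hkk
    by_contra hne
    have hsub : ((k : Module.End (ZMod q) V) - k') ≠ 0 := by
      intro h
      exact hne (Subtype.ext (sub_eq_zero.mp h))
    have hinj := hgood.inj _ (Subalgebra.sub_mem _ k.2 k'.2) hsub
    have h1 : ((k : Module.End (ZMod q) V) - k') v0 = ((k : Module.End (ZMod q) V) - k') 0 := by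
      rw [map_zero, LinearMap.sub_apply]
      exact sub_eq_zero.mpr hkk
    exact hv0 (hinj h1)
  · intro v
    have hv : v ∈ cyc (spanAlg H.subtype A) v0 := by rw [htop]; exact Submodule.mem_top
    obtain ⟨k, hk, rfl⟩ := mem_cyc.1 hv
    exact ⟨⟨k, hk⟩, rfl⟩

/-- the centralizer of an irreducible abelian normal subgroup is commutative -/
theorem centralizer_comm (A : Subgroup H) [A.Normal] (hA : ∀ a ∈ A, ∀ b ∈ A, a * b = b * a)
    (hirr : Irr H A) :
    ∀ g ∈ Subgroup.centralizer (A : Set H), ∀ g' ∈ Subgroup.centralizer (A : Set H),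
      g * g' = g' * g := by
  obtain ⟨hgood, -⟩ := card_spanAlg H hreg A hA hirr
  obtain ⟨v0, hv0⟩ := exists_ne (0 : V)
  have htop := cyc_eq_top H A hirr hv0
  -- elements of the centralizer commute with `K`
  have hcommK : ∀ g ∈ Subgroup.centralizer (A : Set H), ∀ k ∈ spanAlg H.subtype A,
      rEnd H.subtype g * k = k * rEnd H.subtype g := by
    intro g hg k hk
    have hle : spanAlg H.subtype A ≤
        Subalgebra.centralizer (ZMod q) {rEnd H.subtype g} := by
      unfold spanAlg
      apply Algebra.adjoin_le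
      rintro _ ⟨a, ha, rfl⟩
      rw [SetLike.mem_coe, Subalgebra.mem_centralizer_iff]
      intro x hx
      rw [Set.mem_singleton_iff] at hx
      subst hx
      simp only
      rw [← rEnd_mul, ← rEnd_mul]
      congr 1
      exact (hg a ha).symm
    have := (Subalgebra.mem_centralizer_iff (ZMod q)).1 (hle hk) (rEnd H.subtype g)
      (Set.mem_singleton _)
    exact this
  -- elements of the centralizer lie in `K`
  have hmemK : ∀ g ∈ Subgroup.centralizer (A : Set H), rEnd H.subtype g ∈ spanAlg H.subtype A := by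
    intro g hg
    have hv : rEnd H.subtype g v0 ∈ cyc (spanAlg H.subtype A) v0 := by
      rw [htop]; exact Submodule.mem_top
    obtain ⟨k0, hk0, hk0v⟩ := mem_cyc.1 hv
    have : rEnd H.subtype g = k0 := by
      apply LinearMap.ext
      intro v
      have hv' : v ∈ cyc (spanAlg H.subtype A) v0 := by rw [htop]; exact Submodule.mem_top
      obtain ⟨k, hk, rfl⟩ := mem_cyc.1 hv'
      have h1 := congrArg (fun f : Module.End (ZMod q) V => f v0) (hcommK g hg k hk)
      simp only [Module.End.mul_apply] at h1
      rw [h1, ← hk0v]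
      have h2 := congrArg (fun f : Module.End (ZMod q) V => f v0) (hgood.comm k hk k0 hk0)
      simp only [Module.End.mul_apply] at h2
      exact h2
    rw [this]
    exact hk0
  haveI := finite_of_regular H hreg
  intro g hg g' hg'
  apply rEnd_injective H.subtype H.subtype_injective
  rw [rEnd_mul, rEnd_mul]
  exact hgood.comm _ (hmemK g hg) _ (hmemK g' hg')

/-- the centralizer of an irreducible abelian normal subgroup is cyclic -/
theorem centralizer_isCyclic (A : Subgroup H) [A.Normal] (hA : ∀ a ∈ A, ∀ b ∈ A, a * b = b * a)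
    (hirr : Irr H A) : IsCyclic (Subgroup.centralizer (A : Set H)) := by
  apply isCyclic_of_comm H hreg
  refine ⟨⟨fun a b => ?_⟩⟩
  exact Subtype.ext (centralizer_comm H hreg A hA hirr a a.2 b b.2)

omit hreg [Finite V] [Nontrivial V] in
/-- the quotient by the centralizer of a cyclic normal subgroup is commutative -/
theorem commutator_mem_centralizer (A : Subgroup H) [A.Normal] (hcyc : IsCyclic A) (a b : H) :
    a * b * a⁻¹ * b⁻¹ ∈ Subgroup.centralizer (A : Set H) := by
  let f : H →* MulAut A := MulAut.conjNormal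
  have hker : ∀ g : H, f g = 1 → g ∈ Subgroup.centralizer (A : Set H) := by
    intro g hg
    rw [Subgroup.mem_centralizer_iff]
    intro n hn
    have := congrArg (fun φ : MulAut A => ((φ ⟨n, hn⟩ : A) : H)) hg
    simp only [f, MulAut.conjNormal_apply, MulAut.one_apply] at this
    calc n * g = (g * n * g⁻¹) * g := by rw [this]
      _ = g * n := by group
  apply hker
  have hcomm : ∀ x y : MulAut A, x * y = y * x := by
    intro x y
    apply (IsCyclic.mulAutMulEquiv A).injective
    rw [map_mul, map_mul, mul_comm]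
  rw [map_mul, map_mul, map_mul, map_inv, map_inv, hcomm (f a) (f b)]
  group

theorem card_even (hq2 : q ≠ 2) : 2 ∣ Nat.card H := by
  rw [card_regular H hreg, Module.natCard_eq_pow_finrank (K := ZMod q) (V := V), Nat.card_zmod]
  have hodd : Odd q := hq.out.odd_of_ne_two hq2
  have h1 : Odd (q ^ Module.finrank (ZMod q) V) := hodd.pow
  obtain ⟨m, hm⟩ := h1
  rw [hm]
  exact ⟨m, by omega⟩

/-- the parameters attached to a normal quaternion subgroup -/
theorem exists_u (N : Subgroup H) (e : N ≃* QuaternionGroup 2) :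
    ∃ u : ℕ, Nat.card V = u * u ∧ Nat.card (Subgroup.centralizer (N : Set H)) ∣ u - 1 := by
  set i' : N := e.symm (QuaternionGroup.a 1) with hi'
  set j' : N := e.symm (QuaternionGroup.xa 0) with hj'
  set i : H := (i' : H) with hi
  set j : H := (j' : H) with hj
  have hi1 : i * i ≠ 1 := by
    intro h
    have h1 : i' * i' = 1 := Subtype.ext h
    rw [hi', ← map_mul] at h1
    have h2 : (QuaternionGroup.a 1 * QuaternionGroup.a 1 : QuaternionGroup 2) = 1 := by
      have := congrArg e h1
      simpa using this
    revert h2; decide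
  have hi4 : (i * i) * (i * i) = 1 := by
    have h1 : (i' * i') * (i' * i') = 1 := by
      rw [hi', ← map_mul, ← map_mul]
      have : ((QuaternionGroup.a 1 * QuaternionGroup.a 1) *
          (QuaternionGroup.a 1 * QuaternionGroup.a 1) : QuaternionGroup 2) = 1 := by decide
      rw [this, map_one]
    exact congrArg Subtype.val h1
  have hjj : j * j = i * i := by
    have h1 : j' * j' = i' * i' := by
      rw [hi', hj', ← map_mul, ← map_mul]
      congr 1
    exact congrArg Subtype.val h1
  have hij : i * j = (i * i) * (j * i) := by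
    have h1 : i' * j' = (i' * i') * (j' * i') := by
      rw [hi', hj', ← map_mul, ← map_mul, ← map_mul, ← map_mul]
      congr 1
    exact congrArg Subtype.val h1
  have hDi : ∀ d ∈ Subgroup.centralizer (N : Set H), d * i = i * d := fun d hd => (hd i i'.2).symm
  have hDj : ∀ d ∈ Subgroup.centralizer (N : Set H), d * j = j * d := fun d hd => (hd j j'.2).symm
  exact quat_count H hreg hi1 hi4 hjj hij _ hDi hDj

end Cfsg.Agent.Helper24.Reg
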