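import Mathlib
import Cfsg.Agent.Helper24.RegLin
import Cfsg.Agent.Helper27.RegZ
import Cfsg.Agent.Helper23.RegB1
import Cfsg.Agent.Helper23.RegB3b
import Cfsg.Agent.Helper13.RegR
import Cfsg.Agent.Helper1.HupB2
import Cfsg.Agent.S0688

/-!
# S3361: solvable linear groups regular on the non-zero vectors (assembly for subgroups of `GL(V)`)
-/

set_option autoImplicit false
set_option linter.style.haveILetI false

namespace Cfsg.Agent.Helper24.Reg

open Cfsg.Agent.Helper24.Hup Cfsg.Agent.Helper16.NearField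

universe u

variable {q : ℕ} [hq : Fact q.Prime] {V : Type u} [AddCommGroup V] [Module (ZMod q) V] [Finite V]
  [Nontrivial V] (H : Subgroup (V ≃ₗ[ZMod q] V))
  (hreg : ∀ v w : V, v ≠ 0 → w ≠ 0 → ∃! h : H, (h : V ≃ₗ[ZMod q] V) v = w)

include hreg

theorem main_sub (hsolv : Group.IsSolvable H) :
    ((∃ (F : Type) (_ : Field F) (_ : Fintype F) (e : V ≃+ F),
        ∀ g : H, ∃ (a : F) (σ : F ≃+* F), ∀ v : V,
          e ((g : V ≃ₗ[ZMod q] V) v) = a * σ (e v)) ∨
      Nat.card V ∈ ({25, 49, 121, 529} : Set ℕ)) ∧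
    (q ≠ 2 → (∃ N : Subgroup H, N.Normal ∧ N.index = 2) ∨
      (Nat.card V = 25 ∧ Nonempty (H ≃* Matrix.SpecialLinearGroup (Fin 2) (ZMod 3))) ∨
      (Nat.card V = 121 ∧
        Nonempty (H ≃* Matrix.SpecialLinearGroup (Fin 2) (ZMod 3) × Multiplicative (ZMod 5)))) := by
  haveI := finite_of_regular H hreg
  by_cases hI : ∀ A : Subgroup H, A.Normal → IsCyclic A → ∃ W : Submodule (ZMod q) V,
      W ≠ ⊥ ∧ W ≠ ⊤ ∧ ∀ a ∈ A, ∀ v ∈ W, ((a : H) : V ≃ₗ[ZMod q] V) v ∈ W
  · -- Case B: no irreducible cyclic normal subgroup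
    have hcard := Cfsg.Agent.S0688.result H hreg hI hsolv
    refine ⟨Or.inr ?_, ?_⟩
    · simp only [Set.mem_insert_iff, Set.mem_singleton_iff]
      exact hcard
    · intro hq2
      obtain ⟨N, hNn, ⟨e⟩⟩ := exists_normal_q8 H hreg hI hsolv
      obtain ⟨u, hu, hDu⟩ := exists_u H hreg N e
      have hu' : u = 5 ∨ u = 7 ∨ u = 11 ∨ u = 23 := by
        rw [hu] at hcard
        have hle : u ≤ 23 := by
          by_contra hlt
          have h24 : 24 ≤ u := by omega
          have : 24 * 24 ≤ u * u := Nat.mul_le_mul h24 h24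
          omega
        interval_cases u <;> omega
      have hHcard : Nat.card H = u * u - 1 := by rw [card_regular H hreg, hu]
      haveI := hNn
      rcases Cfsg.Agent.Helper23.RegB.q8_normal_reduce N e u hu' hHcard hDu with h | ⟨h5, h24, hD2⟩ | ⟨h11, h120, hD10⟩
      · left; exact h
      · right; left
        exact ⟨by rw [hu, h5], Cfsg.Agent.Helper13.RegR.q8_normal_24 N e h24 hD2⟩
      · rcases Cfsg.Agent.Helper23.RegB.q8_normal_120 N e h120 hD10 with h | h
        · left; exact h
        · right; right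
          exact ⟨by rw [hu, h11], h⟩
  · -- Case A: an irreducible cyclic normal subgroup
    push Not at hI
    obtain ⟨A, hAn, hAc, hAirr⟩ := hI
    haveI := hAn
    have hirr : Irr H A := by
      intro W hW
      by_contra hcon
      push Not at hcon
      obtain ⟨a, ha, v, hv, hav⟩ := hAirr W hcon.1 hcon.2
      exact hav (hW a ha v hv)
    have hA : ∀ a ∈ A, ∀ b ∈ A, a * b = b * a := by
      intro a ha b hb
      have hc : IsMulCommutative A := IsCyclic.isMulCommutative
      have := mul_comm' (⟨a, ha⟩ : A) ⟨b, hb⟩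
      exact congrArg Subtype.val this
    obtain ⟨hgood, hcardK⟩ := card_spanAlg H hreg A hA hirr
    refine ⟨Or.inl ?_, ?_⟩
    · exact Cfsg.Agent.Helper1.HupB2.gammaL_of_good H.subtype _ hgood hcardK
    · intro hq2
      left
      exact Cfsg.Agent.Helper27.RegZ.exists_index_two_of_cyclic_of_comm (Subgroup.centralizer (A : Set H))
        (centralizer_isCyclic H hreg A hA hirr) (commutator_mem_centralizer H A hAc)
        (card_even H hreg hq2)

end Cfsg.Agent.Helper24.Reg
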