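import Mathlib

/-! # S0429 board, piece OVA (helper24): in a generalized quadrangle of order (2,2), given by its
collinearity relation on 15 points, two distinct non-collinear points lie in exactly one ovoid.

Type-level theory in the namespace `Cfsg.Agent.S0429P.OVAh`, then the transfer to the `Finset`
statement of the board. -/

set_option autoImplicit false
set_option linter.unusedSectionVars false
set_option linter.unusedVariables false

namespace Cfsg.Agent.S0429P.OVAh

open Finset

variable {P : Type*} [Fintype P] [DecidableEq P] {c : P → P → Prop} [DecidableRel c]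

/-- the axioms of the board, on a type -/
structure GQ (c : P → P → Prop) [DecidableRel c] : Prop where
  card : Fintype.card P = 15
  irr : ∀ p, ¬ c p p
  symm : ∀ p q, c p q → c q p
  deg : ∀ p, (univ.filter (fun q => c p q)).card = 6
  line : ∀ p q, c p q → ∃ r, c p r ∧ c q r ∧ ∀ s, s ≠ p → s ≠ q → s ≠ r →
    ((c s p ∧ ¬ c s q ∧ ¬ c s r) ∨ (¬ c s p ∧ c s q ∧ ¬ c s r) ∨ (¬ c s p ∧ ¬ c s q ∧ c s r))

theorem GQ.ne (h : GQ c) {a b : P} (hab : c a b) : a ≠ b := by
  rintro rfl; exact h.irr _ hab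

/-- the third point of the line through two collinear points -/
noncomputable def thr (h : GQ c) (a b : P) : P :=
  if hab : c a b then Classical.choose (h.line a b hab) else a

theorem thr_spec (h : GQ c) {a b : P} (hab : c a b) :
    c a (thr h a b) ∧ c b (thr h a b) ∧ ∀ s, s ≠ a → s ≠ b → s ≠ thr h a b →
      ((c s a ∧ ¬ c s b ∧ ¬ c s (thr h a b)) ∨ (¬ c s a ∧ c s b ∧ ¬ c s (thr h a b)) ∨
        (¬ c s a ∧ ¬ c s b ∧ c s (thr h a b))) := by
  unfold thr; rw [dif_pos hab]; exact Classical.choose_spec (h.line a b hab)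

/-- two points collinear with both of two collinear points coincide -/
theorem uniq (h : GQ c) {a b s s' : P} (hab : c a b) (hsa : c s a) (hsb : c s b)
    (hs'a : c s' a) (hs'b : c s' b) : s = s' := by
  obtain ⟨r, -, -, hr⟩ := h.line a b hab
  have key : ∀ t, c t a → c t b → t = r := by
    intro t hta htb
    by_contra hne
    rcases hr t (h.ne hta) (h.ne htb) hne with ⟨_, h3, _⟩ | ⟨h3, _, _⟩ | ⟨h3, _, _⟩
    · exact h3 htb
    · exact h3 hta
    · exact h3 hta
  rw [key s hsa hsb, key s' hs'a hs'b]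

/-- a point off the line `a b`, collinear with `a`: not collinear with the third point -/
theorem not_thr_of_left (h : GQ c) {a b s : P} (hab : c a b) (hsa : c s a) (hsb : s ≠ b)
    (hst : s ≠ thr h a b) : ¬ c s b ∧ ¬ c s (thr h a b) := by
  rcases (thr_spec h hab).2.2 s (h.ne hsa) hsb hst with ⟨_, h2, h3⟩ | ⟨h1, _, _⟩ | ⟨h1, _, _⟩
  · exact ⟨h2, h3⟩
  · exact absurd hsa h1
  · exact absurd hsa h1

theorem not_left_of_right (h : GQ c) {a b s : P} (hab : c a b) (hsb : c s b) (hsa : s ≠ a)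
    (hst : s ≠ thr h a b) : ¬ c s a ∧ ¬ c s (thr h a b) := by
  rcases (thr_spec h hab).2.2 s hsa (h.ne hsb) hst with ⟨_, h2, _⟩ | ⟨h1, _, h3⟩ | ⟨_, h2, _⟩
  · exact absurd hsb h2
  · exact ⟨h1, h3⟩
  · exact absurd hsb h2

/-- a point off the line `a b` collinear with neither `a` nor `b` is collinear with the third -/
theorem thr_of_not (h : GQ c) {a b s : P} (hab : c a b) (hsa : ¬ c s a) (hsb : ¬ c s b)
    (hsa' : s ≠ a) (hsb' : s ≠ b) (hst : s ≠ thr h a b) : c s (thr h a b) := by
  rcases (thr_spec h hab).2.2 s hsa' hsb' hst with ⟨h1, _, _⟩ | ⟨_, h2, _⟩ | ⟨_, _, h3⟩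
  · exact absurd h1 hsa
  · exact absurd h2 hsb
  · exact h3

/-- `|p^⊥ ∩ q^⊥| = 3` for distinct non-collinear points -/
theorem card_Z (h : GQ c) {p q : P} (hpq : p ≠ q) (hc : ¬ c p q) :
    (univ.filter (fun x => c p x ∧ c q x)).card = 3 := by
  have hqp : ¬ c q p := fun hh => hc (h.symm _ _ hh)
  have h6 := h.deg p
  have hsplit := Finset.card_filter_add_card_filter_not (s := univ.filter (fun x => c p x))
    (fun x => c q x)
  rw [h6, Finset.filter_filter, Finset.filter_filter] at hsplit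
  have hbij : (univ.filter (fun x => c p x ∧ c q x)).card =
      (univ.filter (fun x => c p x ∧ ¬ c q x)).card := by
    apply Finset.card_bij (fun x _ => thr h p x)
    · intro x hx
      simp only [mem_filter, mem_univ, true_and] at hx ⊢
      obtain ⟨hpx, hqx⟩ := hx
      have sp := thr_spec h hpx
      refine ⟨sp.1, ?_⟩
      -- q is off the line p x y and collinear with x
      have hqx' : q ≠ x := by rintro rfl; exact hc hpx
      have hqy : q ≠ thr h p x := by intro e; exact hc (e ▸ sp.1)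
      exact (not_left_of_right h hpx hqx hpq.symm hqy).2
    · intro x hx x' hx' e
      simp only [mem_filter, mem_univ, true_and] at hx hx'
      have sp := thr_spec h hx.1
      have sp' := thr_spec h hx'.1
      rw [← e] at sp'
      exact uniq h sp.1 (h.symm _ _ hx.1) sp.2.1 (h.symm _ _ hx'.1) sp'.2.1
    · intro y hy
      simp only [mem_filter, mem_univ, true_and] at hy
      obtain ⟨hpy, hqy⟩ := hy
      have sp := thr_spec h hpy
      have hqy' : q ≠ y := by rintro rfl; exact hc hpy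
      have hqx : q ≠ thr h p y := by intro e; exact hc (e ▸ sp.1)
      have hcq : c q (thr h p y) := thr_of_not h hpy hqp hqy hpq.symm hqy' hqx
      refine ⟨thr h p y, ?_, ?_⟩
      · simp only [mem_filter, mem_univ, true_and]
        exact ⟨sp.1, hcq⟩
      · have sp2 := thr_spec h sp.1
        exact uniq h sp.1 (h.symm _ _ sp2.1) (h.symm _ _ sp2.2.1) (h.symm _ _ hpy) sp.2.1
  omega

/-- the points different from `p`, `q` and collinear with neither -/
def Ws (c : P → P → Prop) [DecidableRel c] (p q : P) : Finset P :=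
  univ.filter (fun x => x ≠ p ∧ x ≠ q ∧ ¬ c p x ∧ ¬ c q x)

theorem card_W (h : GQ c) {p q : P} (hpq : p ≠ q) (hc : ¬ c p q) : (Ws c p q).card = 4 := by
  have hqp : ¬ c q p := fun hh => hc (h.symm _ _ hh)
  have h9 : (univ.filter (fun x => c p x ∨ c q x)).card = 9 := by
    have := Finset.card_union_add_card_inter (univ.filter (fun x => c p x))
      (univ.filter (fun x => c q x))
    rw [← Finset.filter_or, ← Finset.filter_and, h.deg p, h.deg q, card_Z h hpq hc] at this
    omega
  have hS : (insert p (insert q (univ.filter (fun x => c p x ∨ c q x)))).card = 11 := by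
    rw [Finset.card_insert_of_notMem, Finset.card_insert_of_notMem, h9]
    · simp [h.irr q, hc]
    · simp [hpq, h.irr p, hqp]
  have hW : Ws c p q = (insert p (insert q (univ.filter (fun x => c p x ∨ c q x))))ᶜ := by
    ext x
    simp only [Ws, mem_filter, mem_univ, true_and, mem_compl, mem_insert, not_or]
  rw [hW, Finset.card_compl, hS, h.card]

/-- the degree of `w ∈ W` inside `W` is the number of points of `Z` collinear with `w` -/
theorem deg_W (h : GQ c) {p q w : P} (hpq : p ≠ q) (hc : ¬ c p q) (hw : w ∈ Ws c p q) :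
    ((Ws c p q).filter (fun x => c w x)).card =
      ((univ.filter (fun x => c p x ∧ c q x)).filter (fun x => c w x)).card := by
  simp only [Ws, mem_filter, mem_univ, true_and] at hw
  obtain ⟨hwp, hwq, hpw, hqw⟩ := hw
  have hwp' : ¬ c w p := fun hh => hpw (h.symm _ _ hh)
  have hwq' : ¬ c w q := fun hh => hqw (h.symm _ _ hh)
  have h6 := h.deg w
  have hsplit := Finset.card_filter_add_card_filter_not (s := univ.filter (fun x => c w x))
    (fun x => c p x ∨ c q x)
  rw [h6, Finset.filter_filter, Finset.filter_filter] at hsplit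
  have e1 : univ.filter (fun x => c w x ∧ ¬ (c p x ∨ c q x)) =
      (Ws c p q).filter (fun x => c w x) := by
    ext x; simp only [Ws, mem_filter, mem_univ, true_and]
    constructor
    · rintro ⟨hwx, hn⟩
      rw [not_or] at hn
      refine ⟨⟨?_, ?_, hn.1, hn.2⟩, hwx⟩
      · rintro rfl; exact hwp' hwx
      · rintro rfl; exact hwq' hwx
    · rintro ⟨⟨_, _, h1, h2⟩, hwx⟩
      exact ⟨hwx, by tauto⟩
  have hu := Finset.card_union_add_card_inter (univ.filter (fun x => c w x ∧ c p x))
    (univ.filter (fun x => c w x ∧ c q x))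
  have e2 : univ.filter (fun x => c w x ∧ c p x) ∪ univ.filter (fun x => c w x ∧ c q x) =
      univ.filter (fun x => c w x ∧ (c p x ∨ c q x)) := by
    ext x; simp only [mem_union, mem_filter, mem_univ, true_and]; tauto
  have e3 : univ.filter (fun x => c w x ∧ c p x) ∩ univ.filter (fun x => c w x ∧ c q x) =
      (univ.filter (fun x => c p x ∧ c q x)).filter (fun x => c w x) := by
    ext x; simp only [mem_inter, mem_filter, mem_univ, true_and]; tauto
  have c1 := card_Z h hwp hwp'
  have c2 := card_Z h hwq hwq'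
  rw [e2, e3, c1, c2] at hu
  rw [e1] at hsplit
  omega

/-- every point of `Z` is collinear with exactly two points of `W` -/
theorem card_W_perp (h : GQ c) {p q z : P} (hpq : p ≠ q) (hc : ¬ c p q) (hpz : c p z)
    (hqz : c q z) : ((Ws c p q).filter (fun x => c z x)).card = 2 := by
  have hqp : ¬ c q p := fun hh => hc (h.symm _ _ hh)
  have hzp := h.symm _ _ hpz
  have hzq := h.symm _ _ hqz
  have h6 := h.deg z
  have a1 : univ.filter (fun x => c z x ∧ c p x) = {thr h z p} := by
    ext x; simp only [mem_filter, mem_univ, true_and, mem_singleton]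
    have sp := thr_spec h hzp
    constructor
    · rintro ⟨h1, h2⟩
      exact uniq h hzp (h.symm _ _ h1) (h.symm _ _ h2) (h.symm _ _ sp.1) (h.symm _ _ sp.2.1)
    · rintro rfl
      exact ⟨sp.1, sp.2.1⟩
  have a2 : univ.filter (fun x => c z x ∧ c q x) = {thr h z q} := by
    ext x; simp only [mem_filter, mem_univ, true_and, mem_singleton]
    have sp := thr_spec h hzq
    constructor
    · rintro ⟨h1, h2⟩
      exact uniq h hzq (h.symm _ _ h1) (h.symm _ _ h2) (h.symm _ _ sp.1) (h.symm _ _ sp.2.1)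
    · rintro rfl
      exact ⟨sp.1, sp.2.1⟩
  have hsplit := Finset.card_filter_add_card_filter_not (s := univ.filter (fun x => c z x))
    (fun x => c p x ∨ c q x)
  rw [h6, Finset.filter_filter, Finset.filter_filter] at hsplit
  have hu := Finset.card_union_add_card_inter (univ.filter (fun x => c z x ∧ c p x))
    (univ.filter (fun x => c z x ∧ c q x))
  have e2 : univ.filter (fun x => c z x ∧ c p x) ∪ univ.filter (fun x => c z x ∧ c q x) =
      univ.filter (fun x => c z x ∧ (c p x ∨ c q x)) := by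
    ext x; simp only [mem_union, mem_filter, mem_univ, true_and]; tauto
  have e3 : univ.filter (fun x => c z x ∧ c p x) ∩ univ.filter (fun x => c z x ∧ c q x) = ∅ := by
    ext x; simp only [mem_inter, mem_filter, mem_univ, true_and, notMem_empty, iff_false]
    rintro ⟨⟨hzx, hpx⟩, -, hqx⟩
    -- p and q are both collinear with the collinear points x, z
    exact hpq (uniq h (h.symm _ _ hzx) hpx hpz hqx hqz)
  rw [e2, e3, a1, a2] at hu
  simp only [card_singleton, card_empty] at hu
  have e1 : univ.filter (fun x => c z x ∧ ¬ (c p x ∨ c q x)) =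
      insert p (insert q ((Ws c p q).filter (fun x => c z x))) := by
    ext x; simp only [Ws, mem_filter, mem_univ, true_and, mem_insert]
    constructor
    · rintro ⟨hzx, hn⟩
      rw [not_or] at hn
      by_cases hxp : x = p
      · exact Or.inl hxp
      · by_cases hxq : x = q
        · exact Or.inr (Or.inl hxq)
        · exact Or.inr (Or.inr ⟨⟨hxp, hxq, hn.1, hn.2⟩, hzx⟩)
    · rintro (rfl | rfl | ⟨⟨_, _, h1, h2⟩, hzx⟩)
      · exact ⟨hzp, by rw [not_or]; exact ⟨h.irr _, hqp⟩⟩
      · exact ⟨hzq, by rw [not_or]; exact ⟨hc, h.irr _⟩⟩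
      · exact ⟨hzx, by rw [not_or]; exact ⟨h1, h2⟩⟩
  have hcard : (insert p (insert q ((Ws c p q).filter (fun x => c z x)))).card =
      ((Ws c p q).filter (fun x => c z x)).card + 2 := by
    rw [Finset.card_insert_of_notMem, Finset.card_insert_of_notMem]
    · simp [Ws]
    · simp [Ws, hpq]
  rw [e1, hcard] at hsplit
  omega

theorem sum_t (h : GQ c) {p q : P} (hpq : p ≠ q) (hc : ¬ c p q) :
    ∑ w ∈ Ws c p q, ((univ.filter (fun x => c p x ∧ c q x)).filter (fun x => c w x)).card = 6 := by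
  have hdc := Finset.sum_card_bipartiteAbove_eq_sum_card_bipartiteBelow (s := Ws c p q)
    (t := univ.filter (fun x => c p x ∧ c q x)) (fun w z => c w z)
  have h2 : ∀ z ∈ univ.filter (fun x => c p x ∧ c q x),
      ((Ws c p q).filter (fun w => c w z)).card = 2 := by
    intro z hz
    simp only [mem_filter, mem_univ, true_and] at hz
    have := card_W_perp h hpq hc hz.1 hz.2
    rw [← this]
    congr 1
    apply Finset.filter_congr
    intro x _
    exact ⟨h.symm _ _, h.symm _ _⟩
  unfold Finset.bipartiteAbove Finset.bipartiteBelow at hdc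
  rw [hdc, Finset.sum_congr rfl h2, Finset.sum_const, card_Z h hpq hc]
  rfl

theorem t_ne_two (h : GQ c) {p q w : P} (hpq : p ≠ q) (hc : ¬ c p q) (hw : w ∈ Ws c p q) :
    ((univ.filter (fun x => c p x ∧ c q x)).filter (fun x => c w x)).card ≠ 2 := by
  intro h2
  simp only [Ws, mem_filter, mem_univ, true_and] at hw
  obtain ⟨hwp, hwq, hpw, hqw⟩ := hw
  have hqp : ¬ c q p := fun hh => hc (h.symm _ _ hh)
  have hwp' : ¬ c w p := fun hh => hpw (h.symm _ _ hh)
  have hwq' : ¬ c w q := fun hh => hqw (h.symm _ _ hh)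
  have hZ := card_Z h hpq hc
  have hsplit := Finset.card_filter_add_card_filter_not (s := univ.filter (fun x => c p x ∧ c q x))
    (fun x => c w x)
  rw [h2, hZ] at hsplit
  have h1 : ((univ.filter (fun x => c p x ∧ c q x)).filter (fun x => ¬ c w x)).card = 1 := by omega
  obtain ⟨z3, hz3⟩ := Finset.card_eq_one.1 h1
  obtain ⟨z1, z2, hz12, hz⟩ := Finset.card_eq_two.1 h2
  have hz3m : z3 ∈ (univ.filter (fun x => c p x ∧ c q x)).filter (fun x => ¬ c w x) := by
    rw [hz3]; exact mem_singleton_self _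
  have hz1m : z1 ∈ (univ.filter (fun x => c p x ∧ c q x)).filter (fun x => c w x) := by
    rw [hz]; simp
  have hz2m : z2 ∈ (univ.filter (fun x => c p x ∧ c q x)).filter (fun x => c w x) := by
    rw [hz]; simp
  simp only [mem_filter, mem_univ, true_and] at hz3m hz1m hz2m
  obtain ⟨⟨hpz3, hqz3⟩, hwz3⟩ := hz3m
  obtain ⟨⟨hpz1, hqz1⟩, hwz1⟩ := hz1m
  obtain ⟨⟨hpz2, hqz2⟩, hwz2⟩ := hz2m
  -- the third points of the lines `p z3` and `q z3`
  obtain ⟨hpp3, hz3p3, -⟩ := thr_spec h hpz3
  obtain ⟨hqq3, hz3q3, -⟩ := thr_spec h hqz3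
  have hqp3 : ¬ c q (thr h p z3) :=
    (not_left_of_right h hpz3 hqz3 hpq.symm (by intro e; exact hc (e ▸ hpp3))).2
  have hpq3 : ¬ c p (thr h q z3) :=
    (not_left_of_right h hqz3 hpz3 hpq (by intro e; exact hqp (e ▸ hqq3))).2
  have hwz3' : w ≠ z3 := by rintro rfl; exact hpw hpz3
  have hwp3 : c w (thr h p z3) :=
    thr_of_not h hpz3 hwp' hwz3 hwp hwz3' (by intro e; exact hpw (e ▸ hpp3))
  have hwq3 : c w (thr h q z3) :=
    thr_of_not h hqz3 hwq' hwz3 hwq hwz3' (by intro e; exact hqw (e ▸ hqq3))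
  -- the third point `y` of the line `w p3`
  obtain ⟨hwy, hp3y, -⟩ := thr_spec h hwp3
  have hqy : c q (thr h w (thr h p z3)) :=
    thr_of_not h hwp3 hqw hqp3 (Ne.symm hwq) (by intro e; exact hc (e ▸ hpp3))
      (by intro e; exact hwq' (e ▸ hwy))
  have hpy : ¬ c p (thr h w (thr h p z3)) :=
    (not_left_of_right h hwp3 hpp3 (Ne.symm hwp) (by intro e; exact hwp' (e ▸ hwy))).2
  -- `w^⊥ ∩ q^⊥ = {z1, z2, q3}`
  have c3 := card_Z h hwq hwq'
  have hsub : ({z1, z2, thr h q z3} : Finset P) ⊆ univ.filter (fun x => c w x ∧ c q x) := by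
    intro x hx
    simp only [mem_insert, mem_singleton] at hx
    simp only [mem_filter, mem_univ, true_and]
    rcases hx with rfl | rfl | rfl
    · exact ⟨hwz1, hqz1⟩
    · exact ⟨hwz2, hqz2⟩
    · exact ⟨hwq3, hqq3⟩
  have hcard3 : ({z1, z2, thr h q z3} : Finset P).card = 3 := by
    rw [Finset.card_insert_of_notMem, Finset.card_insert_of_notMem, Finset.card_singleton]
    · simp only [mem_singleton]
      intro e; exact hpq3 (e ▸ hpz2)
    · simp only [mem_insert, mem_singleton, not_or]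
      exact ⟨hz12, fun e => hpq3 (e ▸ hpz1)⟩
  have heq := Finset.eq_of_subset_of_card_le hsub (by rw [c3, hcard3])
  have hy : thr h w (thr h p z3) ∈ ({z1, z2, thr h q z3} : Finset P) := by
    rw [heq]; simp only [mem_filter, mem_univ, true_and]; exact ⟨hwy, hqy⟩
  simp only [mem_insert, mem_singleton] at hy
  rcases hy with hy | hy | hy
  · exact hpy (hy ▸ hpz1)
  · exact hpy (hy ▸ hpz2)
  · have hp3q3 : c (thr h p z3) (thr h q z3) := hy ▸ hp3y
    have e := uniq h hz3p3 hpz3 hpp3 (h.symm _ _ hz3q3) (h.symm _ _ hp3q3)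
    exact hqp (e ▸ hqq3)

/-- a graph on 4 vertices with 3 edges and no vertex of degree 2 has exactly one coclique of size 3 -/
theorem star (hirr : ∀ p, ¬ c p p) (hsymm : ∀ p q, c p q → c q p) (W : Finset P) (hW : W.card = 4)
    (hsum : ∑ w ∈ W, (W.filter (fun x => c w x)).card = 6)
    (hne : ∀ w ∈ W, (W.filter (fun x => c w x)).card ≠ 2) :
    ∃! T : Finset P, T ⊆ W ∧ T.card = 3 ∧ ∀ x ∈ T, ∀ y ∈ T, ¬ c x y := by
  have hsub : ∀ w ∈ W, W.filter (fun x => c w x) ⊆ W.erase w := by
    intro w hw x hx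
    rw [mem_filter] at hx
    exact mem_erase.2 ⟨by rintro rfl; exact hirr _ hx.2, hx.1⟩
  have hle : ∀ w ∈ W, (W.filter (fun x => c w x)).card ≤ 3 := by
    intro w hw
    have := Finset.card_le_card (hsub w hw)
    rw [Finset.card_erase_of_mem hw, hW] at this; exact this
  obtain ⟨w0, hw0, hd0⟩ : ∃ w0 ∈ W, (W.filter (fun x => c w0 x)).card = 3 := by
    by_contra hcon
    push Not at hcon
    have : ∑ w ∈ W, (W.filter (fun x => c w x)).card ≤ ∑ w ∈ W, 1 := by
      apply Finset.sum_le_sum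
      intro w hw
      have := hle w hw; have := hne w hw; have := hcon w hw; omega
    simp only [sum_const, smul_eq_mul, mul_one, hW, hsum] at this
    omega
  have hall : W.filter (fun x => c w0 x) = W.erase w0 := by
    apply Finset.eq_of_subset_of_card_le (hsub w0 hw0)
    rw [Finset.card_erase_of_mem hw0, hW, hd0]
  have hadj : ∀ x ∈ W, x ≠ w0 → c w0 x := by
    intro x hx hne'
    have : x ∈ W.erase w0 := mem_erase.2 ⟨hne', hx⟩
    rw [← hall] at this; exact (mem_filter.1 this).2
  have hTcard : (W.erase w0).card = 3 := by rw [Finset.card_erase_of_mem hw0, hW]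
  have hsumT : ∑ w ∈ W.erase w0, (W.filter (fun x => c w x)).card = 3 := by
    have := Finset.add_sum_erase W (fun w => (W.filter (fun x => c w x)).card) hw0
    rw [hsum] at this
    simp only [hd0] at this
    omega
  have hge : ∀ w ∈ W.erase w0, 1 ≤ (W.filter (fun x => c w x)).card := by
    intro w hw
    obtain ⟨hne', hwW⟩ := mem_erase.1 hw
    apply Finset.card_pos.2
    exact ⟨w0, mem_filter.2 ⟨hw0, hsymm _ _ (hadj w hwW hne')⟩⟩
  have hone : ∀ w ∈ W.erase w0, (W.filter (fun x => c w x)).card = 1 := by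
    have := (Finset.sum_eq_sum_iff_of_le (s := W.erase w0) (f := fun _ => 1)
      (g := fun w => (W.filter (fun x => c w x)).card) hge).1 (by simp [hTcard, hsumT])
    intro w hw; exact (this w hw).symm
  have hcoc : ∀ x ∈ W.erase w0, ∀ y ∈ W.erase w0, ¬ c x y := by
    intro x hx y hy hxy
    obtain ⟨hxne, hxW⟩ := mem_erase.1 hx
    obtain ⟨hyne, hyW⟩ := mem_erase.1 hy
    obtain ⟨a, ha⟩ := Finset.card_eq_one.1 (hone x hx)
    have h1 : w0 ∈ W.filter (fun z => c x z) := mem_filter.2 ⟨hw0, hsymm _ _ (hadj x hxW hxne)⟩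
    have h2 : y ∈ W.filter (fun z => c x z) := mem_filter.2 ⟨hyW, hxy⟩
    rw [ha, mem_singleton] at h1 h2
    exact hyne (h2.trans h1.symm)
  refine ⟨W.erase w0, ⟨erase_subset _ _, hTcard, hcoc⟩, ?_⟩
  rintro T' ⟨hT'W, hT'card, hT'coc⟩
  have hw0T' : w0 ∉ T' := by
    intro hmem
    obtain ⟨b, hb, hbne⟩ := Finset.exists_mem_ne (by rw [hT'card]; norm_num : 1 < T'.card) w0
    exact hT'coc w0 hmem b hb (hadj b (hT'W hb) hbne)
  apply Finset.eq_of_subset_of_card_le
  · intro x hx; exact mem_erase.2 ⟨by rintro rfl; exact hw0T' hx, hT'W hx⟩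
  · rw [hTcard, hT'card]

/-- OVA on a type -/
theorem ova_type (h : GQ c) {p q : P} (hpq : p ≠ q) (hc : ¬ c p q) :
    ∃! O : Finset P, O.card = 5 ∧ (∀ x ∈ O, ∀ y ∈ O, ¬ c x y) ∧ p ∈ O ∧ q ∈ O := by
  have hqp : ¬ c q p := fun hh => hc (h.symm _ _ hh)
  obtain ⟨T, ⟨hTW, hTcard, hTcoc⟩, hTuniq⟩ := star h.irr h.symm (Ws c p q) (card_W h hpq hc)
    (by rw [Finset.sum_congr rfl (fun w hw => deg_W h hpq hc hw)]; exact sum_t h hpq hc)
    (by intro w hw; rw [deg_W h hpq hc hw]; exact t_ne_two h hpq hc hw)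
  have hWmem : ∀ x ∈ T, x ≠ p ∧ x ≠ q ∧ ¬ c p x ∧ ¬ c q x := by
    intro x hx; have := hTW hx; simpa [Ws] using this
  refine ⟨insert p (insert q T), ⟨?_, ?_, by simp, by simp⟩, ?_⟩
  · rw [Finset.card_insert_of_notMem, Finset.card_insert_of_notMem, hTcard]
    · intro hq; exact (hWmem q hq).2.1 rfl
    · simp only [mem_insert, not_or]; exact ⟨hpq, fun hp => (hWmem p hp).1 rfl⟩
  · intro x hx y hy
    simp only [mem_insert] at hx hy
    rcases hx with rfl | rfl | hx <;> rcases hy with rfl | rfl | hy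
    · exact h.irr _
    · exact hc
    · exact (hWmem y hy).2.2.1
    · exact hqp
    · exact h.irr _
    · exact (hWmem y hy).2.2.2
    · exact fun hh => (hWmem x hx).2.2.1 (h.symm _ _ hh)
    · exact fun hh => (hWmem x hx).2.2.2 (h.symm _ _ hh)
    · exact hTcoc x hx y hy
  · rintro O ⟨hOcard, hOcoc, hpO, hqO⟩
    have hT' : (O.erase p).erase q = T := by
      apply hTuniq
      refine ⟨?_, ?_, ?_⟩
      · intro x hx
        simp only [mem_erase] at hx
        obtain ⟨hxq, hxp, hxO⟩ := hx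
        simp only [Ws, mem_filter, mem_univ, true_and]
        exact ⟨hxp, hxq, hOcoc p hpO x hxO, hOcoc q hqO x hxO⟩
      · rw [Finset.card_erase_of_mem (mem_erase.2 ⟨hpq.symm, hqO⟩), Finset.card_erase_of_mem hpO,
          hOcard]
      · intro x hx y hy
        exact hOcoc x (mem_of_mem_erase (mem_of_mem_erase hx)) y
          (mem_of_mem_erase (mem_of_mem_erase hy))
    rw [← hT', Finset.insert_erase (mem_erase.2 ⟨hpq.symm, hqO⟩), Finset.insert_erase hpO]

end Cfsg.Agent.S0429P.OVAh

namespace Cfsg.Agent.S0429P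

open Finset

/-- OVA (L): pure combinatorics: two distinct non-collinear points lie in exactly one ovoid. -/
theorem OVA {α : Type*} [DecidableEq α] (Pts : Finset α) (c : α → α → Prop) [DecidableRel c]
    (hcard : Pts.card = 15) (hirr : ∀ p ∈ Pts, ¬ c p p) (hsymm : ∀ p ∈ Pts, ∀ q ∈ Pts, c p q → c q p)
    (hdeg : ∀ p ∈ Pts, (Pts.filter (fun q => c p q)).card = 6)
    (hline : ∀ p ∈ Pts, ∀ q ∈ Pts, c p q → ∃ r ∈ Pts, c p r ∧ c q r ∧
      ∀ s ∈ Pts, s ≠ p → s ≠ q → s ≠ r →
        ((c s p ∧ ¬ c s q ∧ ¬ c s r) ∨ (¬ c s p ∧ c s q ∧ ¬ c s r) ∨ (¬ c s p ∧ ¬ c s q ∧ c s r)))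
    {p q : α} (hp : p ∈ Pts) (hq : q ∈ Pts) (hpq : p ≠ q) (hc : ¬ c p q) :
    ∃! O : Finset α, O ⊆ Pts ∧ O.card = 5 ∧ (∀ p ∈ O, ∀ q ∈ O, ¬ c p q) ∧ p ∈ O ∧ q ∈ O := by
  classical
  let c' : {x // x ∈ Pts} → {x // x ∈ Pts} → Prop := fun x y => c x.1 y.1
  let _ : DecidableRel c' := fun x y => inferInstanceAs (Decidable (c x.1 y.1))
  have hGQ : OVAh.GQ c' :=
    { card := by rw [Fintype.card_coe]; exact hcard
      irr := fun x => hirr x.1 x.2
      symm := fun x y => hsymm x.1 x.2 y.1 y.2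
      deg := by
        intro x
        rw [← hdeg x.1 x.2]
        apply Finset.card_bij (fun y _ => y.1)
        · intro y hy
          simp only [mem_filter, mem_univ, true_and] at hy
          exact mem_filter.2 ⟨y.2, hy⟩
        · intro y _ y' _ e
          exact Subtype.ext e
        · intro b hb
          rw [mem_filter] at hb
          exact ⟨⟨b, hb.1⟩, by simp only [mem_filter, mem_univ, true_and]; exact hb.2, rfl⟩
      line := by
        intro x y hxy
        obtain ⟨r, hr, h1, h2, h3⟩ := hline x.1 x.2 y.1 y.2 hxy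
        refine ⟨⟨r, hr⟩, h1, h2, fun s hs1 hs2 hs3 => ?_⟩
        exact h3 s.1 s.2 (fun e => hs1 (Subtype.ext e)) (fun e => hs2 (Subtype.ext e))
          (fun e => hs3 (Subtype.ext e)) }
  obtain ⟨O', hO', huniq⟩ := OVAh.ova_type hGQ (p := ⟨p, hp⟩) (q := ⟨q, hq⟩)
    (fun e => hpq (congrArg Subtype.val e)) hc
  refine ⟨O'.map (Function.Embedding.subtype _), ⟨?_, ?_, ?_, ?_, ?_⟩, ?_⟩
  · intro x hx
    obtain ⟨y, _, rfl⟩ := mem_map.1 hx
    exact y.2
  · rw [Finset.card_map]; exact hO'.1
  · intro x hx y hy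
    obtain ⟨x', hx', rfl⟩ := mem_map.1 hx
    obtain ⟨y', hy', rfl⟩ := mem_map.1 hy
    exact hO'.2.1 x' hx' y' hy'
  · exact mem_map.2 ⟨⟨p, hp⟩, hO'.2.2.1, rfl⟩
  · exact mem_map.2 ⟨⟨q, hq⟩, hO'.2.2.2, rfl⟩
  · rintro O ⟨hOsub, hOcard, hOcoc, hpO, hqO⟩
    have : O.subtype (· ∈ Pts) = O' := by
      apply huniq
      refine ⟨?_, ?_, ?_, ?_⟩
      · rw [Finset.card_subtype, Finset.filter_true_of_mem (fun x hx => hOsub hx)]; exact hOcard
      · intro x hx y hy
        exact hOcoc x.1 (Finset.mem_subtype.1 hx) y.1 (Finset.mem_subtype.1 hy)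
      · exact Finset.mem_subtype.2 hpO
      · exact Finset.mem_subtype.2 hqO
    rw [← this, Finset.subtype_map_of_mem (fun x hx => hOsub hx)]

end Cfsg.Agent.S0429P
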