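import Mathlib
import Cfsg.Agent.Helper24.S0429OVA

/-! # S0429 board, piece OVOID (helper24): a generalized quadrangle of order (2,2) has exactly
6 ovoids, 2 through each point (double counting from OVA). -/

set_option autoImplicit false

namespace Cfsg.Agent.S0429P

open Finset

/-- OVOID (M): counting from OVA (each point has 8 non-collinear points, an ovoid through it contains 4 of them). -/
theorem OVOID {α : Type*} [DecidableEq α] (Pts : Finset α) (c : α → α → Prop) [DecidableRel c]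
    (hcard : Pts.card = 15) (hirr : ∀ p ∈ Pts, ¬ c p p) (hsymm : ∀ p ∈ Pts, ∀ q ∈ Pts, c p q → c q p)
    (hdeg : ∀ p ∈ Pts, (Pts.filter (fun q => c p q)).card = 6)
    (hline : ∀ p ∈ Pts, ∀ q ∈ Pts, c p q → ∃ r ∈ Pts, c p r ∧ c q r ∧
      ∀ s ∈ Pts, s ≠ p → s ≠ q → s ≠ r →
        ((c s p ∧ ¬ c s q ∧ ¬ c s r) ∨ (¬ c s p ∧ c s q ∧ ¬ c s r) ∨ (¬ c s p ∧ ¬ c s q ∧ c s r))) :
    (Pts.powerset.filter (fun O => O.card = 5 ∧ ∀ p ∈ O, ∀ q ∈ O, ¬ c p q)).card = 6 ∧
    ∀ p ∈ Pts, ((Pts.powerset.filter (fun O => O.card = 5 ∧ ∀ p ∈ O, ∀ q ∈ O, ¬ c p q)).filter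
      (fun O => p ∈ O)).card = 2 := by
  classical
  have hmemO : ∀ O, O ∈ Pts.powerset.filter (fun O => O.card = 5 ∧ ∀ p ∈ O, ∀ q ∈ O, ¬ c p q) ↔
      O ⊆ Pts ∧ O.card = 5 ∧ ∀ p ∈ O, ∀ q ∈ O, ¬ c p q := by
    intro O; rw [mem_filter, mem_powerset]
  -- part 2
  have h2 : ∀ p ∈ Pts, ((Pts.powerset.filter
      (fun O => O.card = 5 ∧ ∀ p ∈ O, ∀ q ∈ O, ¬ c p q)).filter (fun O => p ∈ O)).card = 2 := by
    intro p hp
    -- the 8 points not collinear with p
    have h8 : (Pts.filter (fun q => q ≠ p ∧ ¬ c p q)).card = 8 := by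
      have hs := Finset.card_filter_add_card_filter_not (s := Pts) (fun q => c p q)
      rw [hdeg p hp, hcard] at hs
      have e : Pts.filter (fun q => ¬ c p q) = insert p (Pts.filter (fun q => q ≠ p ∧ ¬ c p q)) := by
        ext x
        simp only [mem_filter, mem_insert]
        constructor
        · rintro ⟨hx, hn⟩
          by_cases hxp : x = p
          · exact Or.inl hxp
          · exact Or.inr ⟨hx, hxp, hn⟩
        · rintro (rfl | ⟨hx, _, hn⟩)
          · exact ⟨hp, hirr _ hp⟩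
          · exact ⟨hx, hn⟩
      rw [e, Finset.card_insert_of_notMem (by simp)] at hs
      omega
    have hdc := Finset.sum_card_bipartiteAbove_eq_sum_card_bipartiteBelow
      (s := (Pts.powerset.filter (fun O => O.card = 5 ∧ ∀ p ∈ O, ∀ q ∈ O, ¬ c p q)).filter
        (fun O => p ∈ O))
      (t := Pts.filter (fun q => q ≠ p ∧ ¬ c p q)) (fun O q => q ∈ O)
    unfold Finset.bipartiteAbove Finset.bipartiteBelow at hdc
    have hl : ∀ O ∈ (Pts.powerset.filter (fun O => O.card = 5 ∧ ∀ p ∈ O, ∀ q ∈ O, ¬ c p q)).filter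
        (fun O => p ∈ O), ((Pts.filter (fun q => q ≠ p ∧ ¬ c p q)).filter (fun q => q ∈ O)).card = 4 := by
      intro O hO
      rw [mem_filter, hmemO] at hO
      obtain ⟨⟨hOs, hO5, hOc⟩, hpO⟩ := hO
      have e : (Pts.filter (fun q => q ≠ p ∧ ¬ c p q)).filter (fun q => q ∈ O) = O.erase p := by
        ext x
        simp only [mem_filter, mem_erase]
        constructor
        · rintro ⟨⟨_, hxp, _⟩, hxO⟩; exact ⟨hxp, hxO⟩
        · rintro ⟨hxp, hxO⟩; exact ⟨⟨hOs hxO, hxp, hOc p hpO x hxO⟩, hxO⟩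
      rw [e, Finset.card_erase_of_mem hpO, hO5]
    have hr : ∀ q ∈ Pts.filter (fun q => q ≠ p ∧ ¬ c p q),
        (((Pts.powerset.filter (fun O => O.card = 5 ∧ ∀ p ∈ O, ∀ q ∈ O, ¬ c p q)).filter
          (fun O => p ∈ O)).filter (fun O => q ∈ O)).card = 1 := by
      intro q hq
      rw [mem_filter] at hq
      obtain ⟨hqP, hqp, hcq⟩ := hq
      obtain ⟨O0, hO0, huniq⟩ := OVA Pts c hcard hirr hsymm hdeg hline hp hqP (Ne.symm hqp) hcq
      rw [Finset.card_eq_one]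
      refine ⟨O0, ?_⟩
      ext O
      rw [mem_filter, mem_filter, hmemO, mem_singleton]
      constructor
      · rintro ⟨⟨⟨h1, h2, h3⟩, h4⟩, h5⟩
        exact huniq O ⟨h1, h2, h3, h4, h5⟩
      · rintro rfl
        exact ⟨⟨⟨hO0.1, hO0.2.1, hO0.2.2.1⟩, hO0.2.2.2.1⟩, hO0.2.2.2.2⟩
    rw [Finset.sum_congr rfl hl, Finset.sum_congr rfl hr, Finset.sum_const, Finset.sum_const, h8] at hdc
    simp only [smul_eq_mul] at hdc
    omega
  refine ⟨?_, h2⟩
  -- part 1
  have hdc := Finset.sum_card_bipartiteAbove_eq_sum_card_bipartiteBelow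
    (s := Pts.powerset.filter (fun O => O.card = 5 ∧ ∀ p ∈ O, ∀ q ∈ O, ¬ c p q))
    (t := Pts) (fun O q => q ∈ O)
  unfold Finset.bipartiteAbove Finset.bipartiteBelow at hdc
  have hl : ∀ O ∈ Pts.powerset.filter (fun O => O.card = 5 ∧ ∀ p ∈ O, ∀ q ∈ O, ¬ c p q),
      (Pts.filter (fun q => q ∈ O)).card = 5 := by
    intro O hO
    rw [hmemO] at hO
    have e : Pts.filter (fun q => q ∈ O) = O := by
      ext x; simp only [mem_filter]
      exact ⟨fun hx => hx.2, fun hx => ⟨hO.1 hx, hx⟩⟩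
    rw [e, hO.2.1]
  rw [Finset.sum_congr rfl hl, Finset.sum_congr rfl h2, Finset.sum_const, Finset.sum_const, hcard] at hdc
  simp only [smul_eq_mul] at hdc
  omega

end Cfsg.Agent.S0429P
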