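import Mathlib

set_option autoImplicit false
set_option linter.unusedSectionVars false
set_option linter.unusedVariables false

/-! # S0679, step (1) (helper24): the Sylow 11-subgroup `P` of a transitive group of degree 11 has order 11,
`C_G(P) = P` and `|N_G(P)| = 11 d` with `d ∣ 10`. -/

namespace Cfsg.Agent.S0679P

open Equiv MulAction

variable {α : Type*} [Fintype α] [DecidableEq α]

/-- an element of order 11 on 11 points has a centraliser of order 11 in `Perm α` -/
theorem NORM.card_centralizer (h11 : Fintype.card α = 11) {g : Perm α} (hg : orderOf g = 11) :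
    Nat.card (Subgroup.centralizer ({g} : Set (Perm α))) = 11 := by
  have hp : (orderOf g).Prime := by rw [hg]; norm_num
  obtain ⟨n, hn⟩ := Perm.cycleType_prime_order hp
  rw [hg] at hn
  have hsum : g.cycleType.sum ≤ 11 := by
    rw [Perm.sum_cycleType, ← h11]
    exact Finset.card_le_univ _
  rw [hn, Multiset.sum_replicate, smul_eq_mul] at hsum
  have hn0 : n = 0 := by omega
  rw [hn0] at hn
  rw [Perm.nat_card_centralizer, hn, h11]
  decide

/-- the Sylow 11-subgroup of a transitive group of degree 11 has order 11 -/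
theorem NORM.card_sylow (h11 : Fintype.card α = 11) (G : Subgroup (Perm α))
    [IsPretransitive G α] [Fact (Nat.Prime 11)] (P : Sylow 11 G) :
    Nat.card (P : Subgroup G) = 11 := by
  have hne : Nonempty α := by
    rw [← Fintype.card_pos_iff, h11]
    norm_num
  obtain ⟨a⟩ := hne
  have h1 : (stabilizer G a).index = 11 := by
    rw [MulAction.index_stabilizer_of_transitive G a, Nat.card_eq_fintype_card, h11]
  have h2 : 11 ∣ Nat.card G := by
    rw [← h1]
    exact Subgroup.index_dvd_card _
  have h3 : 11 ∣ Nat.card (P : Subgroup G) := P.dvd_card_of_dvd_card h2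
  have h4 : Nat.card (P : Subgroup G) ∣ Nat.factorial 11 := by
    have e1 : Nat.card (P : Subgroup G) ∣ Nat.card G := Subgroup.card_subgroup_dvd_card _
    have e2 : Nat.card G ∣ Nat.card (Perm α) := Subgroup.card_subgroup_dvd_card _
    have e3 : Nat.card (Perm α) = Nat.factorial 11 := by
      rw [Nat.card_perm, Nat.card_eq_fintype_card, h11]
    rw [e3] at e2
    exact e1.trans e2
  have h5 := P.card_eq_multiplicity
  obtain ⟨k, hk⟩ : ∃ k, k = (Nat.card G).factorization 11 := ⟨_, rfl⟩
  rw [← hk] at h5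
  rw [h5] at h3 h4 ⊢
  have hk1 : k ≠ 0 := by
    rintro rfl
    norm_num at h3
  have hk2 : k < 2 := by
    by_contra hcon
    push Not at hcon
    have : 11 ^ 2 ∣ Nat.factorial 11 := (pow_dvd_pow 11 hcon).trans h4
    revert this
    decide
  have : k = 1 := by omega
  rw [this, pow_one]

/-- `|N_G(P)| = 11 d` with `d ∣ 10` -/
theorem NORM.card (h11 : Fintype.card α = 11) (G : Subgroup (Perm α))
    [Fact (Nat.Prime 11)] (P : Sylow 11 G) (hP : Nat.card (P : Subgroup G) = 11) :
    ∃ d, d ∣ 10 ∧ Nat.card (Subgroup.normalizer ((P : Subgroup G) : Set G)) = 11 * d := by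
  classical
  obtain ⟨P', hP'⟩ : ∃ P' : Subgroup ↥G, P' = (P : Subgroup G) := ⟨_, rfl⟩
  rw [← hP'] at hP ⊢
  have hfin : Finite ↥G := inferInstance
  -- a generator
  have hcyc : IsCyclic ↥P' := isCyclic_of_prime_card hP
  obtain ⟨g₀, hg₀1⟩ : ∃ g₀ : ↥P', g₀ ≠ 1 := by
    by_contra hcon
    push Not at hcon
    have : Nat.card ↥P' ≤ 1 := by
      rw [Nat.card_eq_fintype_card]
      exact Fintype.card_le_one_iff.mpr (fun a b => by rw [hcon a, hcon b])
    omega
  have hg₀o : orderOf g₀ = 11 := by
    have h1 : orderOf g₀ ∣ 11 := by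
      rw [← hP]
      exact orderOf_dvd_natCard g₀
    rcases (Nat.dvd_prime (by norm_num : Nat.Prime 11)).mp h1 with h | h
    · exact absurd (orderOf_eq_one_iff.mp h) hg₀1
    · exact h
  have hgo : orderOf (((g₀ : ↥G) : Perm α)) = 11 := by
    rw [← hg₀o, Subgroup.orderOf_coe, Subgroup.orderOf_coe]
  have hcent := NORM.card_centralizer h11 hgo
  -- the conjugation homomorphism
  obtain ⟨φ, hφ⟩ : ∃ φ : ↥(Subgroup.normalizer (P' : Set ↥G)) →* MulAut ↥P',
      φ = P'.normalizerMonoidHom := ⟨_, rfl⟩
  have hker : φ.ker = (Subgroup.centralizer (P' : Set ↥G)).subgroupOf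
      (Subgroup.normalizer (P' : Set ↥G)) := by
    rw [hφ]
    exact Subgroup.normalizerMonoidHom_ker P'
  have hcard : Nat.card ↥(Subgroup.normalizer (P' : Set ↥G)) =
      Nat.card ↥φ.range * Nat.card ↥φ.ker := by
    rw [Subgroup.card_eq_card_quotient_mul_card_subgroup φ.ker]
    congr 1
    exact Nat.card_congr (QuotientGroup.quotientKerEquivRange φ).toEquiv
  have hrange : Nat.card ↥φ.range ∣ 10 := by
    have h1 : Nat.card ↥φ.range ∣ Nat.card (MulAut ↥P') := Subgroup.card_subgroup_dvd_card _
    rw [IsCyclic.card_mulAut, hP] at h1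
    have h2 : Nat.totient 11 = 10 := by
      rw [Nat.totient_prime (by norm_num : Nat.Prime 11)]
    rw [h2] at h1
    exact h1
  -- the kernel has at most 11 elements
  have hkerle : Nat.card ↥φ.ker ≤ 11 := by
    rw [← hcent]
    refine Nat.card_le_card_of_injective
      (fun n => (⟨(((n : ↥(Subgroup.normalizer (P' : Set ↥G))) : ↥G) : Perm α), ?_⟩ :
        ↥(Subgroup.centralizer ({((g₀ : ↥G) : Perm α)} : Set (Perm α))))) ?_
    · rw [Subgroup.mem_centralizer_iff]
      intro h hh
      rw [Set.mem_singleton_iff] at hh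
      rw [hh]
      have hn : (n : ↥(Subgroup.normalizer (P' : Set ↥G))) ∈
          (Subgroup.centralizer (P' : Set ↥G)).subgroupOf (Subgroup.normalizer (P' : Set ↥G)) := by
        rw [← hker]
        exact n.2
      rw [Subgroup.mem_subgroupOf, Subgroup.mem_centralizer_iff] at hn
      have := hn (g₀ : ↥G) g₀.2
      exact congrArg (fun z : ↥G => (z : Perm α)) this
    · intro n m hnm
      have h1 : (((n : ↥(Subgroup.normalizer (P' : Set ↥G))) : ↥G) : Perm α) =
          (((m : ↥(Subgroup.normalizer (P' : Set ↥G))) : ↥G) : Perm α) := by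
        have h0 := congrArg (fun z : ↥(Subgroup.centralizer ({((g₀ : ↥G) : Perm α)} : Set (Perm α))) =>
          (z : Perm α)) hnm
        exact h0
      exact Subtype.ext (Subtype.ext (Subtype.ext h1))
  -- `11` divides the order of the normaliser
  have h11N : 11 ∣ Nat.card ↥(Subgroup.normalizer (P' : Set ↥G)) := by
    have h1 : Nat.card ↥(P'.subgroupOf (Subgroup.normalizer (P' : Set ↥G))) = 11 := by
      rw [Nat.card_congr (Subgroup.subgroupOfEquivOfLe Subgroup.le_normalizer).toEquiv, hP]
    rw [← h1]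
    exact Subgroup.card_subgroup_dvd_card _
  rw [hcard] at h11N
  have hcop : Nat.Coprime 11 (Nat.card ↥φ.range) :=
    Nat.Coprime.coprime_dvd_right hrange (by decide)
  have h11k : 11 ∣ Nat.card ↥φ.ker := hcop.dvd_of_dvd_mul_left h11N
  have hkpos : 0 < Nat.card ↥φ.ker := Nat.card_pos
  have hk11 : Nat.card ↥φ.ker = 11 := by
    obtain ⟨c, hc⟩ := h11k
    have : c = 1 := by
      rcases c with _ | _ | c
      · omega
      · rfl
      · omega
    rw [hc, this]
  refine ⟨Nat.card ↥φ.range, hrange, ?_⟩
  rw [hcard, hk11, mul_comm]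

end Cfsg.Agent.S0679P
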