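import Mathlib
import Cfsg.Agent.S0676
import Cfsg.Agent.Helper24.S0679NORM

set_option autoImplicit false
set_option linter.unusedSectionVars false
set_option linter.unusedVariables false

/-! # S0679, step (1)/(5) (helper24): a non-solvable transitive group of degree 11 containing an odd
permutation is 3-transitive (Frattini argument: the normaliser of a Sylow 11-subgroup contains an odd
permutation, so it has even order; then S0676), hence `990 ∣ |G|`. -/

namespace Cfsg.Agent.S0679P

open Equiv MulAction

variable {α : Type*} [Fintype α] [DecidableEq α]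

/-- an odd permutation has even order -/
theorem ODD3.even_orderOf {x : Perm α} (hx : x ∉ alternatingGroup α) : Even (orderOf x) := by
  rw [Perm.mem_alternatingGroup] at hx
  have h1 : Perm.sign x = -1 := by
    rcases Int.units_eq_one_or (Perm.sign x) with h | h
    · exact absurd h hx
    · exact h
  have h2 : Perm.sign (x ^ orderOf x) = 1 := by
    rw [pow_orderOf_eq_one, map_one]
  rw [map_pow, h1] at h2
  exact (neg_one_pow_eq_one_iff_even (by decide)).mp h2

/-- the normaliser of a Sylow 11-subgroup of `G ⊄ A_11` has even order -/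
theorem ODD3.even_normalizer (h11 : Fintype.card α = 11) (G : Subgroup (Perm α))
    [IsPretransitive G α] [Fact (Nat.Prime 11)] (hodd : ¬ G ≤ alternatingGroup α) :
    ∃ P : Sylow 11 G, Even (Nat.card (Subgroup.normalizer ((P : Subgroup G) : Set G))) := by
  classical
  have hnt : Nontrivial α := by
    rw [← Fintype.one_lt_card_iff_nontrivial, h11]
    norm_num
  obtain ⟨N, hN⟩ : ∃ N : Subgroup ↥G, N = (alternatingGroup α).subgroupOf G := ⟨_, rfl⟩
  have hNn : N.Normal := by
    rw [hN]
    exact alternatingGroup.normal.subgroupOf G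
  -- `11 ∣ |N|`
  have hidx : N.index ∣ 2 := by
    have h1 := Subgroup.relIndex_dvd_index_of_normal (alternatingGroup α) G
    rw [alternatingGroup.index_eq_two] at h1
    rw [hN]
    exact h1
  obtain ⟨P₀⟩ : Nonempty (Sylow 11 G) := inferInstance
  have hP₀ := NORM.card_sylow h11 G P₀
  have h11G : 11 ∣ Nat.card G := by
    rw [← hP₀]
    exact Subgroup.card_subgroup_dvd_card _
  have h11N : 11 ∣ Nat.card N := by
    have h1 := Subgroup.card_mul_index N
    rw [← h1] at h11G
    have hcop : Nat.Coprime 11 N.index := Nat.Coprime.coprime_dvd_right hidx (by decide)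
    exact hcop.dvd_of_dvd_mul_right h11G
  -- a Sylow 11-subgroup of `N` and Frattini
  obtain ⟨P⟩ : Nonempty (Sylow 11 N) := inferInstance
  have hfr := Sylow.normalizer_sup_eq_top P
  obtain ⟨Q, hQ⟩ : ∃ Q : Subgroup ↥G, Q = Subgroup.map N.subtype (P : Subgroup N) := ⟨_, rfl⟩
  rw [← hQ] at hfr
  have hQcard : Nat.card Q = Nat.card (P : Subgroup N) := by
    rw [hQ]
    exact Subgroup.card_map_of_injective N.subtype_injective
  have hQp : IsPGroup 11 Q := by
    rw [hQ]
    exact P.isPGroup'.map N.subtype
  obtain ⟨PG, hPG⟩ := hQp.exists_le_sylow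
  have hPGc := NORM.card_sylow h11 G PG
  have h11Q : 11 ∣ Nat.card Q := by
    rw [hQcard]
    exact P.dvd_card_of_dvd_card h11N
  have hQle : Nat.card Q ≤ 11 := by
    rw [← hPGc]
    exact Nat.le_of_dvd Nat.card_pos (Subgroup.card_dvd_of_le hPG)
  have hQeq : Q = (PG : Subgroup G) := by
    refine Subgroup.eq_of_le_of_card_ge hPG ?_
    rw [hPGc]
    exact Nat.le_of_dvd Nat.card_pos h11Q
  refine ⟨PG, ?_⟩
  rw [← hQeq]
  -- an odd element of the normaliser
  have hNtop : N ≠ ⊤ := by
    intro h
    apply hodd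
    intro g hg
    have : (⟨g, hg⟩ : ↥G) ∈ N := by rw [h]; exact Subgroup.mem_top _
    rw [hN, Subgroup.mem_subgroupOf] at this
    exact this
  have hnotle : ¬ Subgroup.normalizer (Q : Set ↥G) ≤ N := by
    intro hle
    apply hNtop
    rw [← hfr]
    exact (sup_eq_right.mpr hle).symm
  obtain ⟨x, hxn, hxN⟩ := SetLike.not_le_iff_exists.mp hnotle
  have hxodd : ((x : ↥G) : Perm α) ∉ alternatingGroup α := by
    intro h
    apply hxN
    rw [hN, Subgroup.mem_subgroupOf]
    exact h
  have heven := ODD3.even_orderOf hxodd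
  have h1 : orderOf (⟨x, hxn⟩ : ↥(Subgroup.normalizer (Q : Set ↥G))) = orderOf ((x : ↥G) : Perm α) := by
    rw [← Subgroup.orderOf_coe, ← Subgroup.orderOf_coe]
  have h2 : orderOf (⟨x, hxn⟩ : ↥(Subgroup.normalizer (Q : Set ↥G))) ∣
      Nat.card ↥(Subgroup.normalizer (Q : Set ↥G)) := orderOf_dvd_natCard _
  rw [h1] at h2
  exact (even_iff_two_dvd.mpr ((even_iff_two_dvd.mp heven).trans h2))

/-- a non-solvable transitive group of degree 11 containing an odd permutation is 3-transitive -/
theorem ODD3 (h11 : Fintype.card α = 11) (G : Subgroup (Perm α)) [IsPretransitive G α]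
    (hG : ¬ Group.IsSolvable G) (hodd : ¬ G ≤ alternatingGroup α) :
    IsMultiplyPretransitive G α 3 := by
  have hfact : Fact (Nat.Prime 11) := ⟨by norm_num⟩
  obtain ⟨P, hP⟩ := ODD3.even_normalizer h11 G hodd
  exact Cfsg.Agent.S0676.result h11 G hG P hP

/-- the order of a 3-transitive group of degree 11 is divisible by 990 -/
theorem ODD3.dvd_of_trans3 (h11 : Fintype.card α = 11) (G : Subgroup (Perm α))
    (h3 : IsMultiplyPretransitive G α 3) : 990 ∣ Nat.card G := by
  have hpre : IsPretransitive ↥G (Fin 3 ↪ α) := h3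
  have hx : Nonempty (Fin 3 ↪ α) := by
    refine Function.Embedding.nonempty_of_card_le ?_
    simp [h11]
  obtain ⟨x⟩ := hx
  have h0 := @index_stabilizer_of_transitive ↥G (Fin 3 ↪ α) _ _ x hpre
  rw [Nat.card_eq_fintype_card, Fintype.card_embedding_eq, h11, Fintype.card_fin] at h0
  have h1 : (990 : ℕ) = Nat.descFactorial 11 3 := by decide
  rw [h1, ← h0]
  exact Subgroup.index_dvd_card _

theorem ODD3.dvd (h11 : Fintype.card α = 11) (G : Subgroup (Perm α)) [IsPretransitive G α]
    (hG : ¬ Group.IsSolvable G) (hodd : ¬ G ≤ alternatingGroup α) : 990 ∣ Nat.card G :=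
  ODD3.dvd_of_trans3 h11 G (ODD3 h11 G hG hodd)

end Cfsg.Agent.S0679P
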