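import Cfsg.Agent.Helper27.S0745Defs

/-! Board `s0745pieces`, row KILL373 (helper24): the case `(t, c, r) = (3, 7, 3)`, `n = 24`.
The stabiliser `K` of two points has order `154 = 2 · 7 · 11`, its Sylow `11`-subgroup is normal, a point
stabiliser `H` of order `7` in `K` centralises a nontrivial element `g` of it, and then a nontrivial element of
`H` fixes the four points `a, b, z, g z`. -/

set_option autoImplicit false
set_option linter.unusedSectionVars false

namespace Cfsg.Agent.S0745P

open Equiv

variable {α : Type*} [Fintype α] [DecidableEq α]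

/-- the conjugation action of a subgroup on a normal subgroup -/
@[instance_reducible] def KILL373_aux_act {K : Type*} [Group K] (H P : Subgroup K) (hP : P.Normal) : MulAction H P where
  smul h p := ⟨(h : K) * p * (h : K)⁻¹, hP.conj_mem p p.2 h⟩
  one_smul p := Subtype.ext (by show ((1 : H) : K) * p * ((1 : H) : K)⁻¹ = p; simp)
  mul_smul a b p := Subtype.ext (by
    show ((a * b : H) : K) * p * ((a * b : H) : K)⁻¹ = (a : K) * ((b : K) * p * (b : K)⁻¹) * (a : K)⁻¹
    simp [mul_assoc])

/-- `|K| = 154` for the stabiliser of two points -/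
theorem KILL373_aux_cardK {G : Subgroup (Perm α)} (h : Hyp G 3 7 3) {a b z : α} (hab : a ≠ b) (haz : a ≠ z)
    (hbz : b ≠ z) :
    Nat.card (PS G {a, b}) = 154 ∧
      Nat.card (MulAction.stabilizer (PS G {a, b}) z) = 7 := by
  have hn : Fintype.card α = 24 := by rw [h.deg]
  -- the stabiliser of z in K is the stabiliser of three points
  have hstab : Nat.card (MulAction.stabilizer (PS G {a, b}) z) = 7 := by
    rw [← h.cardH {a, b, z} (by
      rw [Finset.card_insert_of_notMem, Finset.card_pair hbz]
      rw [Finset.mem_insert, Finset.mem_singleton, not_or]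
      exact ⟨hab, haz⟩)]
    refine Nat.card_congr ⟨fun k => ⟨(k.1 : Perm α), ?_⟩, fun g => ⟨⟨(g : Perm α), ?_⟩, ?_⟩, ?_, ?_⟩
    · obtain ⟨⟨k, hk⟩, hkz⟩ := k
      rw [MulAction.mem_stabilizer_iff] at hkz
      refine ⟨hk.1, ?_⟩
      intro x hx
      rw [Finset.mem_insert, Finset.mem_insert, Finset.mem_singleton] at hx
      rcases hx with rfl | rfl | rfl
      · exact hk.2 _ (Finset.mem_insert_self _ _)
      · exact hk.2 _ (Finset.mem_insert_of_mem (Finset.mem_singleton_self _))
      · exact hkz
    · obtain ⟨g, hg⟩ := g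
      refine ⟨hg.1, ?_⟩
      intro x hx
      rw [Finset.mem_insert, Finset.mem_singleton] at hx
      rcases hx with rfl | rfl
      · exact hg.2 _ (Finset.mem_insert_self _ _)
      · exact hg.2 _ (Finset.mem_insert_of_mem (Finset.mem_insert_self _ _))
    · obtain ⟨g, hg⟩ := g
      rw [MulAction.mem_stabilizer_iff]
      exact hg.2 _ (Finset.mem_insert_of_mem (Finset.mem_insert_of_mem (Finset.mem_singleton_self _)))
    · intro k; rfl
    · intro g; rfl
  refine ⟨?_, hstab⟩
  -- the orbit of z under K
  have horb : MulAction.orbit (PS G {a, b}) z = ((({a, b} : Finset α)ᶜ : Finset α) : Set α) := by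
    ext w
    rw [Finset.mem_coe, Finset.mem_compl, Finset.mem_insert, Finset.mem_singleton, not_or]
    constructor
    · rintro ⟨⟨k, hk⟩, rfl⟩
      show ¬ k z = a ∧ ¬ k z = b
      constructor
      · intro e
        have := hk.2 a (Finset.mem_insert_self _ _)
        rw [← this] at e
        exact haz (k.injective e).symm
      · intro e
        have := hk.2 b (Finset.mem_insert_of_mem (Finset.mem_singleton_self _))
        rw [← this] at e
        exact hbz (k.injective e).symm
    · rintro ⟨hwa, hwb⟩
      let x : Fin 3 ↪ α := ⟨![a, b, z], by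
        intro i j hij
        fin_cases i <;> fin_cases j <;> simp_all⟩
      let y : Fin 3 ↪ α := ⟨![a, b, w], by
        intro i j hij
        fin_cases i <;> fin_cases j <;> simp_all [eq_comm]⟩
      obtain ⟨g, hg, hgx⟩ := h.trans x y
      have h0 : g a = a := hgx 0
      have h1 : g b = b := hgx 1
      have h2 : g z = w := hgx 2
      refine ⟨⟨g, hg, ?_⟩, h2⟩
      intro v hv
      rw [Finset.mem_insert, Finset.mem_singleton] at hv
      rcases hv with rfl | rfl
      · exact h0
      · exact h1
  have hidx := MulAction.index_stabilizer (G := PS G {a, b}) (x := z)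
  rw [horb, Set.ncard_coe_finset, Finset.card_compl, hn, Finset.card_pair hab] at hidx
  have := Subgroup.card_mul_index (MulAction.stabilizer (PS G {a, b}) z)
  rw [hidx, hstab] at this
  omega

/-- KILL373 -/
theorem kill_3_7_3 {G : Subgroup (Perm α)} (h : Hyp G 3 7 3) : False := by
  have hn : Fintype.card α = 24 := by rw [h.deg]
  obtain ⟨a, b, z, hab, haz, hbz⟩ := Fintype.two_lt_card_iff.mp (by omega : 2 < Fintype.card α)
  obtain ⟨hK, hH⟩ := KILL373_aux_cardK h hab haz hbz
  have hp11 : Fact (Nat.Prime 11) := ⟨by norm_num⟩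
  have hp7 : Fact (Nat.Prime 7) := ⟨by norm_num⟩
  -- the Sylow 11-subgroup
  obtain ⟨P⟩ : Nonempty (Sylow 11 (PS G {a, b})) := inferInstance
  have hPcard : Nat.card P = 11 := by
    have h1 : 11 ∣ Nat.card P := P.dvd_card_of_dvd_card (by rw [hK]; norm_num)
    have h2 : Nat.card P ∣ 154 := by rw [← hK]; exact Subgroup.card_subgroup_dvd_card _
    obtain ⟨n, hn'⟩ := IsPGroup.iff_card.mp P.isPGroup'
    rw [hn'] at h1 h2 ⊢
    rcases n with _ | _ | n
    · norm_num at h1
    · norm_num
    · exfalso
      have : 121 ∣ 154 := dvd_trans (by rw [pow_succ, pow_succ]; exact ⟨11 ^ n, by ring⟩) h2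
      norm_num at this
  have hnum : Nat.card (Sylow 11 (PS G {a, b})) = 1 := by
    have h1 := card_sylow_modEq_one 11 (PS G {a, b})
    have h2 := P.card_dvd_index
    have h3 : (P : Subgroup (PS G {a, b})).index = 14 := by
      have := Subgroup.card_mul_index (P : Subgroup (PS G {a, b}))
      rw [hPcard, hK] at this
      omega
    rw [h3] at h2
    have h4 : Nat.card (Sylow 11 (PS G {a, b})) ≤ 14 := Nat.le_of_dvd (by norm_num) h2
    unfold Nat.ModEq at h1
    generalize Nat.card (Sylow 11 (PS G {a, b})) = c at h1 h2 h4 ⊢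
    interval_cases c <;> omega
  have hsub : Subsingleton (Sylow 11 (PS G {a, b})) := (Nat.card_eq_one_iff_unique.mp hnum).1
  have hPn : (P : Subgroup (PS G {a, b})).Normal := Sylow.normal_of_subsingleton P
  -- the stabiliser of z, of order 7, acting on P
  have hHp : IsPGroup 7 (MulAction.stabilizer (PS G {a, b}) z) :=
    IsPGroup.of_card (n := 1) (by rw [hH]; norm_num)
  let _ := KILL373_aux_act (MulAction.stabilizer (PS G {a, b}) z) (P : Subgroup (PS G {a, b})) hPn
  have hfix := hHp.card_modEq_card_fixedPoints (P : Subgroup (PS G {a, b}))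
  obtain ⟨g, hgfix, hg1⟩ : ∃ g : (P : Subgroup (PS G {a, b})),
      g ∈ MulAction.fixedPoints (MulAction.stabilizer (PS G {a, b}) z) (P : Subgroup (PS G {a, b})) ∧
        g ≠ 1 := by
    by_contra hcon
    push Not at hcon
    have : Nat.card (MulAction.fixedPoints (MulAction.stabilizer (PS G {a, b}) z)
        (P : Subgroup (PS G {a, b}))) = 1 := by
      rw [Nat.card_eq_one_iff_unique]
      refine ⟨⟨fun x y => Subtype.ext ?_⟩, ⟨⟨1, ?_⟩⟩⟩
      · rw [hcon x x.2, hcon y y.2]
      · intro k
        refine Subtype.ext ?_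
        show ((k : PS G {a, b})) * 1 * ((k : PS G {a, b}))⁻¹ = 1
        simp
    rw [this, hPcard] at hfix
    unfold Nat.ModEq at hfix
    omega
  -- g does not fix z
  have hgz : ((g : PS G {a, b}) : Perm α) z ≠ z := by
    intro e
    have hgH : (g : PS G {a, b}) ∈ MulAction.stabilizer (PS G {a, b}) z := by
      rw [MulAction.mem_stabilizer_iff]; exact e
    have o1 : orderOf (g : PS G {a, b}) ∣ 7 := by
      have := Subgroup.orderOf_dvd_natCard _ hgH
      rwa [hH] at this
    have o2 : orderOf (g : PS G {a, b}) ∣ 11 := by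
      have := Subgroup.orderOf_dvd_natCard _ g.2
      rwa [hPcard] at this
    have o3 : orderOf (g : PS G {a, b}) ∣ Nat.gcd 7 11 := Nat.dvd_gcd o1 o2
    have o4 : orderOf (g : PS G {a, b}) = 1 := by
      have : Nat.gcd 7 11 = 1 := by norm_num
      rw [this] at o3
      exact Nat.dvd_one.mp o3
    rw [orderOf_eq_one_iff] at o4
    exact hg1 (Subtype.ext o4)
  have hga : ((g : PS G {a, b}) : Perm α) a = a := (g : PS G {a, b}).2.2 a (Finset.mem_insert_self _ _)
  have hgb : ((g : PS G {a, b}) : Perm α) b = b :=
    (g : PS G {a, b}).2.2 b (Finset.mem_insert_of_mem (Finset.mem_singleton_self _))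
  -- a nontrivial element of H
  have hHnt : Nontrivial (MulAction.stabilizer (PS G {a, b}) z) :=
    Finite.one_lt_card_iff_nontrivial.mp (by rw [hH]; norm_num)
  obtain ⟨k, hk1⟩ := exists_ne (1 : MulAction.stabilizer (PS G {a, b}) z)
  have hkG : ((k : PS G {a, b}) : Perm α) ∈ G := (k : PS G {a, b}).2.1
  have hka : ((k : PS G {a, b}) : Perm α) a = a := (k : PS G {a, b}).2.2 a (Finset.mem_insert_self _ _)
  have hkb : ((k : PS G {a, b}) : Perm α) b = b :=
    (k : PS G {a, b}).2.2 b (Finset.mem_insert_of_mem (Finset.mem_singleton_self _))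
  have hkz : ((k : PS G {a, b}) : Perm α) z = z := by
    have := k.2
    rw [MulAction.mem_stabilizer_iff] at this
    exact this
  have hcomm : ((k : PS G {a, b}) : Perm α) * ((g : PS G {a, b}) : Perm α) * ((k : PS G {a, b}) : Perm α)⁻¹
      = ((g : PS G {a, b}) : Perm α) := by
    have h1 := MulAction.mem_fixedPoints.mp hgfix k
    have h2 : (k : PS G {a, b}) * (g : PS G {a, b}) * (k : PS G {a, b})⁻¹ = (g : PS G {a, b}) :=
      congrArg Subtype.val h1
    exact congrArg Subtype.val h2
  have hkgz : ((k : PS G {a, b}) : Perm α) (((g : PS G {a, b}) : Perm α) z) = ((g : PS G {a, b}) : Perm α) z := by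
    have h1 := congrArg (fun σ : Perm α => σ z) hcomm
    simp only [Perm.mul_apply] at h1
    rw [show (((k : PS G {a, b}) : Perm α))⁻¹ z = z from Perm.inv_eq_iff_eq.mpr hkz.symm] at h1
    exact h1
  have hk_one : ((k : PS G {a, b}) : Perm α) = 1 := by
    refine h.semireg _ hkG {a, b, z, ((g : PS G {a, b}) : Perm α) z} ?_ ?_
    · rw [Finset.card_insert_of_notMem, Finset.card_insert_of_notMem, Finset.card_pair hgz.symm]
      · rw [Finset.mem_insert, Finset.mem_singleton, not_or]
        refine ⟨hbz, ?_⟩
        intro e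
        exact hbz (((g : PS G {a, b}) : Perm α).injective (hgb.trans e))
      · rw [Finset.mem_insert, Finset.mem_insert, Finset.mem_singleton, not_or, not_or]
        refine ⟨hab, haz, ?_⟩
        intro e
        exact haz (((g : PS G {a, b}) : Perm α).injective (hga.trans e))
    · intro x hx
      rw [Finset.mem_insert, Finset.mem_insert, Finset.mem_insert, Finset.mem_singleton] at hx
      rcases hx with rfl | rfl | rfl | rfl
      · exact hka
      · exact hkb
      · exact hkz
      · exact hkgz
  exact hk1 (Subtype.ext (Subtype.ext hk_one))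

end Cfsg.Agent.S0745P
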