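import Mathlib
import Cfsg.Prelude.Def_Local
import Cfsg.Prelude.Def_Transfer

/-! Definitions for the proof of S1786 (Timmesfeld's lemma on elementary abelian TI-subgroups).
Blueprint: `departures/helper24_S1786_blueprint.md`; ALTERNATIVE route of helper24 (the board s1786pieces is helper12's; his Defs are Cfsg.Agent.Helper12.S1786Defs). -/

set_option autoImplicit false

namespace Cfsg.Agent.S1786H24

variable {G : Type*} [Group G]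

/-- the conjugate `g E g⁻¹` -/
def cj (g : G) (E : Subgroup G) : Subgroup G := E.map (MulAut.conj g).toMonoidHom

/-- `N_G(U)` -/
abbrev NN (U : Subgroup G) : Subgroup G := Subgroup.normalizer (U : Set G)

/-- `Q_U = O_2(N_G(U))`, as a subgroup of `G` -/
def QQ (U : Subgroup G) : Subgroup G := (Cfsg.pCore 2 ↥(NN U)).map (NN U).subtype

/-- `P_U = C_{Q_U}(U)` -/
def PP (U : Subgroup G) : Subgroup G := QQ U ⊓ Subgroup.centralizer (U : Set G)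

/-- `R = C_{P_U}(V)` -/
def RR (U V : Subgroup G) : Subgroup G := PP U ⊓ Subgroup.centralizer (V : Set G)

/-- the class of the conjugates of `U₀` -/
def Dc (U₀ : Subgroup G) : Set (Subgroup G) := {X | ∃ x : G, X = cj x U₀}

/-- The hypotheses on `U`: elementary abelian, `C_{N(U)}(Q_U) ≤ Q_U`, maximal abelian normal in `N(U)`, TI. -/
structure Hyp (U : Subgroup G) : Prop where
  ea : Cfsg.IsElementaryAbelian 2 U
  cq : ∀ c ∈ NN U, (∀ y ∈ QQ U, c * y = y * c) → c ∈ QQ U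
  maxab : ∀ A : Subgroup G, U ≤ A → A ≤ NN U → IsMulCommutative ↥A →
    (∀ m ∈ NN U, ∀ a ∈ A, m * a * m⁻¹ ∈ A) → A = U
  ti : ∀ x : G, cj x U = U ∨ cj x U ⊓ U = ⊥

/-- The basic package for `U` (the conclusions of the B rows). -/
structure Bas (U : Subgroup G) : Prop where
  hyp : Hyp U
  /-- `U` is commutative of exponent 2, elementwise -/
  comm : ∀ a ∈ U, ∀ b ∈ U, a * b = b * a
  sq : ∀ a ∈ U, a * a = 1
  le_PP : U ≤ PP U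
  QQ_le : QQ U ≤ NN U
  QQ_p : IsPGroup 2 ↥(QQ U)
  QQ_conj : ∀ m ∈ NN U, ∀ y ∈ QQ U, m * y * m⁻¹ ∈ QQ U
  PP_conj : ∀ m ∈ NN U, ∀ y ∈ PP U, m * y * m⁻¹ ∈ PP U
  /-- normal 2-subgroups of `N(U)` lie in `Q_U` -/
  QQ_max : ∀ N : Subgroup G, N ≤ NN U → (∀ m ∈ NN U, ∀ y ∈ N, m * y * m⁻¹ ∈ N) → IsPGroup 2 ↥N → N ≤ QQ U
  /-- TI: the centraliser of a nontrivial element of `U` normalises `U` -/
  cent_le : ∀ u ∈ U, u ≠ 1 → ∀ c : G, c * u = u * c → c ∈ NN U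
  /-- `Z(P_U) = U` -/
  center_PP : ∀ z ∈ PP U, (∀ y ∈ PP U, z * y = y * z) → z ∈ U
  /-- `P_U / U` is elementary abelian -/
  comm_PP : ∀ x ∈ PP U, ∀ y ∈ PP U, x * y * x⁻¹ * y⁻¹ ∈ U
  sq_PP : ∀ x ∈ PP U, x * x ∈ U
  /-- `C_G(P_U) = U` -/
  cent_PP : ∀ c : G, (∀ y ∈ PP U, c * y = y * c) → c ∈ U
  /-- `C_{C(U)}(P_U / U) = P_U` -/
  crit : ∀ c ∈ Subgroup.centralizer (U : Set G), (∀ y ∈ PP U, c * y * c⁻¹ * y⁻¹ ∈ U) → c ∈ PP U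

/-- The system of all conjugates of `U₀`. -/
structure Sys (U₀ : Subgroup G) : Prop where
  bas : ∀ X ∈ Dc U₀, Bas X
  ti : ∀ X ∈ Dc U₀, ∀ Y ∈ Dc U₀, X = Y ∨ X ⊓ Y = ⊥
  /-- Lemma T -/
  lemT : ∀ X ∈ Dc U₀, ∀ Y ∈ Dc U₀, Y ≤ NN X → ∀ a ∈ X, ∀ b ∈ Y, a * b = b * a
  mem_cj : ∀ X ∈ Dc U₀, ∀ x : G, cj x X ∈ Dc U₀
  QQ_cj : ∀ X ∈ Dc U₀, ∀ x : G, QQ (cj x X) = cj x (QQ X)
  PP_cj : ∀ X ∈ Dc U₀, ∀ x : G, PP (cj x X) = cj x (PP X)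
  card : ∀ X ∈ Dc U₀, Nat.card ↥X = Nat.card ↥U₀
  card_PP : ∀ X ∈ Dc U₀, Nat.card ↥(PP X) = Nat.card ↥(PP U₀)

/-- `U → V`: both are conjugates of `U₀`, `V ≠ U` and `V ≤ Q_U`. -/
structure Arr (U₀ U V : Subgroup G) : Prop where
  memU : U ∈ Dc U₀
  memV : V ∈ Dc U₀
  le : V ≤ QQ U
  ne : V ≠ U

/-- The package for an arrow `U → V` (the conclusions of the P rows). -/
structure Pair (U₀ U V : Subgroup G) : Prop where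
  le_PP : V ≤ PP U
  disj : U ⊓ V = ⊥
  /-- `C_{P_U}(v) = R` for `v ∈ V^#` -/
  cent_eq : ∀ x ∈ PP U, ∀ v ∈ V, v ≠ 1 → x * v = v * x → x ∈ RR U V
  /-- the second root group `U₂`: acts freely on `V`, and `P_U = U₂ R` -/
  second : ∃ U₂ : Subgroup G, Arr U₀ U U₂ ∧
    (∀ v ∈ V, v ≠ 1 → ∀ x ∈ U₂, x ≠ 1 → v * x ≠ x * v) ∧
    (∀ y ∈ PP U, ∃ x ∈ U₂, ∃ r ∈ RR U V, y = x * r)
  card_PP : Nat.card ↥(PP U) = Nat.card ↥U * Nat.card ↥(RR U V)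
  /-- `[v, P_U] = U` for `v ∈ V^#` -/
  surj : ∀ v ∈ V, v ≠ 1 → ∀ u ∈ U, ∃ x ∈ PP U, x * v * x⁻¹ * v⁻¹ = u
  /-- `W = U V` is partitioned by `U` and the `P_U`-conjugates of `V` -/
  part : ∀ w ∈ U ⊔ V, w ∈ U ∨ ∃ x ∈ PP U, w ∈ cj x V
  norm : PP U ≤ Subgroup.normalizer ((U ⊔ V : Subgroup G) : Set G)
  /-- the conjugates of `U₀` inside `W` -/
  inW : ∀ X ∈ Dc U₀, X ≤ U ⊔ V → X = U ∨ ∃ x ∈ PP U, X = cj x V
  /-- a conjugate meeting `W` nontrivially lies in `W` -/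
  meet : ∀ X ∈ Dc U₀, ∀ w ∈ X, w ≠ 1 → w ∈ U ⊔ V → X ≤ U ⊔ V
  card_sup : Nat.card ↥(U ⊔ V) = Nat.card ↥U * Nat.card ↥U
  /-- `Z(R) = W` -/
  center_RR : ∀ z ∈ RR U V, (∀ y ∈ RR U V, z * y = y * z) → z ∈ U ⊔ V

end Cfsg.Agent.S1786H24
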