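import Mathlib
import Cfsg.Agent.Helper21.S2789AMBCore
import Cfsg.Agent.Helper28.S2789REC

/-! `RECAMB`: rank-one recognition of `SL₂(F)` for a NOT NECESSARILY FAITHFUL conjugation action of `H = ⟨A, B⟩` on an abelian
subgroup `W` (core of the row SL2 of the board `s1786pieces`, S1786).  Proof: `Cfsg.Agent.S2789P.AMB_core` (with `N = ⊥`) and
`Cfsg.Agent.S2789P.REC` applied to the image `L` of `H` in `MulAut ↥W`. -/

set_option autoImplicit false

namespace Cfsg.Agent.S1786H24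

open Cfsg.Agent.S2789P

/-- `SL₂(F)` is transitive on the nonzero vectors. -/
theorem SL2_trans {F : Type*} [Field F] (v w : Fin 2 → F) (hv : v ≠ 0) (hw : w ≠ 0) :
    ∃ m : Matrix.SpecialLinearGroup (Fin 2) F, (m : Matrix (Fin 2) (Fin 2) F).mulVec v = w := by
  -- every nonzero vector is the first column of an element of `SL₂`
  have key : ∀ u : Fin 2 → F, u ≠ 0 → ∃ m : Matrix.SpecialLinearGroup (Fin 2) F,
      (m : Matrix (Fin 2) (Fin 2) F).mulVec ![1, 0] = u := by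
    intro u hu
    by_cases h0 : u 0 = 0
    · have h1 : u 1 ≠ 0 := by
        intro h1
        apply hu
        ext i
        fin_cases i
        · exact h0
        · exact h1
      refine ⟨⟨!![0, -(u 1)⁻¹; u 1, 0], ?_⟩, ?_⟩
      · rw [Matrix.det_fin_two_of]
        field_simp
        ring
      · ext i
        fin_cases i
        · simp [Matrix.mulVec, dotProduct, Fin.sum_univ_two, h0]
        · simp [Matrix.mulVec, dotProduct, Fin.sum_univ_two]
    · refine ⟨⟨!![u 0, 0; u 1, (u 0)⁻¹], ?_⟩, ?_⟩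
      · rw [Matrix.det_fin_two_of]
        field_simp
        ring
      · ext i
        fin_cases i
        · simp [Matrix.mulVec, dotProduct, Fin.sum_univ_two]
        · simp [Matrix.mulVec, dotProduct, Fin.sum_univ_two]
  obtain ⟨m1, h1⟩ := key v hv
  obtain ⟨m2, h2⟩ := key w hw
  refine ⟨m2 * m1⁻¹, ?_⟩
  have h3 : ((m1⁻¹ : Matrix.SpecialLinearGroup (Fin 2) F) : Matrix (Fin 2) (Fin 2) F).mulVec v = ![1, 0] := by
    rw [← h1, Matrix.mulVec_mulVec, ← Matrix.SpecialLinearGroup.coe_mul, inv_mul_cancel]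
    simp
  rw [Matrix.SpecialLinearGroup.coe_mul, ← Matrix.mulVec_mulVec, h3, h2]

universe u

variable {G : Type u} [Group G]

/-- RECAMB. -/
theorem RECAMB [Finite G] (W H A B WA WB : Subgroup G) (D : Set (Subgroup G))
    (hW : ∀ x ∈ W, ∀ y ∈ W, x * y = y * x)
    (hHW : H ≤ Subgroup.normalizer (W : Set G)) (hgen : A ⊔ B = H)
    (hWA : WA ≤ W) (hWB : WB ≤ W)
    (hfixA : ∀ a ∈ A, ∀ w ∈ WA, a * w = w * a) (hquadA : ∀ a ∈ A, ∀ w ∈ W, a * w * a⁻¹ * w⁻¹ ∈ WA)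
    (hfixB : ∀ b ∈ B, ∀ w ∈ WB, b * w = w * b) (hquadB : ∀ b ∈ B, ∀ w ∈ W, b * w * b⁻¹ * w⁻¹ ∈ WB)
    (hdisj : WA ⊓ WB = ⊥) (hspan : WA ⊔ WB = W)
    (hcardA : Nat.card ↥A = Nat.card ↥WA * Nat.card ↥(A ⊓ Subgroup.centralizer (W : Set G)))
    (hcardB : Nat.card ↥B = Nat.card ↥WB * Nat.card ↥(B ⊓ Subgroup.centralizer (W : Set G)))
    (hntA : ¬ A ≤ Subgroup.centralizer (W : Set G))
    (hDA : WA ∈ D) (hDB : WB ∈ D) (hDW : ∀ Y ∈ D, Y ≤ W)
    (hDinv : ∀ Y ∈ D, ∀ h ∈ H, Y.map (MulAut.conj h).toMonoidHom ∈ D)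
    (hDsp : ∀ Y ∈ D, ∀ Z ∈ D, Y = Z ∨ Y ⊓ Z = ⊥) (hDc : ∀ Y ∈ D, Nat.card ↥Y = Nat.card ↥WA) :
    (∀ hN : ((Subgroup.centralizer (W : Set G)).subgroupOf H).Normal,
      ∃ (F : Type) (_ : Field F) (_ : Fintype F), Fintype.card F = Nat.card ↥WA ∧
        Nonempty (↥H ⧸ (Subgroup.centralizer (W : Set G)).subgroupOf H ≃* Matrix.SpecialLinearGroup (Fin 2) F)) ∧
    (∀ w ∈ W, w ≠ 1 → ∀ w' ∈ W, w' ≠ 1 → ∃ h ∈ H, h * w * h⁻¹ = w') := by
  classical
  let _ : CommGroup ↥W :=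
    { (inferInstance : Group ↥W) with mul_comm := fun a b => Subtype.ext (hW a.1 a.2 b.1 b.2) }
  let actH : MulDistribMulAction ↥H ↥W := AMB_act W H hHW
  have hsmH : ∀ (h : ↥H) (w : ↥W), ((h • w : ↥W) : G) = (h : G) * w * (h : G)⁻¹ := fun _ _ => rfl
  -- the conjugation homomorphism
  let κ : ↥H →* MulAut ↥W := MulDistribMulAction.toMulAut ↥H ↥W
  have hκ : ∀ (h : ↥H) (w : ↥W), ((κ h w : ↥W) : G) = (h : G) * w * (h : G)⁻¹ := fun _ _ => rfl
  have hAH : A ≤ H := hgen ▸ le_sup_left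
  have hBH : B ≤ H := hgen ▸ le_sup_right
  have hker : κ.ker = (Subgroup.centralizer (W : Set G)).subgroupOf H := by
    ext h
    rw [MonoidHom.mem_ker, Subgroup.mem_subgroupOf, Subgroup.mem_centralizer_iff]
    constructor
    · intro hh w hw
      have h1 : κ h ⟨w, hw⟩ = ⟨w, hw⟩ := by rw [hh]; rfl
      have h2 := congrArg Subtype.val h1
      rw [hκ] at h2
      have h3 : (h : G) * w = w * (h : G) := by
        calc (h : G) * w = ((h : G) * w * (h : G)⁻¹) * (h : G) := by group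
          _ = w * (h : G) := by rw [h2]
      exact h3.symm
    · intro hh
      ext w
      rw [hκ]
      have h1 := hh w.1 w.2
      show (h : G) * w * (h : G)⁻¹ = w
      rw [← h1, mul_inv_cancel_right]
  -- the group `L` and its action
  let L : Subgroup (MulAut ↥W) := κ.range
  have hsmL : ∀ (l : ↥L) (w : ↥W), l • w = (l : MulAut ↥W) w := fun _ _ => rfl
  let π : ↥H →* ↥L := κ.rangeRestrict
  have hπ : ∀ (h : ↥H) (w : ↥W), ((π h • w : ↥W) : G) = (h : G) * w * (h : G)⁻¹ := fun _ _ => rfl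
  have hπsurj : Function.Surjective π := κ.rangeRestrict_surjective
  let A' : Subgroup ↥L := (A.subgroupOf H).map π
  let B' : Subgroup ↥L := (B.subgroupOf H).map π
  have hcardsub : ∀ K : Subgroup G, K ≤ W → Nat.card (K.subgroupOf W) = Nat.card K :=
    fun K hK => Nat.card_congr (Subgroup.subgroupOfEquivOfLe hK).toEquiv
  -- cardinality of the image of a subgroup of `H`
  have hcardimg : ∀ K : Subgroup G, K ≤ H →
      Nat.card ↥K = Nat.card ↥((K.subgroupOf H).map π) * Nat.card ↥(K ⊓ Subgroup.centralizer (W : Set G)) := by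
    intro K hK
    let f : ↥K →* ↥L := π.comp (Subgroup.inclusion hK)
    have h1 : Nat.card f.ker * f.ker.index = Nat.card ↥K := Subgroup.card_mul_index f.ker
    rw [Subgroup.index_ker] at h1
    have hrange : Nat.card ↥f.range = Nat.card ↥((K.subgroupOf H).map π) := by
      apply Nat.card_congr
      refine Equiv.subtypeEquiv (Equiv.refl _) ?_
      intro l
      constructor
      · rintro ⟨k, rfl⟩
        exact ⟨Subgroup.inclusion hK k, Subgroup.mem_subgroupOf.2 k.2, rfl⟩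
      · rintro ⟨h, hh, rfl⟩
        exact ⟨⟨h.1, Subgroup.mem_subgroupOf.1 hh⟩, rfl⟩
    have hkerf : Nat.card ↥f.ker = Nat.card ↥(K ⊓ Subgroup.centralizer (W : Set G)) := by
      apply Nat.card_congr
      refine
        { toFun := fun k => ⟨k.1.1, k.1.2, ?_⟩
          invFun := fun k => ⟨⟨k.1, k.2.1⟩, ?_⟩
          left_inv := fun k => rfl
          right_inv := fun k => rfl }
      · have h2 : π (Subgroup.inclusion hK k.1) = 1 := k.2
        have h3 : κ (Subgroup.inclusion hK k.1) = 1 := by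
          have := congrArg Subtype.val h2
          exact this
        have h4 : Subgroup.inclusion hK k.1 ∈ κ.ker := h3
        rw [hker, Subgroup.mem_subgroupOf] at h4
        exact h4
      · show π (Subgroup.inclusion hK ⟨k.1, k.2.1⟩) = 1
        have h4 : Subgroup.inclusion hK ⟨k.1, k.2.1⟩ ∈ κ.ker := by
          rw [hker, Subgroup.mem_subgroupOf]
          exact k.2.2
        apply Subtype.ext
        exact h4
    rw [← h1, hkerf, hrange, mul_comm]
  have hpos : ∀ K : Subgroup G, 0 < Nat.card ↥K := fun K => Nat.card_pos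
  have hcA' : Nat.card ↥A' = Nat.card ↥WA := by
    have h1 := hcardimg A hAH
    rw [hcardA] at h1
    exact (Nat.eq_of_mul_eq_mul_right (hpos _) h1).symm
  have hcB' : Nat.card ↥B' = Nat.card ↥WB := by
    have h1 := hcardimg B hBH
    rw [hcardB] at h1
    exact (Nat.eq_of_mul_eq_mul_right (hpos _) h1).symm
  have hbotcard : Nat.card ↥(⊥ : Subgroup ↥W) = 1 := Subgroup.card_bot
  -- hypotheses of `AMB_core`
  have hgen' : A' ⊔ B' = ⊤ := by
    show (A.subgroupOf H).map π ⊔ (B.subgroupOf H).map π = ⊤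
    rw [← Subgroup.map_sup, ← Subgroup.subgroupOf_sup hAH hBH, hgen, Subgroup.subgroupOf_self]
    exact Subgroup.map_top_of_surjective π hπsurj
  have hA1' : A' ≠ ⊥ := by
    intro h
    apply hntA
    intro a ha
    rw [Subgroup.mem_centralizer_iff]
    intro w hw
    have h1 : π ⟨a, hAH ha⟩ ∈ A' := ⟨⟨a, hAH ha⟩, Subgroup.mem_subgroupOf.2 ha, rfl⟩
    rw [h, Subgroup.mem_bot] at h1
    have h2 : π ⟨a, hAH ha⟩ • (⟨w, hw⟩ : ↥W) = ⟨w, hw⟩ := by rw [h1, one_smul]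
    have h3 := congrArg Subtype.val h2
    rw [hπ] at h3
    have h4 : a * w = w * a := by
      calc a * w = (a * w * a⁻¹) * a := by group
        _ = w * a := by rw [h3]
    exact h4.symm
  have hfix : ∀ (K WK : Subgroup G), (∀ a ∈ K, ∀ w ∈ WK, a * w = w * a) →
      ∀ a ∈ (K.subgroupOf H).map π, ∀ u ∈ WK.subgroupOf W, a • u = u := by
    rintro K WK hK _ ⟨a, ha, rfl⟩ u hu
    apply Subtype.ext
    rw [hπ, hK a.1 (Subgroup.mem_subgroupOf.1 ha) u.1 (Subgroup.mem_subgroupOf.1 hu), mul_inv_cancel_right]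
  have hquad : ∀ (K WK : Subgroup G), (∀ a ∈ K, ∀ w ∈ W, a * w * a⁻¹ * w⁻¹ ∈ WK) →
      ∀ a ∈ (K.subgroupOf H).map π, ∀ v : ↥W, a • v * v⁻¹ ∈ WK.subgroupOf W := by
    rintro K WK hK _ ⟨a, ha, rfl⟩ v
    rw [Subgroup.mem_subgroupOf]
    show ((π a • v : ↥W) : G) * ((v⁻¹ : ↥W) : G) ∈ WK
    rw [hπ]
    exact hK a.1 (Subgroup.mem_subgroupOf.1 ha) v.1 v.2
  have hdisj' : WA.subgroupOf W ⊓ WB.subgroupOf W = ⊥ := by
    rw [eq_bot_iff]
    intro x hx
    rw [Subgroup.mem_inf, Subgroup.mem_subgroupOf, Subgroup.mem_subgroupOf] at hx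
    have h1 : (x : G) ∈ WA ⊓ WB := hx
    rw [hdisj, Subgroup.mem_bot] at h1
    rw [Subgroup.mem_bot]
    exact Subtype.ext h1
  have hspan' : WA.subgroupOf W ⊔ WB.subgroupOf W = ⊤ := by
    rw [← Subgroup.subgroupOf_sup hWA hWB, hspan, Subgroup.subgroupOf_self]
  have hkerL : ∀ l : ↥L, (∀ v : ↥W, l • v * v⁻¹ ∈ (⊥ : Subgroup ↥W)) → l = 1 := by
    intro l hl
    apply Subtype.ext
    ext v
    have h1 := hl v
    rw [Subgroup.mem_bot, mul_inv_eq_one] at h1
    rw [hsmL] at h1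
    rw [h1]
    rfl
  let 𝒰 : Set (Subgroup ↥W) := {U | ∃ Y ∈ D, U = Y.subgroupOf W}
  have hUinv : ∀ U ∈ 𝒰, ∀ l : ↥L, U.map (MulDistribMulAction.toMonoidHom ↥W l) ∈ 𝒰 := by
    rintro _ ⟨Y, hY, rfl⟩ l
    obtain ⟨h, rfl⟩ := hπsurj l
    refine ⟨Y.map (MulAut.conj (h : G)).toMonoidHom, hDinv Y hY h.1 h.2, ?_⟩
    ext x
    rw [Subgroup.mem_map, Subgroup.mem_subgroupOf, Subgroup.mem_map]
    constructor
    · rintro ⟨u, hu, rfl⟩
      refine ⟨u.1, Subgroup.mem_subgroupOf.1 hu, ?_⟩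
      show (h : G) * u * (h : G)⁻¹ = _
      rfl
    · rintro ⟨y, hy, hyx⟩
      refine ⟨⟨y, hDW Y hY hy⟩, Subgroup.mem_subgroupOf.2 hy, ?_⟩
      apply Subtype.ext
      show (h : G) * y * (h : G)⁻¹ = x
      rw [← hyx]
      rfl
  have hUsp : ∀ U ∈ 𝒰, ∀ U' ∈ 𝒰, U = U' ∨ U ⊓ U' = ⊥ := by
    rintro _ ⟨Y, hY, rfl⟩ _ ⟨Z, hZ, rfl⟩
    rcases hDsp Y hY Z hZ with h | h
    · left; rw [h]
    · right
      rw [eq_bot_iff]
      intro x hx
      rw [Subgroup.mem_inf, Subgroup.mem_subgroupOf, Subgroup.mem_subgroupOf] at hx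
      have h1 : (x : G) ∈ Y ⊓ Z := hx
      rw [h, Subgroup.mem_bot] at h1
      rw [Subgroup.mem_bot]
      exact Subtype.ext h1
  obtain ⟨F, i1, i2, hc, ρ, ψ, hsurj, hkerψ, heq⟩ :=
    AMB_core (fun _ _ _ _ _ _ _ _ _ _ _ _ h => REC h) (L := ↥L) (Vt := ↥W) (⊥ : Subgroup ↥W)
      (by
        intro l n hn
        rw [Subgroup.mem_bot] at hn
        rw [hn, smul_one]
        exact Subgroup.one_mem _)
      A' B' (WA.subgroupOf W) (WB.subgroupOf W) hgen' hA1'
      (hfix A WA hfixA) (hquad A WA hquadA) (hfix B WB hfixB) (hquad B WB hquadB) hdisj' hspan'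
      (by rw [hcardsub _ hWA, hcA', hbotcard, mul_one]) (by rw [hcardsub _ hWB, hcB', hbotcard, mul_one])
      hkerL 𝒰 ⟨WA, hDA, rfl⟩ ⟨WB, hDB, rfl⟩ (fun _ _ => bot_le) hUinv hUsp
      (by
        rintro _ ⟨Y, hY, rfl⟩
        rw [hcardsub _ (hDW Y hY), hcardsub _ hWA]
        exact hDc Y hY)
  refine ⟨?_, ?_⟩
  · intro hN
    refine ⟨F, i1, i2, by rw [hc, hcA'], ⟨?_⟩⟩
    exact ((QuotientGroup.quotientMulEquivOfEq hker.symm).trans (QuotientGroup.quotientKerEquivRange κ)).trans ρ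
  · intro w hw hw1 w' hw' hw1'
    have hne : ∀ x : ↥W, x ≠ 1 → Multiplicative.toAdd (ψ x) ≠ 0 := by
      intro x hx h0
      apply hx
      have : ψ x = 1 := h0
      have h2 := (hkerψ x).1 this
      rwa [Subgroup.mem_bot] at h2
    have h1 : (⟨w, hw⟩ : ↥W) ≠ 1 := fun h => hw1 (congrArg Subtype.val h)
    have h1' : (⟨w', hw'⟩ : ↥W) ≠ 1 := fun h => hw1' (congrArg Subtype.val h)
    obtain ⟨m, hm⟩ := SL2_trans _ _ (hne _ h1) (hne _ h1')
    obtain ⟨h, hh⟩ := hπsurj (ρ.symm m)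
    refine ⟨h.1, h.2, ?_⟩
    have h3 := heq (π h) ⟨w, hw⟩
    rw [hh, MulEquiv.apply_symm_apply, hm] at h3
    -- `ψ` is injective
    have hinj : Function.Injective ψ := by
      rw [injective_iff_map_eq_one]
      intro x hx
      have h2 := (hkerψ x).1 hx
      rwa [Subgroup.mem_bot] at h2
    have h4 : ρ.symm m • (⟨w, hw⟩ : ↥W) = ⟨w', hw'⟩ := hinj (Multiplicative.toAdd.injective h3)
    rw [← hh] at h4
    have h5 := congrArg Subtype.val h4
    rw [hπ] at h5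
    exact h5

end Cfsg.Agent.S1786H24
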