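import Mathlib
import Cfsg.Agent.Helper8.S1904Defs
import Cfsg.Agent.Helper24.S1904B1core

/-! Board `s1904pieces`, row `B7a`, core (helper24): `B1`, `B4`, `B5` enter as hypotheses.  Blueprint: departures/helper8_S1904_blueprint.md, (B7a).
No nontrivial `A`-fixed coset in `T/B`. -/

set_option autoImplicit false

namespace Cfsg.Agent.S1904P

variable {X : Type*} [Group X] {A : Subgroup (MulAut X)} {B : Subgroup X}

/-- The action of `A` on an `A`-fixed coset `tB`. -/
@[instance_reducible] def B7a_aux_act (t : X) (hI : Inv A B) (ht : ∀ φ ∈ A, t⁻¹ * φ t ∈ B) :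
    MulAction A {y : X // t⁻¹ * y ∈ B} where
  smul φ y := ⟨(φ : MulAut X) y.1, by
    have h1 := ht φ φ.2
    have h2 := hI φ φ.2 _ y.2
    have : t⁻¹ * (φ : MulAut X) y.1 = (t⁻¹ * (φ : MulAut X) t) * (φ : MulAut X) (t⁻¹ * y.1) := by
      rw [map_mul, map_inv]; group
    rw [this]; exact mul_mem h1 h2⟩
  one_smul y := by ext; rfl
  mul_smul φ ψ y := by ext; rfl

/-- In a `2`-group an element with `b² ≠ 1` has a power of order four. -/
theorem B7a_aux_four (hX : IsPGroup 2 X) (b : X) (hb : b * b ≠ 1) :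
    ∃ n : ℕ, (b ^ n) ^ 4 = 1 ∧ b ^ n * b ^ n ≠ 1 := by
  obtain ⟨n, hn1, hn2⟩ := B1_aux_invol hX (b * b) hb
  refine ⟨n, ?_, ?_⟩
  · have e : (b ^ n) ^ 4 = (b * b) ^ n * (b * b) ^ n := by
      have h2 : b * b = b ^ 2 := (pow_two b).symm
      rw [h2, ← pow_mul, ← pow_mul, ← pow_add]; congr 1; ring
    rw [e, hn2]
  · have e : b ^ n * b ^ n = (b * b) ^ n := by
      have h2 : b * b = b ^ 2 := (pow_two b).symm
      rw [h2, ← pow_mul, ← pow_add]; congr 1; ring
    rw [e]; exact hn1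

/-- `W ∪ xW` for an involution `x`. -/
def B7a_aux_E (x : X) (hx : x * x = 1) : Subgroup X where
  carrier := {e | e ∈ WW X ∨ x * e ∈ WW X}
  one_mem' := Or.inl (one_mem _)
  mul_mem' := by
    have hxi : x⁻¹ = x := inv_eq_of_mul_eq_one_left hx
    rintro a b (ha | ha) (hb | hb)
    · exact Or.inl (mul_mem ha hb)
    · right
      have hc : x * a = a * x := (Subgroup.mem_center_iff.1 ha.1) x
      have : x * (a * b) = a * (x * b) := by rw [← mul_assoc, hc, mul_assoc]
      rw [this]; exact mul_mem ha hb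
    · right
      rw [← mul_assoc]; exact mul_mem ha hb
    · left
      have hc : (x * a) * x = x * (x * a) := (Subgroup.mem_center_iff.1 ha.1) x |>.symm
      have : a * b = (x * a) * (x * b) := by
        calc a * b = (x * x) * a * b := by rw [hx, one_mul]
          _ = x * ((x * a) * x) * (x⁻¹ * b) := by group
          _ = x * (x * (x * a)) * (x * b) := by rw [hc, hxi]
          _ = (x * x) * (x * a) * (x * b) := by group
          _ = (x * a) * (x * b) := by rw [hx, one_mul]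
      rw [this]; exact mul_mem ha hb
  inv_mem' := by
    have hxi : x⁻¹ = x := inv_eq_of_mul_eq_one_left hx
    rintro a (ha | ha)
    · exact Or.inl (inv_mem ha)
    · right
      have hc : (x * a)⁻¹ * x = x * (x * a)⁻¹ :=
        (Subgroup.mem_center_iff.1 (inv_mem ha).1) x |>.symm
      have : x * a⁻¹ = (x * a)⁻¹ := by
        calc x * a⁻¹ = x * ((x * a)⁻¹ * x) := by group
          _ = x * (x * (x * a)⁻¹) := by rw [hc]
          _ = (x * x) * (x * a)⁻¹ := by group
          _ = (x * a)⁻¹ := by rw [hx, one_mul]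
      rw [this]; exact inv_mem ha

variable [Finite X]

theorem B7a_core (H : Hyp A) (hB : MaxAb A B)
    (hB1 : Nat.card (WW X) = 4 ∧ WW X ≤ B ∧ (∀ b ∈ B, b * b = 1 → b ∈ WW X) ∧
      (∀ b ∈ B, (∀ φ ∈ A, φ b = b) → b = 1) ∧ ¬ (∀ φ ∈ A, ∀ w ∈ WW X, φ w = w))
    (hA3 : Nat.card A = 3)
    (hB5 : ∀ x : X, (∀ φ ∈ A, ∀ u ∈ B, u ^ 4 = 1 → (x⁻¹ * φ x) * u = u * (x⁻¹ * φ x)) →
      ∀ u ∈ B, u ^ 4 = 1 → x * u = u * x) :
    ∀ t : X, InT B t → (∀ φ ∈ A, t⁻¹ * φ t ∈ B) → t ∈ B := by
  intro t hT ht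
  obtain ⟨h4, hWB, hOm, hCB, -⟩ := hB1
  have hBn : B.Normal := hB.normal
  -- a fixed point in the coset
  obtain ⟨x, hxt, hxfix⟩ : ∃ x : X, t⁻¹ * x ∈ B ∧ ∀ φ ∈ A, φ x = x := by
    let _ := B7a_aux_act t hB.inv ht
    have hp : IsPGroup 3 A := by
      have : Fact (Nat.Prime 3) := ⟨by norm_num⟩
      exact IsPGroup.of_card (n := 1) (by rw [hA3]; norm_num)
    have hcard : Nat.card {y : X // t⁻¹ * y ∈ B} = Nat.card B := by
      refine Nat.card_congr ⟨fun y => ⟨t⁻¹ * y.1, y.2⟩, fun b => ⟨t * b.1, by simp⟩, ?_, ?_⟩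
      · intro y; ext; simp
      · intro b; ext; simp
    have hnd : ¬ 3 ∣ Nat.card {y : X // t⁻¹ * y ∈ B} := by
      rw [hcard]
      obtain ⟨k, hk⟩ := (IsPGroup.iff_card (p := 2)).1 (H.pX.to_subgroup B)
      rw [hk]
      intro h
      have := (Nat.Prime.dvd_of_dvd_pow (by norm_num : Nat.Prime 3) h)
      omega
    have : Fact (Nat.Prime 3) := ⟨by norm_num⟩
    obtain ⟨y, hy⟩ := hp.nonempty_fixed_point_of_prime_not_dvd_card _ hnd
    refine ⟨y.1, y.2, fun φ hφ => ?_⟩
    have := hy ⟨φ, hφ⟩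
    exact congrArg Subtype.val this
  -- suppose t ∉ B
  by_contra htB
  have hxB : x ∉ B := by
    intro hx
    apply htB
    have : t = x * (t⁻¹ * x)⁻¹ := by group
    rw [this]; exact mul_mem hx (inv_mem hxt)
  -- x ∈ T
  have hxT : ∀ g : X, x * g * x⁻¹ * g⁻¹ ∈ B := by
    intro g
    set c := t⁻¹ * x with hc
    have e : x * g * x⁻¹ * g⁻¹ = t * (c * (g * c⁻¹ * g⁻¹)) * t⁻¹ * (t * g * t⁻¹ * g⁻¹) := by
      rw [hc]; group
    rw [e]
    exact mul_mem (hBn.conj_mem _ (mul_mem hxt (hBn.conj_mem _ (inv_mem hxt) g)) t) (hT.2 g)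
  have hx2B : x * x ∈ B := by
    set c := t⁻¹ * x with hc
    have e : x * x = (t * t) * (t⁻¹ * c * t⁻¹⁻¹) * c := by rw [hc]; group
    rw [e]
    exact mul_mem (mul_mem hT.1 (hBn.conj_mem _ hxt t⁻¹)) hxt
  have hx2 : x * x = 1 := by
    apply hCB _ hx2B
    intro φ hφ
    rw [map_mul, hxfix φ hφ]
  have hxi : x⁻¹ = x := inv_eq_of_mul_eq_one_left hx2
  -- x centralizes U
  have hxU : ∀ u ∈ B, u ^ 4 = 1 → x * u = u * x := by
    apply hB5 x
    intro φ hφ u _ _
    rw [hxfix φ hφ]; simp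
  -- elements of B inverted by x lie in W
  have hinv : ∀ b ∈ B, x * b * x⁻¹ = b⁻¹ → b ∈ WW X := by
    intro b hb hbx
    apply hOm b hb
    by_contra hb2
    obtain ⟨n, hn4, hn2⟩ := B7a_aux_four H.pX b hb2
    apply hn2
    have h1 : x * b ^ n = b ^ n * x := hxU _ (pow_mem hb n) hn4
    have h2 : x * b ^ n * x⁻¹ = (b ^ n)⁻¹ := by
      rw [← inv_pow, ← hbx, conj_pow]
    have h3 : b ^ n = (b ^ n)⁻¹ := by
      rw [← h2, h1]; group
    calc b ^ n * b ^ n = b ^ n * (b ^ n)⁻¹ := by rw [← h3]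
      _ = 1 := mul_inv_cancel _
  -- E = W ∪ xW is a normal elementary abelian subgroup of order > 4
  have hEn : (B7a_aux_E x hx2).Normal := by
    constructor
    rintro e (he | he) g
    · left
      exact B1_aux_WW_normal.conj_mem e he g
    · right
      -- g e g⁻¹ = g x g⁻¹ * (x e) (as x e is central and x² = 1)
      have hc : g * (x * e) = (x * e) * g := (Subgroup.mem_center_iff.1 he.1) g
      have e1 : g * e * g⁻¹ = g * x * g⁻¹ * (x * e) := by
        calc g * e * g⁻¹ = g * ((x * x) * e) * g⁻¹ := by rw [hx2, one_mul]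
          _ = g * x * ((x * e) * g⁻¹) := by group
          _ = g * x * (g⁻¹ * (x * e)) := by
              have : (x * e) * g⁻¹ = g⁻¹ * (x * e) := (Subgroup.mem_center_iff.1 he.1) g⁻¹ |>.symm
              rw [this]
          _ = g * x * g⁻¹ * (x * e) := by group
      have e3 : x * (g * x * g⁻¹ * (x * e)) = (x * (g * x * g⁻¹)) * (x * e) := by group
      rw [e1, e3]
      refine mul_mem ?_ he
      -- b := x * (g x g⁻¹) ∈ B is inverted by x
      have hb : x * (g * x * g⁻¹) ∈ B := by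
        have := hxT g
        have e2 : x * (g * x * g⁻¹) = x * g * x⁻¹ * g⁻¹ := by rw [hxi]; group
        rw [e2]; exact this
      apply hinv _ hb
      have hsq : (g * x * g⁻¹) * (g * x * g⁻¹) = 1 := by
        calc (g * x * g⁻¹) * (g * x * g⁻¹) = g * (x * x) * g⁻¹ := by group
          _ = 1 := by rw [hx2]; group
      have hgi : (g * x * g⁻¹)⁻¹ = g * x * g⁻¹ := inv_eq_of_mul_eq_one_left hsq
      rw [mul_inv_rev, hgi]
      calc x * (x * (g * x * g⁻¹)) * x⁻¹ = (x * x) * (g * x * g⁻¹) * x⁻¹ := by group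
        _ = g * x * g⁻¹ * x⁻¹ := by rw [hx2, one_mul]
  have hEc : ∀ a ∈ B7a_aux_E x hx2, ∀ b ∈ B7a_aux_E x hx2, a * b = b * a := by
    have key : ∀ a : X, (a ∈ WW X ∨ x * a ∈ WW X) → ∃ w ∈ WW X, a = w ∨ a = x * w := by
      rintro a (ha | ha)
      · exact ⟨a, ha, Or.inl rfl⟩
      · refine ⟨x * a, ha, Or.inr ?_⟩
        rw [← mul_assoc, hx2, one_mul]
    intro a ha b hb
    obtain ⟨w, hw, hwa⟩ := key a ha
    obtain ⟨v, hv, hvb⟩ := key b hb
    rcases hwa with hwa | hwa <;> rcases hvb with hvb | hvb <;> rw [hwa, hvb]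
    · exact (Subgroup.mem_center_iff.1 hw.1) v |>.symm
    · exact (Subgroup.mem_center_iff.1 hw.1) (x * v) |>.symm
    · exact (Subgroup.mem_center_iff.1 hv.1) (x * w)
    · have h1 : w * x = x * w := (Subgroup.mem_center_iff.1 hw.1) x |>.symm
      have h2 : v * x = x * v := (Subgroup.mem_center_iff.1 hv.1) x |>.symm
      have h3 : w * v = v * w := (Subgroup.mem_center_iff.1 hw.1) v |>.symm
      calc x * w * (x * v) = x * (w * x) * v := by group
        _ = x * (x * w) * v := by rw [h1]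
        _ = x * x * (w * v) := by group
        _ = x * x * (v * w) := by rw [h3]
        _ = x * (x * v) * w := by group
        _ = x * (v * x) * w := by rw [h2]
        _ = x * v * (x * w) := by group
  have hEs : ∀ a ∈ B7a_aux_E x hx2, a * a = 1 := by
    rintro a (ha | ha)
    · exact ha.2
    · have h1 : (x * a) * x = x * (x * a) := (Subgroup.mem_center_iff.1 ha.1) x |>.symm
      have h2 := ha.2
      have ha' : a = x * (x * a) := by rw [← mul_assoc, hx2, one_mul]
      calc a * a = (x * (x * a)) * (x * (x * a)) := by rw [← ha']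
        _ = x * ((x * a) * x) * (x * a) := by group
        _ = x * (x * (x * a)) * (x * a) := by rw [h1]
        _ = (x * x) * ((x * a) * (x * a)) := by group
        _ = 1 := by rw [hx2, h2, one_mul]
  have hle := H.noE8 _ hEn hEc hEs
  have hlt : WW X < B7a_aux_E x hx2 := by
    refine lt_of_le_of_ne (fun w hw => Or.inl hw) ?_
    intro heq
    have : x ∈ B7a_aux_E x hx2 := Or.inr (by rw [hx2]; exact one_mem _)
    rw [← heq] at this
    exact hxB (hWB this)
  have heq := Subgroup.eq_of_le_of_card_ge hlt.le (by rw [h4]; exact hle)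
  exact hlt.ne heq

end Cfsg.Agent.S1904P
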