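import Mathlib
import Cfsg.Agent.Helper10.S2092.DefsT
import Cfsg.Agent.Helper2.S2400.MainB2
import Cfsg.Agent.Helper22.S2092B2CS
import Cfsg.Agent.Helper23.S2092POS

set_option autoImplicit false
set_option linter.unusedSectionVars false
set_option linter.unusedVariables false

/-! S2092, part T, piece SAME: all lifts of two elements of the same root subgroup commute. -/

namespace Cfsg.Agent.S2092P

open scoped commutatorElement
open Cfsg.Agent.S3352P Cfsg.Agent.S2096P Cfsg.Agent.S2400P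
open Cfsg.Agent.S2086P (CL cl)

variable {n : ℕ} {F : Type*} [Field F] {G : Type*} [Group G] {E : Type*} [Group E]

theorem clr_same_of_three [Fintype F] (hF : 3 ≤ Fintype.card F) (B : B2C F G) (ψ : E →* G)
    (hψ : Function.Surjective ψ) (hc : ψ.ker ≤ Subgroup.center E) : ∀ k, CLr B ψ k k := by
  classical
  rcases Nat.lt_or_ge 3 (Fintype.card F) with hK | hK
  · have hK : 4 ≤ Fintype.card F := hK
    obtain ⟨v, hv0, hv2⟩ := exists_sq_ne_one hK
    have hv1 : v ≠ 1 := by
      intro h; apply hv2; rw [h]; ring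
    have h45 := clr_45 B ψ hψ hc hv0 hv1
    have hLs := clr_same_long B ψ hψ hc h45
    have hSs : ∀ k, IsS k → CLr B ψ k k := by
      by_cases h2 : (2 : F) = 0
      · exact clr_same_short_of_two B ψ hψ hc h2 h45
      · have h5 : 5 ≤ Fintype.card F := by
          rcases Nat.lt_or_ge 4 (Fintype.card F) with h | h
          · exact h
          · exact absurd (two_eq_zero_of_card_four (le_antisymm h hK)) h2
        obtain ⟨d, hd0, hd1, hd⟩ := Cfsg.Agent.Helper2.Stb.exists_stepA_scalar (K := F)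
          ⟨Finset.univ, by rw [Finset.card_univ]; omega⟩
        exact clr_same_short_of_scalar B ψ hψ hc hd0 hd1 hd
    intro k
    rcases isS_or_isL k with h | h
    · exact hSs k h
    · exact hLs k h
  · exact clr_same_of_card_three B ψ hψ hc (le_antisymm hK hF)

theorem cl_same_s [Fintype F] (hF : 3 ≤ Fintype.card F) (S : CnT n F G) (ψ : E →* G)
    (hψ : Function.Surjective ψ) (hc : ψ.ker ≤ Subgroup.center E) (a b : J n) (hab : IsRoot a b)
    (s t : F) : CL ψ (S.Xs a b s) (S.Xs a b t) := by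
  have hij : ab a ≠ ab b := isRoot_iff_ab.1 hab
  obtain ⟨B, hBX, -, -, -, -⟩ := exists_b2c_of_cnT S (ab a) (ab b) hij
  obtain ⟨k, ε, -, -, hk⟩ := exists_cX_s S.Xs S.Xl S.rel.flip a b hab
  have h := clr_same_of_three hF B ψ hψ hc k (ε * s) (ε * t)
  rw [hBX, ← hk s, ← hk t] at h
  exact h

theorem cl_same_l [Fintype F] (hF : 3 ≤ Fintype.card F) (hn : 2 ≤ n) (S : CnT n F G) (ψ : E →* G)
    (hψ : Function.Surjective ψ) (hc : ψ.ker ≤ Subgroup.center E) (a : J n)
    (s t : F) : CL ψ (S.Xl a s) (S.Xl a t) := by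
  obtain ⟨j, hj⟩ := exists_ne_fin hn (ab a)
  obtain ⟨B, hBX, -, -, -, -⟩ := exists_b2c_of_cnT S (ab a) j (Ne.symm hj)
  obtain ⟨k, ε, -, -, hk⟩ := exists_cX_l S.Xs S.Xl a j
  have h := clr_same_of_three hF B ψ hψ hc k (ε * s) (ε * t)
  rw [hBX, ← hk s, ← hk t] at h
  exact h

end Cfsg.Agent.S2092P
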