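import Mathlib
import Cfsg.Agent.Helper29.S2221Defs

/-! S2221 piece BITS1: the binary digit `1` of `n`. -/

set_option autoImplicit false

namespace Cfsg.Agent.S2221P

namespace BITS1

theorem mem_bitsF (n k : ℕ) : k ∈ bitsF n ↔ n.testBit k = true := by
  unfold bitsF
  rw [List.mem_toFinset, Nat.mem_bitIndices]

theorem mem_bitsF_iff_div (n k : ℕ) : k ∈ bitsF n ↔ n / 2 ^ k % 2 = 1 := by
  rw [mem_bitsF, Nat.testBit_eq_decide_div_mod_eq, decide_eq_true_iff]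

end BITS1

/-- N1 BITS1 (S). -/
theorem one_mem_bitsF_iff (n : ℕ) : 1 ∈ bitsF n ↔ (n % 4 = 2 ∨ n % 4 = 3) := by
  rw [BITS1.mem_bitsF_iff_div, pow_one]
  omega

end Cfsg.Agent.S2221P
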