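import Mathlib
import Cfsg.Agent.Helper29.S2221Defs
import Cfsg.Agent.Helper24.S2221BITS1

/-! S2221 piece BITS45: `n = 4, 5` in terms of binary digits. -/

set_option autoImplicit false

namespace Cfsg.Agent.S2221P

/-- N4 BITS45 (S–M). -/
theorem four_five_iff_bitsF (n : ℕ) (hn : 4 ≤ n) :
    (n = 4 ∨ n = 5) ↔ (1 ∉ bitsF n ∧ ∀ k ∈ bitsF n, 2 ≤ k → k = 2) := by
  constructor
  · intro h
    constructor
    · rw [one_mem_bitsF_iff]
      omega
    · intro k hk hk2
      have hge : n ≥ 2 ^ k := Nat.ge_two_pow_of_testBit ((BITS1.mem_bitsF n k).1 hk)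
      have hlt : k < 3 := by
        by_contra hcon
        have : 2 ^ 3 ≤ 2 ^ k := Nat.pow_le_pow_right (by norm_num) (by omega)
        omega
      omega
  · rintro ⟨h1, h2⟩
    rw [one_mem_bitsF_iff] at h1
    have hlt : n / 4 < 2 ^ 1 := by
      apply Nat.lt_pow_two_of_testBit
      intro i hi
      have h4 : (4 : ℕ) = 2 ^ 2 := by norm_num
      rw [h4, Nat.testBit_div_two_pow]
      cases hb : n.testBit (i + 2)
      · rfl
      · exfalso
        have := h2 (i + 2) ((BITS1.mem_bitsF n (i + 2)).2 hb) (by omega)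
        omega
    omega

end Cfsg.Agent.S2221P
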