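import Mathlib
import Cfsg.Agent.Helper29.S2221Defs
import Cfsg.Agent.Helper24.S2221BITS1

/-! S2221 piece BITSGE: `n ≥ 4` has a binary digit at a position `≥ 2`. -/

set_option autoImplicit false

namespace Cfsg.Agent.S2221P

/-- N2 BITSGE (S). -/
theorem exists_mem_bitsF_ge_two (n : ℕ) (hn : 4 ≤ n) : ∃ k ∈ bitsF n, 2 ≤ k := by
  by_contra hcon
  have h : ∀ i, i ≥ 2 → n.testBit i = false := by
    intro i hi
    by_contra hne
    have ht : n.testBit i = true := by
      cases hb : n.testBit i
      · exact absurd hb hne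
      · rfl
    exact hcon ⟨i, (BITS1.mem_bitsF n i).2 ht, hi⟩
  have := Nat.lt_pow_two_of_testBit n h
  omega

end Cfsg.Agent.S2221P
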