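import Mathlib
import Cfsg.Agent.Helper29.S2221Defs
import Cfsg.Agent.Helper24.S2221BITS1
import Cfsg.Agent.Helper24.S2221BITSGE

/-! S2221 piece BITSPOW: `4 ⌊n/4⌋` is a power of `2` iff `n` has a unique digit at a position `≥ 2`. -/

set_option autoImplicit false

namespace Cfsg.Agent.S2221P

namespace BITSPOW

theorem testBit_four_mul_div (n i : ℕ) :
    (4 * (n / 4)).testBit i = (decide (2 ≤ i) && n.testBit i) := by
  have h4 : (4 : ℕ) = 2 ^ 2 := by norm_num
  rw [h4, Nat.testBit_two_pow_mul, Nat.testBit_div_two_pow]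
  by_cases hi : 2 ≤ i
  · have : i - 2 + 2 = i := by omega
    rw [this]
  · simp [hi]

end BITSPOW

/-- N3 BITSPOW (M). -/
theorem pow_iff_bitsF (n : ℕ) (hn : 4 ≤ n) :
    (∃ r : ℕ, 4 * (n / 4) = 2 ^ r) ↔
      ∀ k ∈ bitsF n, ∀ l ∈ bitsF n, 2 ≤ k → 2 ≤ l → k = l := by
  constructor
  · rintro ⟨r, hr⟩
    have key : ∀ k ∈ bitsF n, 2 ≤ k → k = r := by
      intro k hk hk2
      have h1 : (4 * (n / 4)).testBit k = true := by
        rw [BITSPOW.testBit_four_mul_div, (BITS1.mem_bitsF n k).1 hk]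
        simp [hk2]
      rw [hr, Nat.testBit_two_pow] at h1
      exact (of_decide_eq_true h1).symm
    intro k hk l hl hk2 hl2
    rw [key k hk hk2, key l hl hl2]
  · intro h
    obtain ⟨k, hk, hk2⟩ := exists_mem_bitsF_ge_two n hn
    refine ⟨k, ?_⟩
    apply Nat.eq_of_testBit_eq
    intro i
    rw [BITSPOW.testBit_four_mul_div, Nat.testBit_two_pow]
    by_cases hik : k = i
    · subst hik
      rw [(BITS1.mem_bitsF n k).1 hk]
      simp [hk2]
    · rw [decide_eq_false hik]
      by_cases hi2 : 2 ≤ i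
      · cases hb : n.testBit i
        · simp
        · exfalso
          exact hik (h k hk i ((BITS1.mem_bitsF n i).2 hb) hk2 hi2)
      · simp [hi2]

end Cfsg.Agent.S2221P
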