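import Mathlib
import Cfsg.Agent.Helper29.S2221Defs

/-! S2221 piece LEGENDRE: `v₂ |A_n| + 1 + s₂(n) = n`. -/

set_option autoImplicit false

namespace Cfsg.Agent.S2221P

namespace LEGENDRE

theorem card_bitsF (n : ℕ) : (bitsF n).card = n.bitIndices.length := by
  unfold bitsF
  exact List.toFinset_card_of_nodup Nat.bitIndices_nodup

/-- the number of binary digits `1` is the sum of the binary digits -/
theorem length_bitIndices (n : ℕ) : n.bitIndices.length = (Nat.digits 2 n).sum := by
  induction n using Nat.strong_induction_on with
  | _ n ih =>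
    rcases Nat.eq_zero_or_pos n with h0 | hpos
    · subst h0
      simp
    · rw [Nat.digits_def' (by norm_num) hpos, List.sum_cons]
      have hlt : n / 2 < n := Nat.div_lt_self hpos (by norm_num)
      rw [← ih (n / 2) hlt]
      rcases Nat.mod_two_eq_zero_or_one n with h | h
      · have hn : n = 2 * (n / 2) := by omega
        rw [h, zero_add]
        conv_lhs => rw [hn]
        rw [Nat.bitIndices_two_mul, List.length_map]
      · have hn : n = 2 * (n / 2) + 1 := by omega
        rw [h]
        conv_lhs => rw [hn]
        rw [Nat.bitIndices_two_mul_add_one, List.length_cons, List.length_map, add_comm]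

end LEGENDRE

/-- S5 LEGENDRE (M). -/
theorem factorization_card_alt (n : ℕ) (hn : 2 ≤ n) :
    (Nat.card (alternatingGroup (Fin n))).factorization 2 + 1 + (bitsF n).card = n := by
  haveI : Fact (Nat.Prime 2) := ⟨Nat.prime_two⟩
  haveI : Nontrivial (Fin n) := Fin.nontrivial_iff_two_le.2 hn
  have h2 : 2 * Nat.card (alternatingGroup (Fin n)) = n.factorial := by
    rw [two_mul_nat_card_alternatingGroup, Nat.card_eq_fintype_card, Fintype.card_perm,
      Fintype.card_fin]
  have hne : Nat.card (alternatingGroup (Fin n)) ≠ 0 := Nat.card_pos.ne'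
  have hfac : (Nat.card (alternatingGroup (Fin n))).factorization 2 + 1 =
      padicValNat 2 n.factorial := by
    rw [← h2, ← Nat.factorization_def _ Nat.prime_two, Nat.factorization_mul (by norm_num) hne,
      Finsupp.add_apply, Nat.prime_two.factorization_self, add_comm]
  have hleg := sub_one_mul_padicValNat_factorial (p := 2) n
  rw [show (2 - 1 : ℕ) = 1 by norm_num, one_mul] at hleg
  have hle := Nat.digit_sum_le 2 n
  rw [hfac, hleg, LEGENDRE.card_bitsF, LEGENDRE.length_bitIndices]
  omega

end Cfsg.Agent.S2221P
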