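import Mathlib
import Cfsg.Prelude.Def_Characters
import Cfsg.Agent.Helper7.S2333Defs
import Cfsg.Agent.Helper7.S2333Basic

/-!
# S2333, piece HPLANE: an affine hyperplane `polar (qf M) u v = c`, `c ≠ 0`, has at most
`q^(n-1)` points.
-/

set_option autoImplicit false

namespace Cfsg.Agent.Helper24.S2333alt
open Cfsg.Agent.S2333P

open Matrix Cfsg Cfsg.Agent.Helper25

variable {F : Type*} [Field F] {n : ℕ}

open Classical in
theorem card_polar_eq_le [Fintype F] (n : ℕ) (hn : 1 ≤ n) (M : Matrix (Fin n) (Fin n) F)
    (u : Fin n → F) (c : F) (hc : c ≠ 0) :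
    (Finset.univ.filter (fun v : Fin n → F => polar (qf M) u v = c)).card ≤
      Fintype.card F ^ (n - 1) := by
  rcases (Finset.univ.filter (fun v : Fin n → F => polar (qf M) u v = c)).eq_empty_or_nonempty
    with h | ⟨v₀, hv₀⟩
  · rw [h]; simp
  · have hv₀' : polar (qf M) u v₀ = c := (Finset.mem_filter.mp hv₀).2
    have hle : ((Finset.univ.filter (fun v : Fin n → F => polar (qf M) u v = c)) ×ˢ
        (Finset.univ : Finset F)).card ≤ (Finset.univ : Finset (Fin n → F)).card := by
      apply Finset.card_le_card_of_injOn (fun p => p.1 + p.2 • v₀)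
      · intro p _
        exact Finset.mem_coe.mpr (Finset.mem_univ _)
      · intro p hp p' hp' hpp
        have hp1 : polar (qf M) u p.1 = c :=
          (Finset.mem_filter.mp (Finset.mem_product.mp (Finset.mem_coe.mp hp)).1).2
        have hp1' : polar (qf M) u p'.1 = c :=
          (Finset.mem_filter.mp (Finset.mem_product.mp (Finset.mem_coe.mp hp')).1).2
        have hpp' : p.1 + p.2 • v₀ = p'.1 + p'.2 • v₀ := hpp
        have h1 : polar (qf M) u (p.1 + p.2 • v₀) = polar (qf M) u (p'.1 + p'.2 • v₀) := by
          rw [hpp']
        rw [polar_add_right, polar_add_right, polar_smul_right, polar_smul_right, hp1, hp1',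
          hv₀'] at h1
        have h2 : p.2 = p'.2 := by
          have h3 : (p.2 - p'.2) * c = 0 := by linear_combination h1
          rcases mul_eq_zero.mp h3 with h4 | h4
          · exact sub_eq_zero.mp h4
          · exact absurd h4 hc
        have h5 : p.1 = p'.1 := by
          rw [h2] at hpp'
          exact add_right_cancel hpp'
        exact Prod.ext h5 h2
    rw [Finset.card_product, Finset.card_univ, Finset.card_univ, Fintype.card_fun,
      Fintype.card_fin] at hle
    have hq : 0 < Fintype.card F := Fintype.card_pos
    have hpow : Fintype.card F ^ n = Fintype.card F ^ (n - 1) * Fintype.card F := by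
      rw [← pow_succ]
      congr 1
      omega
    rw [hpow] at hle
    exact Nat.le_of_mul_le_mul_right hle hq

end Cfsg.Agent.Helper24.S2333alt
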