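import Mathlib
import Cfsg.Prelude.Def_Characters
import Cfsg.Agent.Helper7.S2333Defs
import Cfsg.Agent.Helper7.S2333Basic

/-!
# S2333, piece LINE: on the lines `v + t u` of the affine hyperplane `polar (qf M) u v = b0`
a quadratic form takes a given value at most twice (once if `qf M u = 0`).
-/

set_option autoImplicit false

namespace Cfsg.Agent.Helper24.S2333alt
open Cfsg.Agent.S2333P

open Matrix Cfsg Cfsg.Agent.Helper25

variable {F : Type*} [Field F] {n : ℕ}

open Classical in
/-- the double counting common to both statements -/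
theorem line_aux [Fintype F] (h2 : (2 : F) = 0) (M : Matrix (Fin n) (Fin n) F)
    (u : Fin n → F) (c b0 : F) (k : ℕ)
    (hk : ∀ v : Fin n → F, polar (qf M) u v = b0 →
      (Finset.univ.filter (fun t : F => qf M (v + t • u) = c)).card ≤ k) :
    Fintype.card F * (Finset.univ.filter (fun v : Fin n → F =>
        qf M v = c ∧ polar (qf M) u v = b0)).card ≤
      k * (Finset.univ.filter (fun v : Fin n → F => polar (qf M) u v = b0)).card := by
  set A := Finset.univ.filter (fun v : Fin n → F => qf M v = c ∧ polar (qf M) u v = b0) with hA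
  set B := Finset.univ.filter (fun v : Fin n → F => polar (qf M) u v = b0) with hB
  set T := (B ×ˢ (Finset.univ : Finset F)).filter
    (fun p : (Fin n → F) × F => qf M (p.1 + p.2 • u) = c) with hT
  have htt : ∀ t : F, t • u + t • u = 0 := by
    intro t
    rw [← two_smul F (t • u), h2, zero_smul]
  -- (i)
  have h1 : (A ×ˢ (Finset.univ : Finset F)).card ≤ T.card := by
    apply Finset.card_le_card_of_injOn (fun p => (p.1 + p.2 • u, p.2))
    · intro p hp
      have hp1 : qf M p.1 = c ∧ polar (qf M) u p.1 = b0 :=
        (Finset.mem_filter.mp (Finset.mem_product.mp (Finset.mem_coe.mp hp)).1).2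
      apply Finset.mem_coe.mpr
      rw [hT, Finset.mem_filter, Finset.mem_product]
      refine ⟨⟨?_, Finset.mem_univ _⟩, ?_⟩
      · rw [hB, Finset.mem_filter]
        refine ⟨Finset.mem_univ _, ?_⟩
        show polar (qf M) u (p.1 + p.2 • u) = b0
        rw [polar_add_right, polar_smul_right, polar_self h2, mul_zero, add_zero, hp1.2]
      · show qf M (p.1 + p.2 • u + p.2 • u) = c
        rw [add_assoc, htt, add_zero, hp1.1]
    · intro p _ p' _ hpp
      have h3 : (p.1 + p.2 • u, p.2) = (p'.1 + p'.2 • u, p'.2) := hpp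
      have h4 : p.2 = p'.2 := (Prod.ext_iff.mp h3).2
      have h5 : p.1 + p.2 • u = p'.1 + p'.2 • u := (Prod.ext_iff.mp h3).1
      rw [h4] at h5
      exact Prod.ext (add_right_cancel h5) h4
  -- (ii)
  have h6 : T.card = ∑ v ∈ B, (Finset.univ.filter (fun t : F => qf M (v + t • u) = c)).card := by
    rw [hT, Finset.card_filter, Finset.sum_product]
    apply Finset.sum_congr rfl
    intro v _
    rw [Finset.card_filter]
  have h7 : T.card ≤ k * B.card := by
    rw [h6, mul_comm]
    calc ∑ v ∈ B, (Finset.univ.filter (fun t : F => qf M (v + t • u) = c)).card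
        ≤ ∑ _v ∈ B, k := by
          apply Finset.sum_le_sum
          intro v hv
          exact hk v (Finset.mem_filter.mp hv).2
      _ = B.card * k := by rw [Finset.sum_const, smul_eq_mul]
  rw [Finset.card_product, Finset.card_univ] at h1
  calc Fintype.card F * A.card = A.card * Fintype.card F := mul_comm _ _
    _ ≤ T.card := h1
    _ ≤ k * B.card := h7

open Classical in
theorem card_line_le [Fintype F] (h2 : (2 : F) = 0) (M : Matrix (Fin n) (Fin n) F)
    (u : Fin n → F) (c b0 : F) (hb0 : b0 ≠ 0) :
    Fintype.card F * (Finset.univ.filter (fun v : Fin n → F =>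
        qf M v = c ∧ polar (qf M) u v = b0)).card ≤
      2 * (Finset.univ.filter (fun v : Fin n → F => polar (qf M) u v = b0)).card := by
  apply line_aux h2 M u c b0 2
  intro v hv
  by_contra hcon
  rw [not_le, Finset.two_lt_card] at hcon
  obtain ⟨t₁, ht₁, t₂, ht₂, t₃, ht₃, h12, h13, h23⟩ := hcon
  have hv' : polar (qf M) v u = b0 := by rw [polar_comm]; exact hv
  have e₁ : qf M v + t₁ ^ 2 * qf M u + t₁ * b0 = c := by
    have := (Finset.mem_filter.mp ht₁).2
    rw [qf_add_smul, hv'] at this
    exact this
  have e₂ : qf M v + t₂ ^ 2 * qf M u + t₂ * b0 = c := by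
    have := (Finset.mem_filter.mp ht₂).2
    rw [qf_add_smul, hv'] at this
    exact this
  have e₃ : qf M v + t₃ ^ 2 * qf M u + t₃ * b0 = c := by
    have := (Finset.mem_filter.mp ht₃).2
    rw [qf_add_smul, hv'] at this
    exact this
  have f12 : (t₁ + t₂) * qf M u + b0 = 0 := by
    have h : (t₁ - t₂) * ((t₁ + t₂) * qf M u + b0) = 0 := by linear_combination e₁ - e₂
    rcases mul_eq_zero.mp h with h | h
    · exact absurd (sub_eq_zero.mp h) h12
    · exact h
  have f13 : (t₁ + t₃) * qf M u + b0 = 0 := by
    have h : (t₁ - t₃) * ((t₁ + t₃) * qf M u + b0) = 0 := by linear_combination e₁ - e₃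
    rcases mul_eq_zero.mp h with h | h
    · exact absurd (sub_eq_zero.mp h) h13
    · exact h
  have f : (t₂ - t₃) * qf M u = 0 := by linear_combination f12 - f13
  rcases mul_eq_zero.mp f with h | h
  · exact h23 (sub_eq_zero.mp h)
  · rw [h, mul_zero, zero_add] at f12
    exact hb0 f12

open Classical in
theorem card_line_le_sing [Fintype F] (h2 : (2 : F) = 0) (M : Matrix (Fin n) (Fin n) F)
    (u : Fin n → F) (hu : qf M u = 0) (c b0 : F) (hb0 : b0 ≠ 0) :
    Fintype.card F * (Finset.univ.filter (fun v : Fin n → F =>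
        qf M v = c ∧ polar (qf M) u v = b0)).card ≤
      (Finset.univ.filter (fun v : Fin n → F => polar (qf M) u v = b0)).card := by
  have := line_aux h2 M u c b0 1 (by
    intro v hv
    rw [Finset.card_le_one]
    intro t₁ ht₁ t₂ ht₂
    have hv' : polar (qf M) v u = b0 := by rw [polar_comm]; exact hv
    have e₁ : qf M v + t₁ ^ 2 * qf M u + t₁ * b0 = c := by
      have := (Finset.mem_filter.mp ht₁).2
      rw [qf_add_smul, hv'] at this
      exact this
    have e₂ : qf M v + t₂ ^ 2 * qf M u + t₂ * b0 = c := by
      have := (Finset.mem_filter.mp ht₂).2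
      rw [qf_add_smul, hv'] at this
      exact this
    rw [hu, mul_zero, add_zero] at e₁ e₂
    have h : (t₁ - t₂) * b0 = 0 := by linear_combination e₁ - e₂
    rcases mul_eq_zero.mp h with h | h
    · exact sub_eq_zero.mp h
    · exact absurd h hb0)
  rw [one_mul] at this
  exact this

end Cfsg.Agent.Helper24.S2333alt
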