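import Mathlib
import Cfsg.Agent.Helper14.S2481.Defs
import Cfsg.Agent.Helper14.S2481.DefsM

set_option autoImplicit false
set_option linter.unusedVariables false

/-! S2481 piece UNISER: the ideals of `F[X]/(ρ^m)` form a chain. -/

namespace Cfsg.Agent.S2481P

open Polynomial DirectSum Matrix Cfsg.Agent.S2478P Cfsg.Agent.S2479P

universe u

variable {F : Type u} [Field F] {σ : F →+* F}

namespace UNISER

/-- a polynomial not divisible by `ρ ^ m` is `ρ ^ k * h` with `k < m`, `ρ ∤ h` -/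
theorem exists_pow_mul {ρ : F[X]} (hρ : Irreducible ρ) {m : ℕ} {g : F[X]} (hg : ¬ ρ ^ m ∣ g) :
    ∃ (k : ℕ) (h : F[X]), k < m ∧ g = ρ ^ k * h ∧ ¬ ρ ∣ h := by
  classical
  have hex : ∃ k, ¬ ρ ^ (k + 1) ∣ g := by
    refine ⟨m, fun h => hg ?_⟩
    exact dvd_trans (pow_dvd_pow ρ (Nat.le_succ m)) h
  set k := Nat.find hex with hk
  have hk1 : ¬ ρ ^ (k + 1) ∣ g := Nat.find_spec hex
  have hk2 : ρ ^ k ∣ g := by
    rcases Nat.eq_zero_or_pos k with h0 | hpos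
    · rw [h0, pow_zero]
      exact one_dvd _
    · have hlt : k - 1 < k := by omega
      have := Nat.find_min hex hlt
      rw [not_not] at this
      have e : k - 1 + 1 = k := by omega
      rwa [e] at this
  have hkm : k < m := by
    by_contra hcon
    have hmk : m ≤ k := by omega
    exact hg (dvd_trans (pow_dvd_pow ρ hmk) hk2)
  obtain ⟨h, hh⟩ := hk2
  refine ⟨k, h, hkm, hh, fun hdvd => hk1 ?_⟩
  obtain ⟨h', rfl⟩ := hdvd
  rw [hh, pow_succ, ← mul_assoc]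
  exact Dvd.intro _ rfl

end UNISER

-- piece UNISER (the ideals of `F[X]/(ρ^m)` form a chain)
theorem uniserial {ρ : F[X]} (hρ : Irreducible ρ) {m : ℕ} (hm : 1 ≤ m) :
    AdjoinRoot.mk (ρ ^ m) (ρ ^ (m - 1)) ≠ 0 ∧
      ∀ a : AdjoinRoot (ρ ^ m), a ≠ 0 → ∃ b, a * b = AdjoinRoot.mk (ρ ^ m) (ρ ^ (m - 1)) := by
  have hρ0 : ρ ≠ 0 := hρ.ne_zero
  have hρu : ¬ IsUnit ρ := hρ.not_isUnit
  constructor
  · rw [Ne, AdjoinRoot.mk_eq_zero]
    intro hdvd
    have := (pow_dvd_pow_iff hρ0 hρu).mp hdvd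
    omega
  · intro a ha
    obtain ⟨g, rfl⟩ := AdjoinRoot.mk_surjective a
    have hg : ¬ ρ ^ m ∣ g := by
      intro hdvd
      exact ha (AdjoinRoot.mk_eq_zero.mpr hdvd)
    obtain ⟨k, h, hkm, rfl, hh⟩ := UNISER.exists_pow_mul hρ hg
    have hcop : IsCoprime (ρ ^ m) h := ((hρ.coprime_iff_not_dvd).mpr hh).pow_left
    obtain ⟨u, v, huv⟩ := hcop
    refine ⟨AdjoinRoot.mk (ρ ^ m) (v * ρ ^ (m - 1 - k)), ?_⟩
    rw [← map_mul]
    have e1 : ρ ^ k * h * (v * ρ ^ (m - 1 - k)) = ρ ^ (m - 1) * (v * h) := by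
      have : ρ ^ (m - 1) = ρ ^ k * ρ ^ (m - 1 - k) := by
        rw [← pow_add]
        congr 1
        omega
      rw [this]
      ring
    have e2 : v * h = 1 - u * ρ ^ m := by
      rw [← huv]
      ring
    rw [e1, e2, mul_sub, mul_one, map_sub]
    have e3 : AdjoinRoot.mk (ρ ^ m) (ρ ^ (m - 1) * (u * ρ ^ m)) = 0 := by
      rw [AdjoinRoot.mk_eq_zero]
      exact Dvd.intro_left (ρ ^ (m - 1) * u) (by ring)
    rw [e3, sub_zero]

end Cfsg.Agent.S2481P
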