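import Mathlib
import Cfsg.Agent.Helper4.S2522.Defs

/-! S2522 piece AVOID3 (driver helper4): a vector space over a field with at least four elements is not
the union of three (even four) proper subspaces. -/

set_option autoImplicit false

namespace Cfsg.Agent.S2522P

open Module

namespace AVOID3

variable {K : Type*} [Field K] {V : Type*} [AddCommGroup V] [Module K V]

theorem exists_notMem_of_ne_top (H : Submodule K V) (h : H ≠ ⊤) : ∃ v : V, v ∉ H := by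
  by_contra hcon
  push Not at hcon
  exact h (eq_top_iff.2 fun v _ => hcon v)

/-- two proper subspaces do not cover `V` -/
theorem exists_notMem_two (H H' : Submodule K V) (h : H ≠ ⊤) (h' : H' ≠ ⊤) :
    ∃ v : V, v ∉ H ∧ v ∉ H' := by
  obtain ⟨a, ha⟩ := exists_notMem_of_ne_top H h
  obtain ⟨b, hb⟩ := exists_notMem_of_ne_top H' h'
  by_cases ha' : a ∈ H'
  · by_cases hb' : b ∈ H
    · refine ⟨a + b, fun hab => ha ?_, fun hab => hb ?_⟩
      · have := H.sub_mem hab hb'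
        rwa [add_sub_cancel_right] at this
      · have := H'.sub_mem hab ha'
        rwa [add_sub_cancel_left] at this
    · exact ⟨b, hb', hb⟩
  · exact ⟨a, ha, ha'⟩

/-- on the line `v + s • w` (`w ∉ H`) at most one point lies in `H`: there is a value `s₀` such that
every other `s` gives a point outside `H` -/
theorem exists_bad (H : Submodule K V) (v w : V) (hw : w ∉ H) :
    ∃ s₀ : K, ∀ s : K, s ≠ s₀ → v + s • w ∉ H := by
  by_cases hex : ∃ s₀ : K, v + s₀ • w ∈ H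
  · obtain ⟨s₀, hs₀⟩ := hex
    refine ⟨s₀, fun s hs hmem => hw ?_⟩
    have h1 : (s - s₀) • w ∈ H := by
      have := H.sub_mem hmem hs₀
      rwa [add_sub_add_left_eq_sub, ← sub_smul] at this
    have h2 := H.smul_mem (s - s₀)⁻¹ h1
    rwa [smul_smul, inv_mul_cancel₀ (sub_ne_zero.2 hs), one_smul] at h2
  · push Not at hex
    exact ⟨0, fun s _ => hex s⟩

/-- one more subspace: if `V` is not covered by `H₂, …` (witness `w`), it is not covered after adding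
`H₁`, provided there is a scalar avoiding the bad values -/
theorem step (H₁ : Submodule K V) (h₁ : H₁ ≠ ⊤) (w : V) (P : V → Prop)
    (hP : ∀ v : V, ∃ s : K, P (v + s • w)) (hw : P w) :
    ∃ v : V, v ∉ H₁ ∧ P v := by
  by_cases hw1 : w ∈ H₁
  · obtain ⟨v, hv⟩ := exists_notMem_of_ne_top H₁ h₁
    obtain ⟨s, hs⟩ := hP v
    refine ⟨v + s • w, fun hmem => hv ?_, hs⟩
    have := H₁.sub_mem hmem (H₁.smul_mem s hw1)
    rwa [add_sub_cancel_right] at this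
  · exact ⟨w, hw1, hw⟩

end AVOID3

open AVOID3 in
theorem AVOID3.exists_notMem {K : Type*} [Field K] {V : Type*} [AddCommGroup V] [Module K V]
    (hK : HK4 K) (H₁ H₂ H₃ : Submodule K V) (h₁ : H₁ ≠ ⊤) (h₂ : H₂ ≠ ⊤)
    (h₃ : H₃ ≠ ⊤) : ∃ v : V, v ∉ H₁ ∧ v ∉ H₂ ∧ v ∉ H₃ := by
  obtain ⟨w, hw2, hw3⟩ := exists_notMem_two H₂ H₃ h₂ h₃
  refine step H₁ h₁ w (fun v => v ∉ H₂ ∧ v ∉ H₃) ?_ ⟨hw2, hw3⟩
  intro v
  obtain ⟨s2, hs2⟩ := exists_bad H₂ v w hw2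
  obtain ⟨s3, hs3⟩ := exists_bad H₃ v w hw3
  obtain ⟨x, hx2, hx3, -⟩ := hK s2 s3 0
  exact ⟨x, hs2 x hx2, hs3 x hx3⟩

open AVOID3 in
/-- four proper subspaces do not cover `V` either -/
theorem AVOID3.exists_notMem_four {K : Type*} [Field K] {V : Type*} [AddCommGroup V] [Module K V]
    (hK : HK4 K) (H₀ H₁ H₂ H₃ : Submodule K V) (h₀ : H₀ ≠ ⊤) (h₁ : H₁ ≠ ⊤) (h₂ : H₂ ≠ ⊤)
    (h₃ : H₃ ≠ ⊤) : ∃ v : V, v ∉ H₀ ∧ v ∉ H₁ ∧ v ∉ H₂ ∧ v ∉ H₃ := by
  obtain ⟨w, hw1, hw2, hw3⟩ := AVOID3.exists_notMem hK H₁ H₂ H₃ h₁ h₂ h₃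
  refine step H₀ h₀ w (fun v => v ∉ H₁ ∧ v ∉ H₂ ∧ v ∉ H₃) ?_ ⟨hw1, hw2, hw3⟩
  intro v
  obtain ⟨s1, hs1⟩ := exists_bad H₁ v w hw1
  obtain ⟨s2, hs2⟩ := exists_bad H₂ v w hw2
  obtain ⟨s3, hs3⟩ := exists_bad H₃ v w hw3
  obtain ⟨x, hx1, hx2, hx3⟩ := hK s1 s2 s3
  exact ⟨x, hs1 x hx1, hs2 x hx2, hs3 x hx3⟩

end Cfsg.Agent.S2522P
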