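import Mathlib
import Cfsg.Agent.Helper4.S2522.Defs
import Cfsg.Agent.Helper24.S2522AVOID3

/-! S2522 piece AV3 (driver helper4): affine avoidance for linear functionals. -/

set_option autoImplicit false

namespace Cfsg.Agent.S2522P

open Module

namespace AV3

variable {K : Type*} [Field K] {V : Type*} [AddCommGroup V] [Module K V]

/-- a functional vanishing on `y` and not on `x ∉ span{y}` -/
theorem exists_dual_of_notMem (y x : V) (hx : x ∉ Submodule.span K {y}) :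
    ∃ χ : Module.Dual K V, χ y = 0 ∧ χ x ≠ 0 := by
  obtain ⟨f, hf, hmap⟩ := Submodule.exists_dual_map_eq_bot_of_notMem hx inferInstance
  refine ⟨f, ?_, hf⟩
  have : f y ∈ (Submodule.span K {y}).map f :=
    Submodule.mem_map_of_mem (Submodule.mem_span_singleton_self y)
  rw [hmap] at this
  exact (Submodule.mem_bot K).1 this

/-- the functionals vanishing on `y` -/
def DD (y : V) : Submodule K (Module.Dual K V) := LinearMap.ker (Module.Dual.eval K V y)

theorem mem_DD (y : V) (χ : Module.Dual K V) : χ ∈ DD (K := K) y ↔ χ y = 0 := by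
  unfold DD
  rw [LinearMap.mem_ker]
  rfl

/-- evaluation at `x` on `DD y` -/
def LL (y x : V) : ↥(DD (K := K) y) →ₗ[K] K := (Module.Dual.eval K V x).comp (DD y).subtype

theorem LL_apply (y x : V) (χ : ↥(DD (K := K) y)) : LL y x χ = (χ : Module.Dual K V) x := rfl

theorem ker_LL_ne_top (y x : V) (hx : x ∉ Submodule.span K {y}) :
    LinearMap.ker (LL (K := K) y x) ≠ ⊤ := by
  obtain ⟨χ, h1, h2⟩ := exists_dual_of_notMem y x hx
  intro htop
  have hmem : (⟨χ, (mem_DD y χ).2 h1⟩ : ↥(DD (K := K) y)) ∈ LinearMap.ker (LL (K := K) y x) := by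
    rw [htop]
    exact Submodule.mem_top
  rw [LinearMap.mem_ker, LL_apply] at hmem
  exact h2 hmem

theorem sub_notMem (e y v : V) (t : K) (hv : v ∉ Submodule.span K {y})
    (c : t = 0 ∨ v ∉ Submodule.span K {e, y}) : v - t • e ∉ Submodule.span K {y} := by
  rcases c with c | c
  · rw [c, zero_smul, sub_zero]
    exact hv
  · intro hmem
    apply c
    obtain ⟨a, ha⟩ := Submodule.mem_span_singleton.1 hmem
    rw [Submodule.mem_span_pair]
    refine ⟨t, a, ?_⟩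
    rw [ha]
    abel

end AV3

open AV3 in
theorem AV3.exists_dual {K : Type*} [Field K] {V : Type*} [AddCommGroup V] [Module K V]
    (hK : HK4 K) [FiniteDimensional K V] (e y : V)
    (hey : LinearIndependent K ![e, y]) (v₁ v₂ v₃ : V) (t₁ t₂ t₃ : K)
    (h₁ : v₁ ∉ Submodule.span K {y}) (h₂ : v₂ ∉ Submodule.span K {y})
    (h₃ : v₃ ∉ Submodule.span K {y})
    (c₁ : t₁ = 0 ∨ v₁ ∉ Submodule.span K {e, y}) (c₂ : t₂ = 0 ∨ v₂ ∉ Submodule.span K {e, y})
    (c₃ : t₃ = 0 ∨ v₃ ∉ Submodule.span K {e, y}) :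
    ∃ φ : Module.Dual K V, φ e = 1 ∧ φ y = 0 ∧ φ v₁ ≠ t₁ ∧ φ v₂ ≠ t₂ ∧ φ v₃ ≠ t₃ := by
  have he : e ∉ Submodule.span K {y} := by
    intro hmem
    obtain ⟨a, ha⟩ := Submodule.mem_span_singleton.1 hmem
    have h := (LinearIndependent.pair_iff.1 hey) 1 (-a) (by rw [one_smul, neg_smul, ha]; abel)
    exact one_ne_zero h.1
  have k0 : LinearMap.ker (LL (K := K) y e) ≠ ⊤ := ker_LL_ne_top y e he
  have k1 : LinearMap.ker (LL (K := K) y (v₁ - t₁ • e)) ≠ ⊤ :=
    ker_LL_ne_top y _ (sub_notMem e y v₁ t₁ h₁ c₁)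
  have k2 : LinearMap.ker (LL (K := K) y (v₂ - t₂ • e)) ≠ ⊤ :=
    ker_LL_ne_top y _ (sub_notMem e y v₂ t₂ h₂ c₂)
  have k3 : LinearMap.ker (LL (K := K) y (v₃ - t₃ • e)) ≠ ⊤ :=
    ker_LL_ne_top y _ (sub_notMem e y v₃ t₃ h₃ c₃)
  obtain ⟨χ, hχ0, hχ1, hχ2, hχ3⟩ := AVOID3.exists_notMem_four (V := ↥(DD (K := K) y)) hK
    _ _ _ _ k0 k1 k2 k3
  rw [LinearMap.mem_ker, LL_apply] at hχ0 hχ1 hχ2 hχ3
  have hy : (χ : Module.Dual K V) y = 0 := (mem_DD y _).1 χ.2
  have key : ∀ (v : V) (t : K), (χ : Module.Dual K V) (v - t • e) ≠ 0 →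
      ((χ : Module.Dual K V) e)⁻¹ * (χ : Module.Dual K V) v ≠ t := by
    intro v t hne heq
    apply hne
    rw [map_sub, map_smul, smul_eq_mul, ← heq, mul_comm, ← mul_assoc, mul_inv_cancel₀ hχ0,
      one_mul, sub_self]
  refine ⟨((χ : Module.Dual K V) e)⁻¹ • (χ : Module.Dual K V), ?_, ?_, ?_, ?_, ?_⟩
  · rw [LinearMap.smul_apply, smul_eq_mul, inv_mul_cancel₀ hχ0]
  · rw [LinearMap.smul_apply, hy, smul_zero]
  · rw [LinearMap.smul_apply, smul_eq_mul]
    exact key v₁ t₁ hχ1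
  · rw [LinearMap.smul_apply, smul_eq_mul]
    exact key v₂ t₂ hχ2
  · rw [LinearMap.smul_apply, smul_eq_mul]
    exact key v₃ t₃ hχ3

end Cfsg.Agent.S2522P
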