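import Mathlib
import Cfsg.Agent.Helper5.S2536DefsA
import Cfsg.Agent.Helper5.S2536Basic

/-! S2536 stage 2, piece W3: a `{2,3}`-subgroup of `A₈` contained in no stabilizer of a bisection
into two `4`-sets: the even permutations preserving `{0,1,2}`, `{3,4,5}`, `{6,7}`. -/

set_option autoImplicit false

namespace Cfsg.Agent.S2536P

open Equiv Nat

universe u v

namespace W3

/-- the block `{0,1,2}` -/
def q1 : Fin 8 → Prop := fun x => x.val < 3
/-- the block `{3,4,5}` -/
def q2 : Fin 8 → Prop := fun x => 3 ≤ x.val ∧ x.val < 6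
/-- the block `{6,7}` -/
def q3 : Fin 8 → Prop := fun x => 6 ≤ x.val

instance : DecidablePred q1 := fun x => inferInstanceAs (Decidable (x.val < 3))
instance : DecidablePred q2 := fun x => inferInstanceAs (Decidable (3 ≤ x.val ∧ x.val < 6))
instance : DecidablePred q3 := fun x => inferInstanceAs (Decidable (6 ≤ x.val))

/-- a permutation preserving a block of size at most `3` has sixth power fixing the block -/
theorem pow_six_fix (g : Perm (Fin 8)) (q : Fin 8 → Prop) [DecidablePred q]
    (hq : ∀ x, q (g x) ↔ q x) (hcard : Fintype.card {x // q x} ≤ 3) (x : Fin 8) (hx : q x) :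
    (g ^ 6) x = x := by
  have h1 : (g.subtypePerm hq) ^ 6 = 1 := by
    rw [← orderOf_dvd_iff_pow_eq_one]
    have h2 : orderOf (g.subtypePerm hq) ∣ Fintype.card (Perm {x // q x}) := orderOf_dvd_card
    rw [Fintype.card_perm] at h2
    have h3 : (Fintype.card {x // q x})! ∣ 3! := Nat.factorial_dvd_factorial hcard
    exact h2.trans h3
  have h4 : ((g.subtypePerm hq) ^ 6) ⟨x, hx⟩ = ⟨x, hx⟩ := by rw [h1]; rfl
  rw [Equiv.Perm.subtypePerm_pow] at h4
  exact congrArg Subtype.val h4

/-- the generators -/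
def ga : Perm (Fin 8) := swap 0 1 * swap 1 2
def gb : Perm (Fin 8) := swap 3 4 * swap 4 5
def gc : Perm (Fin 8) := swap 0 1 * swap 6 7

/-- the witness -/
def X : Subgroup (Perm (Fin 8)) := setStab q1 ⊓ setStab q2 ⊓ alternatingGroup (Fin 8)

theorem q3_iff (x : Fin 8) : q3 x ↔ ¬ q1 x ∧ ¬ q2 x := by
  unfold q1 q2 q3
  omega

theorem pow_six_eq_one (g : Perm (Fin 8)) (h1 : g ∈ setStab q1) (h2 : g ∈ setStab q2) :
    g ^ 6 = 1 := by
  have h3 : ∀ x, q3 (g x) ↔ q3 x := by
    intro x
    rw [q3_iff, q3_iff, h1 x, h2 x]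
  ext x
  rw [Perm.one_apply]
  congr 1
  by_cases hx1 : q1 x
  · exact pow_six_fix g q1 h1 (by decide) x hx1
  · by_cases hx2 : q2 x
    · exact pow_six_fix g q2 h2 (by decide) x hx2
    · exact pow_six_fix g q3 h3 (by decide) x ((q3_iff x).2 ⟨hx1, hx2⟩)

theorem ga_mem : ga ∈ X := by
  refine ⟨⟨?_, ?_⟩, ?_⟩
  · intro x; revert x; unfold ga q1; decide
  · intro x; revert x; unfold ga q2; decide
  · change ga ∈ alternatingGroup (Fin 8)
    rw [Equiv.Perm.mem_alternatingGroup]
    unfold ga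
    rw [Equiv.Perm.sign_mul, Equiv.Perm.sign_swap (by decide), Equiv.Perm.sign_swap (by decide)]
    rfl

theorem gb_mem : gb ∈ X := by
  refine ⟨⟨?_, ?_⟩, ?_⟩
  · intro x; revert x; unfold gb q1; decide
  · intro x; revert x; unfold gb q2; decide
  · change gb ∈ alternatingGroup (Fin 8)
    rw [Equiv.Perm.mem_alternatingGroup]
    unfold gb
    rw [Equiv.Perm.sign_mul, Equiv.Perm.sign_swap (by decide), Equiv.Perm.sign_swap (by decide)]
    rfl

theorem gc_mem : gc ∈ X := by
  refine ⟨⟨?_, ?_⟩, ?_⟩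
  · intro x; revert x; unfold gc q1; decide
  · intro x; revert x; unfold gc q2; decide
  · change gc ∈ alternatingGroup (Fin 8)
    rw [Equiv.Perm.mem_alternatingGroup]
    unfold gc
    rw [Equiv.Perm.sign_mul, Equiv.Perm.sign_swap (by decide), Equiv.Perm.sign_swap (by decide)]
    rfl

theorem ga_apply : ga 0 = 1 ∧ ga 1 = 2 ∧ ga 2 = 0 := by unfold ga; decide
theorem gb_apply : gb 3 = 4 ∧ gb 4 = 5 ∧ gb 5 = 3 := by unfold gb; decide
theorem gc_apply : gc 0 = 1 ∧ gc 6 = 7 := by unfold gc; decide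

end W3

open W3 in
/-- W3 -/
theorem witness_eight {π : Set ℕ} (hπ : Is23 π 8) :
    ∃ X : Subgroup (Perm (Fin 8)), X ≤ alternatingGroup (Fin 8) ∧ PiNum π (Nat.card X) ∧
      ∀ p : Fin 8 → Prop, Nat.card {x // p x} = 4 → ¬ X ≤ biStab p := by
  classical
  refine ⟨W3.X, inf_le_right, ?_, ?_⟩
  · -- every prime divisor of `|X|` is `2` or `3`, since `g ^ 6 = 1` on `X`
    intro r hr hdvd
    haveI : Fact r.Prime := ⟨hr⟩
    obtain ⟨g, hg⟩ := exists_prime_orderOf_dvd_card' (G := W3.X) r hdvd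
    have h6 : (g : Perm (Fin 8)) ^ 6 = 1 := pow_six_eq_one g g.2.1.1 g.2.1.2
    have h6' : g ^ 6 = 1 := Subtype.ext (by simpa using h6)
    have hr6 : r ∣ 6 := by
      rw [← hg]
      exact orderOf_dvd_of_pow_eq_one h6'
    have hr_le : r ≤ 6 := Nat.le_of_dvd (by norm_num) hr6
    have h23 : r = 2 ∨ r = 3 := by
      have h' : r ∣ 2 * 3 := hr6
      rcases (Nat.Prime.dvd_mul hr).1 h' with h | h
      · exact Or.inl ((Nat.prime_dvd_prime_iff_eq hr Nat.prime_two).1 h)
      · exact Or.inr ((Nat.prime_dvd_prime_iff_eq hr Nat.prime_three).1 h)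
    exact (hπ r hr (by omega)).2 h23
  · intro p hp hle
    have ha := hle ga_mem
    have hb := hle gb_mem
    have hc := hle gc_mem
    obtain ⟨a0, a1, a2⟩ := ga_apply
    obtain ⟨b3, b4, b5⟩ := gb_apply
    obtain ⟨c0, c6⟩ := gc_apply
    -- `p` is constant on `{0,1,2}`
    have h012 : (p 1 ↔ p 0) ∧ (p 2 ↔ p 0) := by
      rcases ha with h | h
      · have e0 := h 0; have e1 := h 1; have e2 := h 2
        rw [a0] at e0; rw [a1] at e1; rw [a2] at e2
        tauto
      · have e0 := h 0; have e1 := h 1; have e2 := h 2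
        rw [a0] at e0; rw [a1] at e1; rw [a2] at e2
        tauto
    have h345 : (p 4 ↔ p 3) ∧ (p 5 ↔ p 3) := by
      rcases hb with h | h
      · have e0 := h 3; have e1 := h 4; have e2 := h 5
        rw [b3] at e0; rw [b4] at e1; rw [b5] at e2
        tauto
      · have e0 := h 3; have e1 := h 4; have e2 := h 5
        rw [b3] at e0; rw [b4] at e1; rw [b5] at e2
        tauto
    have h67 : p 7 ↔ p 6 := by
      rcases hc with h | h
      · have e6 := h 6
        rw [c6] at e6
        exact e6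
      · have e0 := h 0
        rw [c0] at e0
        tauto
    -- count
    have hcount : (Finset.univ.filter p).card = 4 := by
      rw [← hp, Nat.card_eq_fintype_card, Fintype.card_subtype]
    rw [Finset.card_filter, Fin.sum_univ_eight] at hcount
    have e1 : p 1 = p 0 := propext h012.1
    have e2 : p 2 = p 0 := propext h012.2
    have e4 : p 4 = p 3 := propext h345.1
    have e5 : p 5 = p 3 := propext h345.2
    have e7 : p 7 = p 6 := propext h67
    simp only [e1, e2, e4, e5, e7] at hcount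
    by_cases u : p 0 <;> by_cases v : p 3 <;> by_cases w : p 6 <;> simp [u, v, w] at hcount

end Cfsg.Agent.S2536P
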