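import Mathlib
import Cfsg.Prelude.Def_Classical
import Cfsg.Prelude.Def_ClassicalGeometry
import Cfsg.Agent.Helper8.MatBNDefs
import Cfsg.Agent.Helper8.S2546Defs
import Cfsg.Agent.Helper17.S2547Defs

/-! S2547 piece DETPM: a matrix preserving the antidiagonal symmetric form has determinant `±1`. -/

set_option autoImplicit false
open scoped Matrix

namespace Cfsg.Agent.S2547P

open Cfsg.Agent.MatBN Cfsg.Agent.S2546P

variable {K : Type*} [Field K]

theorem det_mul_det_of_presJ (n : ℕ) (M : Matrix (Fin n) (Fin n) K)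
    (hM : PresJ (RingHom.id K) n M) : M.det * M.det = 1 := by
  have h : M.transpose * M.submatrix (Fin.revPerm : Equiv.Perm (Fin n)) id =
      (1 : Matrix (Fin n) (Fin n) K).submatrix (Fin.revPerm : Equiv.Perm (Fin n)) id := by
    ext a c
    rw [Matrix.mul_apply, Matrix.submatrix_apply, id, Fin.revPerm_apply, Matrix.one_apply]
    have := hM a c
    simp only [RingHom.id_apply] at this
    simp only [Matrix.transpose_apply, Matrix.submatrix_apply, id, Fin.revPerm_apply]
    rw [this]
    by_cases hc : c = a.rev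
    · rw [if_pos hc, if_pos hc.symm]
    · rw [if_neg hc, if_neg (fun h' => hc h'.symm)]
  have hdet := congrArg Matrix.det h
  rw [Matrix.det_mul, Matrix.det_transpose, Matrix.det_permute, Matrix.det_permute,
    Matrix.det_one, mul_one] at hdet
  set ε : K := (((Equiv.Perm.sign (Fin.revPerm : Equiv.Perm (Fin n)) : ℤˣ) : ℤ) : K) with hε
  have hε2 : ε * ε = 1 := by
    rw [hε]
    have : ((Equiv.Perm.sign (Fin.revPerm : Equiv.Perm (Fin n)) : ℤˣ) : ℤ) *
        ((Equiv.Perm.sign (Fin.revPerm : Equiv.Perm (Fin n)) : ℤˣ) : ℤ) = 1 := by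
      rw [← Units.val_mul, Int.units_mul_self, Units.val_one]
    rw [← Int.cast_mul, this, Int.cast_one]
  calc M.det * M.det = (ε * ε) * (M.det * M.det) := by rw [hε2, one_mul]
    _ = ε * (M.det * (ε * M.det)) := by ring
    _ = ε * ε := by rw [hdet]
    _ = 1 := hε2

end Cfsg.Agent.S2547P
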