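import Mathlib
import Cfsg.Prelude.Def_Classical
import Cfsg.Prelude.Def_ClassicalGeometry
import Cfsg.Agent.Helper8.MatBNDefs
import Cfsg.Agent.Helper8.S2546Defs
import Cfsg.Agent.Helper17.S2546PRES
import Cfsg.Agent.Helper17.S2547Defs
import Cfsg.Agent.Lead.S2547MODELO
import Cfsg.Agent.Helper24.S2547DETPM

/-! S2547 piece PIHOM: the homomorphism `O(Q) → SO(J)`, `g ↦ det g • P g P⁻¹`. -/

set_option autoImplicit false
open scoped Matrix

namespace Cfsg.Agent.S2547P

open Cfsg.Agent.MatBN Cfsg.Agent.S2546P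

variable {K : Type*} [Field K]

namespace PIHOM

/-- the symmetric form `hJ id` is symmetric -/
theorem hJ_symm (n : ℕ) (u v : Fin n → K) :
    hJ (RingHom.id K) n u v = hJ (RingHom.id K) n v u := by
  unfold hJ
  simp only [RingHom.id_apply]
  rw [← Equiv.sum_comp (Fin.revPerm : Equiv.Perm (Fin n))]
  apply Finset.sum_congr rfl
  intro i _
  rw [Fin.revPerm_apply, Fin.rev_rev, mul_comm]

theorem hJ_add_left (n : ℕ) (u u' v : Fin n → K) :
    hJ (RingHom.id K) n (u + u') v = hJ (RingHom.id K) n u v + hJ (RingHom.id K) n u' v := by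
  unfold hJ
  simp only [RingHom.id_apply, Pi.add_apply, add_mul, Finset.sum_add_distrib]

theorem hJ_add_right (n : ℕ) (u v v' : Fin n → K) :
    hJ (RingHom.id K) n u (v + v') = hJ (RingHom.id K) n u v + hJ (RingHom.id K) n u v' := by
  rw [hJ_symm, hJ_add_left, hJ_symm n v u, hJ_symm n v' u]

/-- polarization -/
theorem two_mul_hJ (n : ℕ) (u v : Fin n → K) :
    2 * hJ (RingHom.id K) n u v =
      hJ (RingHom.id K) n (u + v) (u + v) - hJ (RingHom.id K) n u u - hJ (RingHom.id K) n v v := by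
  rw [hJ_add_left, hJ_add_right, hJ_add_right, hJ_symm n v u]
  ring

/-- a matrix preserving the quadratic form `w ↦ hJ w w` preserves `hJ` -/
theorem presJ_of_quad (h2 : (2 : K) ≠ 0) (n : ℕ) (M : Matrix (Fin n) (Fin n) K)
    (hM : ∀ w, hJ (RingHom.id K) n (M *ᵥ w) (M *ᵥ w) = hJ (RingHom.id K) n w w) :
    PresJ (RingHom.id K) n M := by
  have hb : ∀ u v, hJ (RingHom.id K) n (M *ᵥ u) (M *ᵥ v) = hJ (RingHom.id K) n u v := by
    intro u v
    apply mul_left_cancel₀ h2
    rw [two_mul_hJ, two_mul_hJ, ← Matrix.mulVec_add, hM, hM, hM]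
  intro a c
  rw [← PRES.hJ_mulVec_single, hb, PRES.hJ_single]

theorem presJ_smul (n : ℕ) (M : Matrix (Fin n) (Fin n) K) (d : K) (hd : d * d = 1)
    (hM : PresJ (RingHom.id K) n M) : PresJ (RingHom.id K) n (d • M) := by
  intro a c
  rw [← hM a c]
  simp only [Matrix.smul_apply, smul_eq_mul, RingHom.id_apply]
  rw [Finset.sum_congr rfl (fun i _ => show d * M i a * (d * M i.rev c) =
    (d * d) * (M i a * M i.rev c) by ring), hd]
  simp

end PIHOM

open PIHOM

theorem exists_pi (h2 : (2 : K) ≠ 0) (m : ℕ) :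
    ∃ π : ↥(Cfsg.isometryGroup K (Cfsg.quadFormOdd m K)) →* ↥(SOJ K (2 * m + 1)),
      Function.Surjective π ∧
      ∀ g ∈ commutator ↥(Cfsg.isometryGroup K (Cfsg.quadFormOdd m K)), π g = 1 → g = 1 := by
  obtain ⟨P, P', hPP', hP'P, hQ⟩ := exists_model_odd h2 m
  -- the matrix of `g`
  set G := Cfsg.isometryGroup K (Cfsg.quadFormOdd m K) with hG
  let Mg : G → Matrix (Unit ⊕ (Fin m ⊕ Fin m)) (Unit ⊕ (Fin m ⊕ Fin m)) K :=
    fun g => ((g : Matrix.GeneralLinearGroup (Unit ⊕ (Fin m ⊕ Fin m)) K) :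
      Matrix (Unit ⊕ (Fin m ⊕ Fin m)) (Unit ⊕ (Fin m ⊕ Fin m)) K)
  have hMg_mul : ∀ g h : G, Mg (g * h) = Mg g * Mg h := fun g h => rfl
  have hMg_iso : ∀ (g : G) v, Cfsg.quadFormOdd m K (Mg g *ᵥ v) = Cfsg.quadFormOdd m K v :=
    fun g v => g.2 v v
  -- the conjugate
  let A : G → Matrix (Fin (2 * m + 1)) (Fin (2 * m + 1)) K := fun g => P * Mg g * P'
  have hA_mul : ∀ g h : G, A (g * h) = A g * A h := by
    intro g h
    show P * Mg (g * h) * P' = (P * Mg g * P') * (P * Mg h * P')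
    rw [hMg_mul]
    calc P * (Mg g * Mg h) * P' = P * Mg g * (P' * P) * Mg h * P' := by
          rw [hP'P, Matrix.mul_one]; simp only [Matrix.mul_assoc]
      _ = (P * Mg g * P') * (P * Mg h * P') := by
          simp only [Matrix.mul_assoc]
  have hA_pres : ∀ g : G, PresJ (RingHom.id K) (2 * m + 1) (A g) := by
    intro g
    apply presJ_of_quad h2
    intro w
    have hw : w = P *ᵥ (P' *ᵥ w) := by
      rw [Matrix.mulVec_mulVec, hPP', Matrix.one_mulVec]
    have hAw : A g *ᵥ w = P *ᵥ (Mg g *ᵥ (P' *ᵥ w)) := by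
      show (P * Mg g * P') *ᵥ w = _
      rw [Matrix.mulVec_mulVec, Matrix.mulVec_mulVec, Matrix.mul_assoc]
    rw [hAw, hQ, hMg_iso]
    conv_rhs => rw [hw]
    rw [hQ]
  have hA_det : ∀ g : G, (A g).det = (Mg g).det := fun g =>
    Matrix.det_conj_of_mul_eq_one hPP' hP'P
  -- the determinant character
  let δ : G →* Kˣ := (Matrix.GeneralLinearGroup.det).comp G.subtype
  have hδ : ∀ g : G, ((δ g : Kˣ) : K) = (Mg g).det := fun g => rfl
  have hδ2 : ∀ g : G, ((δ g : Kˣ) : K) * ((δ g : Kˣ) : K) = 1 := by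
    intro g
    rw [hδ, ← hA_det]
    exact det_mul_det_of_presJ _ _ (hA_pres g)
  -- the twisted matrix
  let B : G → Matrix (Fin (2 * m + 1)) (Fin (2 * m + 1)) K := fun g => ((δ g : Kˣ) : K) • A g
  have hB_mul : ∀ g h : G, B (g * h) = B g * B h := by
    intro g h
    show ((δ (g * h) : Kˣ) : K) • A (g * h) = (((δ g : Kˣ) : K) • A g) * (((δ h : Kˣ) : K) • A h)
    rw [map_mul, Units.val_mul, hA_mul, Matrix.smul_mul, Matrix.mul_smul, smul_smul]
  have hB_pres : ∀ g : G, PresJ (RingHom.id K) (2 * m + 1) (B g) := fun g =>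
    presJ_smul _ _ _ (hδ2 g) (hA_pres g)
  have hB_det : ∀ g : G, (B g).det = 1 := by
    intro g
    show (((δ g : Kˣ) : K) • A g).det = 1
    rw [Matrix.det_smul, hA_det, ← hδ, Fintype.card_fin, ← pow_succ]
    have : 2 * m + 1 + 1 = 2 * (m + 1) := by ring
    rw [this, pow_mul, pow_two, hδ2, one_pow]
  -- the homomorphism
  let f : G → ↥(SOJ K (2 * m + 1)) := fun g =>
    ⟨⟨B g, hB_det g⟩, fun u v => PRES.hJ_mulVec_of_presJ _ _ _ (hB_pres g) u v⟩
  have hf_rho : ∀ g : G, rhoO K (2 * m + 1) (f g) = B g := fun g => rfl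
  have hf_mul : ∀ g h : G, f (g * h) = f g * f h := by
    intro g h
    apply rho_injective
    rw [map_mul]
    show B (g * h) = B g * B h
    exact hB_mul g h
  refine ⟨MonoidHom.mk' f hf_mul, ?_, ?_⟩
  · -- surjective
    intro y
    set Y := rhoO K (2 * m + 1) y with hY
    set Y' := rhoO K (2 * m + 1) y⁻¹ with hY'
    have hYY' : Y * Y' = 1 := by
      rw [hY, hY', ← map_mul, mul_inv_cancel, map_one]
    have hY'Y : Y' * Y = 1 := by
      rw [hY, hY', ← map_mul, inv_mul_cancel, map_one]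
    have h1 : (P' * Y * P) * (P' * Y' * P) = 1 := by
      calc (P' * Y * P) * (P' * Y' * P) = P' * Y * (P * P') * Y' * P := by
            simp only [Matrix.mul_assoc]
        _ = 1 := by
            rw [hPP', Matrix.mul_one, Matrix.mul_assoc P' Y Y', hYY', Matrix.mul_one, hP'P]
    have h2' : (P' * Y' * P) * (P' * Y * P) = 1 := by
      calc (P' * Y' * P) * (P' * Y * P) = P' * Y' * (P * P') * Y * P := by
            simp only [Matrix.mul_assoc]
        _ = 1 := by
            rw [hPP', Matrix.mul_one, Matrix.mul_assoc P' Y' Y, hY'Y, Matrix.mul_one, hP'P]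
    let g0 : Matrix.GeneralLinearGroup (Unit ⊕ (Fin m ⊕ Fin m)) K :=
      ⟨P' * Y * P, P' * Y' * P, h1, h2'⟩
    have hg0 : g0 ∈ G := by
      intro u _
      show Cfsg.quadFormOdd m K ((P' * Y * P) *ᵥ u) = Cfsg.quadFormOdd m K u
      rw [← hQ, ← hQ]
      have : P *ᵥ ((P' * Y * P) *ᵥ u) = Y *ᵥ (P *ᵥ u) := by
        rw [Matrix.mulVec_mulVec, Matrix.mulVec_mulVec, ← Matrix.mul_assoc, ← Matrix.mul_assoc,
          hPP', Matrix.one_mul]
      rw [this]
      exact hJ_mulVec (RingHom.id K) (2 * m + 1) y _ _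
    refine ⟨⟨g0, hg0⟩, ?_⟩
    apply rho_injective
    show B ⟨g0, hg0⟩ = Y
    have hAg : A ⟨g0, hg0⟩ = Y := by
      show P * (P' * Y * P) * P' = Y
      calc P * (P' * Y * P) * P' = (P * P') * Y * (P * P') := by simp only [Matrix.mul_assoc]
        _ = Y := by rw [hPP', Matrix.one_mul, Matrix.mul_one]
    show ((δ ⟨g0, hg0⟩ : Kˣ) : K) • A ⟨g0, hg0⟩ = Y
    rw [hδ, ← hA_det, hAg, hY, det_of_mem, one_smul]
  · -- injective on the commutator subgroup
    intro g hg hπ
    have hker : g ∈ δ.ker := Abelianization.commutator_subset_ker δ hg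
    have hδ1 : ((δ g : Kˣ) : K) = 1 := by
      rw [MonoidHom.mem_ker] at hker
      rw [hker, Units.val_one]
    have hB1 : B g = 1 := by
      have := congrArg (rhoO K (2 * m + 1)) hπ
      rw [map_one] at this
      exact this
    have hA1 : P * Mg g * P' = 1 := by
      have : ((δ g : Kˣ) : K) • A g = 1 := hB1
      rw [hδ1, one_smul] at this
      exact this
    have hM1 : Mg g = 1 := by
      calc Mg g = (P' * P) * Mg g * (P' * P) := by rw [hP'P, Matrix.one_mul, Matrix.mul_one]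
        _ = P' * (P * Mg g * P') * P := by simp only [Matrix.mul_assoc]
        _ = 1 := by rw [hA1, Matrix.mul_one, hP'P]
    apply Subtype.ext
    apply Units.ext
    exact hM1

end Cfsg.Agent.S2547P
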