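import Mathlib
import Cfsg.Agent.Helper10.S2548Defs
import Cfsg.Agent.Helper10.MatBNC
import Cfsg.Agent.Helper28.IsoTransport
import Cfsg.Agent.Helper24.S2547INVSQ

set_option autoImplicit false
open scoped Matrix

/-! S2548 piece MODEL: `Ω(quadFormPlus m K) ≃* OmJ K (2m)` by reindexing. -/

namespace Cfsg.Agent.S2548P

open Cfsg.Agent.MatBN
open Cfsg.Agent.S2546P (E)

variable {K : Type*} [Field K] {n : ℕ}

namespace MODEL

theorem idx_inl_val (m : ℕ) (i : Fin m) : (idx m (Sum.inl i)).val = i.val := by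
  simp [idx]

theorem idx_inr_val (m : ℕ) (i : Fin m) : (idx m (Sum.inr i)).val = 2 * m - 1 - i.val := by
  have := i.isLt
  simp [idx]
  omega

theorem idx_inl_rev (m : ℕ) (i : Fin m) : (idx m (Sum.inl i)).rev = idx m (Sum.inr i) := by
  apply Fin.ext
  have := i.isLt
  rw [Fin.val_rev, idx_inl_val, idx_inr_val]
  omega

/-- the two forms correspond under the reindexing -/
theorem quadFormPlus_comp (m : ℕ) (u : Fin (2 * m) → K) :
    Cfsg.quadFormPlus m K (u ∘ idx m) = QJ (2 * m) u := by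
  rw [QJ_apply, ← Equiv.sum_comp (idx m), Fintype.sum_sum_type]
  have hm : 2 * m / 2 = m := Nat.mul_div_cancel_left m (by norm_num)
  have h2 : ∑ i : Fin m, (if (idx m (Sum.inr i)).val < 2 * m / 2 then
      u (idx m (Sum.inr i)) * u (idx m (Sum.inr i)).rev else 0) = 0 := by
    apply Finset.sum_eq_zero
    intro i _
    have := i.isLt
    rw [if_neg]
    rw [idx_inr_val, hm]
    omega
  rw [h2, add_zero]
  unfold Cfsg.quadFormPlus
  apply Finset.sum_congr rfl
  intro i _
  rw [if_pos (by rw [idx_inl_val, hm]; exact i.isLt), idx_inl_rev]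
  rfl

/-- the reindexing isomorphism of general linear groups -/
noncomputable def glIdx (m : ℕ) :
    Matrix.GeneralLinearGroup (Fin m ⊕ Fin m) K ≃* Matrix.GeneralLinearGroup (Fin (2 * m)) K :=
  Units.mapEquiv (Matrix.reindexAlgEquiv K K (idx m)).toMulEquiv

theorem glIdx_symm_val (m : ℕ) (g : Matrix.GeneralLinearGroup (Fin (2 * m)) K) :
    (((glIdx (K := K) m).symm g : Matrix.GeneralLinearGroup (Fin m ⊕ Fin m) K) :
      Matrix (Fin m ⊕ Fin m) (Fin m ⊕ Fin m) K) =
      (g : Matrix (Fin (2 * m)) (Fin (2 * m)) K).submatrix (idx m) (idx m) := by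
  rfl

theorem map_isometryGroup (m : ℕ) :
    (Cfsg.isometryGroup K (Cfsg.quadFormPlus m K)).map
      ((glIdx (K := K) m : _ ≃* _) : _ →* _) = OJ K (2 * m) := by
  rw [Subgroup.map_equiv_eq_comap_symm]
  ext g
  rw [Subgroup.mem_comap, Cfsg.Agent.Helper28.IsoTransport.mem_isometryGroup_iff,
    Cfsg.Agent.Helper28.IsoTransport.mem_isometryGroup_iff]
  have hval : ((((glIdx (K := K) m).symm : _ ≃* _) : _ →* _) g :
      Matrix.GeneralLinearGroup (Fin m ⊕ Fin m) K).val =
      (g : Matrix (Fin (2 * m)) (Fin (2 * m)) K).submatrix (idx m) (idx m) := rfl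
  rw [hval]
  have hmv : ∀ v : Fin m ⊕ Fin m → K,
      ((g : Matrix (Fin (2 * m)) (Fin (2 * m)) K).submatrix (idx m) (idx m)) *ᵥ v =
        ((g : Matrix (Fin (2 * m)) (Fin (2 * m)) K) *ᵥ (v ∘ (idx m).symm)) ∘ idx m := by
    intro v
    exact Matrix.submatrix_mulVec_equiv _ _ _ _
  constructor
  · intro h u
    have := h (u ∘ idx m)
    rw [hmv, quadFormPlus_comp, quadFormPlus_comp] at this
    have hu : (u ∘ idx m) ∘ (idx m).symm = u := by
      funext a
      simp
    rw [hu] at this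
    exact this
  · intro h v
    rw [hmv, quadFormPlus_comp]
    have hv : v = (v ∘ (idx m).symm) ∘ idx m := by
      funext a
      simp
    conv_rhs => rw [hv]
    rw [quadFormPlus_comp]
    exact h _

theorem exists_model (m : ℕ) :
    Nonempty (↥(Cfsg.Omega K (Cfsg.quadFormPlus m K)) ≃* ↥(OmJ K (2 * m))) := by
  let f : ↥(Cfsg.isometryGroup K (Cfsg.quadFormPlus m K)) ≃* ↥(OJ K (2 * m)) :=
    ((glIdx (K := K) m).subgroupMap _).trans (MulEquiv.subgroupCongr (map_isometryGroup m))
  apply Cfsg.Agent.S2547P.nonempty_commutator_equiv f.toMonoidHom f.surjective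
  intro a _ ha
  apply f.injective
  rw [map_one]
  exact ha

end MODEL

end Cfsg.Agent.S2548P
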