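import Mathlib
import Cfsg.Prelude.Def_Solvable
import Cfsg.Agent.Lead.S2553Defs

set_option autoImplicit false

/-! S2553 piece PAIRSTAB: a subgroup of `A₈` preserving a 2-set embeds in `S₆`. -/

namespace Cfsg.Agent.S2553P

/-- PAIRSTAB: a subgroup of `A₈` preserving a 2-set `{a, b}` embeds in `S₆` -/
theorem exists_embed_of_pair (K : Subgroup Γ8) (hKA : K ≤ A8) (a b : Fin 8) (hab : a ≠ b)
    (hK : ∀ g ∈ K, ∀ x : Fin 8, (x = a ∨ x = b) → (g x = a ∨ g x = b)) :
    ∃ f : ↥K →* Equiv.Perm (Fin 6), Function.Injective f := by
  classical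
  let p : Fin 8 → Prop := fun x => ¬ (x = a ∨ x = b)
  have hinv : ∀ g ∈ K, ∀ x, p (g x) ↔ p x := by
    intro g hg x
    constructor
    · intro h1 h2
      exact h1 (hK g hg x h2)
    · intro h1 h2
      apply h1
      have := hK g⁻¹ (K.inv_mem hg) (g x) h2
      simpa using this
  let f0 : ↥K →* Equiv.Perm {x // p x} :=
    { toFun := fun g => Equiv.Perm.subtypePerm g.1 (hinv g.1 g.2)
      map_one' := by
        ext x
        simp
      map_mul' := by
        intro g h
        ext x
        rfl }
  have hcard : Fintype.card {x // p x} = 6 := by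
    rw [Fintype.card_subtype_compl, Fintype.card_fin, Fintype.card_subtype]
    have : (Finset.univ.filter (fun x : Fin 8 => x = a ∨ x = b)) = {a, b} := by
      ext x
      simp
    rw [this, Finset.card_pair hab]
  let e : {x // p x} ≃ Fin 6 := Fintype.equivFinOfCardEq hcard
  refine ⟨(e.permCongrHom.toMonoidHom).comp f0, ?_⟩
  rw [MonoidHom.coe_comp]
  apply Function.Injective.comp (MulEquiv.injective _)
  rw [injective_iff_map_eq_one]
  intro g hg
  have hfix : ∀ x, p x → g.1 x = x := by
    intro x hx
    have := congrArg (fun s : Equiv.Perm {x // p x} => (s ⟨x, hx⟩ : Fin 8)) hg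
    simpa [f0] using this
  have hga := hK g.1 g.2 a (Or.inl rfl)
  have hgb := hK g.1 g.2 b (Or.inr rfl)
  apply Subtype.ext
  show g.1 = 1
  rcases hga with ha | ha
  · have hb : g.1 b = b := by
      rcases hgb with hb | hb
      · exfalso
        apply hab
        apply g.1.injective
        rw [ha, hb]
      · exact hb
    ext x
    by_cases hx : p x
    · rw [hfix x hx]
      rfl
    · have hx' : x = a ∨ x = b := not_not.mp hx
      rcases hx' with rfl | rfl
      · rw [ha]
        rfl
      · rw [hb]
        rfl
  · exfalso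
    have hb : g.1 b = a := by
      rcases hgb with hb | hb
      · exact hb
      · exfalso
        apply hab
        apply g.1.injective
        rw [ha, hb]
    have hswap : g.1 = Equiv.swap a b := by
      ext x
      by_cases hx : p x
      · rw [hfix x hx, Equiv.swap_apply_of_ne_of_ne (fun h => hx (Or.inl h))
          (fun h => hx (Or.inr h))]
      · have hx' : x = a ∨ x = b := not_not.mp hx
        rcases hx' with rfl | rfl
        · rw [ha, Equiv.swap_apply_left]
        · rw [hb, Equiv.swap_apply_right]
    have hA := hKA g.2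
    rw [Equiv.Perm.mem_alternatingGroup, hswap, Equiv.Perm.sign_swap hab] at hA
    exact absurd hA (by decide)

end Cfsg.Agent.S2553P
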