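import Mathlib
import Cfsg.Prelude.Def_Classical
import Cfsg.Agent.Helper13.S2558LDefs

/-! S2558 chapter (L), piece REALSUM (driver helper13): orthogonal sums of realisations. -/

set_option autoImplicit false

universe u

namespace Cfsg.Agent.S2558P.LOW

open Polynomial

variable {F : Type u} [Field F]

namespace REALSUM

variable {V₁ V₂ : Type*} [AddCommGroup V₁] [Module F V₁] [AddCommGroup V₂] [Module F V₂]

/-- the orthogonal sum of two bilinear forms -/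
noncomputable def sumForm (B₁ : LinearMap.BilinForm F V₁) (B₂ : LinearMap.BilinForm F V₂) :
    LinearMap.BilinForm F (V₁ × V₂) :=
  B₁.compl₁₂ (LinearMap.fst F V₁ V₂) (LinearMap.fst F V₁ V₂) +
    B₂.compl₁₂ (LinearMap.snd F V₁ V₂) (LinearMap.snd F V₁ V₂)

theorem sumForm_apply (B₁ : LinearMap.BilinForm F V₁) (B₂ : LinearMap.BilinForm F V₂)
    (u v : V₁ × V₂) : sumForm B₁ B₂ u v = B₁ u.1 v.1 + B₂ u.2 v.2 := rfl

theorem toMatrix_sumForm {I₁ I₂ : Type*} [Fintype I₁] [Fintype I₂] [DecidableEq I₁]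
    [DecidableEq I₂] (b₁ : Module.Basis I₁ F V₁) (b₂ : Module.Basis I₂ F V₂)
    (B₁ : LinearMap.BilinForm F V₁) (B₂ : LinearMap.BilinForm F V₂) :
    LinearMap.BilinForm.toMatrix (b₁.prod b₂) (sumForm B₁ B₂) =
      Matrix.fromBlocks (LinearMap.BilinForm.toMatrix b₁ B₁) 0 0
        (LinearMap.BilinForm.toMatrix b₂ B₂) := by
  ext (i | i) (j | j) <;>
    simp [LinearMap.BilinForm.toMatrix_apply, sumForm_apply]

end REALSUM

open REALSUM in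
/-- REALSUM -/
theorem Realizes.sum {n₁ n₂ : ℕ} {P₁ P₂ : F[X]} {D₁ D₂ : F} (h₁ : Realizes F n₁ P₁ D₁)
    (h₂ : Realizes F n₂ P₂ D₂) : Realizes F (n₁ + n₂) (P₁ * P₂) (D₁ * D₂) := by
  obtain ⟨V₁, i1, i2, I₁, i3, i4, B₁, g₁, ginv₁, b₁, s₁, hcard₁, hsym₁, hiso₁, hinv₁, hs₁, hD₁,
    hdet₁, hch₁⟩ := h₁
  obtain ⟨V₂, j1, j2, I₂, j3, j4, B₂, g₂, ginv₂, b₂, s₂, hcard₂, hsym₂, hiso₂, hinv₂, hs₂, hD₂,
    hdet₂, hch₂⟩ := h₂
  refine ⟨V₁ × V₂, inferInstance, inferInstance, I₁ ⊕ I₂, inferInstance, inferInstance,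
    sumForm B₁ B₂, g₁.prodMap g₂, ginv₁.prodMap ginv₂, b₁.prod b₂, s₁ * s₂, ?_, ?_, ?_, ?_,
    mul_ne_zero hs₁ hs₂, mul_ne_zero hD₁ hD₂, ?_, ?_⟩
  · rw [Fintype.card_sum, hcard₁, hcard₂]
  · intro u v
    rw [sumForm_apply, sumForm_apply, hsym₁, hsym₂]
  · intro u v
    rw [sumForm_apply, sumForm_apply]
    simp only [LinearMap.prodMap_apply]
    rw [hiso₁, hiso₂]
  · rw [LinearMap.prodMap_comp, hinv₁, hinv₂, LinearMap.prodMap_id]
  · rw [toMatrix_sumForm, Matrix.det_fromBlocks_zero₂₁, hdet₁, hdet₂]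
    ring
  · rw [← LinearMap.prodMap_add, LinearMap.toMatrix_prodMap, Matrix.charpoly_fromBlocks_zero₁₂,
      hch₁, hch₂]

end Cfsg.Agent.S2558P.LOW
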