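import Mathlib
import Cfsg.Prelude.Def_FusionSystem
import Cfsg.Prelude.Def_KGroupFacts
import Cfsg.Agent.Helper7.S2647.Defs
import Cfsg.Agent.Helper24.S2647NF

/-! S2647 piece PGRP (driver helper7): `S0` is a `2`-group, and is not trivial. -/

set_option autoImplicit false
set_option linter.unusedSectionVars false
set_option linter.unusedVariables false

namespace Cfsg.Agent.S2647P

open Matrix Cfsg.Agent.Helper28.IsoTransport Cfsg.Agent.Helper28.Spin

variable {F : Type*} [Field F]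

namespace PGRP

theorem comp_mem_Ev' {ε : J → ℤˣ} (hε : ε ∈ Ev) (π : Equiv.Perm J) : (fun j => ε (π j)) ∈ Ev := by
  rw [mem_Ev] at hε ⊢
  rw [Equiv.prod_comp π ε, hε]

set_option maxRecDepth 8000 in
theorem Dl_pow_four : ∀ a ∈ Dl, a * a * a * a = 1 := by decide

theorem isPGroup_Ev : IsPGroup 2 ↥Ev := by
  intro g
  refine ⟨1, ?_⟩
  apply Subtype.ext
  funext j
  simp only [pow_one, Subgroup.coe_pow, Pi.pow_apply, Subgroup.coe_one, Pi.one_apply]
  exact Int.units_sq _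

theorem isPGroup_Dp : IsPGroup 2 ↥Dp := by
  intro g
  refine ⟨2, ?_⟩
  apply Subtype.ext
  have := Dl_pow_four g.1 g.2
  show ((g ^ 2 ^ 2 : Dp) : Equiv.Perm J) = 1
  rw [Subgroup.coe_pow, ← this]
  norm_num [pow_succ]

theorem pm_conj_mem_E0 (π : Equiv.Perm J) {x : Od F} (hx : x ∈ E0 F) :
    pm F π * x * (pm F π)⁻¹ ∈ E0 F := by
  obtain ⟨ε, hε, rfl⟩ := hx
  rw [NF.pm_dg_conj']
  exact ⟨_, comp_mem_Ev' hε π⁻¹, rfl⟩

theorem map_pm_le_normalizer (P : Subgroup (Equiv.Perm J)) :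
    P.map (pm F) ≤ Subgroup.normalizer ((E0 F : Subgroup (Od F)) : Set (Od F)) := by
  rintro g ⟨π, -, rfl⟩
  rw [Subgroup.mem_normalizer_iff]
  intro x
  constructor
  · intro hx
    exact pm_conj_mem_E0 π hx
  · intro hx
    have := pm_conj_mem_E0 (F := F) π⁻¹ hx
    rw [map_inv, inv_inv] at this
    have e : (pm F π)⁻¹ * (pm F π * x * (pm F π)⁻¹) * pm F π = x := by group
    rwa [e] at this

end PGRP

/-- PGRP (S-M) -/
theorem isPGroup_S0 : IsPGroup 2 ↥(S0 F) := by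
  unfold S0
  apply IsPGroup.to_sup_of_normal_left'
  · exact IsPGroup.map PGRP.isPGroup_Ev (dg F)
  · exact IsPGroup.map PGRP.isPGroup_Dp (pm F)
  · exact PGRP.map_pm_le_normalizer Dp

theorem S0_ne_bot (h2 : (2 : F) ≠ 0) : S0 F ≠ ⊥ := by
  intro hbot
  let ε : J → ℤˣ := Function.update (Function.update (1 : J → ℤˣ) p0 (-1)) p1 (-1)
  have hε : ε ∈ Ev := by
    rw [mem_Ev]
    decide
  have hmem : dg F ε ∈ S0 F := Subgroup.mem_sup_left ⟨ε, hε, rfl⟩
  rw [hbot, Subgroup.mem_bot] at hmem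
  have h00 := congrArg (fun g : Od F => ((g : GL J F) : Matrix J J F) p0 p0) hmem
  simp only [dg_val, dgM_apply, Matrix.diagonal_apply_eq] at h00
  have hε0 : ε p0 = -1 := by decide
  rw [hε0, sg_neg_one] at h00
  have h1 : (((1 : Od F) : GL J F) : Matrix J J F) p0 p0 = 1 := by
    show (1 : Matrix J J F) p0 p0 = 1
    simp
  rw [h1] at h00
  apply h2
  linear_combination -h00

end Cfsg.Agent.S2647P
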