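import Mathlib
import Cfsg.Prelude.Def_ClassicalGeometry
import Cfsg.Agent.Helper7.S2676Defs

/-! S2676 piece CAY1: the Cayley transform `X = (y - 1)(y + 1)⁻¹` of an isometry `y` with
`y ^ p = 1` is skew-adjoint and nilpotent. -/

set_option autoImplicit false
universe u

namespace Cfsg.Agent.S2676P

open Cfsg.Agent.Helper2.SympInvol Cfsg.Agent.Helper2.SympUnits Cfsg.Agent.S5961P Cfsg.Agent.S5956P

namespace CAY1

/-- the freshman's dream in a ring in which `p = 0` -/
theorem add_pow_p {R : Type*} [Ring R] {p : ℕ} (hp : p.Prime) (hpR : ((p : ℕ) : R) = 0) {x y : R}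
    (h : Commute x y) : (x + y) ^ p = x ^ p + y ^ p := by
  rw [h.add_pow_prime_eq' hp, hpR, zero_mul, add_zero]

theorem natCast_end_eq_zero {F V : Type*} [Field F] [AddCommGroup V] [Module F V] (p : ℕ)
    [CharP F p] : ((p : ℕ) : Module.End F V) = 0 := by
  have h : ((p : ℕ) : Module.End F V) = algebraMap F (Module.End F V) ((p : ℕ) : F) :=
    (map_natCast _ p).symm
  rw [h, CharP.cast_eq_zero, map_zero]

theorem two_ne_zero_of_char {F : Type*} [Field F] (p : ℕ) [hp : Fact p.Prime] [CharP F p]
    (hp2 : p ≠ 2) : (2 : F) ≠ 0 := by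
  intro h
  have h' : ((2 : ℕ) : F) = 0 := by exact_mod_cast h
  rw [CharP.cast_eq_zero_iff F p 2] at h'
  exact hp2 ((Nat.prime_dvd_prime_iff_eq hp.out Nat.prime_two).1 h')

theorem isUnit_two_end {F V : Type*} [Field F] [AddCommGroup V] [Module F V] (h2 : (2 : F) ≠ 0) :
    IsUnit (2 : Module.End F V) := by
  have h : (2 : Module.End F V) = algebraMap F (Module.End F V) 2 := (map_ofNat _ 2).symm
  rw [h]
  exact (IsUnit.mk0 2 h2).map _

end CAY1

open CAY1 in
theorem cayley_of_isometry {F V : Type*} [Field F] [AddCommGroup V] [Module F V]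
    [FiniteDimensional F V] {p : ℕ} [Fact p.Prime] [CharP F p] (hp2 : p ≠ 2)
    (B : LinearMap.BilinForm F V) (y : Module.End F V)
    (hy : ∀ u v, B (y u) (y v) = B u v) (hyp : y ^ p = 1) :
    ∃ X : Module.End F V, Skew B X ∧ X ^ p = 0 ∧ y * (1 - X) = 1 + X := by
  have hp : p.Prime := Fact.out
  have h2 : (2 : F) ≠ 0 := two_ne_zero_of_char p hp2
  have hpR : ((p : ℕ) : Module.End F V) = 0 := natCast_end_eq_zero p
  have hup : (y - 1) ^ p = 0 := by
    have h := add_pow_p hp hpR (Commute.one_right (y - 1))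
    rw [sub_add_cancel, hyp, one_pow] at h
    exact add_eq_right.1 h.symm
  have hw : IsUnit (2 + (y - 1)) :=
    IsNilpotent.isUnit_add_left_of_commute ⟨p, hup⟩ (isUnit_two_end h2)
      (Commute.ofNat_right (y - 1) 2)
  have hwy : 2 + (y - 1) = y + 1 := by
    rw [← one_add_one_eq_two]; abel
  rw [hwy] at hw
  obtain ⟨⟨w, winv, h1, h1'⟩, hw'⟩ := hw
  change w = y + 1 at hw'
  subst hw'
  -- `winv` commutes with `y`
  have hcy : winv * y = y * winv := by
    have hyw : y * (y + 1) = (y + 1) * y := by noncomm_ring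
    calc winv * y = winv * y * ((y + 1) * winv) := by rw [h1, mul_one]
      _ = winv * (y * (y + 1)) * winv := by noncomm_ring
      _ = winv * ((y + 1) * y) * winv := by rw [hyw]
      _ = (winv * (y + 1)) * (y * winv) := by noncomm_ring
      _ = y * winv := by rw [h1', one_mul]
  have hcu : Commute (y - 1) winv := by
    change (y - 1) * winv = winv * (y - 1)
    rw [sub_mul, mul_sub, one_mul, mul_one, hcy]
  refine ⟨(y - 1) * winv, ?_, ?_, ?_⟩
  · -- skew
    intro a b
    have ha : a = (y + 1) (winv a) := by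
      have := LinearMap.congr_fun h1 a
      simpa using this.symm
    have hb : b = (y + 1) (winv b) := by
      have := LinearMap.congr_fun h1 b
      simpa using this.symm
    rw [Module.End.mul_apply, Module.End.mul_apply]
    conv_lhs => rw [hb]
    conv_rhs => rw [ha]
    simp only [LinearMap.sub_apply, LinearMap.add_apply, Module.End.one_apply, map_add, map_sub,
      hy]
    ring
  · rw [hcu.mul_pow, hup, zero_mul]
  · have e1 : 1 - (y - 1) * winv = (1 + 1) * winv := by
      calc 1 - (y - 1) * winv = (y + 1) * winv - (y - 1) * winv := by rw [h1]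
        _ = (1 + 1) * winv := by noncomm_ring
    have e2 : 1 + (y - 1) * winv = (y + y) * winv := by
      calc 1 + (y - 1) * winv = (y + 1) * winv + (y - 1) * winv := by rw [h1]
        _ = (y + y) * winv := by noncomm_ring
    rw [e1, e2]
    noncomm_ring

end Cfsg.Agent.S2676P
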