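import Mathlib
import Cfsg.Prelude.Def_ClassicalGeometry
import Cfsg.Agent.Helper7.S2676Defs
import Cfsg.Agent.Helper24.S2676CAY1

/-! S2676 piece CAY2: the inverse Cayley transform `y = (1 + X)(1 - X)⁻¹` of a nilpotent
skew-adjoint `X` is an isometry with `y ^ p = 1`. -/

set_option autoImplicit false
universe u

namespace Cfsg.Agent.S2676P

open Cfsg.Agent.Helper2.SympInvol Cfsg.Agent.Helper2.SympUnits Cfsg.Agent.S5961P Cfsg.Agent.S5956P

open CAY1 in
theorem isometry_of_cayley {F V : Type*} [Field F] [AddCommGroup V] [Module F V]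
    [FiniteDimensional F V] {p : ℕ} [Fact p.Prime] [CharP F p] (hp2 : p ≠ 2)
    (B : LinearMap.BilinForm F V) (X : Module.End F V) (hX : Skew B X) (hXp : X ^ p = 0) :
    ∃ y : Module.End F V, y * (1 - X) = 1 + X ∧ (∀ u v, B (y u) (y v) = B u v) ∧ y ^ p = 1 := by
  have hp : p.Prime := Fact.out
  have hpR : ((p : ℕ) : Module.End F V) = 0 := natCast_end_eq_zero p
  have hw : IsUnit (1 - X) := IsNilpotent.isUnit_one_sub ⟨p, hXp⟩
  obtain ⟨⟨w, winv, h1, h1'⟩, hw'⟩ := hw
  change w = 1 - X at hw'
  subst hw'
  -- `winv` commutes with `X`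
  have hcX : winv * X = X * winv := by
    have hXw : X * (1 - X) = (1 - X) * X := by noncomm_ring
    calc winv * X = winv * X * ((1 - X) * winv) := by rw [h1, mul_one]
      _ = winv * (X * (1 - X)) * winv := by noncomm_ring
      _ = winv * ((1 - X) * X) * winv := by rw [hXw]
      _ = (winv * (1 - X)) * (X * winv) := by noncomm_ring
      _ = X * winv := by rw [h1', one_mul]
  refine ⟨(1 + X) * winv, ?_, ?_, ?_⟩
  · rw [mul_assoc, h1', mul_one]
  · intro a b
    have ha : a = (1 - X) (winv a) := by
      have := LinearMap.congr_fun h1 a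
      simpa using this.symm
    have hb : b = (1 - X) (winv b) := by
      have := LinearMap.congr_fun h1 b
      simpa using this.symm
    rw [Module.End.mul_apply, Module.End.mul_apply]
    conv_rhs => rw [ha, hb]
    have hs : ∀ u v, B (X u) v = - B u (X v) := hX
    simp only [LinearMap.sub_apply, LinearMap.add_apply, Module.End.one_apply, map_add, map_sub,
      hs]
    ring
  · -- `y - 1 = (X + X) * winv` is nilpotent
    have e1 : (1 + X) * winv - 1 = (X + X) * winv := by
      calc (1 + X) * winv - 1 = (1 + X) * winv - (1 - X) * winv := by rw [h1]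
        _ = (X + X) * winv := by noncomm_ring
    have hc : Commute (X + X) winv := by
      change (X + X) * winv = winv * (X + X)
      rw [add_mul, mul_add, hcX]
    have hXX : (X + X) ^ p = 0 := by
      rw [add_pow_p hp hpR (Commute.refl X), hXp, add_zero]
    have hN : ((1 + X) * winv - 1) ^ p = 0 := by
      rw [e1, hc.mul_pow, hXX, zero_mul]
    have h := add_pow_p hp hpR (Commute.one_right ((1 + X) * winv - 1))
    rw [sub_add_cancel, hN, one_pow, zero_add] at h
    exact h

end Cfsg.Agent.S2676P
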