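import Mathlib
import Cfsg.Prelude.Def_ClassicalGeometry
import Cfsg.Agent.Helper7.S2676Defs

/-! S2676 piece COUNTABS: counting the classes of elements of order `p` through a classifying
relation. -/

set_option autoImplicit false
universe u

namespace Cfsg.Agent.S2676P

open Cfsg.Agent.Helper2.SympInvol Cfsg.Agent.Helper2.SympUnits Cfsg.Agent.S5961P Cfsg.Agent.S5956P

theorem card_classes_of_rel {G : Type*} [Group G] [Finite G] {T : Type*} [Fintype T] (p : ℕ)
    [Fact p.Prime] (R : G → T → Prop) (h1 : ∀ g : G, g ^ p = 1 → ∃ t, R g t)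
    (h2 : ∀ g t t', R g t → R g t' → t = t')
    (h3 : ∀ g g' t, R g t → R g' t → IsConj g g')
    (h4 : ∀ g g' t, IsConj g g' → R g t → R g' t)
    (h5 : ∀ t, ∃ g : G, g ^ p = 1 ∧ R g t) :
    Nat.card {C : ConjClasses G // ∃ g : G, ConjClasses.mk g = C ∧ orderOf g = p} =
      Fintype.card T - 1 := by
  classical
  have hp : p.Prime := Fact.out
  obtain ⟨t₁, ht₁⟩ := h1 1 (one_pow p)
  choose γ hγp hγR using h5
  -- `γ t ≠ 1` for `t ≠ t₁`
  have hγ1 : ∀ t, t ≠ t₁ → γ t ≠ 1 := by
    intro t ht h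
    apply ht
    have := hγR t
    rw [h] at this
    exact h2 1 t t₁ this ht₁
  let f : {t : T // t ≠ t₁} →
      {C : ConjClasses G // ∃ g : G, ConjClasses.mk g = C ∧ orderOf g = p} :=
    fun t => ⟨ConjClasses.mk (γ t), γ t, rfl, orderOf_eq_prime (hγp t) (hγ1 t t.2)⟩
  have hinj : Function.Injective f := by
    intro t t' h
    have h' : ConjClasses.mk (γ t) = ConjClasses.mk (γ t') := congrArg Subtype.val h
    rw [ConjClasses.mk_eq_mk_iff_isConj] at h'
    apply Subtype.ext
    exact h2 (γ t') t t' (h4 _ _ _ h' (hγR t)) (hγR t')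
  have hsurj : Function.Surjective f := by
    rintro ⟨C, g, rfl, hg⟩
    have hgp : g ^ p = 1 := by rw [← hg]; exact pow_orderOf_eq_one g
    obtain ⟨t, ht⟩ := h1 g hgp
    have htne : t ≠ t₁ := by
      rintro rfl
      have hc := h3 g 1 t ht ht₁
      have hg1 : g = 1 := isConj_one_left.1 hc
      rw [hg1, orderOf_one] at hg
      exact hp.one_lt.ne hg
    refine ⟨⟨t, htne⟩, ?_⟩
    apply Subtype.ext
    change ConjClasses.mk (γ t) = ConjClasses.mk g
    rw [ConjClasses.mk_eq_mk_iff_isConj]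
    exact h3 _ _ t (hγR t) ht
  rw [← Nat.card_congr (Equiv.ofBijective f ⟨hinj, hsurj⟩), Nat.card_eq_fintype_card,
    Fintype.card_subtype_compl, Fintype.card_subtype_eq]

end Cfsg.Agent.S2676P
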