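import Mathlib
import Cfsg.Prelude.Def_ClassicalGeometry
import Cfsg.Agent.Helper7.S2676Defs

/-! S2676 piece FRAMETRANS: transport of a frame along an isometry intertwining `X` and `X'`. -/

set_option autoImplicit false
universe u

namespace Cfsg.Agent.S2676P

open Cfsg.Agent.Helper2.SympInvol Cfsg.Agent.Helper2.SympUnits Cfsg.Agent.S5961P Cfsg.Agent.S5956P

namespace FRAMETRANS

theorem map_pow_apply {F V V' : Type*} [Field F] [AddCommGroup V] [Module F V]
    [AddCommGroup V'] [Module F V'] (φ : V ≃ₗ[F] V') (X : Module.End F V)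
    (X' : Module.End F V') (hXφ : ∀ v, φ (X v) = X' (φ v)) (i : ℕ) (v : V) :
    φ ((X ^ i) v) = (X' ^ i) (φ v) := by
  induction i generalizing v with
  | zero => simp
  | succ k ih =>
    rw [pow_succ, Module.End.mul_apply, ih, hXφ, pow_succ, Module.End.mul_apply]

end FRAMETRANS

open FRAMETRANS in
theorem frame_transport {F V V' : Type*} [Field F] [AddCommGroup V] [Module F V]
    [AddCommGroup V'] [Module F V'] {ι : Type} [Fintype ι] [DecidableEq ι] (φ : V ≃ₗ[F] V')
    (B : LinearMap.BilinForm F V) (X : Module.End F V) (B' : LinearMap.BilinForm F V')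
    (X' : Module.End F V') (hB : ∀ u v, B' (φ u) (φ v) = B u v)
    (hXφ : ∀ v, φ (X v) = X' (φ v)) (a : ι → ℕ) (K : Matrix ι ι F) (g : ι → V)
    (hf : IsFrame B X ⊤ a K g) : IsFrame B' X' ⊤ a K (fun j => φ (g j)) := by
  have hpow := map_pow_apply φ X X' hXφ
  refine ⟨hf.pos, ?_, ?_, ?_, hf.offdiag, hf.unit⟩
  · intro j
    rw [← hpow, hf.kill, map_zero]
  · intro j j' i l
    rw [← hpow, ← hpow, hB, hf.gram]
  · have hr : Set.range (fvec X' a (fun j => φ (g j))) = φ '' Set.range (fvec X a g) := by
      ext v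
      constructor
      · rintro ⟨x, rfl⟩
        refine ⟨fvec X a g x, ⟨x, rfl⟩, ?_⟩
        unfold fvec
        rw [hpow]
      · rintro ⟨_, ⟨x, rfl⟩, rfl⟩
        refine ⟨x, ?_⟩
        unfold fvec
        rw [hpow]
    rw [hr]
    have : Submodule.span F (φ '' Set.range (fvec X a g)) =
        (Submodule.span F (Set.range (fvec X a g))).map (φ : V →ₗ[F] V') := by
      rw [Submodule.map_span]
      rfl
    rw [this, hf.span, Submodule.map_top, LinearMap.range_eq_top]
    exact φ.surjective

end Cfsg.Agent.S2676P
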