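import Mathlib
import Cfsg.Agent.Helper24.S3067Defs
import Cfsg.Agent.Helper28.S3067C1
import Cfsg.Agent.Helper25.S3067L3W
import Cfsg.Agent.Helper11.S3067L3Y

set_option autoImplicit false

namespace Cfsg.Agent.S3067P

variable {X : Type*} [Group X] [Finite X] {a τ : X} {r : ℕ} {G : Subgroup X}

/-- L3 (assembly). -/
theorem L3 (h : Hyp a r G τ)
    (IH : ∀ (W : Subgroup X) (τ' : X), Nat.card W < Nat.card G → Hyp a r W τ' →
      Odd (Nat.card (R a W)))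
    (g₁ g₂ : X) (hg₁ : g₁ ∈ G) (hg₂ : g₂ ∈ G)
    (hx : (g₁⁻¹ * τ * g₁)⁻¹ * a * (g₁⁻¹ * τ * g₁) = (g₂⁻¹ * τ * g₂)⁻¹ * a * (g₂⁻¹ * τ * g₂)) :
    g₁⁻¹ * a * g₁ = g₂⁻¹ * a * g₂ := by
  set w₁ := g₁⁻¹ * τ * g₁ with hw₁
  set w₂ := g₂⁻¹ * τ * g₂ with hw₂
  have hw₁G : w₁ ∈ G := G.mul_mem (G.mul_mem (G.inv_mem hg₁) h.hτG) hg₁
  have hw₂G : w₂ ∈ G := G.mul_mem (G.mul_mem (G.inv_mem hg₂) h.hτG) hg₂
  have hw₁2 : w₁ * w₁ = 1 := by
    calc w₁ * w₁ = g₁⁻¹ * (τ * τ) * g₁ := by rw [hw₁]; group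
      _ = 1 := by rw [h.hτ2]; group
  have hw₂2 : w₂ * w₂ = 1 := by
    calc w₂ * w₂ = g₂⁻¹ * (τ * τ) * g₂ := by rw [hw₂]; group
      _ = 1 := by rw [h.hτ2]; group
  have hw₁inv : w₁⁻¹ = w₁ := inv_eq_of_mul_eq_one_left hw₁2
  have hw₂inv : w₂⁻¹ = w₂ := inv_eq_of_mul_eq_one_left hw₂2
  -- w₁ commutes with b₁ = g₁⁻¹ a g₁
  have hw₁b₁ : Commute w₁ (g₁⁻¹ * a * g₁) := by
    have := comm_τ_a h
    show w₁ * (g₁⁻¹ * a * g₁) = (g₁⁻¹ * a * g₁) * w₁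
    calc w₁ * (g₁⁻¹ * a * g₁) = g₁⁻¹ * (τ * a) * g₁ := by rw [hw₁]; group
      _ = g₁⁻¹ * (a * τ) * g₁ := by rw [this]
      _ = (g₁⁻¹ * a * g₁) * w₁ := by rw [hw₁]; group
  set x := w₁⁻¹ * a * w₁ with hxdef
  set d := w₁ * w₂ with hd
  have hdG : d ∈ G := G.mul_mem hw₁G hw₂G
  -- d centralises a and x
  have hx2 : x = w₂⁻¹ * a * w₂ := hx
  have hda : d * a = a * d := by
    -- w₁ w₂ a = w₁ (w₂ a w₂⁻¹) w₂ ; from x: w₂ x w₂⁻¹ = a ...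
    have e1 : w₂ * a * w₂⁻¹ = w₁ * a * w₁⁻¹ := by
      -- use involutions: w⁻¹ = w
      rw [hw₁inv, hw₂inv] at *
      calc w₂ * a * w₂ = x := hx2.symm
        _ = w₁ * a * w₁ := hxdef
    calc d * a = w₁ * (w₂ * a * w₂⁻¹) * w₂ := by rw [hd]; group
      _ = w₁ * (w₁ * a * w₁⁻¹) * w₂ := by rw [e1]
      _ = (w₁ * w₁) * a * (w₁⁻¹ * w₂) := by group
      _ = a * d := by rw [hw₁2, hw₁inv, hd]; group
  have hdx : d * x = x * d := by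
    -- x = w₁ a w₁ (inv = self); d x = w₁ w₂ x ; w₂ x w₂ = a
    have e2 : w₂ * x * w₂⁻¹ = a := by rw [hx2]; group
    have e3 : w₁ * x * w₁⁻¹ = a := by rw [hxdef]; group
    calc d * x = w₁ * (w₂ * x * w₂⁻¹) * w₂ := by rw [hd]; group
      _ = w₁ * a * w₂ := by rw [e2]
      _ = (w₁ * a * w₁⁻¹) * (w₁ * w₂) := by group
      _ = x * d := by
        have : w₁ * a * w₁⁻¹ = x := by rw [hxdef, hw₁inv]
        rw [this]
  by_cases hdN : d ∈ N0 a G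
  · -- d commutes with b₁, so w₂ = w₁ d commutes with b₁
    have hdb : d * (g₁⁻¹ * a * g₁) = (g₁⁻¹ * a * g₁) * d := hdN.2 g₁ hg₁
    have hw₂eq : w₂ = w₁ * d := by rw [hd, ← mul_assoc, hw₁2, one_mul]
    have hw₂b₁ : Commute w₂ (g₁⁻¹ * a * g₁) := by
      rw [hw₂eq]
      exact hw₁b₁.mul_left hdb
    exact (FUSION h g₂ g₁ hg₂ hg₁ hw₂b₁).symm
  · obtain ⟨W, hWG, hWa, hWa', hwW, hlt⟩ := L3W h w₁ x hw₁G hw₁2 hxdef d hdG hda hdx hdN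
    obtain ⟨g', hg', hτ'W, hτ'a⟩ := C1 h W hWG hWa hWa' g₁ hg₁ hwW
    have hg'a : g' * a = a * g' := mem_H_of_comm h g' hg' hτ'a
    have hHypW : Hyp a r W (g'⁻¹ * τ * g') :=
      { hr := h.hr
        har := h.har
        hnorm := hWa
        hnorm' := hWa'
        hcop := Nat.Coprime.coprime_dvd_left (Subgroup.card_dvd_of_le hWG) h.hcop
        hτG := hτ'W
        hτ2 := by
          calc g'⁻¹ * τ * g' * (g'⁻¹ * τ * g') = g'⁻¹ * (τ * τ) * g' := by group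
            _ = 1 := by rw [h.hτ2]; group
        hτ1 := by
          intro h1
          apply h.hτ1
          calc τ = g' * (g'⁻¹ * τ * g') * g'⁻¹ := by group
            _ = 1 := by rw [h1]; group
        hcent := by
          intro c hc hcc
          have h1 := CENTCONJ h g' c hg' (hWG hc) hcc
          have h2 : g'⁻¹ * a * g' = a := (conj_eq_self_iff g').2 hg'a
          rw [h2] at h1
          exact h1 }
    have hodd := IH W _ hlt hHypW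
    have hv : Odd (orderOf (w₁⁻¹ * a⁻¹ * w₁ * a)) := by
      have hmem : w₁⁻¹ * a⁻¹ * w₁ * a ∈ R a W := gen_mem_R hwW
      have hdvd := Subgroup.orderOf_dvd_natCard (R a W) hmem
      exact Odd.of_dvd_nat hodd hdvd
    exact L3Y h g₁ g₂ hg₁ hg₂ hx hv

end Cfsg.Agent.S3067P
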