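import Mathlib
import Cfsg.Agent.Helper24.S3067Defs

/-! # S3067 piece TRANSFER -/

set_option autoImplicit false

namespace Cfsg.Agent.S3067P

set_option linter.unusedSectionVars false
set_option linter.style.haveILetI false

variable {X : Type*} [Group X] [Finite X] {a τ : X} {r : ℕ} {G : Subgroup X}

/-- `N0` centralises `R`. -/
theorem TRANSFER.aux_cent (n : X) (hn : n ∈ N0 a G) : ∀ x ∈ R a G, x * n = n * x := by
  have hle : R a G ≤ Subgroup.centralizer {n} := by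
    unfold R
    rw [Subgroup.closure_le]
    rintro x ⟨g, hg, rfl⟩
    rw [SetLike.mem_coe, Subgroup.mem_centralizer_singleton_iff]
    have h1 : n * a = a * n := N0_comm_a hn
    have h2 : (g * n * g⁻¹) * a = a * (g * n * g⁻¹) := by
      have := N0_conj_mem (g := g⁻¹) hn (G.inv_mem hg)
      rw [inv_inv] at this
      exact N0_comm_a this
    have h2' : a⁻¹ * (g * n * g⁻¹) = (g * n * g⁻¹) * a⁻¹ := by
      calc a⁻¹ * (g * n * g⁻¹) = a⁻¹ * ((g * n * g⁻¹) * a) * a⁻¹ := by group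
        _ = a⁻¹ * (a * (g * n * g⁻¹)) * a⁻¹ := by rw [h2]
        _ = (g * n * g⁻¹) * a⁻¹ := by group
    calc g⁻¹ * a⁻¹ * g * a * n = g⁻¹ * a⁻¹ * g * (a * n) := by group
      _ = g⁻¹ * a⁻¹ * g * (n * a) := by rw [h1]
      _ = g⁻¹ * (a⁻¹ * (g * n * g⁻¹)) * g * a := by group
      _ = g⁻¹ * ((g * n * g⁻¹) * a⁻¹) * g * a := by rw [h2']
      _ = n * (g⁻¹ * a⁻¹ * g * a) := by group
  intro x hx
  exact Subgroup.mem_centralizer_singleton_iff.1 (hle hx)

open scoped IsMulCommutative in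
theorem TRANSFER (h : Hyp a r G τ)
    (hcoset : ∀ g ∈ G, ∃ k ∈ R a G, (g * k) * a = a * (g * k))
    (m : ℕ) (hm : Odd m) (hRm : ∀ x ∈ R a G, x ^ m ∈ N0 a G) :
    Odd (Nat.card (R a G)) := by
  classical
  -- the central subgroup Z of ↥R
  let Z : Subgroup ↥(R a G) := (N0 a G).subgroupOf (R a G)
  have hZc : ∀ z ∈ Z, ∀ x : ↥(R a G), x * z = z * x := by
    intro z hz x
    ext
    exact TRANSFER.aux_cent (z : X) (Subgroup.mem_subgroupOf.1 hz) x x.2
  have : IsMulCommutative Z := ⟨⟨fun z w => Subtype.ext (hZc w w.2 z)⟩⟩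
  have hZn : Z.Normal := by
    constructor
    intro z hz x
    have : x * z * x⁻¹ = z := by rw [hZc z hz x]; group
    rw [this]; exact hz
  -- index of Z is odd
  have hidx : Odd Z.index := by
    rw [← Nat.not_even_iff_odd, even_iff_two_dvd]
    intro h2
    rw [Subgroup.index_eq_card] at h2
    haveI : Fact (Nat.Prime 2) := ⟨Nat.prime_two⟩
    obtain ⟨q, hq⟩ := exists_prime_orderOf_dvd_card' (G := ↥(R a G) ⧸ Z) 2 h2
    obtain ⟨x, rfl⟩ := QuotientGroup.mk_surjective q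
    have h1 : ((x : ↥(R a G) ⧸ Z)) ^ m = 1 := by
      rw [← QuotientGroup.mk_pow, QuotientGroup.eq_one_iff]
      exact Subgroup.mem_subgroupOf.2 (hRm x x.2)
    have h3 := orderOf_dvd_of_pow_eq_one h1
    rw [hq] at h3
    exact (Nat.not_even_iff_odd.2 hm) (even_iff_two_dvd.2 h3)
  -- the transfer
  have key : ∀ (g : ↥(R a G)) (k : ℕ) (g₀ : ↥(R a G)), g₀⁻¹ * g ^ k * g₀ ∈ Z →
      g₀⁻¹ * g ^ k * g₀ = g ^ k := by
    intro g k g₀ hk
    have e := hZc _ hk g₀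
    calc g₀⁻¹ * g ^ k * g₀ = (g₀⁻¹ * g ^ k * g₀) * g₀ * g₀⁻¹ := by group
      _ = g₀ * (g₀⁻¹ * g ^ k * g₀) * g₀⁻¹ := by rw [← e]
      _ = g ^ k := by group
  let V : ↥(R a G) →* ↥Z := MonoidHom.transfer (MonoidHom.id ↥Z)
  have hV : ∀ g : ↥(R a G), ((V g : ↥(R a G)) : X) = (g : X) ^ Z.index := by
    intro g
    have := MonoidHom.transfer_eq_pow (MonoidHom.id ↥Z) g (key g)
    show (((MonoidHom.transfer (MonoidHom.id ↥Z) g : ↥Z) : ↥(R a G)) : X) = _
    rw [this]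
    simp
  -- V kills every generator
  have hgen : ∀ g ∈ G, ∀ (hx : g⁻¹ * a⁻¹ * g * a ∈ R a G), V ⟨g⁻¹ * a⁻¹ * g * a, hx⟩ = 1 := by
    intro g hg hx
    obtain ⟨k, hk, hka⟩ := hcoset g hg
    have hka' : a⁻¹ * (g * k) = (g * k) * a⁻¹ := by
      calc a⁻¹ * (g * k) = a⁻¹ * ((g * k) * a) * a⁻¹ := by group
        _ = a⁻¹ * (a * (g * k)) * a⁻¹ := by rw [hka]
        _ = (g * k) * a⁻¹ := by group
    have hkaR : a⁻¹ * k * a ∈ R a G := R_ainv h k hk
    -- x = k * (a⁻¹ k a)⁻¹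
    have e1 : g⁻¹ * a⁻¹ * g * a = k * (a⁻¹ * k * a)⁻¹ := by
      calc g⁻¹ * a⁻¹ * g * a = k * (g * k)⁻¹ * (a⁻¹ * (g * k)) * k⁻¹ * a := by group
        _ = k * (g * k)⁻¹ * ((g * k) * a⁻¹) * k⁻¹ * a := by rw [hka']
        _ = k * (a⁻¹ * k * a)⁻¹ := by group
    have e2 : (⟨g⁻¹ * a⁻¹ * g * a, hx⟩ : ↥(R a G)) = ⟨k, hk⟩ * (⟨a⁻¹ * k * a, hkaR⟩)⁻¹ := by
      ext; exact e1
    rw [e2, map_mul, map_inv]
    have e3 : V ⟨a⁻¹ * k * a, hkaR⟩ = V ⟨k, hk⟩ := by
      ext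
      rw [hV, hV]
      show (a⁻¹ * k * a) ^ Z.index = k ^ Z.index
      have h1 : (k ^ Z.index) ∈ N0 a G := by
        have := (V ⟨k, hk⟩).2
        rw [Subgroup.mem_subgroupOf, hV] at this
        exact this
      have h2 := N0_comm_a h1
      calc (a⁻¹ * k * a) ^ Z.index = a⁻¹ * k ^ Z.index * a := by
            have := conj_pow (a := a⁻¹) (b := k) (i := Z.index)
            rw [inv_inv] at this
            exact this
        _ = a⁻¹ * (k ^ Z.index * a) := by group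
        _ = a⁻¹ * (a * k ^ Z.index) := by rw [h2]
        _ = k ^ Z.index := by group
    rw [e3, mul_inv_cancel]
  -- hence V is trivial, so every element of R has odd order dividing the index
  have hker : ∀ x : ↥(R a G), V x = 1 := by
    have hle : R a G ≤ (V.ker).map (R a G).subtype := by
      conv_lhs => unfold R
      rw [Subgroup.closure_le]
      rintro x ⟨g, hg, rfl⟩
      exact ⟨⟨_, gen_mem_R hg⟩, hgen g hg (gen_mem_R hg), rfl⟩
    intro x
    obtain ⟨y, hy, hyx⟩ := hle x.2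
    have : y = x := Subtype.ext hyx
    rw [← this]; exact hy
  have hpow : ∀ x ∈ R a G, x ^ Z.index = 1 := by
    intro x hx
    have := hV ⟨x, hx⟩
    rw [hker] at this
    exact this.symm
  rw [← Nat.not_even_iff_odd, even_iff_two_dvd]
  intro h2
  haveI : Fact (Nat.Prime 2) := ⟨Nat.prime_two⟩
  obtain ⟨y, hy⟩ := exists_prime_orderOf_dvd_card' (G := ↥(R a G)) 2 h2
  have h3 : y ^ Z.index = 1 := by
    ext
    exact hpow y y.2
  have h4 := orderOf_dvd_of_pow_eq_one h3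
  rw [hy] at h4
  exact (Nat.not_even_iff_odd.2 hidx) (even_iff_two_dvd.2 h4)

end Cfsg.Agent.S3067P
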