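import Mathlib
import Cfsg.Agent.Helper24.S3067Defs
import Cfsg.Agent.Helper24.S3067L3ASM
import Cfsg.Agent.Helper28.S3067CONV
import Cfsg.Agent.Helper25.S3067JH
import Cfsg.Agent.Helper1.S3067END
import Cfsg.Agent.Helper11.S3067COSET
import Cfsg.Agent.Helper24.S3067TRANSFER

set_option autoImplicit false

namespace Cfsg.Agent.S3067P

variable {X : Type*} [Group X] [Finite X]

/-- conjugation by `a` as an automorphism of `↥G`. -/
noncomputable def MAIN.conjAut (a : X) (G : Subgroup X) (hn : ∀ g ∈ G, a⁻¹ * g * a ∈ G)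
    (hn' : ∀ g ∈ G, a * g * a⁻¹ ∈ G) : ↥G ≃* ↥G where
  toFun g := ⟨a⁻¹ * g * a, hn g g.2⟩
  invFun g := ⟨a * g * a⁻¹, hn' g g.2⟩
  left_inv g := by ext; simp [mul_assoc]
  right_inv g := by ext; simp [mul_assoc]
  map_mul' g k := by ext; simp [mul_assoc]

theorem MAIN (a : X) (r : ℕ) : ∀ n : ℕ, ∀ (G : Subgroup X) (τ : X), Nat.card G = n → Hyp a r G τ →
    Odd (Nat.card (R a G)) := by
  intro n
  induction n using Nat.strong_induction_on with
  | _ n ih =>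
  intro G τ hn h
  have IH : ∀ (W : Subgroup X) (τ' : X), Nat.card W < Nat.card G → Hyp a r W τ' →
      Odd (Nat.card (R a W)) := fun W τ' hlt hW => ih (Nat.card W) (hn ▸ hlt) W τ' rfl hW
  have hL3 := fun g₁ hg₁ g₂ hg₂ hx => L3 h IH g₁ g₂ hg₁ hg₂ hx
  have hCONV := fun g hg g' hg' heq => CONV h hL3 g g' hg hg' heq
  have hJH := fun h₀ hh₀ hc => JH h hCONV h₀ hh₀ hc
  have hτinv : τ⁻¹ = τ := inv_eq_of_mul_eq_one_left h.hτ2
  have hτa := comm_τ_a h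
  by_cases hτN : τ ∈ N0 a G
  · -- then every conjugate of a equals a, R = ⊥
    have hR : R a G = ⊥ := by
      unfold R
      rw [Subgroup.closure_eq_bot_iff]
      rintro x ⟨g, hg, rfl⟩
      have hc : Commute (1⁻¹ * τ * 1) (g⁻¹ * a * g) := by
        rw [inv_one, one_mul, mul_one]
        exact hτN.2 g hg
      have := FUSION h 1 g G.one_mem hg hc
      rw [inv_one, one_mul, mul_one] at this
      show g⁻¹ * a⁻¹ * g * a = 1
      calc g⁻¹ * a⁻¹ * g * a = (g⁻¹ * a * g)⁻¹ * a := by group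
        _ = 1 := by rw [← this]; group
    rw [hR]
    simp
  · -- the quotient argument
    let N : Subgroup ↥G := (N0 a G).subgroupOf G
    have hNn : N.Normal := by
      constructor
      intro n hn g
      rw [Subgroup.mem_subgroupOf] at hn ⊢
      have := N0_conj_mem (g := (g : X)⁻¹) hn (G.inv_mem g.2)
      simpa using this
    let t : ↥G := ⟨τ, h.hτG⟩
    let φ : ↥G ≃* ↥G := MAIN.conjAut a G h.hnorm h.hnorm'
    have ht2 : t * t = 1 := by ext; exact h.hτ2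
    have htN : t ∉ N := by
      intro h1; exact hτN (Subgroup.mem_subgroupOf.1 h1)
    have hφN : ∀ n ∈ N, φ n ∈ N := by
      intro n hn
      rw [Subgroup.mem_subgroupOf] at hn ⊢
      show a⁻¹ * (n : X) * a ∈ N0 a G
      have := N0_comm_a hn
      have e : a⁻¹ * (n : X) * a = n := by
        calc a⁻¹ * (n : X) * a = a⁻¹ * (n * a) := by group
          _ = a⁻¹ * (a * n) := by rw [this]
          _ = n := by group
      rw [e]; exact hn
    have hφt : φ t = t := by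
      ext
      show a⁻¹ * τ * a = τ
      calc a⁻¹ * τ * a = a⁻¹ * (τ * a) := by group
        _ = a⁻¹ * (a * τ) := by rw [hτa]
        _ = τ := by group
    have hiso : ∀ g : ↥G, (g * t * g⁻¹) * t * (g * t * g⁻¹)⁻¹ * t⁻¹ ∈ N → (g * t * g⁻¹) * t⁻¹ ∈ N := by
      intro g hg
      rw [Subgroup.mem_subgroupOf] at hg ⊢
      -- ρ = g τ g⁻¹
      set ρ : X := (g : X) * τ * (g : X)⁻¹ with hρ
      have hρG : ρ ∈ G := G.mul_mem (G.mul_mem g.2 h.hτG) (G.inv_mem g.2)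
      have hg' : ρ * τ * ρ⁻¹ * τ⁻¹ ∈ N0 a G := hg
      -- ρ τ ρ⁻¹ = n τ commutes with a
      have hc1 : Commute (ρ * τ * ρ⁻¹) a := by
        have h1 := N0_comm_a hg'
        show ρ * τ * ρ⁻¹ * a = a * (ρ * τ * ρ⁻¹)
        calc ρ * τ * ρ⁻¹ * a = (ρ * τ * ρ⁻¹ * τ⁻¹) * (τ * a) := by group
          _ = (ρ * τ * ρ⁻¹ * τ⁻¹) * (a * τ) := by rw [hτa]
          _ = ((ρ * τ * ρ⁻¹ * τ⁻¹) * a) * τ := by group
          _ = (a * (ρ * τ * ρ⁻¹ * τ⁻¹)) * τ := by rw [h1]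
          _ = a * (ρ * τ * ρ⁻¹) := by group
      have hρa : ρ⁻¹ * a = a * ρ⁻¹ := by
        apply mem_H_of_comm h ρ⁻¹ (G.inv_mem hρG)
        simpa using hc1
      -- ρ = (g⁻¹)⁻¹ τ g⁻¹ commutes with a
      have hρa' : Commute ((g : X)⁻¹⁻¹ * τ * (g : X)⁻¹) a := by
        have : (g : X)⁻¹⁻¹ * τ * (g : X)⁻¹ = ρ := by rw [hρ]; group
        rw [this]
        show ρ * a = a * ρ
        calc ρ * a = ρ * (a * ρ⁻¹) * ρ := by group
          _ = ρ * (ρ⁻¹ * a) * ρ := by rw [hρa]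
          _ = a * ρ := by group
      have h2 := hJH _ (G.inv_mem g.2) hρa'
      have h3 : (g : X)⁻¹⁻¹ * τ * (g : X)⁻¹ = ρ := by rw [hρ]; group
      rw [h3] at h2
      -- τ ρ ∈ N0 ⇒ ρ τ⁻¹ = (τ ρ)⁻¹ ∈ N0  (ρ⁻¹ = ρ)
      have hρ2 : ρ * ρ = 1 := by
        calc ρ * ρ = (g : X) * (τ * τ) * (g : X)⁻¹ := by rw [hρ]; group
          _ = 1 := by rw [h.hτ2]; group
      have hρinv : ρ⁻¹ = ρ := inv_eq_of_mul_eq_one_left hρ2
      have h4 : ρ * τ⁻¹ = (τ * ρ)⁻¹ := by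
        rw [mul_inv_rev, hρinv]
      have : (↑(g * t * g⁻¹ * t⁻¹) : X) = ρ * τ⁻¹ := by simp [hρ, t]
      rw [this, h4]
      exact (N0 a G).inv_mem h2
    obtain ⟨M, hMn, ⟨m, hm, hMm⟩, hMφ, hdec⟩ := END N t ht2 htN φ hφN hφt hiso
    -- every commutator [g,a] lies in M (as an element of G)
    have hcomm_mem : ∀ g : ↥G, (⟨(g : X)⁻¹ * a⁻¹ * g * a, by
        have : (g : X)⁻¹ * a⁻¹ * g * a = (g : X)⁻¹ * (a⁻¹ * g * a) := by group
        rw [this]; exact G.mul_mem (G.inv_mem g.2) (h.hnorm g g.2)⟩ : ↥G) ∈ M := by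
      intro g
      obtain ⟨x, hxM, hxg⟩ := hdec g
      -- c = x⁻¹ g satisfies c τ c⁻¹ τ⁻¹ ∈ N0, so c centralises a
      set c : ↥G := x⁻¹ * g with hc
      rw [Subgroup.mem_subgroupOf] at hxg
      have hxg' : (c : X) * τ * (c : X)⁻¹ * τ⁻¹ ∈ N0 a G := hxg
      have hc1 : Commute ((c : X)⁻¹⁻¹ * τ * (c : X)⁻¹) a := by
        have h1 := N0_comm_a hxg'
        show (c : X)⁻¹⁻¹ * τ * (c : X)⁻¹ * a = a * ((c : X)⁻¹⁻¹ * τ * (c : X)⁻¹)
        calc (c : X)⁻¹⁻¹ * τ * (c : X)⁻¹ * a = ((c : X) * τ * (c : X)⁻¹ * τ⁻¹) * (τ * a) := by group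
          _ = ((c : X) * τ * (c : X)⁻¹ * τ⁻¹) * (a * τ) := by rw [hτa]
          _ = (((c : X) * τ * (c : X)⁻¹ * τ⁻¹) * a) * τ := by group
          _ = (a * ((c : X) * τ * (c : X)⁻¹ * τ⁻¹)) * τ := by rw [h1]
          _ = a * ((c : X)⁻¹⁻¹ * τ * (c : X)⁻¹) := by group
      have hca : (c : X)⁻¹ * a = a * (c : X)⁻¹ := mem_H_of_comm h _ (G.inv_mem c.2) hc1
      have hca' : (c : X) * a = a * (c : X) := by
        calc (c : X) * a = (c : X) * (a * (c : X)⁻¹) * c := by group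
          _ = (c : X) * ((c : X)⁻¹ * a) * c := by rw [hca]
          _ = a * c := by group
      -- g = x c, [g,a] = c⁻¹ (x⁻¹ φ(x)) c
      have hgx : g = x * c := by rw [hc]; group
      have hφx : φ x ∈ M := hMφ x hxM
      have key : (⟨(g : X)⁻¹ * a⁻¹ * g * a, by
        have : (g : X)⁻¹ * a⁻¹ * g * a = (g : X)⁻¹ * (a⁻¹ * g * a) := by group
        rw [this]; exact G.mul_mem (G.inv_mem g.2) (h.hnorm g g.2)⟩ : ↥G) = c⁻¹ * (x⁻¹ * φ x) * c⁻¹⁻¹ := by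
        ext
        have e1 : ((φ x : ↥G) : X) = a⁻¹ * x * a := rfl
        have e2 : (g : X) = x * c := by rw [hgx]; rfl
        simp only [Subgroup.coe_mul, Subgroup.coe_inv, e1, e2]
        calc ((x : X) * c)⁻¹ * a⁻¹ * (x * c) * a = (c : X)⁻¹ * (x : X)⁻¹ * a⁻¹ * x * ((c : X) * a) := by group
          _ = (c : X)⁻¹ * (x : X)⁻¹ * a⁻¹ * x * (a * (c : X)) := by rw [hca']
          _ = (c : X)⁻¹ * ((x : X)⁻¹ * (a⁻¹ * x * a)) * (c : X)⁻¹⁻¹ := by group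
      rw [key]
      exact hMn.conj_mem _ (M.mul_mem (M.inv_mem hxM) hφx) c⁻¹
    -- hence R ≤ M.map subtype, and x^m ∈ N0 for x ∈ R
    have hRM : R a G ≤ M.map G.subtype := by
      unfold R
      rw [Subgroup.closure_le]
      rintro x ⟨g, hg, rfl⟩
      exact ⟨_, hcomm_mem ⟨g, hg⟩, rfl⟩
    have hRm : ∀ x ∈ R a G, x ^ m ∈ N0 a G := by
      intro x hx
      obtain ⟨y, hyM, rfl⟩ := hRM hx
      have := hMm y hyM
      rw [Subgroup.mem_subgroupOf] at this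
      simpa using this
    exact TRANSFER h (fun g hg => COSET h g hg) m hm hRm

end Cfsg.Agent.S3067P
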