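import Mathlib
import Cfsg.Agent.Helper16.S3174Defs
import Cfsg.Agent.Helper13.S3174AUT2

set_option autoImplicit false

namespace Cfsg.Agent.S3174P

/-- ODDC: odd-order elements of `N_G(T)` centralize `T` -/
theorem oddc {G : Type*} [Group G] [Finite G] (T : Sylow 2 G) (W : Subgroup ↥(T : Subgroup G))
    (c : Cfg ↥(T : Subgroup G) W) :
    ∀ g ∈ Subgroup.normalizer ((T : Subgroup G) : Set G), Odd (orderOf g) →
      ∀ x ∈ (T : Subgroup G), g * x * g⁻¹ = x := by
  intro g hg hodd x hx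
  have hN : ∀ h, h ∈ (T : Subgroup G) ↔ g * h * g⁻¹ ∈ (T : Subgroup G) := by
    intro h
    exact (Subgroup.mem_normalizer_iff.mp hg) h
  have hN' : ∀ h, h ∈ (T : Subgroup G) → g⁻¹ * h * g ∈ (T : Subgroup G) := by
    intro h hh
    refine (hN (g⁻¹ * h * g)).mpr ?_
    have : g * (g⁻¹ * h * g) * g⁻¹ = h := by group
    rw [this]; exact hh
  -- the automorphism induced by `g`
  let α : MulAut ↥(T : Subgroup G) :=
    { toFun := fun y => ⟨g * y.1 * g⁻¹, (hN y.1).mp y.2⟩
      invFun := fun y => ⟨g⁻¹ * y.1 * g, hN' y.1 y.2⟩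
      left_inv := fun y => by
        apply Subtype.ext
        show g⁻¹ * (g * y.1 * g⁻¹) * g = y.1
        group
      right_inv := fun y => by
        apply Subtype.ext
        show g * (g⁻¹ * y.1 * g) * g⁻¹ = y.1
        group
      map_mul' := fun y z => by
        apply Subtype.ext
        show g * (y.1 * z.1) * g⁻¹ = (g * y.1 * g⁻¹) * (g * z.1 * g⁻¹)
        group }
  have hα1 : ∀ y : ↥(T : Subgroup G), ((α y : ↥(T : Subgroup G)) : G) = g * y.1 * g⁻¹ := fun _ => rfl
  have hpow : ∀ k : ℕ, ∀ y : ↥(T : Subgroup G),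
      (((α ^ k) y : ↥(T : Subgroup G)) : G) = g ^ k * y.1 * (g ^ k)⁻¹ := by
    intro k
    induction k with
    | zero => intro y; simp
    | succ k ih =>
      intro y
      rw [pow_succ, MulAut.mul_apply, ih, hα1, pow_succ]
      group
  have hα : α ^ orderOf g = 1 := by
    apply MulEquiv.ext
    intro y
    apply Subtype.ext
    rw [hpow, pow_orderOf_eq_one]
    simp
  have h1 : α = 1 := aut2 c α (orderOf g) hodd hα
  have h2 : ((α ⟨x, hx⟩ : ↥(T : Subgroup G)) : G) = x := by
    rw [h1]; rfl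
  rw [hα1] at h2
  exact h2

end Cfsg.Agent.S3174P
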