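import Mathlib
import Cfsg.Prelude.Def_Classical
import Cfsg.Agent.Helper6.S3439.Defs
import Cfsg.Agent.Helper24.S3439CUBE

/-! S3439 piece FIX2 (driver helper6): the fixed points of the involutions `Tm ξ 2` have exponent 3. -/

set_option autoImplicit false

namespace Cfsg.Agent.S3439P

open N7

variable {K : Type*} [Field K] [CharP K 3]

/-- FIX2 (S-M) -/
theorem fix_two (ξ : K) (hξ : ξ ^ 5 = 1) (g : N7 K) (h : Tm ξ 2 g = g) : g ^ 3 = 1 := by
  have hξ0 : ξ ≠ 0 := by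
    intro h0
    rw [h0] at hξ
    norm_num at hξ
  have ha : ξ * g.a ^ 9 = g.a := by
    have := congrArg N7.a h
    rw [Tm_a, fr_apply] at this
    norm_num at this
    exact this
  have hb : ξ * g.b ^ 9 = g.b := by
    have := congrArg N7.b h
    rw [Tm_b, fr_apply] at this
    norm_num at this
    exact this
  have ha3 : ξ ^ 3 * g.a ^ 27 = g.a ^ 3 := by
    calc ξ ^ 3 * g.a ^ 27 = (ξ * g.a ^ 9) ^ 3 := by ring
      _ = g.a ^ 3 := by rw [ha]
  have hb3 : ξ ^ 3 * g.b ^ 27 = g.b ^ 3 := by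
    calc ξ ^ 3 * g.b ^ 27 = (ξ * g.b ^ 9) ^ 3 := by ring
      _ = g.b ^ 3 := by rw [hb]
  have hz : ξ ^ 3 * (g.a ^ 27 * g.a * g.b ^ 3 - g.a ^ 3 * g.a * g.b ^ 27) = 0 := by
    linear_combination (g.a * g.b ^ 3) * ha3 - (g.a ^ 3 * g.a) * hb3
  have hz' : g.a ^ 27 * g.a * g.b ^ 3 - g.a ^ 3 * g.a * g.b ^ 27 = 0 := by
    rcases mul_eq_zero.1 hz with h0 | h0
    · exact absurd h0 (pow_ne_zero 3 hξ0)
    · exact h0
  rw [cube_eq]
  ext <;> simp only [one_a, one_b, one_p1, one_p2, one_c1, one_c2, one_z]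
  rw [fr_apply, fr_apply, fr_apply, fr_apply]
  norm_num
  exact hz'

end Cfsg.Agent.S3439P
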