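import Mathlib
import Cfsg.Agent.Helper22.ConjCover
import Cfsg.Agent.Helper29.S3501CRIT

set_option autoImplicit false
set_option linter.unusedSectionVars false

/-! # S3501, piece PRODCASE: product type with `m ≥ 2` contradicts "one class of derangements". -/

namespace Cfsg.Agent.S3501P

open MulAction Pointwise

/-- A factor of a finite power is finite (private copy of FINT). -/
theorem PRODCASE.aux_fin {N T : Type*} [Group N] [Finite N] [Group T] {m : ℕ} (i : Fin m)
    (e : N ≃* (Fin m → T)) : Finite T := by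
  classical
  have hinj : Function.Injective fun t : T => e.symm (Pi.mulSingle i t) := by
    intro s t hst
    have h1 : (Pi.mulSingle i s : Fin m → T) = Pi.mulSingle i t := e.symm.injective hst
    exact Pi.mulSingle_injective i h1
  exact Finite.of_injective _ hinj

/-- `single i t` and `single i t * single j t'` are not `G`-conjugate (private copy of TWOSINGLE). -/
theorem PRODCASE.aux_notconj {G : Type*} [Group G] [Finite G] (N : Subgroup G) [N.Normal]
    {T : Type} [Group T] [IsSimpleGroup T]
    (hT : ¬ IsMulCommutative T) {m : ℕ} (e : N ≃* (Fin m → T)) (i j : Fin m) (hij : i ≠ j) (t t' : T)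
    (ht' : t' ≠ 1) :
    ¬ IsConj ((e.symm (Pi.mulSingle i t) : N) : G)
      ((e.symm (Pi.mulSingle i t * Pi.mulSingle j t') : N) : G) := by
  classical
  intro hc
  obtain ⟨g, hg⟩ := isConj_iff.mp hc
  have hcard := CRIT.card_centralizer_eq N _ _ g hg
  -- an element not commuting with `t'`
  obtain ⟨s, hs⟩ : ∃ s : T, s * t' ≠ t' * s := by
    by_contra hall
    push Not at hall
    have hmem : t' ∈ Subgroup.center T := by
      rw [Subgroup.mem_center_iff]
      intro s
      exact hall s
    have hne : Subgroup.center T ≠ ⊥ := by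
      intro h
      rw [h, Subgroup.mem_bot] at hmem
      exact ht' hmem
    have htop : Subgroup.center T = ⊤ :=
      ((Subgroup.center T).normal_of_characteristic.eq_bot_or_eq_top).resolve_left hne
    apply hT
    refine ⟨⟨fun x y => ?_⟩⟩
    have hy : y ∈ Subgroup.center T := by rw [htop]; trivial
    exact (Subgroup.mem_center_iff.mp hy) x
  have hle : Subgroup.centralizer ({e.symm (Pi.mulSingle i t * Pi.mulSingle j t')} : Set N) ≤
      Subgroup.centralizer ({e.symm (Pi.mulSingle i t)} : Set N) := by
    intro z hz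
    rw [Subgroup.mem_centralizer_singleton_iff] at hz ⊢
    apply e.injective
    have h1 := congrArg e hz
    simp only [map_mul, MulEquiv.apply_symm_apply] at h1 ⊢
    funext k
    by_cases hk : k = i
    · subst hk
      have h2 := congrFun h1 k
      simpa [Pi.mulSingle_eq_of_ne hij] using h2
    · simp [Pi.mulSingle_eq_of_ne hk]
  have heq := Subgroup.eq_of_le_of_card_ge hle (le_of_eq hcard)
  have hw : e.symm (Pi.mulSingle j s) ∈
      Subgroup.centralizer ({e.symm (Pi.mulSingle i t)} : Set N) := by
    rw [Subgroup.mem_centralizer_singleton_iff, ← map_mul, ← map_mul]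
    congr 1
    exact ((Pi.mulSingle_commute (f := fun _ : Fin m => T) hij t s).eq).symm
  rw [← heq, Subgroup.mem_centralizer_singleton_iff] at hw
  have h1 := congrFun (congrArg e hw) j
  simp only [map_mul, MulEquiv.apply_symm_apply] at h1
  apply hs
  have hji : j ≠ i := fun h => hij h.symm
  simpa [Pi.mulSingle_eq_of_ne hji] using h1

section
variable {G : Type*} [Group G] [Finite G] {Ω : Type*} [Fintype Ω] [MulAction G Ω] [FaithfulSMul G Ω]

/-- PRODCASE: product type with `m ≥ 2` contradicts "one class". -/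
theorem PRODCASE (N : Subgroup G) [N.Normal] [IsPretransitive N Ω] (a : Ω) {T : Type} [Group T]
    [IsSimpleGroup T] (hT : ¬ IsMulCommutative T) {m : ℕ} (hm : 2 ≤ m) (e : N ≃* (Fin m → T))
    (K : Fin m → Subgroup T) (hK : ∀ i, K i ≠ ⊤)
    (hstab : ∀ n : N, (n : G) ∈ stabilizer G a ↔ ∀ i, e n i ∈ K i)
    (hone : ∀ x y : G, (∀ ω : Ω, x • ω ≠ ω) → (∀ ω : Ω, y • ω ≠ ω) → IsConj x y) : False := by
  classical
  let i : Fin m := ⟨0, by omega⟩
  let j : Fin m := ⟨1, by omega⟩
  have hij : i ≠ j := by
    intro h
    have := congrArg Fin.val h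
    simp [i, j] at this
  have hji : j ≠ i := fun h => hij h.symm
  have : Finite T := PRODCASE.aux_fin i e
  -- `t` in no conjugate of `K i`
  obtain ⟨t, ht⟩ := Cfsg.Agent.Helper22.exists_not_mem_conj (K i) (hK i)
  have ht' : ∀ g : T, g⁻¹ * t * g ∉ K i := by
    intro g hg
    apply ht g
    rw [Subgroup.mem_pointwise_smul_iff_inv_smul_mem]
    simpa [MulAut.smul_def, mul_assoc] using hg
  obtain ⟨t', ht'1⟩ := exists_ne (1 : T)
  -- the two derangements
  have hx : ∀ ω : Ω, ((e.symm (Pi.mulSingle i t) : N) : G) • ω ≠ ω := by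
    rw [CRIT.prod N a e K hstab]
    refine ⟨i, fun g => ?_⟩
    simpa using ht' g
  have hx' : ∀ ω : Ω, ((e.symm (Pi.mulSingle i t * Pi.mulSingle j t') : N) : G) • ω ≠ ω := by
    rw [CRIT.prod N a e K hstab]
    refine ⟨i, fun g => ?_⟩
    simpa [Pi.mulSingle_eq_of_ne hij] using ht' g
  exact PRODCASE.aux_notconj N hT e i j hij t t' ht'1 (hone _ _ hx hx')

end

end Cfsg.Agent.S3501P
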