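import Mathlib
import Cfsg.Agent.Helper6.S3626.Defs

/-! S3626 piece CHARP (driver helper6). -/

set_option autoImplicit false

namespace Cfsg.Agent.S3626P

open Matrix

variable {K : Type*} [Field K] [Fintype K] {m : ℕ}

/-- CHARP -/
theorem charP_three (hK : Fintype.card K = 3 ^ (2 * m + 1)) : CharP K 3 := by
  obtain ⟨p, hp⟩ := CharP.exists K
  obtain ⟨n, hpp, hn⟩ := FiniteField.card K p
  have h1 : p ∣ 3 ^ (2 * m + 1) := by
    rw [← hK, hn]
    exact dvd_pow_self p n.ne_zero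
  have h2 : p ∣ 3 := hpp.dvd_of_dvd_pow h1
  have h3 : p = 3 := (Nat.prime_dvd_prime_iff_eq hpp Nat.prime_three).1 h2
  rw [← h3]
  exact hp

end Cfsg.Agent.S3626P
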