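import Mathlib
import Cfsg.Agent.Helper6.S3626.Defs

/-! S3626 piece KER (driver helper6): the kernel of the action of `SL₂` on `M₂(K)` is `±1`. -/

set_option autoImplicit false

namespace Cfsg.Agent.S3626P

open Matrix

variable {K : Type*} [Field K]

/-- KER: the kernel of the action of `SL₂` is `±1` -/
theorem eq_pm_one_of_lin_eq_id (φ : K →+* K) (g : Matrix.SpecialLinearGroup (Fin 2) K)
    (h : ∀ X, lin φ 1 (g : Matrix (Fin 2) (Fin 2) K) X = X) :
    (g : Matrix (Fin 2) (Fin 2) K) = 1 ∨ (g : Matrix (Fin 2) (Fin 2) K) = -1 := by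
  have hφ : ∀ x : K, φ x = 0 → x = 0 := fun x hx => (map_eq_zero φ).1 hx
  set a := (g : Matrix (Fin 2) (Fin 2) K) 0 0 with ha
  set b := (g : Matrix (Fin 2) (Fin 2) K) 0 1 with hb
  set c := (g : Matrix (Fin 2) (Fin 2) K) 1 0 with hc
  set d := (g : Matrix (Fin 2) (Fin 2) K) 1 1 with hd
  have hdet : a * d - b * c = 1 := by
    have := g.2
    rw [Matrix.det_fin_two] at this
    exact this
  have h11 := h !![1, 0; 0, 0]
  have h22 := h !![0, 0; 0, 1]
  have h12 := h !![0, 1; 0, 0]
  have e1 : a * φ a = 1 := by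
    have := congrFun (congrFun h11 0) 0
    simpa [lin, Matrix.mul_apply, Fin.sum_univ_two] using this
  have e2 : c * φ c = 0 := by
    have := congrFun (congrFun h11 1) 1
    simpa [lin, Matrix.mul_apply, Fin.sum_univ_two] using this
  have e3 : b * φ b = 0 := by
    have := congrFun (congrFun h22 0) 0
    simpa [lin, Matrix.mul_apply, Fin.sum_univ_two] using this
  have e4 : a * φ d = 1 := by
    have := congrFun (congrFun h12 0) 1
    simpa [lin, Matrix.mul_apply, Fin.sum_univ_two] using this
  have hc0 : c = 0 := by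
    rcases mul_eq_zero.1 e2 with h0 | h0
    · exact h0
    · exact hφ c h0
  have hb0 : b = 0 := by
    rcases mul_eq_zero.1 e3 with h0 | h0
    · exact h0
    · exact hφ b h0
  have ha0 : a ≠ 0 := by
    intro h0
    rw [h0, zero_mul] at e1
    exact zero_ne_one e1
  have hφad : φ a = φ d := mul_left_cancel₀ ha0 (e1.trans e4.symm)
  have had : a = d := φ.injective hφad
  rw [hb0, hc0, zero_mul, sub_zero, ← had] at hdet
  have haa : a = 1 ∨ a = -1 := mul_self_eq_one_iff.1 hdet
  rcases haa with h1 | h1
  · left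
    ext i j
    fin_cases i <;> fin_cases j
    · show a = _; rw [h1]; simp
    · show b = _; rw [hb0]; simp
    · show c = _; rw [hc0]; simp
    · show d = _; rw [← had, h1]; simp
  · right
    ext i j
    fin_cases i <;> fin_cases j
    · show a = _; rw [h1]; simp
    · show b = _; rw [hb0]; simp
    · show c = _; rw [hc0]; simp
    · show d = _; rw [← had, h1]; simp

end Cfsg.Agent.S3626P
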