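import Mathlib
import Cfsg.Agent.Helper6.S3626.Defs

/-! S3626 piece NOFIX (driver helper6). -/

set_option autoImplicit false

namespace Cfsg.Agent.S3626P

open Matrix

variable {K : Type*} [Field K]

/-- NOFIX: no nonzero fixed point and `lin ^ n = id` give `σ ^ n = 1` -/
theorem pow_eq_one_of_no_fixed (φ : K →+* K) (σ : Equiv.Perm (Matrix (Fin 2) (Fin 2) K)) (e : K)
    (g v : Matrix (Fin 2) (Fin 2) K) (hσ : ∀ X, σ X = aff φ e g v X)
    (hfix : ∀ X, lin φ e g X = X → X = 0) (n : ℕ) (hn : ∀ X, lin φ (e ^ n) (g ^ n) X = X) :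
    σ ^ n = 1 := by
  apply Equiv.ext
  intro X
  rw [pow_apply_of_aff φ σ e g v hσ n X, aff_apply, hn,
    hfix _ (lin_psum_of_pow φ e g v n hn), add_zero, Equiv.Perm.one_apply]

end Cfsg.Agent.S3626P
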