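import Mathlib
import Cfsg.Agent.Helper2.S4130Defs
import Cfsg.Agent.Helper7.S4130DIV

/-!
# S4130 board, row PC1a (helper24): in an (SQ)-group two non-central normal subgroups of the same
prime order coincide.
-/

set_option autoImplicit false

namespace Cfsg.Agent.S4130P

open Subgroup

/-- a subgroup of prime order is generated by each of its non-identity elements -/
theorem PC1a_aux_gen {G : Type*} [Group G] (H : Subgroup G) (t : ℕ) (ht : t.Prime)
    (hH : Nat.card H = t) {x : G} (hx : x ∈ H) (hx1 : x ≠ 1) {y : G} (hy : y ∈ H) :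
    y ∈ zpowers x := by
  have : Fact t.Prime := ⟨ht⟩
  have hne : (⟨x, hx⟩ : ↥H) ≠ 1 := by
    intro h
    exact hx1 (congrArg Subtype.val h)
  have htop := zpowers_eq_top_of_prime_card hH hne
  have hmem : (⟨y, hy⟩ : ↥H) ∈ zpowers (⟨x, hx⟩ : ↥H) := by
    rw [htop]
    exact mem_top _
  obtain ⟨k, hk⟩ := mem_zpowers_iff.mp hmem
  refine mem_zpowers_iff.mpr ⟨k, ?_⟩
  have := congrArg Subtype.val hk
  simpa using this

/-- an element commuting with a non-identity element of a subgroup of prime order centralizes it -/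
theorem PC1a_aux_cen {G : Type*} [Group G] (H : Subgroup G) (t : ℕ) (ht : t.Prime)
    (hH : Nat.card H = t) {h : G} (hh : h ∉ centralizer (H : Set G)) {m : G} (hm : m ∈ H)
    (hc : h * m = m * h) : m = 1 := by
  by_contra hm1
  apply hh
  rw [mem_centralizer_iff]
  intro y hy
  have hy' := PC1a_aux_gen H t ht hH hm hm1 hy
  obtain ⟨k, rfl⟩ := mem_zpowers_iff.mp hy'
  exact ((Commute.zpow_right (show Commute h m from hc) k).eq).symm

/-- a group is not the union of two proper subgroups -/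
theorem PC1a_aux_two {G : Type*} [Group G] (A B : Subgroup G) (hA : A ≠ ⊤) (hB : B ≠ ⊤) :
    ∃ h : G, h ∉ A ∧ h ∉ B := by
  obtain ⟨a, ha⟩ : ∃ a, a ∉ A := by
    by_contra hcon
    push Not at hcon
    exact hA (eq_top_iff.mpr fun x _ => hcon x)
  obtain ⟨b, hb⟩ : ∃ b, b ∉ B := by
    by_contra hcon
    push Not at hcon
    exact hB (eq_top_iff.mpr fun x _ => hcon x)
  by_cases haB : a ∈ B
  · by_cases hbA : b ∈ A
    · refine ⟨a * b, fun h => ha ?_, fun h => hb ?_⟩
      · have := A.mul_mem h (A.inv_mem hbA)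
        simpa using this
      · have := B.mul_mem (B.inv_mem haB) h
        simpa using this
    · exact ⟨b, hbA, hb⟩
  · exact ⟨a, ha, haB⟩

/-- (PC1a) in an (SQ)-group two non-central normal subgroups of the same prime order coincide. -/
theorem PC1a {G : Type*} [Group G] [Finite G] (h : SqfCls G) (N₁ N₂ : Subgroup G)
    [N₁.Normal] [N₂.Normal] (t : ℕ) (ht : t.Prime) (h1 : Nat.card N₁ = t) (h2 : Nat.card N₂ = t)
    (hc1 : ¬ N₁ ≤ center G) (hc2 : ¬ N₂ ≤ center G) : N₁ = N₂ := by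
  by_contra hne
  -- the intersection is trivial
  have hinf : N₁ ⊓ N₂ = ⊥ := by
    rw [eq_bot_iff]
    intro x hx
    rw [mem_bot]
    by_contra hx1
    apply hne
    apply le_antisymm
    · intro y hy
      have := PC1a_aux_gen N₁ t ht h1 hx.1 hx1 hy
      exact (zpowers_le.mpr hx.2) this
    · intro y hy
      have := PC1a_aux_gen N₂ t ht h2 hx.2 hx1 hy
      exact (zpowers_le.mpr hx.1) this
  -- an element outside both centralizers
  have hA : centralizer (N₁ : Set G) ≠ ⊤ := fun hA =>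
    hc1 (centralizer_eq_top_iff_subset.mp hA)
  have hB : centralizer (N₂ : Set G) ≠ ⊤ := fun hB =>
    hc2 (centralizer_eq_top_iff_subset.mp hB)
  obtain ⟨g, hg1, hg2⟩ := PC1a_aux_two _ _ hA hB
  -- the centralizer of `g` meets `N₁ N₂` trivially
  have hmeet : centralizer ({g} : Set G) ⊓ (N₁ ⊔ N₂) = ⊥ := by
    rw [eq_bot_iff]
    intro x hx
    rw [mem_bot]
    obtain ⟨hxc, hxN⟩ := hx
    have hxN' : x ∈ ((N₁ ⊔ N₂ : Subgroup G) : Set G) := hxN
    rw [mul_normal N₁ N₂] at hxN'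
    obtain ⟨n₁, hn₁, n₂, hn₂, rfl⟩ := Set.mem_mul.mp hxN'
    have hcomm : g * (n₁ * n₂) = n₁ * n₂ * g := by
      have hxc' : n₁ * n₂ ∈ centralizer ({g} : Set G) := hxc
      rw [mem_centralizer_iff] at hxc'
      exact hxc' g (Set.mem_singleton g)
    -- `n₁⁻¹ (g n₁ g⁻¹) = n₂ (g n₂ g⁻¹)⁻¹`
    have hkey : n₁⁻¹ * (g * n₁ * g⁻¹) = n₂ * (g * n₂ * g⁻¹)⁻¹ := by
      have e : g * n₁ * g⁻¹ * (g * n₂ * g⁻¹) = n₁ * n₂ := by
        have : g * n₁ * g⁻¹ * (g * n₂ * g⁻¹) = g * (n₁ * n₂) * g⁻¹ := by group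
        rw [this, hcomm]
        group
      have e2 : g * n₁ * g⁻¹ = n₁ * n₂ * (g * n₂ * g⁻¹)⁻¹ := by
        rw [← e]
        group
      rw [e2]
      group
    have hm1 : n₁⁻¹ * (g * n₁ * g⁻¹) ∈ N₁ :=
      N₁.mul_mem (N₁.inv_mem hn₁) (Normal.conj_mem inferInstance n₁ hn₁ g)
    have hm2 : n₁⁻¹ * (g * n₁ * g⁻¹) ∈ N₂ := by
      rw [hkey]
      exact N₂.mul_mem hn₂ (N₂.inv_mem (Normal.conj_mem inferInstance n₂ hn₂ g))
    have hone : n₁⁻¹ * (g * n₁ * g⁻¹) = 1 := by
      have : n₁⁻¹ * (g * n₁ * g⁻¹) ∈ N₁ ⊓ N₂ := ⟨hm1, hm2⟩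
      rw [hinf] at this
      exact mem_bot.mp this
    have hone2 : n₂ * (g * n₂ * g⁻¹)⁻¹ = 1 := by rw [← hkey, hone]
    have hc₁ : g * n₁ = n₁ * g := by
      have : g * n₁ * g⁻¹ = n₁ := by
        have := congrArg (fun z => n₁ * z) hone
        simpa [mul_assoc] using this
      calc g * n₁ = g * n₁ * g⁻¹ * g := by group
        _ = n₁ * g := by rw [this]
    have hc₂ : g * n₂ = n₂ * g := by
      have : g * n₂ * g⁻¹ = n₂ := by
        have h3 : n₂ = g * n₂ * g⁻¹ := by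
          have := congrArg (fun z => z * (g * n₂ * g⁻¹)) hone2
          simpa [mul_assoc] using this
        exact h3.symm
      calc g * n₂ = g * n₂ * g⁻¹ * g := by group
        _ = n₂ * g := by rw [this]
    rw [PC1a_aux_cen N₁ t ht h1 hg1 hn₁ hc₁, PC1a_aux_cen N₂ t ht h2 hg2 hn₂ hc₂, one_mul]
  -- the order of `N₁ N₂`
  have hcard : Nat.card (N₁ ⊔ N₂ : Subgroup G) = t * t := by
    have e1 : N₁.relIndex (N₁ ⊔ N₂) = t := by
      rw [relIndex_sup_left, ← inf_relIndex_right, hinf, relIndex_bot_left, h2]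
    have e2 := relIndex_mul_relIndex (⊥ : Subgroup G) N₁ (N₁ ⊔ N₂) bot_le le_sup_left
    rw [relIndex_bot_left, relIndex_bot_left, h1, e1] at e2
    exact e2.symm
  have hrel : (centralizer ({g} : Set G)).relIndex (N₁ ⊔ N₂) = t * t := by
    rw [← inf_relIndex_right, hmeet, relIndex_bot_left, hcard]
  have hdvd : t * t ∣ (centralizer ({g} : Set G)).index := by
    rw [← hrel]
    exact DIV (N₁ ⊔ N₂) g
  have := h g t hdvd
  exact ht.one_lt.ne' (Nat.isUnit_iff.mp this)

end Cfsg.Agent.S4130P
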