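import Mathlib
import Cfsg.Agent.Helper26.S4394Defs

set_option autoImplicit false
set_option linter.unusedSectionVars false
set_option linter.unusedVariables false

namespace Cfsg.Agent.S4394P

variable {X : Type*} [Group X]

/-- subgroup of relative index two: two cosets. -/
theorem GSd_aux_idx2 (H K : Subgroup X) (h2 : H.relIndex K = 2) {g x : X}
    (hg : g ∈ K) (hgH : g ∉ H) (hx : x ∈ K) : x ∈ H ∨ g⁻¹ * x ∈ H := by
  by_contra hcon
  push Not at hcon
  obtain ⟨hxH, hgx⟩ := hcon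
  have key := Subgroup.mul_mem_iff_of_index_two (H := H.subgroupOf K) h2
    (a := (⟨g⁻¹, K.inv_mem hg⟩ : ↥K)) (b := (⟨x, hx⟩ : ↥K))
  have h1 : (⟨g⁻¹, K.inv_mem hg⟩ : ↥K) ∉ H.subgroupOf K := by
    rw [Subgroup.mem_subgroupOf]
    intro hh
    exact hgH (by simpa using H.inv_mem hh)
  have h2' : (⟨x, hx⟩ : ↥K) ∉ H.subgroupOf K := by
    rw [Subgroup.mem_subgroupOf]; exact hxH
  have h3 : (⟨g⁻¹, K.inv_mem hg⟩ : ↥K) * ⟨x, hx⟩ ∈ H.subgroupOf K := by
    rw [key]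
    exact ⟨fun hh => absurd hh h1, fun hh => absurd hh h2'⟩
  rw [Subgroup.mem_subgroupOf] at h3
  exact hgx h3

/-- conjugation by a power. -/
theorem GSd_aux_conj_pow (u x : X) (k : ℕ) (A : Subgroup X)
    (hinv : ∀ x ∈ A, u * x * u⁻¹ ∈ A) (hx : x ∈ A) : u ^ k * x * (u ^ k)⁻¹ ∈ A := by
  induction k generalizing x with
  | zero => simpa using hx
  | succ k ih =>
    have h1 := ih (u * x * u⁻¹) (hinv x hx)
    have : u ^ (k + 1) * x * (u ^ (k + 1))⁻¹ = u ^ k * (u * x * u⁻¹) * (u ^ k)⁻¹ := by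
      rw [pow_succ]; group
    rw [this]; exact h1

/-- GSd with the needed consequences of GSb and GSc as hypotheses. -/
theorem GSd_aux {P : Subgroup X} {y : X}
    (h : SchData 2 P y)
    (hb1 : ∀ u ∈ P, ∀ v ∈ P, u * v * u⁻¹ * v⁻¹ ∈ P ⊓ Subgroup.centralizer {y})
    (hb3 : ∀ c ∈ P ⊓ Subgroup.centralizer {y}, ∀ u ∈ P, c * u = u * c)
    (hc : ∀ x ∈ P, x ∉ Subgroup.centralizer {y} → ∀ z ∈ P ⊓ Subgroup.centralizer {y},
      ∃ t ∈ P, x * t * x⁻¹ * t⁻¹ = z)
    (hidx : (P ⊓ Subgroup.centralizer {y}).relIndex P = 4)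
    (A : Subgroup X) (hAP : A ≤ P) (hCA : P ⊓ Subgroup.centralizer {y} ≤ A) (hA : A.relIndex P = 2)
    (N : Subgroup X) (hN : N ≤ P ⊓ Subgroup.centralizer {y}) (hNC : N ≠ P ⊓ Subgroup.centralizer {y}) :
    ∃ a ∈ A, a ^ 2 ∉ N := by
  by_contra hcon
  push Not at hcon
  set C : Subgroup X := P ⊓ Subgroup.centralizer {y} with hCdef
  have hCP : C ≤ P := inf_le_left
  -- elements of C commute with y
  have hCy : ∀ c ∈ C, y * c * y⁻¹ = c := by
    intro c hc'
    have h1 : c ∈ Subgroup.centralizer ({y} : Set X) := hc'.2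
    rw [Subgroup.mem_centralizer_iff] at h1
    have h2 : y * c = c * y := h1 y (Set.mem_singleton y)
    rw [h2]; group
  have hCy' : ∀ c ∈ C, y⁻¹ * c * y = c := by
    intro c hc'
    have := hCy c hc'
    calc y⁻¹ * c * y = y⁻¹ * (y * c * y⁻¹) * y := by rw [this]
      _ = c := by group
  -- F1: C has relative index 2 in A
  have hCA2 : C.relIndex A = 2 := by
    have := Subgroup.relIndex_mul_relIndex (H := C) (K := A) (L := P) hCA hAP
    rw [hA, hidx] at this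
    omega
  -- F2: pick a ∈ A ∖ C
  obtain ⟨a, haA, haC⟩ : ∃ a ∈ A, a ∉ C := by
    by_contra hno
    push Not at hno
    have : A ≤ C := fun x hx => hno x hx
    have h1 : C.relIndex A = 1 := Subgroup.relIndex_eq_one.mpr this
    omega
  have haP : a ∈ P := hAP haA
  -- F3: y-invariant proper subgroups of P lie in C
  have hF3 : ∀ M : Subgroup X, M ≤ P → M ≠ P → (∀ m ∈ M, y * m * y⁻¹ ∈ M) → M ≤ C := by
    intro M hMP hMne hMinv m hm
    refine ⟨hMP hm, ?_⟩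
    show m ∈ Subgroup.centralizer ({y} : Set X)
    rw [Subgroup.mem_centralizer_iff]
    intro z hz
    rw [Set.mem_singleton_iff] at hz
    subst hz
    exact h.irr M hMP hMne hMinv m hm
  have hAne : A ≠ P := by
    intro hAP'
    rw [hAP'] at hA
    simp at hA
  -- A is not y-invariant
  have hAninv : ¬ (∀ m ∈ A, y * m * y⁻¹ ∈ A) := by
    intro hinv
    exact haC (hF3 A hAP hAne hinv haA)
  -- cosets of C in A
  have hcosA : ∀ x ∈ A, x ∈ C ∨ a⁻¹ * x ∈ C := fun x hx => GSd_aux_idx2 C A hCA2 haA haC hx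
  -- F4: a' = y a y⁻¹ ∉ A
  set a' : X := y * a * y⁻¹ with ha'def
  have ha'P : a' ∈ P := h.nrm a haP
  have ha'A : a' ∉ A := by
    intro ha'A
    apply hAninv
    intro x hx
    rcases hcosA x hx with hxC | hxC
    · rw [hCy x hxC]; exact hx
    · have : y * x * y⁻¹ = a' * (y * (a⁻¹ * x) * y⁻¹) := by rw [ha'def]; group
      rw [this, hCy _ hxC]
      exact A.mul_mem ha'A (hCA hxC)
  -- cosets of A in P
  have hcosP : ∀ x ∈ P, x ∈ A ∨ a'⁻¹ * x ∈ A := fun x hx => GSd_aux_idx2 A P hA ha'P ha'A hx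
  -- four cosets of C in P
  have hcos4 : ∀ x ∈ P, x ∈ C ∨ a⁻¹ * x ∈ C ∨ a'⁻¹ * x ∈ C ∨ a⁻¹ * (a'⁻¹ * x) ∈ C := by
    intro x hx
    rcases hcosP x hx with hxA | hxA
    · rcases hcosA x hxA with h1 | h1
      · exact Or.inl h1
      · exact Or.inr (Or.inl h1)
    · rcases hcosA _ hxA with h1 | h1
      · exact Or.inr (Or.inr (Or.inl h1))
      · exact Or.inr (Or.inr (Or.inr h1))
  -- a'' = y a' y⁻¹
  set a'' : X := y * a' * y⁻¹ with ha''def
  have ha''P : a'' ∈ P := h.nrm a' ha'P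
  -- odd order of y
  have hodd : Odd (orderOf y) := by
    have := h.cop
    exact Nat.Coprime.odd_of_right this
  -- locate a''
  have ha''4 : a⁻¹ * (a'⁻¹ * a'') ∈ C := by
    rcases hcos4 a'' ha''P with h1 | h1 | h1 | h1
    · -- a'' ∈ C ⇒ a' = a'' ∈ C
      exfalso
      have : a' = y⁻¹ * a'' * y := by rw [ha''def]; group
      rw [this, hCy' a'' h1] at ha'A
      exact ha'A (hCA h1)
    · -- a'' ∈ aC ⇒ A is y²-invariant ⇒ y-invariant
      exfalso
      apply hAninv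
      have hy2 : ∀ x ∈ A, y ^ 2 * x * (y ^ 2)⁻¹ ∈ A := by
        intro x hx
        have hyC2 : ∀ c ∈ C, y ^ 2 * c * (y ^ 2)⁻¹ = c := by
          intro c hc'
          calc y ^ 2 * c * (y ^ 2)⁻¹ = y * (y * c * y⁻¹) * y⁻¹ := by rw [pow_two]; group
            _ = c := by rw [hCy c hc', hCy c hc']
        rcases hcosA x hx with hxC | hxC
        · rw [hyC2 x hxC]; exact hx
        · have e1 : y ^ 2 * x * (y ^ 2)⁻¹ = a'' * (y ^ 2 * (a⁻¹ * x) * (y ^ 2)⁻¹) := by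
            rw [ha''def, ha'def, pow_two]; group
          rw [e1, hyC2 _ hxC]
          have e2 : a'' = a * (a⁻¹ * a'') := by group
          rw [e2]
          exact A.mul_mem (A.mul_mem haA (hCA h1)) (hCA hxC)
      obtain ⟨k, hk⟩ := hodd
      have hyk : (y ^ 2) ^ (k + 1) = y := by
        rw [← pow_mul]
        have : 2 * (k + 1) = orderOf y + 1 := by omega
        rw [this, pow_succ, pow_orderOf_eq_one, one_mul]
      intro m hm
      have := GSd_aux_conj_pow (y ^ 2) m (k + 1) A hy2 hm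
      rw [hyk] at this
      exact this
    · -- a'' ∈ a'C ⇒ a' = a c ∈ A
      exfalso
      apply ha'A
      have e1 : a' = a * (y⁻¹ * (a'⁻¹ * a'') * y) := by
        rw [ha''def, ha'def]; group
      rw [e1, hCy' _ h1]
      exact A.mul_mem haA (hCA h1)
    · exact h1
  -- central elements
  have hcen : ∀ c ∈ C, ∀ u ∈ P, c * u = u * c := hb3
  -- squares of a, a', a''
  have haN : a ^ 2 ∈ N := hcon a haA
  have haNC : a ^ 2 ∈ C := hN haN
  have ha'sq : a' ^ 2 = a ^ 2 := by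
    have : a' ^ 2 = y * a ^ 2 * y⁻¹ := by rw [ha'def, pow_two, pow_two]; group
    rw [this, hCy _ haNC]
  have ha''sq : a'' ^ 2 = a ^ 2 := by
    have : a'' ^ 2 = y * a' ^ 2 * y⁻¹ := by rw [ha''def, pow_two, pow_two]; group
    rw [this, ha'sq, hCy _ haNC]
  -- (g c)^2 = g^2 c^2 for c ∈ C, g ∈ P
  have hsqmul : ∀ g ∈ P, ∀ c ∈ C, (g * c) ^ 2 = g ^ 2 * c ^ 2 := by
    intro g hg c hc'
    have := hcen c hc' g hg
    calc (g * c) ^ 2 = g * (c * g) * c := by rw [pow_two]; group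
      _ = g * (g * c) * c := by rw [this]
      _ = g ^ 2 * c ^ 2 := by rw [pow_two, pow_two]; group
  have hCsq : ∀ c ∈ C, c ^ 2 ∈ N := fun c hc' => hcon c (hCA hc')
  -- F6: all squares lie in N
  have hsqN : ∀ x ∈ P, x ^ 2 ∈ N := by
    intro x hx
    rcases hcos4 x hx with h1 | h1 | h1 | h1
    · exact hCsq x h1
    · have hxA : x ∈ A := by
        have : x = a * (a⁻¹ * x) := by group
        rw [this]; exact A.mul_mem haA (hCA h1)
      exact hcon x hxA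
    · have e : x = a' * (a'⁻¹ * x) := by group
      rw [e, hsqmul a' ha'P _ h1, ha'sq]
      exact N.mul_mem haN (hCsq _ h1)
    · -- x = a' a c, a' a = a'' c0⁻¹
      set c0 := a⁻¹ * (a'⁻¹ * a'') with hc0
      set c1 := a⁻¹ * (a'⁻¹ * x) with hc1
      have e : x = a'' * (c0⁻¹ * c1) := by rw [hc0, hc1]; group
      have hcc : c0⁻¹ * c1 ∈ C := C.mul_mem (C.inv_mem ha''4) h1
      rw [e, hsqmul a'' ha''P _ hcc, ha''sq]
      exact N.mul_mem haN (hCsq _ hcc)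
  -- F7: commutators lie in N
  have hcommN : ∀ x ∈ P, ∀ t ∈ P, x * t * x⁻¹ * t⁻¹ ∈ N := by
    intro x hx t ht
    have hx2C : x ^ 2 ∈ C := hN (hsqN x hx)
    have h1 : (x ^ 2)⁻¹ * t⁻¹ = t⁻¹ * (x ^ 2)⁻¹ := by
      have := hcen _ (C.inv_mem hx2C) t⁻¹ (P.inv_mem ht)
      exact this
    have e : x * t * x⁻¹ * t⁻¹ = (x * t) ^ 2 * (x ^ 2)⁻¹ * (t ^ 2)⁻¹ := by
      calc x * t * x⁻¹ * t⁻¹ = (x * t) ^ 2 * (t⁻¹ * (x ^ 2)⁻¹) * t⁻¹ := by
            rw [pow_two, pow_two]; group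
        _ = (x * t) ^ 2 * ((x ^ 2)⁻¹ * t⁻¹) * t⁻¹ := by rw [h1]
        _ = (x * t) ^ 2 * (x ^ 2)⁻¹ * (t ^ 2)⁻¹ := by rw [pow_two t]; group
    rw [e]
    exact N.mul_mem (N.mul_mem (hsqN _ (P.mul_mem hx ht)) (N.inv_mem (hsqN x hx)))
      (N.inv_mem (hsqN t ht))
  -- F8: C ≤ N
  apply hNC
  apply le_antisymm hN
  intro z hz
  have hay : a ∉ Subgroup.centralizer ({y} : Set X) := fun hh => haC ⟨haP, hh⟩
  obtain ⟨t, ht, hzt⟩ := hc a haP hay z hz
  rw [← hzt]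
  exact hcommN a haP t ht

end Cfsg.Agent.S4394P
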