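import Mathlib
import Cfsg.Agent.Helper26.S4394Defs
import Cfsg.Agent.Helper20.S4394GSb
import Cfsg.Agent.Helper20.S4394GSc
import Cfsg.Agent.Helper24.S4394GSdAux

set_option autoImplicit false

namespace Cfsg.Agent.S4394P

/-- GSd (M/L): the case `p = 2`, `|P : C| = 4` (`P` is `Q₈`-like, not `D₈`-like). -/
theorem GSd {X : Type*} [Group X] [Finite X] {P : Subgroup X} {y : X}
    (h : SchData 2 P y)
    (hidx : (P ⊓ Subgroup.centralizer {y}).relIndex P = 4)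
    (A : Subgroup X) (hAP : A ≤ P) (hCA : P ⊓ Subgroup.centralizer {y} ≤ A) (hA : A.relIndex P = 2)
    (N : Subgroup X) (hN : N ≤ P ⊓ Subgroup.centralizer {y}) (hNC : N ≠ P ⊓ Subgroup.centralizer {y}) :
    ∃ a ∈ A, a ^ 2 ∉ N := by
  have : Fact (Nat.Prime 2) := ⟨Nat.prime_two⟩
  obtain ⟨hb1, _, hb3, _⟩ := GSb (p := 2) h
  exact GSd_aux h hb1 hb3 (fun x hx hxC z hz => GSc (p := 2) h x hx hxC z hz) hidx A hAP hCA hA N hN hNC

end Cfsg.Agent.S4394P
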