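import Mathlib
import Cfsg.Agent.Helper26.S4394Defs
import Cfsg.Agent.Helper1.PLenSeries

set_option autoImplicit false

namespace Cfsg.Agent.S4394P

open Cfsg Cfsg.Agent.Helper1.PLen

/-- NT (S): a normal Sylow `p`-subgroup gives `p`-length at most one. -/
theorem NT {G : Type*} [Group G] [Finite G] {p : ℕ} [Fact p.Prime] (T : Sylow p G)
    (hT : (T : Subgroup G).Normal) : Cfsg.PLengthLE p 1 G := by
  have : (T : Subgroup G).Normal := hT
  have h1 : Cfsg.PLengthLE p 1 ↥(T : Subgroup G) := pLengthLE_one_of_isPGroup T.isPGroup'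
  have h0 : Cfsg.PLengthLE p 0 (G ⧸ (T : Subgroup G)) := by
    apply pLengthLE_zero_of_coprime
    have hidx : Nat.card (G ⧸ (T : Subgroup G)) = (T : Subgroup G).index := by
      rw [Subgroup.index_eq_card]
    rw [hidx]
    have hnd : ¬ p ∣ (T : Subgroup G).index := T.not_dvd_index
    exact ((Nat.Prime.coprime_iff_not_dvd (Fact.out : p.Prime)).mpr hnd).symm
  have := pLengthLE_of_extension (p := p) (T : Subgroup G) h1 h0
  simpa using this

end Cfsg.Agent.S4394P
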