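import Mathlib
import Cfsg.Agent.Helper1.S4503Defs
import Cfsg.Agent.Helper23.S4503LIN
import Cfsg.Agent.Helper23.S4503ORB
import Cfsg.Agent.Helper5.S4503PREG
import Cfsg.Agent.Helper5.LinChar
import Cfsg.Agent.Helper26.S4705CCH
import Cfsg.Agent.Helper24.Codegree
import Cfsg.Agent.Helper24.Orthogonality

/-!
# S4503, piece TRIV: a character with `⟨χ_C, 1⟩ = 1` and no non-trivial `p`-linear constituent
on `C = C_G(P)` is the trivial character (when the `p`-regular elements of `C` are central and
`⟨P^G⟩ = G`)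
-/

set_option autoImplicit false

namespace Cfsg.Agent.S4503P

open Cfsg Cfsg.Agent.Helper24 Cfsg.Agent.Helper8.D1 Cfsg.Agent.S4705P
  Cfsg.Agent.Helper11.D1QC Cfsg.Agent.Helper11.D1QL Cfsg.Agent.Helper18.D1QO
  Cfsg.Agent.Helper5.S4503PREG
open scoped ComplexConjugate

universe u

variable {G : Type u} [Group G] [Finite G]

theorem eq_one_of_multN (p : ℕ) [Fact p.Prime] (P : Sylow p G) (hP : Nat.card P = p)
    (hG2 : Subgroup.normalClosure ((P : Subgroup G) : Set G) = ⊤)
    (hZ : ∀ c ∈ Subgroup.centralizer ((P : Subgroup G) : Set G), ¬ p ∣ orderOf c →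
      c ∈ Subgroup.center G)
    (χ : IrrCharacter G)
    (h1 : multN (Subgroup.centralizer ((P : Subgroup G) : Set G)) (triv _) (χ : G → ℂ) = 1)
    (h0 : ∀ ν, NT p ν →
      multN (Subgroup.centralizer ((P : Subgroup G) : Set G)) ν (χ : G → ℂ) = 0) :
    ∀ g : G, (χ : G → ℂ) g = 1 := by
  classical
  have hp : p.Prime := Fact.out
  obtain ⟨hZ', hZc, hZi⟩ := subgroupOf_facts P hP
  have hcardL0 : Nat.card (Lty p (P : Subgroup G)) = p := card_pLin _ hZ' hZc hZi
  have : Finite (Lty p (P : Subgroup G)) :=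
    Nat.finite_of_card_ne_zero (by rw [hcardL0]; exact hp.ne_zero)
  let _ : Fintype (Subgroup.centralizer ((P : Subgroup G) : Set G)) := Fintype.ofFinite _
  have : Fintype (Lty p (P : Subgroup G)) := Fintype.ofFinite _
  have hχc : IsCharacter G (χ : G → ℂ) := IsIrrCharacter.isCharacter χ.2
  -- the multiplicities as complex numbers
  have m1 : mult (Subgroup.centralizer ((P : Subgroup G) : Set G)) (triv _) (χ : G → ℂ) = 1 := by
    rw [← multN_cast _ _ (isIrrCharacter_triv _) _ hχc, h1, Nat.cast_one]
  have m0 : ∀ ν : Lty p (P : Subgroup G), ν.1 ≠ triv _ →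
      mult (Subgroup.centralizer ((P : Subgroup G) : Set G)) ν.1 (χ : G → ℂ) = 0 := by
    intro ν hν
    have hNT : NT p ν.1 := by
      refine ⟨ν.2, ?_⟩
      by_contra hcon
      push Not at hcon
      exact hν (funext hcon)
    rw [← multN_cast _ _ (isIrr_of_isPLin ν.2) _ hχc, h0 ν.1 hNT, Nat.cast_zero]
  let ν₁ : Lty p (P : Subgroup G) := ⟨triv _, isPLin_one p⟩
  have hsumχ : ∑ ν : Lty p (P : Subgroup G),
      mult (Subgroup.centralizer ((P : Subgroup G) : Set G)) ν.1 (χ : G → ℂ) = 1 := by
    rw [Finset.sum_eq_single ν₁]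
    · exact m1
    · intro ν _ hne
      exact m0 ν (fun h => hne (Subtype.ext h))
    · intro h; exact absurd (Finset.mem_univ _) h
  -- the same sum for the constant function `1`
  have hsum1 : ∑ ν : Lty p (P : Subgroup G),
      mult (Subgroup.centralizer ((P : Subgroup G) : Set G)) ν.1 (fun _ : G => (1 : ℂ)) = 1 := by
    rw [Finset.sum_eq_single ν₁]
    · rw [mult_eq]
      have := classInner_of_isIrrCharacter
        (isIrrCharacter_triv (Subgroup.centralizer ((P : Subgroup G) : Set G)))
        (isIrrCharacter_triv (Subgroup.centralizer ((P : Subgroup G) : Set G)))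
      rw [if_pos rfl] at this
      exact this
    · intro ν _ hne
      rw [mult_eq]
      have := classInner_of_isIrrCharacter
        (isIrrCharacter_triv (Subgroup.centralizer ((P : Subgroup G) : Set G)))
        (isIrr_of_isPLin ν.2)
      rw [if_neg (fun h => hne (Subtype.ext h.symm))] at this
      exact this
    · intro h; exact absurd (Finset.mem_univ _) h
  -- `χ` is constant on the `p`-regular elements of `C`
  have hχ1ne : (χ : G → ℂ) 1 ≠ 0 := by
    rw [irrDeg_spec]
    exact_mod_cast (irrDeg_pos χ).ne'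
  have hsumne : ∑ d : Subgroup.centralizer ((P : Subgroup G) : Set G), (χ : G → ℂ) d ≠ 0 := by
    intro h
    rw [mult_eq] at m1
    unfold classInner triv at m1
    simp only [map_one, mul_one] at m1
    rw [h, mul_zero] at m1
    exact zero_ne_one m1
  have F1 : ∀ c : Subgroup.centralizer ((P : Subgroup G) : Set G), ¬ p ∣ orderOf (c : G) →
      (χ : G → ℂ) c = (χ : G → ℂ) 1 := by
    intro c hc
    have hcz : (c : G) ∈ Subgroup.center G := hZ _ c.2 hc
    have h2 : ∑ d : Subgroup.centralizer ((P : Subgroup G) : Set G), (χ : G → ℂ) ((c * d : _) : G) =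
        ∑ d : Subgroup.centralizer ((P : Subgroup G) : Set G), (χ : G → ℂ) d :=
      Fintype.sum_equiv (Equiv.mulLeft c) _ _ (fun d => rfl)
    have h3' : (∑ d : Subgroup.centralizer ((P : Subgroup G) : Set G),
        (χ : G → ℂ) ((c * d : _) : G)) * (χ : G → ℂ) 1 = (χ : G → ℂ) c *
          ∑ d : Subgroup.centralizer ((P : Subgroup G) : Set G), (χ : G → ℂ) d := by
      rw [Finset.sum_mul, Finset.mul_sum]
      refine Finset.sum_congr rfl (fun d _ => ?_)
      rw [Subgroup.coe_mul]
      exact central_mul χ (c : G) hcz (d : G)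
    have h3 : (∑ d : Subgroup.centralizer ((P : Subgroup G) : Set G), (χ : G → ℂ) d) *
        (χ : G → ℂ) 1 = (χ : G → ℂ) c *
          ∑ d : Subgroup.centralizer ((P : Subgroup G) : Set G), (χ : G → ℂ) d := by
      rw [← h3', h2]
    rw [mul_comm] at h3
    exact (mul_right_cancel₀ hsumne h3).symm
  -- `χ(1) = 1`
  have hdeg : (χ : G → ℂ) 1 = 1 := by
    have S1 := sum_mult_eq p P hP (χ : G → ℂ)
    have S2 := sum_mult_eq p P hP (fun _ : G => (1 : ℂ))
    rw [hsumχ] at S1
    rw [hsum1] at S2
    have h3 : (∑ c : Subgroup.centralizer ((P : Subgroup G) : Set G),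
        if p ∣ orderOf (c : G) then (0 : ℂ) else (p : ℂ) * (χ : G → ℂ) c) =
        (χ : G → ℂ) 1 * ∑ c : Subgroup.centralizer ((P : Subgroup G) : Set G),
          if p ∣ orderOf (c : G) then (0 : ℂ) else (p : ℂ) * 1 := by
      rw [Finset.mul_sum]
      refine Finset.sum_congr rfl (fun c _ => ?_)
      by_cases hc : p ∣ orderOf (c : G)
      · rw [if_pos hc, if_pos hc, mul_zero]
      · rw [if_neg hc, if_neg hc, F1 c hc]
        ring
    rw [h3, ← mul_assoc, mul_comm _ ((χ : G → ℂ) 1), mul_assoc, ← S2, mul_one] at S1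
    exact S1.symm
  -- `χ` restricted to `C` is the trivial character
  have hres : ∀ c : Subgroup.centralizer ((P : Subgroup G) : Set G), (χ : G → ℂ) c = 1 := by
    let φ : G →* ℂ := Cfsg.Agent.Helper5.linCharHom hχc hdeg
    have hirr : IsIrrCharacter (Subgroup.centralizer ((P : Subgroup G) : Set G))
        (fun c => (χ : G → ℂ) c) :=
      isIrrCharacter_of_monoidHom
        (φ.comp (Subgroup.centralizer ((P : Subgroup G) : Set G)).subtype)
    have := classInner_of_isIrrCharacter hirr
      (isIrrCharacter_triv (Subgroup.centralizer ((P : Subgroup G) : Set G)))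
    rw [mult_eq] at m1
    rw [m1] at this
    by_cases heq : (fun c : Subgroup.centralizer ((P : Subgroup G) : Set G) =>
        (χ : G → ℂ) c) = triv _
    · intro c
      exact congrFun heq c
    · rw [if_neg heq] at this
      exact absurd this one_ne_zero
  -- the kernel contains `P`, hence everything
  obtain ⟨N, hNn, hNmem, -⟩ := exists_kernel_quotient χ
  have hPN : ((P : Subgroup G) : Set G) ⊆ N := by
    intro x hx
    have hxC : x ∈ Subgroup.centralizer ((P : Subgroup G) : Set G) :=
      Cfsg.Agent.Helper1.D1PA.le_centralizer P hP hx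
    have := hres ⟨x, hxC⟩
    exact (hNmem x).2 (by rw [hdeg]; exact this)
  have hNtop : N = ⊤ := by
    rw [eq_top_iff, ← hG2]
    exact Subgroup.normalClosure_le_normal hPN
  intro g
  have : g ∈ N := by rw [hNtop]; trivial
  rw [(hNmem g).1 this, hdeg]

end Cfsg.Agent.S4503P
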