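import Mathlib
import Cfsg.Prelude.Def_Characters
import Cfsg.Agent.Helper24.SelfCentD

set_option autoImplicit false

/-!
# S4707 piece LIN: a non-abelian simple group has no non-trivial linear characters
-/

namespace Cfsg.Agent.Helper24.S4707

open Cfsg Cfsg.Agent.Helper24

universe u

theorem linear_trivial_of_simple {G : Type u} [Group G] [Finite G] [IsSimpleGroup G]
    (hna : ¬ ∀ a b : G, a * b = b * a) :
    ∀ χ : IrrCharacter G, irrDeg χ = 1 → χ = trivIrr G := by
  have hperf : commutator G = ⊤ := by
    have hn : (commutator G).Normal := by
      rw [commutator_def]; exact Subgroup.commutator_normal ⊤ ⊤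
    rcases hn.eq_bot_or_eq_top with h | h
    · exfalso
      apply hna
      intro a b
      have hmem : a * b * a⁻¹ * b⁻¹ ∈ commutator G := by
        rw [commutator_def]
        exact Subgroup.commutator_mem_commutator (Subgroup.mem_top a) (Subgroup.mem_top b)
      rw [h, Subgroup.mem_bot] at hmem
      have := congrArg (fun w => w * b * a) hmem
      beta_reduce at this
      rw [one_mul] at this
      rw [← this]
      group
    · exact h
  intro χ hχ
  by_contra hne
  exact Cfsg.Agent.Helper24.SelfCent.irrDeg_ne_one_of_perfect hperf χ hne hχ

end Cfsg.Agent.Helper24.S4707
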