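import Mathlib
import Cfsg.Agent.Helper25.S5165.Defs
import Cfsg.Agent.Helper24.S5165LIBA
import Cfsg.Agent.Helper24.S5165LIBB

set_option autoImplicit false
set_option linter.unusedSectionVars false
set_option linter.unusedVariables false

/-! # S5165 piece TRANSP (driver helper25): for `p = 2` a transposition normalizing `SQ r Q ⊓ A`
is some `cyc i`. -/

namespace Cfsg.Agent.S5165P

open Equiv

section chapC

variable {p : ℕ} [Fact p.Prime] {I : Type} [Fintype I] [DecidableEq I] {r : ℕ}

namespace TRANSP

theorem zmod2_cases : ∀ x y : ZMod 2, y = x ∨ y = x + 1 := by decide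

theorem zmod2_add : ∀ x : ZMod 2, x + 1 + 1 = x := by decide

theorem zmod2_ne : ∀ x : ZMod 2, x + 1 ≠ x := by decide

/-- for `p = 2` the `p`-cycle of the block `i` is a transposition -/
theorem cyc_eq_swap (hp : p = 2) (i : I) (x : ZMod p) :
    cyc (r := r) i = swap (Sum.inl (i, x)) (Sum.inl (i, x + 1)) := by
  subst hp
  ext P
  rcases P with ⟨j, y⟩ | k
  · by_cases hj : j = i
    · subst hj
      rw [LIBB.cyc_inl_self]
      rcases zmod2_cases x y with h | h
      · subst h
        rw [swap_apply_left]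
      · subst h
        rw [swap_apply_right, zmod2_add]
    · rw [LIBB.cyc_inl_of_ne hj, swap_apply_of_ne_of_ne]
      · intro h
        exact hj (Prod.mk.inj (Sum.inl_injective h)).1
      · intro h
        exact hj (Prod.mk.inj (Sum.inl_injective h)).1
  · rw [swap_apply_of_ne_of_ne (by simp) (by simp)]
    unfold cyc
    rw [base_inr]

/-- `cyc i` fixes the points outside the block `i` -/
theorem cyc_fix (i : I) (P : X p I r) (hP : ∀ y, P ≠ Sum.inl (i, y)) : cyc i P = P := by
  rcases P with ⟨j, y⟩ | k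
  · have hj : j ≠ i := by
      intro h
      subst h
      exact hP y rfl
    exact LIBB.cyc_inl_of_ne hj y
  · unfold cyc
    rw [base_inr]

theorem sign_cyc (hp : p = 2) (i : I) : Perm.sign (cyc (p := p) (r := r) i) = -1 := by
  rw [cyc_eq_swap hp i 0]
  apply Perm.sign_swap
  intro h
  have h1 := (Prod.mk.inj (Sum.inl_injective h)).2
  subst hp
  exact zmod2_ne 0 h1.symm

/-- the key step: a transposition of points of different blocks does not normalize `S⁺` -/
theorem not_normalizes (hp : p = 2) (Q : Subgroup (Perm I)) (i : I) (x : ZMod p) (P' : X p I r)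
    (hP' : ∀ y, P' ≠ Sum.inl (i, y))
    (hk : ∃ k : I, k ≠ i ∧ ∀ y, P' ≠ Sum.inl (k, y))
    (hn : swap (Sum.inl (i, x)) P' ∈ Subgroup.normalizer
      ((SQ r Q ⊓ alternatingGroup (X p I r) : Subgroup (Perm (X p I r))) : Set (Perm (X p I r)))) :
    False := by
  obtain ⟨k, hki, hkP'⟩ := hk
  have hy : cyc i * cyc k ∈ SQ r Q ⊓ alternatingGroup (X p I r) := by
    rw [Subgroup.mem_inf]
    refine ⟨?_, ?_⟩
    · apply LIBB.Bsub_le_SQ Q
      exact Subgroup.mul_mem _ (mem_Bsub.2 ⟨_, rfl⟩) (mem_Bsub.2 ⟨_, rfl⟩)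
    · rw [Perm.mem_alternatingGroup, Perm.sign_mul, sign_cyc hp, sign_cyc hp]
      simp
  have hz := ((Subgroup.mem_normalizer_iff.1 hn) _).1 hy
  obtain ⟨q, -, f, h1, -⟩ := LIBB.SQ_apply_inl Q (Subgroup.mem_inf.1 hz).1
  rw [swap_inv] at h1
  have hne : (Sum.inl (i, x) : X p I r) ≠ P' := fun h => hP' x h.symm
  -- the image of `(i, x)`
  have e1 := h1 i x
  simp only [Perm.coe_mul, Function.comp_apply] at e1
  rw [swap_apply_left, cyc_fix k P' hkP', cyc_fix i P' hP', swap_apply_right] at e1
  have hq : q i = i := (Prod.mk.inj (Sum.inl_injective e1)).1.symm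
  -- the image of `(i, x + 1)`
  have e2 := h1 i (x + 1)
  simp only [Perm.coe_mul, Function.comp_apply] at e2
  have hx1 : (Sum.inl (i, x + 1) : X p I r) ≠ Sum.inl (i, x) := by
    intro h
    have h2 := (Prod.mk.inj (Sum.inl_injective h)).2
    subst hp
    exact zmod2_ne x h2
  rw [swap_apply_of_ne_of_ne hx1 (fun h => hP' _ h.symm), LIBB.cyc_inl_of_ne hki.symm,
    LIBB.cyc_inl_self] at e2
  have hx2 : x + 1 + 1 = x := by
    subst hp
    exact zmod2_add x
  rw [hx2, swap_apply_left, hq] at e2
  exact hP' _ e2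

/-- a third block -/
theorem exists_third (hI : 3 ≤ Fintype.card I) (i i' : I) : ∃ k : I, k ≠ i ∧ k ≠ i' := by
  classical
  have h : ({i, i'} : Finset I).card < (Finset.univ : Finset I).card := by
    rw [Finset.card_univ]
    exact lt_of_le_of_lt Finset.card_le_two (by omega)
  obtain ⟨k, -, hk⟩ := Finset.exists_mem_notMem_of_card_lt_card h
  simp only [Finset.mem_insert, Finset.mem_singleton, not_or] at hk
  exact ⟨k, hk.1, hk.2⟩

end TRANSP

theorem TRANSP.eq_cyc (hp : p = 2) (hI : 3 ≤ Fintype.card I) (hr : r ≤ 1) (Q : Subgroup (Perm I))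
    (t : Perm (X p I r)) (ht : t.IsSwap)
    (hn : t ∈ Subgroup.normalizer
      ((SQ r Q ⊓ alternatingGroup (X p I r) : Subgroup (Perm (X p I r))) : Set (Perm (X p I r)))) :
    ∃ i : I, t = cyc i := by
  obtain ⟨P, P', hne, rfl⟩ := ht
  rcases P with ⟨i, x⟩ | k
  · rcases P' with ⟨i', x'⟩ | k'
    · by_cases hii : i' = i
      · subst hii
        refine ⟨i', ?_⟩
        rw [TRANSP.cyc_eq_swap hp i' x]
        have hx : x' = x + 1 := by
          have hxx : x' ≠ x := by
            intro h
            apply hne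
            rw [h]
          subst hp
          rcases TRANSP.zmod2_cases x x' with h | h
          · exact absurd h hxx
          · exact h
        rw [hx]
      · exfalso
        obtain ⟨k, hk1, hk2⟩ := TRANSP.exists_third hI i i'
        refine TRANSP.not_normalizes hp Q i x (Sum.inl (i', x')) ?_ ⟨k, hk1, ?_⟩ hn
        · intro y h
          exact hii (Prod.mk.inj (Sum.inl_injective h)).1
        · intro y h
          exact hk2 (Prod.mk.inj (Sum.inl_injective h)).1.symm
    · exfalso
      obtain ⟨k, hk1, -⟩ := TRANSP.exists_third hI i i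
      refine TRANSP.not_normalizes hp Q i x (Sum.inr k') ?_ ⟨k, hk1, ?_⟩ hn
      · intro y h
        exact Sum.inr_ne_inl h
      · intro y h
        exact Sum.inr_ne_inl h
  · rcases P' with ⟨i', x'⟩ | k'
    · exfalso
      rw [swap_comm] at hn
      obtain ⟨k2, hk1, -⟩ := TRANSP.exists_third hI i' i'
      refine TRANSP.not_normalizes hp Q i' x' (Sum.inr k) ?_ ⟨k2, hk1, ?_⟩ hn
      · intro y h
        exact Sum.inr_ne_inl h
      · intro y h
        exact Sum.inr_ne_inl h
    · exfalso
      apply hne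
      have : k = k' := by
        apply Fin.ext
        have h1 := k.isLt
        have h2 := k'.isLt
        omega
      rw [this]

end chapC

end Cfsg.Agent.S5165P
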