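import Cfsg.Agent.Helper26.S5637TRANSPAIR3
import Cfsg.Agent.Helper16.S5637TRANSPAIR2

set_option autoImplicit false
set_option linter.unusedSectionVars false
set_option linter.unusedVariables false

/-! # S5637, piece DPALL: one doubly pure transvection gives all of them -/

namespace Cfsg.Agent.S5637P

open Matrix Kronecker Cfsg.Agent.Helper28.SLMax Cfsg.Agent.S5634P
open scoped MatrixGroups

variable {F : Type*} [Field F] {n a b : ℕ} (e : Fin n ≃ Fin a × Fin b)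

/-- DPALL -/
theorem DPALL (ha : 2 ≤ a) (hb : 3 ≤ b) (M : Subgroup (GL (Fin n) F)) (hM : HS e ≤ M)
    (hDP : DP e M) :
    ∀ (u μ : Fin a → F) (w ψ : Fin b → F), μ ⬝ᵥ u = 0 → ψ ⬝ᵥ w = 0 →
      EE (tn e u w) (tn e μ ψ) ∈ M := by
  obtain ⟨u₀, μ₀, w₀, ψ₀, hu₀, hμ₀, hw₀, hψ₀, h1, h2, hmem⟩ := hDP
  intro u μ w ψ hμu hψw
  by_cases hu : u = 0
  · subst hu
    rw [tn_zero_left, EE.zero_left]
    exact M.one_mem
  by_cases hw : w = 0
  · subst hw
    rw [tn_zero_right, EE.zero_left]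
    exact M.one_mem
  by_cases hμ : μ = 0
  · subst hμ
    rw [tn_zero_left, EE.zero_right]
    exact M.one_mem
  by_cases hψ : ψ = 0
  · subst hψ
    rw [tn_zero_right, EE.zero_right]
    exact M.one_mem
  obtain ⟨P, hP1, hP2, c, hc, hP3⟩ := TRANSPAIR2 ha hu₀ hμ₀ hu hμ h1 hμu
  have hψ' : c⁻¹ • ψ ≠ 0 := smul_ne_zero (inv_ne_zero hc) hψ
  have h2' : (c⁻¹ • ψ) ⬝ᵥ w = 0 := by rw [smul_dotProduct, hψw, smul_zero]
  obtain ⟨Q, hQ1, hQ2, hQ3⟩ := TRANSPAIR3 hb hw₀ hψ₀ hw hψ' h2 h2'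
  have hk : krg e P Q ∈ HS e :=
    krg_mem_HS e P Q (by rw [hP1, hQ1, one_pow, one_pow, one_mul])
  have key := M.mul_mem (M.mul_mem (hM hk) hmem) (M.inv_mem (hM hk))
  rw [EE_conj_krg, hP2, hQ2, hP3, hQ3, tn_smul_left, tn_smul_right, smul_smul,
    mul_inv_cancel₀ hc, one_smul] at key
  exact key

end Cfsg.Agent.S5637P
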