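import Cfsg.Agent.Helper24.S5637.Defs

set_option autoImplicit false
set_option linter.unusedSectionVars false
set_option linter.unusedVariables false

/-! # S5637, pieces THETA and THETAX -/

namespace Cfsg.Agent.S5637P

open Matrix Kronecker Cfsg.Agent.Helper28.SLMax Cfsg.Agent.S5634P
open scoped MatrixGroups

variable {F : Type*} [Field F] {n a b : ℕ} (e : Fin n ≃ Fin a × Fin b)

namespace THETA

/-- a functional taking the value one at a non-zero vector -/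
theorem exists_dot_eq_one {m : ℕ} {w : Fin m → F} (hw : w ≠ 0) : ∃ ψ₀ : Fin m → F, ψ₀ ⬝ᵥ w = 1 := by
  obtain ⟨j, hj⟩ := Function.ne_iff.mp hw
  refine ⟨(w j)⁻¹ • Pi.single j 1, ?_⟩
  rw [smul_dotProduct, single_dotProduct, one_mul, smul_eq_mul]
  exact inv_mul_cancel₀ hj

end THETA

/-- THETA -/
theorem THETA {w : Fin b → F} (hw : w ≠ 0) {g : GL (Fin n) F} (hu : UniAt e w g) :
    ∃ θ : (Fin n → F) →ₗ[F] (Fin a → F),
      (∀ x : Fin n → F, (g : Matrix (Fin n) (Fin n) F) *ᵥ x = x + tn e (θ x) w) ∧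
        ∀ u : Fin a → F, θ (tn e u w) = 0 := by
  obtain ⟨ψ₀, hψ₀⟩ := THETA.exists_dot_eq_one hw
  refine ⟨(cps e ψ₀).comp (Matrix.toLin' (g : Matrix (Fin n) (Fin n) F) - LinearMap.id), ?_, ?_⟩
  · intro x
    rw [LinearMap.comp_apply, LinearMap.sub_apply, Matrix.toLin'_apply, LinearMap.id_apply]
    obtain ⟨u, hu'⟩ := (mem_Vw e).mp (hu.1 x)
    rw [hu', cps_tn, hψ₀, one_smul, ← hu']
    abel
  · intro u
    rw [LinearMap.comp_apply, LinearMap.sub_apply, Matrix.toLin'_apply, LinearMap.id_apply,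
      hu.2 _ (tn_mem_Vw e u w), sub_self, map_zero]

/-- THETAX -/
theorem THETAX (ha : 1 ≤ a) {w : Fin b → F} {g : GL (Fin n) F}
    (θ : (Fin n → F) →ₗ[F] (Fin a → F))
    (hθ1 : ∀ x : Fin n → F, (g : Matrix (Fin n) (Fin n) F) *ᵥ x = x + tn e (θ x) w)
    (hθ2 : ∀ u : Fin a → F, θ (tn e u w) = 0)
    (hsc : ∀ j : Fin b, ∃ c : F, ∀ u : Fin a → F, θ (tn e u (Pi.single j 1)) = c • u) :
    ∃ ψ : Fin b → F, ψ ⬝ᵥ w = 0 ∧ g = XR e w ψ := by
  choose ψ hψ using hsc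
  have hθ : θ = cps e ψ := by
    apply ext_tn e
    intro u w'
    have hw' : w' = ∑ j, w' j • (Pi.single j 1 : Fin b → F) := by
      funext i
      simp [Finset.sum_apply, Pi.single_apply]
    conv_lhs => rw [hw', tn_sum_right, map_sum]
    have h1 : ∀ j ∈ Finset.univ, θ (tn e u (w' j • (Pi.single j 1 : Fin b → F))) =
        (ψ j * w' j) • u := by
      intro j _
      rw [tn_smul_right, map_smul, hψ, smul_smul, mul_comm]
    rw [Finset.sum_congr rfl h1, ← Finset.sum_smul, cps_tn]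
    rfl
  have hψw : ψ ⬝ᵥ w = 0 := by
    have h1 := hθ2 (Pi.single (⟨0, by omega⟩ : Fin a) 1)
    rw [hθ, cps_tn] at h1
    have h2 := congrFun h1 (⟨0, by omega⟩ : Fin a)
    simpa using h2
  refine ⟨ψ, hψw, ?_⟩
  apply EE.ext_act
  intro x
  rw [hθ1, XR_mulVec e hψw, hθ]

end Cfsg.Agent.S5637P
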