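import Mathlib
import Cfsg.Prelude.Def_ClassicalGeometry
import Cfsg.Agent.Helper1.S5956Defs

set_option autoImplicit false
open scoped MatrixGroups

/-! S5956 piece R2PLANE: an isometry with `X² = ±1` (odd characteristic) fixes a nondegenerate
plane. -/

universe u

namespace Cfsg.Agent.S5956P

open Polynomial Cfsg.Agent.Helper2.SympInvol Cfsg.Agent.Helper2.SympUnits Cfsg.Agent.S5961P
  Cfsg.Agent.S5955P Cfsg.Agent.Helper2.InvolComb

namespace R2PLANE

theorem plane_of_pair {F V : Type*} [Field F] [AddCommGroup V] [Module F V]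
    (B : LinearMap.BilinForm F V) (halt : ∀ v, B v v = 0) (X : Module.End F V)
    (a b : V) (hab : B a b ≠ 0)
    (hXa : X a ∈ Submodule.span F ({a, b} : Set V))
    (hXb : X b ∈ Submodule.span F ({a, b} : Set V)) :
    ∃ P : Submodule F V, Module.finrank F ↥P = 2 ∧ Nondeg B P ∧ P.map X ≤ P := by
  refine ⟨Submodule.span F ({a, b} : Set V), finrank_span_pair_of_ne halt hab,
    nondeg_span_pair halt hab, ?_⟩
  rw [Submodule.map_le_iff_le_comap, Submodule.span_le]
  rintro x (rfl | rfl)
  · exact hXa
  · exact hXb

end R2PLANE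

/-- R2PLANE: an isometry with `X² = ±1` (odd characteristic) fixes a nondegenerate plane -/
theorem exists_inv_plane_of_sq {F V : Type*} [Field F] [AddCommGroup V] [Module F V]
    [FiniteDimensional F V] (h2 : (2 : F) ≠ 0) (B : LinearMap.BilinForm F V)
    (halt : ∀ v, B v v = 0) (hnd : Nondeg B ⊤) (X : Module.End F V)
    (hX : ∀ u v, B (X u) (X v) = B u v) (z : F) (hz : z = 1 ∨ z = -1)
    (hXX : ∀ v, X (X v) = z • v) (hV : 0 < Module.finrank F V) :
    ∃ P : Submodule F V, Module.finrank F ↥P = 2 ∧ Nondeg B P ∧ P.map X ≤ P := by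
  haveI : Nontrivial V := Module.finrank_pos_iff.mp hV
  obtain ⟨v, hv⟩ := exists_ne (0 : V)
  rcases hz with rfl | rfl
  · -- `X² = 1`
    have hXX' : ∀ v, X (X v) = v := fun v => by rw [hXX, one_smul]
    -- an eigenvector
    obtain ⟨u, ε, hu0, hε, hXu⟩ : ∃ (u : V) (ε : F), u ≠ 0 ∧ ε * ε = 1 ∧ X u = ε • u := by
      by_cases h : v + X v = 0
      · refine ⟨v, -1, hv, by ring, ?_⟩
        rw [neg_one_smul]
        exact (eq_neg_of_add_eq_zero_right h)
      · refine ⟨v + X v, 1, h, by ring, ?_⟩
        rw [map_add, hXX', one_smul, add_comm]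
    obtain ⟨w, -, hw⟩ := hnd u Submodule.mem_top hu0
    -- the partner
    have hXw : X (w + ε • X w) = ε • (w + ε • X w) := by
      rw [map_add, map_smul, hXX', smul_add, smul_smul, hε, one_smul, add_comm]
    have hBw : B u (w + ε • X w) = 2 * B u w := by
      rw [map_add, map_smul, smul_eq_mul]
      have h1 : B u (X w) = ε * B u w := by
        have h3 := hX u (X w)
        rw [hXX', hXu, map_smul, LinearMap.smul_apply, smul_eq_mul] at h3
        exact h3.symm
      rw [h1, ← mul_assoc, hε]
      ring
    have hne : B u (w + ε • X w) ≠ 0 := by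
      rw [hBw]
      exact mul_ne_zero h2 hw
    apply R2PLANE.plane_of_pair B halt X u (w + ε • X w) hne
    · rw [hXu]
      exact Submodule.smul_mem _ _ (Submodule.subset_span (by simp))
    · rw [hXw]
      exact Submodule.smul_mem _ _ (Submodule.subset_span (by simp))
  · -- `X² = -1`
    have hXX' : ∀ v, X (X v) = -v := fun v => by rw [hXX, neg_one_smul]
    have hex : ∃ v, B v (X v) ≠ 0 := by
      by_contra hcon
      push Not at hcon
      have hsym : ∀ u v, B v (X u) = B u (X v) := by
        intro u v
        have h3 := hX v (X u)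
        rw [hXX', map_neg] at h3
        rw [← h3, skew B halt (X v) u, neg_neg]
      have hzero : ∀ u v, B u (X v) = 0 := by
        intro u v
        have h := hcon (u + v)
        rw [map_add, map_add, map_add, LinearMap.add_apply, LinearMap.add_apply, hcon u, hcon v,
          hsym u v] at h
        have h4 : 2 * B u (X v) = 0 := by linear_combination h
        rcases mul_eq_zero.mp h4 with h5 | h5
        · exact absurd h5 h2
        · exact h5
      obtain ⟨w, -, hw⟩ := hnd v Submodule.mem_top hv
      apply hw
      have := hzero v (X (-w))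
      rw [hXX', neg_neg] at this
      exact this
    obtain ⟨v, hv⟩ := hex
    apply R2PLANE.plane_of_pair B halt X v (X v) hv
    · exact Submodule.subset_span (by simp)
    · rw [hXX']
      exact Submodule.neg_mem _ (Submodule.subset_span (by simp))

end Cfsg.Agent.S5956P
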