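import Mathlib
import Cfsg.Prelude.Def_ClassicalGeometry
import Cfsg.Agent.Helper1.S5956Defs
import Cfsg.Agent.Helper18.S5961NDSUB
import Cfsg.Agent.Helper10.S5961ORTHC
import Cfsg.Agent.Helper23.S5961RESTR
import Cfsg.Agent.Helper24.S5956R2PLANE

set_option autoImplicit false
open scoped MatrixGroups

/-! S5956 piece R2SUFF: an isometry with `X² = ±1` (odd characteristic) fixes nondegenerate
subspaces of every even dimension. -/

universe u

namespace Cfsg.Agent.S5956P

open Polynomial Cfsg.Agent.Helper2.SympInvol Cfsg.Agent.Helper2.SympUnits Cfsg.Agent.S5961P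
  Cfsg.Agent.S5955P Cfsg.Agent.Helper2.InvolComb

namespace R2SUFF

theorem main {F : Type*} [Field F] (h2 : (2 : F) ≠ 0) (z : F) (hz : z = 1 ∨ z = -1) :
    ∀ (k : ℕ) {V : Type u} [AddCommGroup V] [Module F V] [FiniteDimensional F V]
      (B : LinearMap.BilinForm F V) (_ : ∀ v, B v v = 0) (_ : Nondeg B ⊤) (X : Module.End F V)
      (_ : ∀ u v, B (X u) (X v) = B u v) (_ : ∀ v, X (X v) = z • v)
      (_ : 2 * k ≤ Module.finrank F V),
      ∃ W : Submodule F V, Module.finrank F ↥W = 2 * k ∧ Nondeg B W ∧ W.map X ≤ W := by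
  have hz0 : z ≠ 0 := by
    rcases hz with rfl | rfl
    · exact one_ne_zero
    · exact neg_ne_zero.mpr one_ne_zero
  intro k
  induction k with
  | zero =>
    intro V _ _ _ B halt hnd X hX hXX hk
    refine ⟨⊥, by simp, ?_, by simp⟩
    intro m hm hm0
    exact absurd ((Submodule.mem_bot F).mp hm) hm0
  | succ k ih =>
    intro V _ _ _ B halt hnd X hX hXX hk
    have hV : 0 < Module.finrank F V := by omega
    obtain ⟨P, hP2, hPnd, hPX⟩ := exists_inv_plane_of_sq h2 B halt hnd X hX z hz hXX hV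
    obtain ⟨hcompl, horth, horth', hnd', hinv', -⟩ := orth_compl B halt P hPnd
    have hXinj : Function.Injective X := by
      intro a b hab
      have h1 : X (X a) = X (X b) := by rw [hab]
      rw [hXX, hXX] at h1
      exact smul_right_injective V hz0 h1
    have hP'X := hinv' X hX hXinj hPX
    have hP' : ∀ v ∈ B.orthogonal P, X v ∈ B.orthogonal P :=
      fun v hv => hP'X (Submodule.mem_map_of_mem hv)
    obtain ⟨-, halt', hisom', hndiff, -, -, -, hsub⟩ := restr_transport B X (B.orthogonal P) hP'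
    have hfr : Module.finrank F ↥P + Module.finrank F ↥(B.orthogonal P) = Module.finrank F V :=
      Submodule.finrank_add_eq_of_isCompl hcompl
    have hk' : 2 * k ≤ Module.finrank F ↥(B.orthogonal P) := by omega
    have hXX' : ∀ v : ↥(B.orthogonal P), X.restrict hP' (X.restrict hP' v) = z • v := by
      intro v
      apply Subtype.ext
      show X (X v.1) = z • v.1
      exact hXX v.1
    obtain ⟨W', hW'k, hW'nd, hW'X⟩ := ih (B.restrict (B.orthogonal P)) (halt' halt)
      (hndiff.mpr (hnd' hnd)) (X.restrict hP') (hisom' hX) hXX' hk'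
    obtain ⟨hle, hfin, hndW, hinvW, -⟩ := hsub W'
    refine ⟨P ⊔ W'.map (B.orthogonal P).subtype, ?_, ?_, ?_⟩
    · have hdisj : P ⊓ W'.map (B.orthogonal P).subtype = ⊥ := by
        apply le_antisymm _ bot_le
        calc P ⊓ W'.map (B.orthogonal P).subtype ≤ P ⊓ B.orthogonal P :=
              inf_le_inf_left P hle
          _ = ⊥ := hcompl.inf_eq_bot
      have h3 := Submodule.finrank_sup_add_finrank_inf_eq P (W'.map (B.orthogonal P).subtype)
      rw [hdisj, finrank_bot, add_zero, hP2, hfin, hW'k] at h3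
      omega
    · apply NDSUB.nondeg_sup B halt P _ hPnd (hndW.mp hW'nd)
      intro u hu v hv
      exact horth u hu v (hle hv)
    · rw [Submodule.map_sup]
      exact sup_le_sup hPX (hinvW.mp hW'X)

end R2SUFF

/-- R2SUFF (uses R2PLANE, S5961 `orth_compl`, `restr_transport`) -/
theorem exists_nd_of_sq {F V : Type*} [Field F] [AddCommGroup V] [Module F V]
    [FiniteDimensional F V] (h2 : (2 : F) ≠ 0) (B : LinearMap.BilinForm F V)
    (halt : ∀ v, B v v = 0) (hnd : Nondeg B ⊤) (X : Module.End F V)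
    (hX : ∀ u v, B (X u) (X v) = B u v) (z : F) (hz : z = 1 ∨ z = -1)
    (hXX : ∀ v, X (X v) = z • v) (m : ℕ) (hme : Even m) (hm : m ≤ Module.finrank F V) :
    ∃ W : Submodule F V, Module.finrank F ↥W = m ∧ Nondeg B W ∧ W.map X ≤ W := by
  obtain ⟨k, rfl⟩ := hme
  have hk : 2 * k ≤ Module.finrank F V := by omega
  obtain ⟨W, h1, h2', h3⟩ := R2SUFF.main h2 z hz k B halt hnd X hX hXX hk
  exact ⟨W, by omega, h2', h3⟩

end Cfsg.Agent.S5956P
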