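import Mathlib
import Cfsg.Prelude.Def_GeometricClasses
import Cfsg.Agent.Helper21.S5958FREE
import Cfsg.Agent.Helper26.S5958GROUP

set_option autoImplicit false
open scoped MatrixGroups

/-! S5958, piece KUM: if `x ^ r = z • 1` with `z` not an `r`-th power (`r` prime), then `x` permutes
the summands of a decomposition of `V` into `t` subspaces of dimension `a` (`dim V = a * t`). -/

namespace Cfsg.Agent.S5958P

open Polynomial

namespace KUM

theorem fibre_card {ι A κ : Type*} (E : ι ≃ A × κ) (k : κ) :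
    Nat.card {i // (E i).2 = k} = Nat.card A := by
  apply Nat.card_congr
  exact
  { toFun := fun p => (E p.1).1
    invFun := fun l => ⟨E.symm (l, k), by simp⟩
    left_inv := by
      intro p
      apply Subtype.ext
      show E.symm ((E p.1).1, k) = p.1
      have h : ((E p.1).1, k) = E p.1 := Prod.ext rfl p.2.symm
      rw [h, Equiv.symm_apply_apply]
    right_inv := by
      intro l
      simp }

end KUM

theorem kummer_decomp {F V : Type*} [Field F] [AddCommGroup V] [Module F V]
    [FiniteDimensional F V] (r : ℕ) [Fact r.Prime] (x : Module.End F V) (z : F)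
    (hx : x ^ r = z • (1 : Module.End F V)) (hz : ∀ d : F, d ^ r ≠ z) (a t : ℕ)
    (hV : Module.finrank F V = a * t) :
    ∃ (D : Fin t → Submodule F V) (σ : Equiv.Perm (Fin t)),
      (∀ j, Module.finrank F (D j) = a) ∧ iSupIndep D ∧ iSup D = ⊤ ∧
      ∀ j, (D j).map x = D (σ j) := by
  classical
  have hr : r.Prime := Fact.out
  obtain ⟨r0, rfl⟩ : ∃ r0, r = r0 + 1 := ⟨r - 1, by have := hr.pos; omega⟩
  have hz0 : z ≠ 0 := by
    intro h
    apply hz 0
    rw [h, zero_pow hr.ne_zero]
  have hirr : Irreducible (X ^ (r0 + 1) - C z : F[X]) := X_pow_sub_C_irreducible_of_prime hr hz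
  have hdeg : (X ^ (r0 + 1) - C z : F[X]).natDegree = r0 + 1 := natDegree_X_pow_sub_C
  have hgf : aeval x (X ^ (r0 + 1) - C z : F[X]) = 0 := by
    rw [map_sub, map_pow, aeval_X, aeval_C, hx, Algebra.algebraMap_eq_smul_one, sub_self]
  obtain ⟨s, b0, w, hb0⟩ := free_of_irreducible x _ hirr hgf
  obtain ⟨b, hb⟩ : ∃ b : Module.Basis (Fin (r0 + 1) × Fin s) F V,
      ∀ i j, b (i, j) = (x ^ (i : ℕ)) (w j) := by
    refine ⟨b0.reindex (Equiv.prodCongr (finCongr hdeg) (Equiv.refl _)), ?_⟩
    intro i j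
    rw [Module.Basis.reindex_apply]
    have h1 : (Equiv.prodCongr (finCongr hdeg) (Equiv.refl (Fin s))).symm (i, j) =
        ((finCongr hdeg).symm i, j) := rfl
    rw [h1, hb0]
    rfl
  have hcard : (r0 + 1) * s = a * t := by
    rw [← hV, Module.finrank_eq_card_basis b, Fintype.card_prod, Fintype.card_fin,
      Fintype.card_fin]
  -- the action of `x` on the basis
  obtain ⟨σ, hσ⟩ : ∃ σ : Equiv.Perm (Fin (r0 + 1) × Fin s),
      σ = (finRotate (r0 + 1)).prodCongr (Equiv.refl _) := ⟨_, rfl⟩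
  obtain ⟨c, hc⟩ : ∃ c : Fin (r0 + 1) × Fin s → F,
      c = fun p => if p.1 = Fin.last r0 then z else 1 := ⟨_, rfl⟩
  have hc0 : ∀ p, c p ≠ 0 := by
    intro p
    rw [hc]
    by_cases h : p.1 = Fin.last r0
    · simp only [h, if_true]; exact hz0
    · simp only [h, if_false]; exact one_ne_zero
  have hxb : ∀ p, x (b p) = c p • b (σ p) := by
    rintro ⟨i, j⟩
    rw [hb, hσ, hc]
    by_cases hi : i = Fin.last r0
    · subst hi
      have h1 : ((finRotate (r0 + 1)).prodCongr (Equiv.refl (Fin s))) (Fin.last r0, j) =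
          (0, j) := by
        show (finRotate (r0 + 1) (Fin.last r0), j) = (0, j)
        rw [finRotate_last]
      rw [h1, hb]
      simp only [if_true, Fin.val_last, Fin.val_zero, pow_zero, Module.End.one_apply]
      have h2 : x ((x ^ r0) (w j)) = (x ^ (r0 + 1)) (w j) := by
        rw [pow_succ', Module.End.mul_apply]
      rw [h2, hx, LinearMap.smul_apply, Module.End.one_apply]
    · have h1 : ((finRotate (r0 + 1)).prodCongr (Equiv.refl (Fin s))) (i, j) =
          (finRotate (r0 + 1) i, j) := rfl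
      rw [h1, hb, coe_finRotate_of_ne_last hi]
      simp only [hi, if_false, one_smul]
      rw [pow_succ', Module.End.mul_apply]
  by_cases hrt : (r0 + 1) ∣ t
  · -- the blocks are permuted
    obtain ⟨t1, ht1⟩ := hrt
    have hs : s = a * t1 := by
      have h1 : (r0 + 1) * s = (r0 + 1) * (a * t1) := by rw [hcard, ht1]; ring
      exact Nat.eq_of_mul_eq_mul_left (Nat.succ_pos r0) h1
    obtain ⟨es, -⟩ : ∃ es : Fin s ≃ Fin a × Fin t1, True :=
      ⟨(finCongr hs).trans finProdFinEquiv.symm, trivial⟩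
    obtain ⟨et, -⟩ : ∃ et : Fin t ≃ Fin (r0 + 1) × Fin t1, True :=
      ⟨(finCongr ht1).trans finProdFinEquiv.symm, trivial⟩
    obtain ⟨E, hE⟩ : ∃ E : Fin (r0 + 1) × Fin s ≃ Fin a × Fin t,
        ∀ p, E p = ((es p.2).1, et.symm (p.1, (es p.2).2)) := by
      refine ⟨{ toFun := fun p => ((es p.2).1, et.symm (p.1, (es p.2).2))
                invFun := fun q => ((et q.2).1, es.symm (q.1, (et q.2).2))
                left_inv := ?_
                right_inv := ?_ }, fun p => rfl⟩
      · rintro ⟨i, j⟩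
        simp
      · rintro ⟨l, k⟩
        simp
    obtain ⟨hind, hsup, hfin, hmap⟩ := group_basis b (fun p => (E p).2)
    obtain ⟨π, hπ⟩ : ∃ π : Equiv.Perm (Fin t),
        π = (et.trans ((finRotate (r0 + 1)).prodCongr (Equiv.refl _))).trans et.symm := ⟨_, rfl⟩
    refine ⟨fun k => Submodule.span F (b '' {i | (E i).2 = k}), π, ?_, hind, hsup, ?_⟩
    · intro k
      rw [hfin k, KUM.fibre_card E k, Nat.card_eq_fintype_card, Fintype.card_fin]
    · intro k
      apply hmap x σ π c hc0 hxb
      rintro ⟨i, j⟩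
      rw [hσ, hπ]
      have h1 : ((finRotate (r0 + 1)).prodCongr (Equiv.refl (Fin s))) (i, j) =
          (finRotate (r0 + 1) i, j) := rfl
      rw [h1, hE, hE]
      simp
  · -- every block is invariant
    have hra : (r0 + 1) ∣ a := by
      have h1 : (r0 + 1) ∣ a * t := ⟨s, hcard.symm⟩
      exact (hr.dvd_mul.mp h1).resolve_right hrt
    obtain ⟨a1, ha1⟩ := hra
    have hs : s = a1 * t := by
      have h1 : (r0 + 1) * s = (r0 + 1) * (a1 * t) := by rw [hcard, ha1]; ring
      exact Nat.eq_of_mul_eq_mul_left (Nat.succ_pos r0) h1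
    obtain ⟨es, -⟩ : ∃ es : Fin s ≃ Fin a1 × Fin t, True :=
      ⟨(finCongr hs).trans finProdFinEquiv.symm, trivial⟩
    obtain ⟨E, hE⟩ : ∃ E : Fin (r0 + 1) × Fin s ≃ (Fin (r0 + 1) × Fin a1) × Fin t,
        ∀ p, E p = ((p.1, (es p.2).1), (es p.2).2) :=
      ⟨(Equiv.prodCongr (Equiv.refl _) es).trans (Equiv.prodAssoc _ _ _).symm, fun p => rfl⟩
    obtain ⟨hind, hsup, hfin, hmap⟩ := group_basis b (fun p => (E p).2)
    refine ⟨fun k => Submodule.span F (b '' {i | (E i).2 = k}), Equiv.refl _, ?_, hind, hsup, ?_⟩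
    · intro k
      rw [hfin k, KUM.fibre_card E k, Nat.card_eq_fintype_card, Fintype.card_prod,
        Fintype.card_fin, Fintype.card_fin, ha1]
    · intro k
      apply hmap x σ (Equiv.refl _) c hc0 hxb
      rintro ⟨i, j⟩
      rw [hσ]
      have h1 : ((finRotate (r0 + 1)).prodCongr (Equiv.refl (Fin s))) (i, j) =
          (finRotate (r0 + 1) i, j) := rfl
      rw [h1, hE, hE]
      rfl

end Cfsg.Agent.S5958P
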