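import Mathlib
import Cfsg.Prelude.Def_GeometricClasses
import Cfsg.Prelude.Def_ClassicalGeometry
import Cfsg.Agent.Helper23.S5961Defs
import Cfsg.Agent.Helper29.S5958FIXED

set_option autoImplicit false
open scoped MatrixGroups

/-! S5961, piece FIXEDSP (generic part): the statement with the divisibility `SPDIV` as a
hypothesis. -/

namespace Cfsg.Agent.S5961P

open Polynomial Cfsg.Agent.Helper2.SympInvol Cfsg.Agent.Helper2.SympUnits

namespace FIXEDSP

theorem main {F V : Type*} [Field F] [AddCommGroup V] [Module F V]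
    [FiniteDimensional F V] (c : ℕ) (B : LinearMap.BilinForm F V)
    (y : Module.End F V) (hy1 : y ≠ 1)
    (hsp : ∀ W : Submodule F V, W.map y ≤ W → Nondeg B W →
      c ∣ Module.finrank F W - Module.finrank F ↥(W ⊓ LinearMap.ker (y - 1)))
    {t : ℕ} (a : ℕ) (D : Fin t → Submodule F V) (hdim : ∀ j, Module.finrank F (D j) = a)
    (hind : iSupIndep D) (hsup : iSup D = ⊤) (hDnd : ∀ j, Nondeg B (D j))
    (hinv : ∀ j, (D j).map y = D j) :
    c ≤ a ∧ t * (a % c) ≤ Module.finrank F (LinearMap.ker (y - 1)) := by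
  classical
  have hκ : ∀ j, c ∣ a - Module.finrank F ↥(D j ⊓ LinearMap.ker (y - 1)) := by
    intro j
    have := hsp (D j) (hinv j).le (hDnd j)
    rwa [hdim j] at this
  have hκle : ∀ j, Module.finrank F ↥(D j ⊓ LinearMap.ker (y - 1)) ≤ a := by
    intro j
    rw [← hdim j]
    exact Submodule.finrank_mono inf_le_left
  have hKind : iSupIndep (fun j => D j ⊓ LinearMap.ker (y - 1)) :=
    hind.mono (fun j => inf_le_left)
  have hsum := Cfsg.Agent.S5958P.FIXEDAux.sum_finrank_le _ hKind (LinearMap.ker (y - 1))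
    (fun j => inf_le_right)
  constructor
  · by_contra hlt
    push Not at hlt
    apply hy1
    have hκa : ∀ j, Module.finrank F ↥(D j ⊓ LinearMap.ker (y - 1)) = a := by
      intro j
      have h1 := hκ j
      have h2 := hκle j
      have : a - Module.finrank F ↥(D j ⊓ LinearMap.ker (y - 1)) = 0 :=
        Nat.eq_zero_of_dvd_of_lt h1 (by omega)
      omega
    have hle : ∀ j, D j ≤ LinearMap.ker (y - 1) := by
      intro j
      have h1 : D j ⊓ LinearMap.ker (y - 1) = D j := by
        apply Submodule.eq_of_le_of_finrank_eq inf_le_left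
        rw [hκa j, hdim j]
      rw [← h1]
      exact inf_le_right
    have hfix : ∀ j, ∀ v ∈ D j, y v = v := by
      intro j v hv
      have := hle j hv
      rwa [LinearMap.mem_ker, LinearMap.sub_apply, sub_eq_zero] at this
    ext v
    have hv : v ∈ ⨆ j, D j := by rw [hsup]; trivial
    change y v = v
    refine Submodule.iSup_induction D (motive := fun v => y v = v) hv
      (fun j x hx => hfix j x hx) (map_zero y) (fun x z hx hz => ?_)
    rw [map_add, hx, hz]
  · have hmod : ∀ j, a % c ≤ Module.finrank F ↥(D j ⊓ LinearMap.ker (y - 1)) := by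
      intro j
      obtain ⟨m, hm⟩ := hκ j
      have h2 := hκle j
      have h3 : a = Module.finrank F ↥(D j ⊓ LinearMap.ker (y - 1)) + c * m := by omega
      calc a % c = (Module.finrank F ↥(D j ⊓ LinearMap.ker (y - 1)) + c * m) % c := by
            rw [← h3]
        _ = Module.finrank F ↥(D j ⊓ LinearMap.ker (y - 1)) % c :=
            Nat.add_mul_mod_self_left _ _ _
        _ ≤ _ := Nat.mod_le _ _
    calc t * (a % c) = ∑ _j : Fin t, a % c := by simp
      _ ≤ ∑ j, Module.finrank F ↥(D j ⊓ LinearMap.ker (y - 1)) :=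
          Finset.sum_le_sum (fun j _ => hmod j)
      _ ≤ _ := hsum

end FIXEDSP

end Cfsg.Agent.S5961P

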