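import Mathlib
import Cfsg.Prelude.Def_GeometricClasses
import Cfsg.Prelude.Def_ClassicalGeometry
import Cfsg.Agent.Helper23.S5961Defs
import Cfsg.Agent.Helper23.S5961STRUCT
import Cfsg.Agent.Helper24.S5961FIXEDSPAux

set_option autoImplicit false
open scoped MatrixGroups

/-! S5961, piece FIXEDSP. -/

namespace Cfsg.Agent.S5961P

open Polynomial Cfsg.Agent.Helper2.SympInvol Cfsg.Agent.Helper2.SympUnits

/-- FIXEDSP (uses SPDIV; adapt Helper29.S5958FIXED) -/
theorem fixed_decomp_sp {F V : Type*} [Field F] [Fintype F] [AddCommGroup V] [Module F V]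
    [FiniteDimensional F V] {p : ℕ} [Fact p.Prime] [CharP F p] (r : ℕ) [Fact r.Prime]
    (hr2 : r ≠ 2) (hrp : r ≠ p) (B : LinearMap.BilinForm F V) (halt : ∀ v, B v v = 0)
    (y : Module.End F V) (hyB : ∀ u v, B (y u) (y v) = B u v) (hy : y ^ r = 1) (hy1 : y ≠ 1)
    {t : ℕ} (a : ℕ) (D : Fin t → Submodule F V) (hdim : ∀ j, Module.finrank F (D j) = a)
    (hind : iSupIndep D) (hsup : iSup D = ⊤) (hDnd : ∀ j, Nondeg B (D j))
    (hinv : ∀ j, (D j).map y = D j) :
    cc F r ≤ a ∧ t * (a % cc F r) ≤ Module.finrank F (LinearMap.ker (y - 1)) :=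
  FIXEDSP.main (cc F r) B y hy1
    (fun W hW hWnd => sp_dvd r hr2 hrp B halt y hyB hy W hW hWnd) a D hdim hind hsup hDnd hinv

end Cfsg.Agent.S5961P

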