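import Mathlib
import Cfsg.Prelude.Def_GeometricClasses
import Cfsg.Prelude.Def_ClassicalGeometry
import Cfsg.Agent.Helper27.S5975Defs

set_option autoImplicit false
open scoped MatrixGroups

/-! S5975 piece CONJKER: conjugate matrices have fixed spaces of the same dimension. -/

namespace Cfsg.Agent.S5975P

open Polynomial

/-- CONJKER -/
theorem finrank_ker_conj {F : Type*} [Field F] (d : ℕ) (x g : GL (Fin d ⊕ Fin d) F) :
    Module.finrank F (LinearMap.ker (Matrix.toLin'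
      (((g⁻¹ * x * g : GL (Fin d ⊕ Fin d) F) : Matrix (Fin d ⊕ Fin d) (Fin d ⊕ Fin d) F) - 1))) =
    Module.finrank F (LinearMap.ker (Matrix.toLin'
      ((x : Matrix (Fin d ⊕ Fin d) (Fin d ⊕ Fin d) F) - 1))) := by
  have hgi : ((g⁻¹ : GL (Fin d ⊕ Fin d) F) : Matrix (Fin d ⊕ Fin d) (Fin d ⊕ Fin d) F) *
      (g : Matrix (Fin d ⊕ Fin d) (Fin d ⊕ Fin d) F) = 1 := by
    rw [← Units.val_mul, inv_mul_cancel, Units.val_one]
  have hig : (g : Matrix (Fin d ⊕ Fin d) (Fin d ⊕ Fin d) F) *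
      ((g⁻¹ : GL (Fin d ⊕ Fin d) F) : Matrix (Fin d ⊕ Fin d) (Fin d ⊕ Fin d) F) = 1 := by
    rw [← Units.val_mul, mul_inv_cancel, Units.val_one]
  -- the linear equivalence `v ↦ g v`
  let e : (Fin d ⊕ Fin d → F) ≃ₗ[F] (Fin d ⊕ Fin d → F) :=
    LinearEquiv.ofLinearMap (Matrix.toLin' (g : Matrix (Fin d ⊕ Fin d) (Fin d ⊕ Fin d) F))
      (Matrix.toLin' ((g⁻¹ : GL (Fin d ⊕ Fin d) F) : Matrix (Fin d ⊕ Fin d) (Fin d ⊕ Fin d) F))
      (by rw [← Matrix.toLin'_mul, hig, Matrix.toLin'_one])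
      (by rw [← Matrix.toLin'_mul, hgi, Matrix.toLin'_one])
  have hker : LinearMap.ker (Matrix.toLin'
      (((g⁻¹ * x * g : GL (Fin d ⊕ Fin d) F) : Matrix (Fin d ⊕ Fin d) (Fin d ⊕ Fin d) F) - 1)) =
      (LinearMap.ker (Matrix.toLin'
        ((x : Matrix (Fin d ⊕ Fin d) (Fin d ⊕ Fin d) F) - 1))).comap e.toLinearMap := by
    ext w
    simp only [LinearMap.mem_ker, Submodule.mem_comap, Matrix.toLin'_apply, LinearEquiv.coe_coe]
    have he : e w = (g : Matrix (Fin d ⊕ Fin d) (Fin d ⊕ Fin d) F).mulVec w := rfl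
    rw [he, Matrix.mulVec_mulVec]
    have h1 : ((g⁻¹ * x * g : GL (Fin d ⊕ Fin d) F) :
        Matrix (Fin d ⊕ Fin d) (Fin d ⊕ Fin d) F) - 1 =
        ((g⁻¹ : GL (Fin d ⊕ Fin d) F) : Matrix (Fin d ⊕ Fin d) (Fin d ⊕ Fin d) F) *
          (((x : Matrix (Fin d ⊕ Fin d) (Fin d ⊕ Fin d) F) - 1) *
            (g : Matrix (Fin d ⊕ Fin d) (Fin d ⊕ Fin d) F)) := by
      rw [Units.val_mul, Units.val_mul, sub_mul, one_mul, mul_sub, ← mul_assoc, hgi]
    rw [h1, ← Matrix.mulVec_mulVec]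
    constructor
    · intro h
      have := congrArg (fun v => (g : Matrix (Fin d ⊕ Fin d) (Fin d ⊕ Fin d) F).mulVec v) h
      simp only [Matrix.mulVec_mulVec, Matrix.mulVec_zero] at this
      rw [← mul_assoc, hig, one_mul] at this
      exact this
    · intro h
      rw [h, Matrix.mulVec_zero]
  rw [hker]
  have h2 := LinearEquiv.finrank_eq
    (e.submoduleMap ((LinearMap.ker (Matrix.toLin'
        ((x : Matrix (Fin d ⊕ Fin d) (Fin d ⊕ Fin d) F) - 1))).comap e.toLinearMap))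
  rw [h2]
  have h3 : Submodule.map (e : (Fin d ⊕ Fin d → F) →ₗ[F] (Fin d ⊕ Fin d → F))
      ((LinearMap.ker (Matrix.toLin'
        ((x : Matrix (Fin d ⊕ Fin d) (Fin d ⊕ Fin d) F) - 1))).comap e.toLinearMap) =
      LinearMap.ker (Matrix.toLin'
        ((x : Matrix (Fin d ⊕ Fin d) (Fin d ⊕ Fin d) F) - 1)) :=
    Submodule.map_comap_eq_of_surjective e.surjective _
  rw [h3]

end Cfsg.Agent.S5975P
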