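import Mathlib
import Cfsg.Prelude.Def_GeometricClasses
import Cfsg.Prelude.Def_ClassicalGeometry
import Cfsg.Agent.Helper27.S5975Defs
import Cfsg.Agent.Helper21.FS1

set_option autoImplicit false
open scoped MatrixGroups

/-! S5975 piece KDIM: a `K`-invariant subspace has dimension divisible by `k`. -/

namespace Cfsg.Agent.S5975P

open Polynomial

/-- KDIM -/
theorem dvd_finrank_of_invariant {F : Type*} [Field F] (d k : ℕ)
    (K : Subalgebra F (Matrix (Fin d ⊕ Fin d) (Fin d ⊕ Fin d) F))
    (hK : Cfsg.Geo.IsFieldSubalgebra k K)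
    (W : Submodule F (Fin d ⊕ Fin d → F)) (hW : KInv d F K W) :
    k ∣ Module.finrank F W := by
  rcases Nat.eq_zero_or_pos d with hd | hd
  · subst hd
    have : Module.finrank F W = 0 := by
      have h1 : Module.finrank F W ≤ Module.finrank F (Fin 0 ⊕ Fin 0 → F) :=
        Submodule.finrank_le W
      rw [Module.finrank_fintype_fun_eq_card] at h1
      simpa using h1
    rw [this]
    exact dvd_zero k
  · haveI : Nonempty (Fin d ⊕ Fin d) := ⟨Sum.inl ⟨0, hd⟩⟩
    letI := Cfsg.Agent.Helper21.FS.fieldOf hK
    letI := Cfsg.Agent.Helper21.FS.modOf K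
    haveI := Cfsg.Agent.Helper21.FS.isScalarTower (K := K)
    let W' : Submodule K (Fin d ⊕ Fin d → F) :=
      { carrier := W
        add_mem' := fun ha hb => W.add_mem ha hb
        zero_mem' := W.zero_mem
        smul_mem' := fun c x hx => hW c.1 c.2 x hx }
    have e : W ≃ₗ[F] W' :=
      { toFun := fun x => ⟨x.1, x.2⟩
        invFun := fun x => ⟨x.1, x.2⟩
        left_inv := fun x => rfl
        right_inv := fun x => rfl
        map_add' := fun x y => rfl
        map_smul' := fun c x => rfl }
    rw [e.finrank_eq]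
    haveI : Module.Free K W' := Module.Free.of_divisionRing K W'
    have h := Module.finrank_mul_finrank F K W'
    rw [hK.finrank_eq] at h
    exact ⟨_, h.symm⟩

end Cfsg.Agent.S5975P
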