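import Mathlib
import Cfsg.Prelude.Def_GeometricClasses
import Cfsg.Prelude.Def_ClassicalGeometry
import Cfsg.Agent.Helper27.S5975Defs

set_option autoImplicit false
open scoped MatrixGroups

/-! S5975 piece NTVAL: the `r`-adic valuations of `|Sp_{2km}(q)|` and `|Sp_{2m}(q^k)|` agree when
`k` divides `j` (`ord_r(q) ∈ {j, 2j}`). -/

namespace Cfsg.Agent.S5975P

open Polynomial

namespace NTVAL

/-- only the multiples of `k` contribute -/
theorem sum_multiples (f : ℕ → ℕ) (k : ℕ) (hk : 1 ≤ k) (hf : ∀ M, ¬ k ∣ M → f M = 0) (m : ℕ) :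
    ∑ t ∈ Finset.range (k * m), f (t + 1) = ∑ t ∈ Finset.range m, f (k * (t + 1)) := by
  induction m with
  | zero => simp
  | succ m ih =>
    rw [Nat.mul_succ, Finset.sum_range_add, ih, Finset.sum_range_succ]
    congr 1
    rw [Finset.sum_eq_single (k - 1)]
    · congr 1
      have : k * (m + 1) = k * m + k := Nat.mul_succ k m
      omega
    · intro x hx hne
      apply hf
      have hxk : x < k := Finset.mem_range.mp hx
      intro hdvd
      have h1 : k ∣ x + 1 := by
        have h2 : k ∣ k * m := dvd_mul_right k m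
        have h3 : k * m + x + 1 = k * m + (x + 1) := by ring
        rw [h3] at hdvd
        exact (Nat.dvd_add_right h2).mp hdvd
      have h4 := Nat.le_of_dvd (Nat.succ_pos x) h1
      omega
    · intro h
      exfalso
      apply h
      rw [Finset.mem_range]
      omega

theorem padicValNat_prod (r : ℕ) [Fact r.Prime] (n : ℕ) (g : ℕ → ℕ) (hg : ∀ t, g t ≠ 0) :
    padicValNat r (∏ t ∈ Finset.range n, g t) = ∑ t ∈ Finset.range n, padicValNat r (g t) := by
  have hr : r.Prime := Fact.out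
  rw [← Nat.factorization_def _ hr, Nat.factorization_prod (fun t _ => hg t)]
  rw [Finset.sum_apply']
  apply Finset.sum_congr rfl
  intro t _
  exact Nat.factorization_def _ hr

end NTVAL

/-- NTVAL -/
theorem val_eq_of_dvd (q r : ℕ) [Fact r.Prime] (hr2 : r ≠ 2) (hq : 2 ≤ q) (hrq : ¬ r ∣ q)
    (j k m : ℕ) (hj : 1 ≤ j) (hk : 1 ≤ k) (hkj : k ∣ j)
    (hi : orderOf ((q : ℕ) : ZMod r) = 2 * j ∨
      (Odd (orderOf ((q : ℕ) : ZMod r)) ∧ orderOf ((q : ℕ) : ZMod r) = j)) :
    padicValNat r (q ^ ((k * m) ^ 2) * ∏ t ∈ Finset.range (k * m), (q ^ (2 * (t + 1)) - 1)) =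
      padicValNat r ((q ^ k) ^ (m ^ 2) *
        ∏ t ∈ Finset.range m, ((q ^ k) ^ (2 * (t + 1)) - 1)) := by
  have hr : r.Prime := Fact.out
  have hq0 : q ≠ 0 := by omega
  have hpowpos : ∀ n : ℕ, 1 ≤ n → q ^ n - 1 ≠ 0 := by
    intro n hn
    have h1 : 2 ^ n ≤ q ^ n := Nat.pow_le_pow_left hq n
    have h2 : 2 ≤ 2 ^ n := by
      calc 2 = 2 ^ 1 := by norm_num
        _ ≤ 2 ^ n := Nat.pow_le_pow_right (by norm_num) hn
    omega
  have hvq : ∀ n : ℕ, padicValNat r (q ^ n) = 0 := by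
    intro n
    apply padicValNat.eq_zero_of_not_dvd
    intro h
    exact hrq (hr.dvd_of_dvd_pow h)
  -- the key divisibility
  have hkey : ∀ M : ℕ, r ∣ q ^ (2 * M) - 1 → k ∣ M := by
    intro M hdvd
    have hpow : ((q : ℕ) : ZMod r) ^ (2 * M) = 1 := by
      have h2 : ((q ^ (2 * M) - 1 : ℕ) : ZMod r) = 0 :=
        (ZMod.natCast_eq_zero_iff _ _).mpr hdvd
      have h3 : 1 ≤ q ^ (2 * M) := Nat.one_le_pow _ _ (by omega)
      rw [Nat.cast_sub h3, Nat.cast_pow, Nat.cast_one, sub_eq_zero] at h2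
      exact h2
    have hord : orderOf ((q : ℕ) : ZMod r) ∣ 2 * M := orderOf_dvd_of_pow_eq_one hpow
    rcases hi with h2j | ⟨hodd, hij⟩
    · rw [h2j] at hord
      have hjM : j ∣ M := (Nat.mul_dvd_mul_iff_left (by norm_num)).mp hord
      exact dvd_trans hkj hjM
    · have hcop : Nat.Coprime (orderOf ((q : ℕ) : ZMod r)) 2 := Nat.Coprime.symm
        ((Nat.Prime.coprime_iff_not_dvd Nat.prime_two).mpr (fun h => by
          have := Nat.odd_iff.mp hodd
          omega))
      have h4 : orderOf ((q : ℕ) : ZMod r) ∣ M := hcop.dvd_of_dvd_mul_left hord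
      rw [hij] at h4
      exact dvd_trans hkj h4
  let f : ℕ → ℕ := fun M => padicValNat r (q ^ (2 * M) - 1)
  have hf : ∀ M, ¬ k ∣ M → f M = 0 := by
    intro M hM
    apply padicValNat.eq_zero_of_not_dvd
    intro h
    exact hM (hkey M h)
  have hprod1 : ∏ t ∈ Finset.range (k * m), (q ^ (2 * (t + 1)) - 1) ≠ 0 := by
    rw [Finset.prod_ne_zero_iff]
    intro t _
    exact hpowpos _ (by omega)
  have hprod2 : ∏ t ∈ Finset.range m, ((q ^ k) ^ (2 * (t + 1)) - 1) ≠ 0 := by
    rw [Finset.prod_ne_zero_iff]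
    intro t _
    rw [← pow_mul]
    apply hpowpos
    have : 1 ≤ k * (2 * (t + 1)) := Nat.mul_pos (by omega) (by omega)
    exact this
  rw [padicValNat.mul (pow_ne_zero _ hq0) hprod1, hvq, zero_add,
    padicValNat.mul (pow_ne_zero _ (pow_ne_zero _ hq0)) hprod2, ← pow_mul, hvq, zero_add,
    NTVAL.padicValNat_prod r (k * m) (fun t => q ^ (2 * (t + 1)) - 1)
      (fun t => hpowpos _ (by omega)),
    NTVAL.padicValNat_prod r m (fun t => (q ^ k) ^ (2 * (t + 1)) - 1) (fun t => by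
      rw [← pow_mul]
      apply hpowpos
      have : 1 ≤ k * (2 * (t + 1)) := Nat.mul_pos (by omega) (by omega)
      exact this)]
  have h := NTVAL.sum_multiples f k hk hf m
  rw [show (∑ t ∈ Finset.range (k * m), padicValNat r (q ^ (2 * (t + 1)) - 1)) =
    ∑ t ∈ Finset.range (k * m), f (t + 1) from rfl, h]
  apply Finset.sum_congr rfl
  intro t _
  show padicValNat r (q ^ (2 * (k * (t + 1))) - 1) = _
  congr 2
  rw [← pow_mul]
  congr 1
  ring

end Cfsg.Agent.S5975P
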