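import Mathlib
import Cfsg.Prelude.Def_GeometricClasses
import Cfsg.Prelude.Def_ClassicalGeometry
import Cfsg.Agent.Helper29.S5976Defs

set_option autoImplicit false
open scoped MatrixGroups

/-! S5976, piece ZPM: a scalar power of a symplectic matrix is `± 1`. -/

namespace Cfsg.Agent.S5976P

open Polynomial

/-- ZPM -/
theorem scalar_sq_eq_one {F : Type*} [Field F] (d : ℕ) (hd : 1 ≤ d) (r : ℕ)
    (x : GL (Fin d ⊕ Fin d) F) (hx : x ∈ Cfsg.spGL d F) (z : F)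
    (hxr : ((x ^ r : GL (Fin d ⊕ Fin d) F) : Matrix (Fin d ⊕ Fin d) (Fin d ⊕ Fin d) F) =
      z • (1 : Matrix (Fin d ⊕ Fin d) (Fin d ⊕ Fin d) F)) : z * z = 1 := by
  have hxr' : x ^ r ∈ Cfsg.spGL d F := Subgroup.pow_mem _ hx r
  have h1 := hxr' (Pi.single (Sum.inl ⟨0, hd⟩) 1) (Pi.single (Sum.inr ⟨0, hd⟩) 1)
  have h2 : Cfsg.glToMat (Fin d ⊕ Fin d) F (x ^ r) =
      z • (1 : Matrix (Fin d ⊕ Fin d) (Fin d ⊕ Fin d) F) := hxr
  rw [h2, Matrix.smul_mulVec, Matrix.one_mulVec, Matrix.smul_mulVec, Matrix.one_mulVec,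
    sympForm_eq, sympForm_eq, Matrix.mulVec_smul, smul_dotProduct, dotProduct_smul,
    ← sympForm_eq, sympForm_single_single] at h1
  have hJ : Matrix.J (Fin d) F (Sum.inl ⟨0, hd⟩) (Sum.inr ⟨0, hd⟩) = -1 := by
    simp [Matrix.J]
  rw [hJ] at h1
  simp only [smul_eq_mul] at h1
  linear_combination -h1

example {F : Type*} [Field F] (d : ℕ) (hd : 1 ≤ d) (r : ℕ)
    (x : GL (Fin d ⊕ Fin d) F) (hx : x ∈ Cfsg.spGL d F) (z : F)
    (hxr : ((x ^ r : GL (Fin d ⊕ Fin d) F) : Matrix (Fin d ⊕ Fin d) (Fin d ⊕ Fin d) F) =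
      z • (1 : Matrix (Fin d ⊕ Fin d) (Fin d ⊕ Fin d) F)) : z * z = 1 :=
  scalar_sq_eq_one d hd r x hx z hxr

end Cfsg.Agent.S5976P

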