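import Mathlib
import Cfsg.Prelude.Def_GeometricClasses
import Cfsg.Prelude.Def_ClassicalGeometry
import Cfsg.Agent.Helper29.S5976Defs
import Cfsg.Agent.Helper2.SpDerange
import Cfsg.Agent.Helper28.SpMax
import Cfsg.Agent.Helper24.S5976ZPM

set_option autoImplicit false
open scoped MatrixGroups

/-! S5976, piece ELT4: an element of order `r` of `Sp_2d(q)` with `dim ker (x - 1) = 2d - 2j`,
`ord_r(q) = 2j`. -/

namespace Cfsg.Agent.S5976P

open Polynomial

/-- ELT4 (uses Helper2.SpDerange: exists_elt, dvd_of_invariant) -/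
theorem exists_elt_min {F : Type*} [Field F] [Fintype F] {p : ℕ} [Fact p.Prime] [CharP F p]
    (d : ℕ) (r : ℕ) [Fact r.Prime] (hr2 : r ≠ 2) (hrp : r ≠ p) (j : ℕ) (hj1 : 1 ≤ j)
    (hi : orderOf ((Fintype.card F : ℕ) : ZMod r) = 2 * j) (hjd : j ≤ d) :
    ∃ x ∈ Cfsg.spGL d F,
      ((x ^ r : GL (Fin d ⊕ Fin d) F) : Matrix (Fin d ⊕ Fin d) (Fin d ⊕ Fin d) F) = 1 ∧
      (∀ z : F, (x : Matrix (Fin d ⊕ Fin d) (Fin d ⊕ Fin d) F) ≠
        z • (1 : Matrix (Fin d ⊕ Fin d) (Fin d ⊕ Fin d) F)) ∧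
      Module.finrank F (LinearMap.ker (Matrix.toLin'
        ((x : Matrix (Fin d ⊕ Fin d) (Fin d ⊕ Fin d) F) - 1))) + 2 * j = 2 * d := by
  classical
  have hr : r.Prime := Fact.out
  have hp : p.Prime := Fact.out
  obtain ⟨q, hq⟩ : ∃ q : ℕ, Fintype.card F = q := ⟨_, rfl⟩
  rw [hq] at hi
  have hq1 : 1 ≤ q := by rw [← hq]; exact Fintype.card_pos
  have hrq : ¬ r ∣ q := by
    obtain ⟨n, _, hn⟩ := FiniteField.card F p
    rw [hq] at hn
    intro hdvd
    rw [hn] at hdvd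
    have := hr.dvd_of_dvd_pow hdvd
    exact hrp ((Nat.prime_dvd_prime_iff_eq hr hp).mp this)
  -- `r ∣ q ^ j + 1`
  have hpow2 : ((q : ℕ) : ZMod r) ^ (2 * j) = 1 := by rw [← hi]; exact pow_orderOf_eq_one _
  have hne1 : ((q : ℕ) : ZMod r) ^ j ≠ 1 := by
    intro h
    have := orderOf_dvd_of_pow_eq_one h
    rw [hi] at this
    have := Nat.le_of_dvd (by omega) this
    omega
  have hneg : ((q : ℕ) : ZMod r) ^ j = -1 := by
    have h1 : ((q : ℕ) : ZMod r) ^ j * ((q : ℕ) : ZMod r) ^ j = 1 := by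
      rw [← pow_add, ← two_mul, hpow2]
    rcases mul_self_eq_one_iff.mp h1 with h | h
    · exact absurd h hne1
    · exact h
  have hdvd : r ∣ q ^ j + 1 := by
    rw [← ZMod.natCast_eq_zero_iff, Nat.cast_add, Nat.cast_pow, Nat.cast_one, hneg]
    ring
  obtain ⟨x, hxr, hx1, hfix⟩ :=
    Cfsg.Agent.Helper2.SpDerange.exists_elt (d := d) hq r j hj1 hjd hdvd
  -- the dimension of the fixed space
  have hinv := Cfsg.Agent.Helper2.SpDerange.dvd_of_invariant hq x.1 hrq hxr ⊤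
    (fun u _ => Submodule.mem_top)
  have htop : Module.finrank F (⊤ : Submodule F (Fin d ⊕ Fin d → F)) = 2 * d := by
    rw [finrank_top, Module.finrank_fintype_fun_eq_card, Fintype.card_sum, Fintype.card_fin]
    ring
  rw [htop, top_inf_eq] at hinv
  obtain ⟨m, hm⟩ : ∃ m : ℕ,
      m = 2 * d - Module.finrank F (Cfsg.Agent.Helper2.SpDerange.Fix x.1) := ⟨_, rfl⟩
  rw [← hm] at hinv
  have hle : Module.finrank F (Cfsg.Agent.Helper2.SpDerange.Fix x.1) ≤ 2 * d := by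
    rw [← htop]
    exact Submodule.finrank_mono le_top
  have hm2 : 2 * j ∣ m := by
    rw [← hi]
    apply orderOf_dvd_of_pow_eq_one
    have h3 : 1 ≤ q ^ m := Nat.one_le_pow _ _ hq1
    have h2 : ((q ^ m - 1 : ℕ) : ZMod r) = 0 := (ZMod.natCast_eq_zero_iff _ _).mpr hinv
    rw [Nat.cast_sub h3, Nat.cast_pow, Nat.cast_one, sub_eq_zero] at h2
    exact h2
  have hm0 : m ≠ 0 := by
    intro h0
    apply hx1
    apply Cfsg.Agent.Helper2.SpDerange.eq_one_of_fix_top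
    apply Submodule.eq_top_of_finrank_eq
    rw [Module.finrank_fintype_fun_eq_card, Fintype.card_sum, Fintype.card_fin]
    omega
  have hmeq : m = 2 * j := by
    have h1 : m ≤ 2 * j := by omega
    have h2 : 2 * j ≤ m := Nat.le_of_dvd (Nat.pos_of_ne_zero hm0) hm2
    omega
  have hker : LinearMap.ker (Matrix.toLin' (x.1 - 1)) =
      Cfsg.Agent.Helper2.SpDerange.Fix x.1 := by
    ext v
    rw [LinearMap.mem_ker, Cfsg.Agent.Helper2.SpDerange.mem_Fix, Matrix.toLin'_apply,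
      Matrix.sub_mulVec, Matrix.one_mulVec, sub_eq_zero]
  have hfin : Module.finrank F (Cfsg.Agent.Helper2.SpDerange.Fix x.1) + 2 * j = 2 * d := by
    omega
  refine ⟨Cfsg.Agent.Helper28.SpMax.toGL x, Cfsg.Agent.Helper28.SpMax.toGL_mem x, ?_, ?_, ?_⟩
  · rw [← map_pow, Cfsg.Agent.Helper28.SpMax.toGL_val]
    exact hxr
  · intro z hz
    rw [Cfsg.Agent.Helper28.SpMax.toGL_val] at hz
    have hd1 : 1 ≤ d := by omega
    have hz2 : z * z = 1 := by
      apply scalar_sq_eq_one d hd1 1 (Cfsg.Agent.Helper28.SpMax.toGL x)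
        (Cfsg.Agent.Helper28.SpMax.toGL_mem x) z
      rw [pow_one, Cfsg.Agent.Helper28.SpMax.toGL_val]
      exact hz
    have hzr : z ^ r = 1 := by
      have h1 := hxr
      rw [hz, _root_.smul_pow, one_pow] at h1
      have h2 := congrFun (congrFun h1 (Sum.inl ⟨0, hd1⟩)) (Sum.inl ⟨0, hd1⟩)
      simpa using h2
    obtain ⟨k, hk⟩ := hr.odd_of_ne_two hr2
    have hz1 : z = 1 := by
      have hsq : z ^ 2 = 1 := by rw [pow_two]; exact hz2
      rw [hk, pow_succ, pow_mul, hsq, one_pow, one_mul] at hzr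
      exact hzr
    apply hx1
    rw [hz, hz1, one_smul]
  · rw [Cfsg.Agent.Helper28.SpMax.toGL_val, hker]
    exact hfin

example {F : Type*} [Field F] [Fintype F] {p : ℕ} [Fact p.Prime] [CharP F p]
    (d : ℕ) (r : ℕ) [Fact r.Prime] (hr2 : r ≠ 2) (hrp : r ≠ p) (j : ℕ) (hj1 : 1 ≤ j)
    (hi : orderOf ((Fintype.card F : ℕ) : ZMod r) = 2 * j) (hjd : j ≤ d) :
    ∃ x ∈ Cfsg.spGL d F,
      ((x ^ r : GL (Fin d ⊕ Fin d) F) : Matrix (Fin d ⊕ Fin d) (Fin d ⊕ Fin d) F) = 1 ∧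
      (∀ z : F, (x : Matrix (Fin d ⊕ Fin d) (Fin d ⊕ Fin d) F) ≠
        z • (1 : Matrix (Fin d ⊕ Fin d) (Fin d ⊕ Fin d) F)) ∧
      Module.finrank F (LinearMap.ker (Matrix.toLin'
        ((x : Matrix (Fin d ⊕ Fin d) (Fin d ⊕ Fin d) F) - 1))) + 2 * j = 2 * d :=
  exists_elt_min d r hr2 hrp j hj1 hi hjd

end Cfsg.Agent.S5976P

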