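import Mathlib
import Cfsg.Prelude.Def_GeometricClasses
import Cfsg.Prelude.Def_ClassicalGeometry
import Cfsg.Agent.Helper29.S5976Defs
import Cfsg.Agent.Helper21.S5949Basic

set_option autoImplicit false
open scoped MatrixGroups

/-! S5976, piece NOCONJ (generic part): ODDLIN and EVENDIM are hypotheses. -/

namespace Cfsg.Agent.S5976P

open Polynomial

namespace NOCONJ

theorem main {F : Type*} [Field F] (d : ℕ)
    (K : Subalgebra F (Matrix (Fin d ⊕ Fin d) (Fin d ⊕ Fin d) F))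
    (r : ℕ) (x : GL (Fin d ⊕ Fin d) F) (z : F)
    (hodd_lin : ∀ y : GL (Fin d ⊕ Fin d) F, y ∈ Cfsg.Geo.subalgebraNormalizer K →
      ((y ^ r : GL (Fin d ⊕ Fin d) F) : Matrix (Fin d ⊕ Fin d) (Fin d ⊕ Fin d) F) =
        z • (1 : Matrix (Fin d ⊕ Fin d) (Fin d ⊕ Fin d) F) →
      ∀ k ∈ K, (y : Matrix (Fin d ⊕ Fin d) (Fin d ⊕ Fin d) F) * k =
        k * (y : Matrix (Fin d ⊕ Fin d) (Fin d ⊕ Fin d) F))
    (heven : ∀ W : Submodule F (Fin d ⊕ Fin d → F), (∀ k ∈ K, ∀ w ∈ W, k.mulVec w ∈ W) →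
      Even (Module.finrank F W))
    (hxr : ((x ^ r : GL (Fin d ⊕ Fin d) F) : Matrix (Fin d ⊕ Fin d) (Fin d ⊕ Fin d) F) =
      z • (1 : Matrix (Fin d ⊕ Fin d) (Fin d ⊕ Fin d) F))
    (g₁ : F[X]) (hodd : Odd (Module.finrank F (LinearMap.ker (aeval (Matrix.toLin'
      (x : Matrix (Fin d ⊕ Fin d) (Fin d ⊕ Fin d) F)) g₁)))) :
    ¬ ∃ g : GL (Fin d ⊕ Fin d) F, g⁻¹ * x * g ∈ Cfsg.Geo.subalgebraNormalizer K := by
  rintro ⟨g, hg⟩
  obtain ⟨y, hy⟩ : ∃ y : GL (Fin d ⊕ Fin d) F, y = g⁻¹ * x * g := ⟨_, rfl⟩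
  rw [← hy] at hg
  -- `y ^ r = z`
  have hyr : ((y ^ r : GL (Fin d ⊕ Fin d) F) : Matrix (Fin d ⊕ Fin d) (Fin d ⊕ Fin d) F) =
      z • (1 : Matrix (Fin d ⊕ Fin d) (Fin d ⊕ Fin d) F) := by
    have h1 : y ^ r = g⁻¹ * x ^ r * g := by
      have h0 : y = g⁻¹ * x * g⁻¹⁻¹ := by rw [inv_inv]; exact hy
      rw [h0, conj_pow, inv_inv]
    rw [h1, Units.val_mul, Units.val_mul, hxr, Matrix.mul_smul, Matrix.mul_one, Matrix.smul_mul,
      ← Units.val_mul, inv_mul_cancel, Units.val_one]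
  have hcomm := hodd_lin y hg hyr
  -- the kernel of `g₁(y)` is `K`-invariant
  have hinv : ∀ k ∈ K, ∀ w ∈ LinearMap.ker (aeval (Matrix.toLin'
      (y : Matrix (Fin d ⊕ Fin d) (Fin d ⊕ Fin d) F)) g₁),
      k.mulVec w ∈ LinearMap.ker (aeval (Matrix.toLin'
      (y : Matrix (Fin d ⊕ Fin d) (Fin d ⊕ Fin d) F)) g₁) := by
    intro k hk w hw
    rw [LinearMap.mem_ker] at hw ⊢
    have h1 := Cfsg.Agent.S5949P.Basic.aeval_intertwine (Matrix.toLin' k)
      (Matrix.toLin' (y : Matrix (Fin d ⊕ Fin d) (Fin d ⊕ Fin d) F))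
      (Matrix.toLin' (y : Matrix (Fin d ⊕ Fin d) (Fin d ⊕ Fin d) F)) (by
        intro v
        rw [Matrix.toLin'_apply, Matrix.toLin'_apply, Matrix.toLin'_apply, Matrix.toLin'_apply,
          Matrix.mulVec_mulVec, Matrix.mulVec_mulVec, hcomm k hk]) g₁ w
    rw [hw, map_zero, Matrix.toLin'_apply] at h1
    exact h1.symm
  have hev := heven _ hinv
  -- the two kernels have the same dimension
  have hdim : Module.finrank F (LinearMap.ker (aeval (Matrix.toLin'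
      (y : Matrix (Fin d ⊕ Fin d) (Fin d ⊕ Fin d) F)) g₁)) =
      Module.finrank F (LinearMap.ker (aeval (Matrix.toLin'
      (x : Matrix (Fin d ⊕ Fin d) (Fin d ⊕ Fin d) F)) g₁)) := by
    have hgx : ∀ v, Matrix.toLin' (g : Matrix (Fin d ⊕ Fin d) (Fin d ⊕ Fin d) F)
        (Matrix.toLin' (y : Matrix (Fin d ⊕ Fin d) (Fin d ⊕ Fin d) F) v) =
        Matrix.toLin' (x : Matrix (Fin d ⊕ Fin d) (Fin d ⊕ Fin d) F)
        (Matrix.toLin' (g : Matrix (Fin d ⊕ Fin d) (Fin d ⊕ Fin d) F) v) := by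
      intro v
      rw [Matrix.toLin'_apply, Matrix.toLin'_apply, Matrix.toLin'_apply, Matrix.toLin'_apply,
        Matrix.mulVec_mulVec, Matrix.mulVec_mulVec, hy, Units.val_mul, Units.val_mul,
        ← mul_assoc, ← mul_assoc, ← Units.val_mul, mul_inv_cancel, Units.val_one, one_mul]
    have hgy : ∀ v, Matrix.toLin' ((g⁻¹ : GL (Fin d ⊕ Fin d) F) :
          Matrix (Fin d ⊕ Fin d) (Fin d ⊕ Fin d) F)
        (Matrix.toLin' (x : Matrix (Fin d ⊕ Fin d) (Fin d ⊕ Fin d) F) v) =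
        Matrix.toLin' (y : Matrix (Fin d ⊕ Fin d) (Fin d ⊕ Fin d) F)
        (Matrix.toLin' ((g⁻¹ : GL (Fin d ⊕ Fin d) F) :
          Matrix (Fin d ⊕ Fin d) (Fin d ⊕ Fin d) F) v) := by
      intro v
      rw [Matrix.toLin'_apply, Matrix.toLin'_apply, Matrix.toLin'_apply, Matrix.toLin'_apply,
        Matrix.mulVec_mulVec, Matrix.mulVec_mulVec, hy, Units.val_mul, Units.val_mul,
        mul_assoc, mul_assoc, ← Units.val_mul g, mul_inv_cancel, Units.val_one, mul_one]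
    have hgg : ∀ v, Matrix.toLin' (g : Matrix (Fin d ⊕ Fin d) (Fin d ⊕ Fin d) F)
        (Matrix.toLin' ((g⁻¹ : GL (Fin d ⊕ Fin d) F) :
          Matrix (Fin d ⊕ Fin d) (Fin d ⊕ Fin d) F) v) = v := by
      intro v
      rw [Matrix.toLin'_apply, Matrix.toLin'_apply, Matrix.mulVec_mulVec, ← Units.val_mul,
        mul_inv_cancel, Units.val_one, Matrix.one_mulVec]
    have hgg' : ∀ v, Matrix.toLin' ((g⁻¹ : GL (Fin d ⊕ Fin d) F) :
          Matrix (Fin d ⊕ Fin d) (Fin d ⊕ Fin d) F)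
        (Matrix.toLin' (g : Matrix (Fin d ⊕ Fin d) (Fin d ⊕ Fin d) F) v) = v := by
      intro v
      rw [Matrix.toLin'_apply, Matrix.toLin'_apply, Matrix.mulVec_mulVec, ← Units.val_mul,
        inv_mul_cancel, Units.val_one, Matrix.one_mulVec]
    apply LinearEquiv.finrank_eq
    exact
    { toFun := fun w => ⟨Matrix.toLin' (g : Matrix (Fin d ⊕ Fin d) (Fin d ⊕ Fin d) F) w.1, by
        rw [LinearMap.mem_ker,
          ← Cfsg.Agent.S5949P.Basic.aeval_intertwine _ _ _ hgx g₁ w.1,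
          LinearMap.mem_ker.mp w.2, map_zero]⟩
      map_add' := by
        intro a b
        apply Subtype.ext
        exact map_add (Matrix.toLin' (g : Matrix (Fin d ⊕ Fin d) (Fin d ⊕ Fin d) F)) a.1 b.1
      map_smul' := by
        intro c a
        apply Subtype.ext
        exact map_smul (Matrix.toLin' (g : Matrix (Fin d ⊕ Fin d) (Fin d ⊕ Fin d) F)) c a.1
      invFun := fun w => ⟨Matrix.toLin' ((g⁻¹ : GL (Fin d ⊕ Fin d) F) :
          Matrix (Fin d ⊕ Fin d) (Fin d ⊕ Fin d) F) w.1, by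
        rw [LinearMap.mem_ker,
          ← Cfsg.Agent.S5949P.Basic.aeval_intertwine _ _ _ hgy g₁ w.1,
          LinearMap.mem_ker.mp w.2, map_zero]⟩
      left_inv := by
        intro w
        apply Subtype.ext
        exact hgg' w.1
      right_inv := by
        intro w
        apply Subtype.ext
        exact hgg w.1 }
  rw [hdim] at hev
  exact (Nat.not_even_iff_odd.mpr hodd) hev

end NOCONJ

end Cfsg.Agent.S5976P

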