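import Mathlib
import Cfsg.Prelude.Def_GeometricClasses
import Cfsg.Prelude.Def_ClassicalGeometry
import Cfsg.Agent.Helper29.S5976Defs
import Cfsg.Agent.Helper3.S5976EVENDIM
import Cfsg.Agent.Helper25.S5976ODDLIN
import Cfsg.Agent.Helper24.S5976NOCONJAux

set_option autoImplicit false
open scoped MatrixGroups

/-! S5976, piece NOCONJ. -/

namespace Cfsg.Agent.S5976P

open Polynomial

/-- NOCONJ (uses ODDLIN, EVENDIM) -/
theorem not_conj_of_odd_kernel {F : Type*} [Field F] (d : ℕ)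
    (K : Subalgebra F (Matrix (Fin d ⊕ Fin d) (Fin d ⊕ Fin d) F)) (hK : Cfsg.Geo.IsFieldSubalgebra 2 K)
    (r : ℕ) (hr : Odd r) (x : GL (Fin d ⊕ Fin d) F) (z : F)
    (hxr : ((x ^ r : GL (Fin d ⊕ Fin d) F) : Matrix (Fin d ⊕ Fin d) (Fin d ⊕ Fin d) F) =
      z • (1 : Matrix (Fin d ⊕ Fin d) (Fin d ⊕ Fin d) F))
    (g₁ : F[X]) (hodd : Odd (Module.finrank F (LinearMap.ker (aeval (Matrix.toLin'
      (x : Matrix (Fin d ⊕ Fin d) (Fin d ⊕ Fin d) F)) g₁)))) :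
    ¬ ∃ g : GL (Fin d ⊕ Fin d) F, g⁻¹ * x * g ∈ Cfsg.Geo.subalgebraNormalizer K :=
  NOCONJ.main d K r x z
    (fun y hy hyr => commute_of_odd_order d K hK y hy r hr z hyr)
    (fun W hW => even_finrank_of_invariant d K hK W hW) hxr g₁ hodd

end Cfsg.Agent.S5976P

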