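import Mathlib
import Cfsg.Prelude.Def_GeometricClasses
import Cfsg.Prelude.Def_ClassicalGeometry
import Cfsg.Agent.Helper29.S5976Defs

set_option autoImplicit false
open scoped MatrixGroups

/-! S5976, piece NTCASES: the order of `q` mod `r` when `r` divides `|Sp_2d(q)|`. -/

namespace Cfsg.Agent.S5976P

open Polynomial

/-- NTCASES -/
theorem ord_cases_of_dvd (q r : ℕ) [Fact r.Prime] (hr2 : r ≠ 2) (hq : 2 ≤ q) (hrq : ¬ r ∣ q) (d : ℕ)
    (h : r ∣ q ^ (d ^ 2) * ∏ m ∈ Finset.range d, (q ^ (2 * (m + 1)) - 1)) :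
    (Odd (orderOf ((q : ℕ) : ZMod r)) ∧ orderOf ((q : ℕ) : ZMod r) ≤ d) ∨
    ∃ j : ℕ, 1 ≤ j ∧ orderOf ((q : ℕ) : ZMod r) = 2 * j ∧ j ≤ d := by
  have hr : r.Prime := Fact.out
  have h1 : r ∣ ∏ m ∈ Finset.range d, (q ^ (2 * (m + 1)) - 1) := by
    rcases hr.dvd_mul.mp h with h' | h'
    · exact absurd (hr.dvd_of_dvd_pow h') hrq
    · exact h'
  obtain ⟨m, hm, hdvd⟩ := (Prime.dvd_finsetProd_iff hr.prime _).mp h1
  have hmd : m < d := Finset.mem_range.mp hm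
  have hpow : ((q : ℕ) : ZMod r) ^ (2 * (m + 1)) = 1 := by
    have h2 : ((q ^ (2 * (m + 1)) - 1 : ℕ) : ZMod r) = 0 :=
      (ZMod.natCast_eq_zero_iff _ _).mpr hdvd
    have h3 : 1 ≤ q ^ (2 * (m + 1)) := Nat.one_le_pow _ _ (by omega)
    rw [Nat.cast_sub h3, Nat.cast_pow, Nat.cast_one, sub_eq_zero] at h2
    exact h2
  have hord : orderOf ((q : ℕ) : ZMod r) ∣ 2 * (m + 1) := orderOf_dvd_of_pow_eq_one hpow
  rcases Nat.even_or_odd (orderOf ((q : ℕ) : ZMod r)) with he | ho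
  · right
    obtain ⟨j, hj⟩ := he
    have hj' : orderOf ((q : ℕ) : ZMod r) = 2 * j := by rw [hj]; ring
    rw [hj'] at hord
    have hjd : j ∣ m + 1 := (Nat.mul_dvd_mul_iff_left (by norm_num)).mp hord
    have hjle : j ≤ m + 1 := Nat.le_of_dvd (Nat.succ_pos m) hjd
    refine ⟨j, ?_, hj', by omega⟩
    rcases Nat.eq_zero_or_pos j with h0 | h0
    · rw [h0] at hjd
      have := Nat.eq_zero_of_zero_dvd hjd
      omega
    · exact h0
  · left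
    refine ⟨ho, ?_⟩
    have hcop : Nat.Coprime (orderOf ((q : ℕ) : ZMod r)) 2 := Nat.Coprime.symm
      ((Nat.Prime.coprime_iff_not_dvd Nat.prime_two).mpr (fun h => by
        have := Nat.odd_iff.mp ho
        omega))
    have h4 : orderOf ((q : ℕ) : ZMod r) ∣ m + 1 := hcop.dvd_of_dvd_mul_left hord
    have := Nat.le_of_dvd (Nat.succ_pos m) h4
    omega

example (q r : ℕ) [Fact r.Prime] (hr2 : r ≠ 2) (hq : 2 ≤ q) (hrq : ¬ r ∣ q) (d : ℕ)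
    (h : r ∣ q ^ (d ^ 2) * ∏ m ∈ Finset.range d, (q ^ (2 * (m + 1)) - 1)) :
    (Odd (orderOf ((q : ℕ) : ZMod r)) ∧ orderOf ((q : ℕ) : ZMod r) ≤ d) ∨
    ∃ j : ℕ, 1 ≤ j ∧ orderOf ((q : ℕ) : ZMod r) = 2 * j ∧ j ≤ d :=
  ord_cases_of_dvd q r hr2 hq hrq d h

end Cfsg.Agent.S5976P

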