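import Mathlib
import Cfsg.Prelude.Def_GeometricClasses
import Cfsg.Prelude.Def_ClassicalGeometry
import Cfsg.Agent.Helper29.S5976Defs

set_option autoImplicit false
open scoped MatrixGroups

/-! S5976, piece QUAD: an irreducible quadratic over a finite field of odd characteristic. -/

namespace Cfsg.Agent.S5976P

open Polynomial

/-- QUAD -/
theorem exists_irreducible_quadratic {F : Type*} [Field F] [Fintype F] (h2 : (2 : F) ≠ 0) :
    ∃ t n : F, ∀ c : F, c * c - t * c + n ≠ 0 := by
  have hchar : ringChar F ≠ 2 := by
    intro h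
    apply h2
    have := ringChar.Nat.cast_ringChar (R := F)
    rw [h] at this
    exact_mod_cast this
  obtain ⟨a, ha⟩ := FiniteField.exists_nonsquare hchar
  refine ⟨0, -a, ?_⟩
  intro c hc
  apply ha
  refine ⟨c, ?_⟩
  linear_combination -hc

example {F : Type*} [Field F] [Fintype F] (h2 : (2 : F) ≠ 0) :
    ∃ t n : F, ∀ c : F, c * c - t * c + n ≠ 0 :=
  exists_irreducible_quadratic h2

end Cfsg.Agent.S5976P

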