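import Mathlib
import Cfsg.Prelude.Def_GeometricClasses
import Cfsg.Prelude.Def_ClassicalGeometry
import Cfsg.Agent.Helper29.S5977Defs
import Cfsg.Agent.Helper28.Spin6
import Cfsg.Agent.Helper28.OrthSum
import Cfsg.Agent.Helper7.OrthUni3
import Cfsg.Agent.Helper2.SpDerange
import Cfsg.Agent.Helper28.IsoTransport

set_option autoImplicit false
open scoped MatrixGroups

/-! S5977 / S5978 piece ELTMINCORE: `ord_r(q) = 2j`: a fixed-point-free isometry of order `r` of a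
`2j`-dimensional quadratic form. -/

namespace Cfsg.Agent.S5977P

open Polynomial
open Cfsg.Agent.Helper7.OrthUni (gram qf)
open Cfsg.Agent.Helper28.OrthSum (Qs)
open Cfsg.Agent.Helper28.Spin (QfPlus)

namespace ELTMINCORE

open Cfsg.Agent.Helper2.SpDerange Cfsg.Agent.Helper2.SpPairs

/-- a symplectic matrix of order `r` without fixed vectors -/
theorem exists_fpf {F : Type*} [Field F] [Fintype F]
    {p : ℕ} [Fact p.Prime] [CharP F p]
    (r : ℕ) [Fact r.Prime] (j : ℕ) (hj : 1 ≤ j)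
    (hord : orderOf ((Fintype.card F : ℕ) : ZMod r) = 2 * j) :
    ∃ y : Spd j F, y.1 ^ r = 1 ∧ Fix y.1 = ⊥ := by
  have hr : r.Prime := Fact.out
  obtain ⟨q, hq⟩ : ∃ q, Fintype.card F = q := ⟨_, rfl⟩
  rw [hq] at hord
  have hq1 : 1 ≤ q := by rw [← hq]; exact Fintype.card_pos
  have hpow2j : ((q : ℕ) : ZMod r) ^ (2 * j) = 1 := by
    rw [← hord]
    exact pow_orderOf_eq_one _
  -- `r ∤ q`
  have hrq : ¬ r ∣ q := by
    intro h
    have h0 : ((q : ℕ) : ZMod r) = 0 := (ZMod.natCast_eq_zero_iff _ _).mpr h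
    rw [h0, zero_pow (by omega)] at hpow2j
    exact zero_ne_one hpow2j
  -- `r ∣ q ^ j + 1`
  have hdvd : r ∣ q ^ j + 1 := by
    have h1 : (((q : ℕ) : ZMod r) ^ j - 1) * (((q : ℕ) : ZMod r) ^ j + 1) = 0 := by
      have : (((q : ℕ) : ZMod r) ^ j - 1) * (((q : ℕ) : ZMod r) ^ j + 1) =
          ((q : ℕ) : ZMod r) ^ (2 * j) - 1 := by ring
      rw [this, hpow2j, sub_self]
    rcases mul_eq_zero.mp h1 with h2 | h2
    · exfalso
      have h3 : ((q : ℕ) : ZMod r) ^ j = 1 := sub_eq_zero.mp h2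
      have h4 := orderOf_dvd_of_pow_eq_one h3
      rw [hord] at h4
      have := Nat.le_of_dvd (by omega) h4
      omega
    · rw [← ZMod.natCast_eq_zero_iff, Nat.cast_add, Nat.cast_pow, Nat.cast_one]
      exact h2
  obtain ⟨y, hyr, hy1, -⟩ := exists_elt (d := j) hq r j hj le_rfl hdvd
  refine ⟨y, hyr, ?_⟩
  have h5 := dvd_of_invariant hq y.1 hrq hyr ⊤ (fun u _ => Submodule.mem_top)
  rw [top_inf_eq, finrank_top, finrank_Vd] at h5
  obtain ⟨f, hf⟩ : ∃ f, f = Module.finrank F (Fix y.1) := ⟨_, rfl⟩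
  rw [← hf] at h5
  have hfle : f ≤ 2 * j := by
    rw [hf, ← finrank_Vd (F := F) (d := j)]
    exact Submodule.finrank_le _
  -- the order divides `2j - f`
  have h6 : ((q : ℕ) : ZMod r) ^ (2 * j - f) = 1 := by
    have h2 : ((q ^ (2 * j - f) - 1 : ℕ) : ZMod r) = 0 := (ZMod.natCast_eq_zero_iff _ _).mpr h5
    have h3 : 1 ≤ q ^ (2 * j - f) := Nat.one_le_pow _ _ hq1
    rw [Nat.cast_sub h3, Nat.cast_pow, Nat.cast_one, sub_eq_zero] at h2
    exact h2
  have h7 := orderOf_dvd_of_pow_eq_one h6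
  rw [hord] at h7
  have hf0 : f = 0 ∨ f = 2 * j := by
    rcases Nat.eq_zero_or_pos (2 * j - f) with h8 | h8
    · right; omega
    · left
      have := Nat.le_of_dvd h8 h7
      omega
  rcases hf0 with h9 | h9
  · rw [h9] at hf
    exact Submodule.finrank_eq_zero.mp hf.symm
  · exfalso
    apply hy1
    apply eq_one_of_fix_top
    apply Submodule.eq_top_of_finrank_eq
    rw [← hf, h9, finrank_Vd]

end ELTMINCORE

open ELTMINCORE Cfsg.Agent.Helper2.SpDerange Cfsg.Agent.Helper2.SpPairs Matrix in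
/-- ELTMINCORE -/
theorem exists_elt_min_core {F : Type*} [Field F] [Fintype F] (h2 : (2 : F) ≠ 0)
    {p : ℕ} [Fact p.Prime] [CharP F p]
    (r : ℕ) [Fact r.Prime] (hr2 : r ≠ 2) (hrp : r ≠ p) (j : ℕ) (hj : 1 ≤ j)
    (hord : orderOf ((Fintype.card F : ℕ) : ZMod r) = 2 * j) :
    ∃ (Q₁ : QuadraticForm F (Fin j ⊕ Fin j → F)) (x₁ : GL (Fin j ⊕ Fin j) F),
      (QuadraticMap.polarBilin Q₁).Nondegenerate ∧ x₁ ∈ Cfsg.isometryGroup F ⇑Q₁ ∧ x₁ ^ r = 1 ∧
      Module.finrank F (LinearMap.ker (aeval (Matrix.toLin'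
        (x₁ : Matrix (Fin j ⊕ Fin j) (Fin j ⊕ Fin j) F)) (X - 1 : F[X]))) = 0 := by
  have hr : r.Prime := Fact.out
  obtain ⟨y, hyr, hfix⟩ := exists_fpf (F := F) (p := p) r j hj hord
  obtain ⟨Y, hY⟩ : ∃ Y : Md j F, Y = y.1 := ⟨_, rfl⟩
  obtain ⟨Yi, hYi⟩ : ∃ Yi : Md j F, Yi = (y⁻¹).1 := ⟨_, rfl⟩
  have hYYi : Y * Yi = 1 := by
    rw [hY, hYi]
    exact congrArg Subtype.val (mul_inv_cancel y)
  have hYiY : Yi * Y = 1 := by
    rw [hY, hYi]
    exact congrArg Subtype.val (inv_mul_cancel y)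
  have hYr : Y ^ r = 1 := by rw [hY]; exact hyr
  have hsympY : Yᵀ * Matrix.J (Fin j) F * Y = Matrix.J (Fin j) F := by
    rw [hY]
    exact SymplecticGroup.mem_iff'.mp y.2
  have hsympYi : Yiᵀ * Matrix.J (Fin j) F * Yi = Matrix.J (Fin j) F := by
    rw [hYi]
    exact SymplecticGroup.mem_iff'.mp (y⁻¹).2
  -- `Yᵀ J = J Yi`, `Yiᵀ J = J Y`
  have e1 : Yᵀ * Matrix.J (Fin j) F = Matrix.J (Fin j) F * Yi := by
    have := congrArg (fun M => M * Yi) hsympY
    simp only [mul_assoc, hYYi, mul_one] at this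
    exact this
  have e2 : Yiᵀ * Matrix.J (Fin j) F = Matrix.J (Fin j) F * Y := by
    have := congrArg (fun M => M * Y) hsympYi
    simp only [mul_assoc, hYiY, mul_one] at this
    exact this
  obtain ⟨S, hS⟩ : ∃ S : Md j F, S = Matrix.J (Fin j) F * (Y - Yi) := ⟨_, rfl⟩
  have hSsym : Sᵀ = S := by
    rw [hS, Matrix.transpose_mul, Matrix.transpose_sub, Matrix.J_transpose, Matrix.mul_neg,
      Matrix.sub_mul, e1, e2, Matrix.mul_sub]
    abel
  have hSinv : Yᵀ * S * Y = S := by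
    have h1 : Yᵀ * (Matrix.J (Fin j) F * (Y - Yi)) * Y =
        (Yᵀ * Matrix.J (Fin j) F) * ((Y - Yi) * Y) := by simp only [mul_assoc]
    have h3 : (Y - Yi) * Y = Y * Y - 1 := by rw [Matrix.sub_mul, hYiY]
    have h4 : Yi * (Y * Y - 1) = Y - Yi := by
      rw [Matrix.mul_sub, ← mul_assoc, hYiY, one_mul, mul_one]
    rw [hS, h1, e1, h3, mul_assoc, h4]
  -- fixed vectors
  have hfixv : ∀ v : Fin j ⊕ Fin j → F, Y.mulVec v = v → v = 0 := by
    intro v hv
    have : v ∈ Fix y.1 := by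
      rw [mem_Fix, ← hY]
      exact hv
    rw [hfix] at this
    exact (Submodule.mem_bot F).mp this
  -- `S` is invertible
  have hSunit : IsUnit S := by
    rw [← Matrix.mulVec_injective_iff_isUnit]
    intro v w hvw
    have h0 : S.mulVec (v - w) = 0 := by rw [Matrix.mulVec_sub, hvw, sub_self]
    have h1 : (Y - Yi).mulVec (v - w) = 0 := by
      have h3 := congrArg (fun u => (-Matrix.J (Fin j) F).mulVec u) h0
      simp only [hS, Matrix.mulVec_mulVec, Matrix.mulVec_zero] at h3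
      rw [← mul_assoc, Matrix.neg_mul, Matrix.J_squared, neg_neg, Matrix.one_mul] at h3
      exact h3
    -- `Y² u = u`
    have h4 : (Y * Y).mulVec (v - w) = v - w := by
      have h5 := congrArg (fun u => Y.mulVec u) h1
      simp only [Matrix.mulVec_mulVec, Matrix.mulVec_zero] at h5
      rw [Matrix.mul_sub, hYYi, Matrix.sub_mulVec, Matrix.one_mulVec, sub_eq_zero] at h5
      exact h5
    -- hence `Y u = u`
    have hrodd : Odd r := hr.odd_of_ne_two hr2
    obtain ⟨k, hk⟩ := hrodd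
    have h6 : ∀ n : ℕ, ((Y * Y) ^ n).mulVec (v - w) = v - w := by
      intro n
      induction n with
      | zero => rw [pow_zero, Matrix.one_mulVec]
      | succ n ih => rw [pow_succ, ← Matrix.mulVec_mulVec, h4, ih]
    have h7 : Y.mulVec (v - w) = v - w := by
      have h8 : Y ^ r = Y * (Y * Y) ^ k := by
        rw [hk, pow_succ', pow_mul, pow_two]
      have h9 : (Y ^ r).mulVec (v - w) = v - w := by rw [hYr, Matrix.one_mulVec]
      rw [h8, ← Matrix.mulVec_mulVec, h6 k] at h9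
      exact h9
    exact sub_eq_zero.mp (hfixv _ h7)
  -- the unit
  let x₁ : GL (Fin j ⊕ Fin j) F := ⟨Y, Yi, hYYi, hYiY⟩
  refine ⟨qf S, x₁, Cfsg.Agent.Helper7.OrthUni.qf_nondeg h2 hSsym hSunit, ?_, ?_, ?_⟩
  · rw [Cfsg.Agent.Helper28.IsoTransport.mem_isometryGroup_iff]
    intro u
    exact Cfsg.Agent.Helper7.OrthUni.qf_mulVec hSinv u
  · apply Units.ext
    rw [Units.val_pow_eq_pow_val]
    exact hYr
  · have hker : LinearMap.ker (aeval (Matrix.toLin'
        (x₁ : Matrix (Fin j ⊕ Fin j) (Fin j ⊕ Fin j) F)) (X - 1 : F[X])) = ⊥ := by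
      rw [Submodule.eq_bot_iff]
      intro v hv
      rw [LinearMap.mem_ker, map_sub, aeval_X, map_one, LinearMap.sub_apply,
        Matrix.toLin'_apply, Module.End.one_apply, sub_eq_zero] at hv
      exact hfixv v hv
    rw [hker, finrank_bot]

end Cfsg.Agent.S5977P
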