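import Mathlib
import Cfsg.Prelude.Def_GeometricClasses
import Cfsg.Prelude.Def_ClassicalGeometry
import Cfsg.Agent.Helper29.S5977Defs
import Cfsg.Agent.Helper28.Spin6
import Cfsg.Agent.Helper28.OrthSum
import Cfsg.Agent.Helper7.OrthUni3

set_option autoImplicit false
open scoped MatrixGroups

/-! S5977 / S5978 piece NTCASESS: the order of `q` mod `r` when `r` divides `|O^ε_2d(q)|`. -/

namespace Cfsg.Agent.S5977P

open Polynomial
open Cfsg.Agent.Helper7.OrthUni (gram qf)
open Cfsg.Agent.Helper28.OrthSum (Qs)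
open Cfsg.Agent.Helper28.Spin (QfPlus)

namespace NTCASESS

theorem pow_eq_one_of_dvd (q r n : ℕ) (hq : 2 ≤ q) (h : r ∣ q ^ n - 1) :
    ((q : ℕ) : ZMod r) ^ n = 1 := by
  have h2 : ((q ^ n - 1 : ℕ) : ZMod r) = 0 := (ZMod.natCast_eq_zero_iff _ _).mpr h
  have h3 : 1 ≤ q ^ n := Nat.one_le_pow _ _ (by omega)
  rw [Nat.cast_sub h3, Nat.cast_pow, Nat.cast_one, sub_eq_zero] at h2
  exact h2

theorem pow_eq_neg_one_of_dvd (q r n : ℕ) (h : r ∣ q ^ n + 1) :
    ((q : ℕ) : ZMod r) ^ n = -1 := by
  have h2 : ((q ^ n + 1 : ℕ) : ZMod r) = 0 := (ZMod.natCast_eq_zero_iff _ _).mpr h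
  rw [Nat.cast_add, Nat.cast_pow, Nat.cast_one] at h2
  exact eq_neg_of_add_eq_zero_left h2

/-- odd order dividing `2 n` divides `n` -/
theorem odd_dvd (i n : ℕ) (ho : Odd i) (h : i ∣ 2 * n) : i ∣ n := by
  have hcop : Nat.Coprime i 2 := Nat.Coprime.symm
    ((Nat.Prime.coprime_iff_not_dvd Nat.prime_two).mpr (fun h => by
      have := Nat.odd_iff.mp ho
      omega))
  exact hcop.dvd_of_dvd_mul_left h

end NTCASESS

open NTCASESS in
/-- NTCASESS -/
theorem ord_cases_of_dvdS (q r d : ℕ) [Fact r.Prime] (hr2 : r ≠ 2) (hq : 2 ≤ q)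
    (hrq : ¬ r ∣ q) (hd : 1 ≤ d) (plus : Bool) (hdvd : r ∣ cardO q d plus) :
    (Odd (orderOf ((q : ℕ) : ZMod r)) ∧ (orderOf ((q : ℕ) : ZMod r) + 1 ≤ d ∨
        (plus = true ∧ orderOf ((q : ℕ) : ZMod r) = d))) ∨
    ∃ j, 1 ≤ j ∧ orderOf ((q : ℕ) : ZMod r) = 2 * j ∧ (j + 1 ≤ d ∨ (plus = false ∧ j = d)) := by
  have hr : r.Prime := Fact.out
  obtain ⟨i, hi⟩ : ∃ i, i = orderOf ((q : ℕ) : ZMod r) := ⟨_, rfl⟩
  rw [← hi]
  -- a positive multiple `n` of the order, and what we know
  have hmain : ∀ n : ℕ, 1 ≤ n → i ∣ 2 * n → n + 1 ≤ d →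
      (Odd i ∧ (i + 1 ≤ d ∨ (plus = true ∧ i = d))) ∨
      ∃ j, 1 ≤ j ∧ i = 2 * j ∧ (j + 1 ≤ d ∨ (plus = false ∧ j = d)) := by
    intro n hn hdiv hnd
    rcases Nat.even_or_odd i with he | ho
    · right
      obtain ⟨j, hj⟩ := he
      have hj' : i = 2 * j := by rw [hj]; ring
      rw [hj'] at hdiv
      have hjn : j ∣ n := (Nat.mul_dvd_mul_iff_left (by norm_num)).mp hdiv
      have hjle : j ≤ n := Nat.le_of_dvd (by omega) hjn
      refine ⟨j, ?_, hj', Or.inl (by omega)⟩
      rcases Nat.eq_zero_or_pos j with h0 | h0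
      · rw [h0] at hjn
        have := Nat.eq_zero_of_zero_dvd hjn
        omega
      · exact h0
    · left
      refine ⟨ho, Or.inl ?_⟩
      have h4 : i ∣ n := odd_dvd i n ho hdiv
      have := Nat.le_of_dvd (by omega) h4
      omega
  unfold cardO at hdvd
  rcases hr.dvd_mul.mp hdvd with h1 | h1
  · rcases hr.dvd_mul.mp h1 with h2 | h2
    · rcases hr.dvd_mul.mp h2 with h3 | h3
      · exact absurd ((Nat.prime_dvd_prime_iff_eq hr Nat.prime_two).mp h3) hr2
      · exact absurd (hr.dvd_of_dvd_pow h3) hrq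
    · -- the factor `q ^ d ∓ 1`
      by_cases hp : plus = true
      · rw [if_pos hp] at h2
        have hpow := pow_eq_one_of_dvd q r d hq h2
        have hid : i ∣ d := by rw [hi]; exact orderOf_dvd_of_pow_eq_one hpow
        have hile : i ≤ d := Nat.le_of_dvd (by omega) hid
        rcases Nat.even_or_odd i with he | ho
        · right
          obtain ⟨j, hj⟩ := he
          have hj' : i = 2 * j := by rw [hj]; ring
          refine ⟨j, ?_, hj', Or.inl (by omega)⟩
          rcases Nat.eq_zero_or_pos j with h0 | h0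
          · rw [hj', h0] at hid
            have := Nat.eq_zero_of_zero_dvd hid
            omega
          · exact h0
        · left
          refine ⟨ho, ?_⟩
          rcases Nat.lt_or_ge i d with hlt | hge
          · left; omega
          · right; exact ⟨hp, by omega⟩
      · rw [if_neg hp] at h2
        have hp' : plus = false := by
          cases plus
          · rfl
          · exact absurd rfl hp
        have hpow := pow_eq_neg_one_of_dvd q r d h2
        have hpow2 : ((q : ℕ) : ZMod r) ^ (2 * d) = 1 := by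
          rw [mul_comm, pow_mul, hpow]
          ring
        have hi2d : i ∣ 2 * d := by rw [hi]; exact orderOf_dvd_of_pow_eq_one hpow2
        have hnd : ¬ i ∣ d := by
          intro hid
          have h5 : ((q : ℕ) : ZMod r) ^ d = 1 := by
            rw [hi] at hid
            exact orderOf_dvd_iff_pow_eq_one.mp hid
          rw [h5] at hpow
          have h6 : ((2 : ℕ) : ZMod r) = 0 := by
            have : (1 : ZMod r) + 1 = 0 := by
              nth_rewrite 1 [hpow]
              ring
            rw [Nat.cast_ofNat, ← one_add_one_eq_two]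
            exact this
          have h7 : r ∣ 2 := (ZMod.natCast_eq_zero_iff _ _).mp h6
          exact hr2 ((Nat.prime_dvd_prime_iff_eq hr Nat.prime_two).mp h7)
        rcases Nat.even_or_odd i with he | ho
        · right
          obtain ⟨j, hj⟩ := he
          have hj' : i = 2 * j := by rw [hj]; ring
          rw [hj'] at hi2d
          have hjd : j ∣ d := (Nat.mul_dvd_mul_iff_left (by norm_num)).mp hi2d
          have hjle : j ≤ d := Nat.le_of_dvd (by omega) hjd
          refine ⟨j, ?_, hj', ?_⟩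
          · rcases Nat.eq_zero_or_pos j with h0 | h0
            · rw [h0] at hjd
              have := Nat.eq_zero_of_zero_dvd hjd
              omega
            · exact h0
          · rcases Nat.lt_or_ge j d with hlt | hge
            · left; omega
            · right; exact ⟨hp', by omega⟩
        · exact absurd (odd_dvd i d ho hi2d) hnd
  · -- a factor of the product
    obtain ⟨k, hk, hkdvd⟩ := (Prime.dvd_finsetProd_iff hr.prime _).mp h1
    have hkd : k < d - 1 := Finset.mem_range.mp hk
    have hpow := pow_eq_one_of_dvd q r (2 * (k + 1)) hq hkdvd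
    have hik : i ∣ 2 * (k + 1) := by rw [hi]; exact orderOf_dvd_of_pow_eq_one hpow
    exact hmain (k + 1) (by omega) hik (by omega)

end Cfsg.Agent.S5977P
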