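import Mathlib
import Cfsg.Prelude.Def_GeometricClasses
import Cfsg.Prelude.Def_ClassicalGeometry
import Cfsg.Agent.Helper29.S5977Defs
import Cfsg.Agent.Helper28.Spin6
import Cfsg.Agent.Helper28.OrthSum
import Cfsg.Agent.Helper7.OrthUni3

set_option autoImplicit false
open scoped MatrixGroups

/-! S5977 / S5978 piece NTS: `ord_r(q) = 2j`, `j` even: the `r`-parts of `|O^ε_2d(q)|` and
`|O_d(q²)|` agree. -/

namespace Cfsg.Agent.S5977P

open Polynomial
open Cfsg.Agent.Helper7.OrthUni (gram qf)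
open Cfsg.Agent.Helper28.OrthSum (Qs)
open Cfsg.Agent.Helper28.Spin (QfPlus)

namespace NTS

/-- only the multiples of `k` contribute -/
theorem sum_multiples (f : ℕ → ℕ) (k : ℕ) (hk : 1 ≤ k) (hf : ∀ M, ¬ k ∣ M → f M = 0) (m : ℕ) :
    ∑ t ∈ Finset.range (k * m), f (t + 1) = ∑ t ∈ Finset.range m, f (k * (t + 1)) := by
  induction m with
  | zero => simp
  | succ m ih =>
    rw [Nat.mul_succ, Finset.sum_range_add, ih, Finset.sum_range_succ]
    congr 1
    rw [Finset.sum_eq_single (k - 1)]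
    · congr 1
      have : k * (m + 1) = k * m + k := Nat.mul_succ k m
      omega
    · intro x hx hne
      apply hf
      have hxk : x < k := Finset.mem_range.mp hx
      intro hdvd
      have h1 : k ∣ x + 1 := by
        have h2 : k ∣ k * m := dvd_mul_right k m
        have h3 : k * m + x + 1 = k * m + (x + 1) := by ring
        rw [h3] at hdvd
        exact (Nat.dvd_add_right h2).mp hdvd
      have h4 := Nat.le_of_dvd (Nat.succ_pos x) h1
      omega
    · intro h
      exfalso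
      apply h
      rw [Finset.mem_range]
      omega

theorem padicValNat_prod (r : ℕ) [Fact r.Prime] (n : ℕ) (g : ℕ → ℕ) (hg : ∀ t, g t ≠ 0) :
    padicValNat r (∏ t ∈ Finset.range n, g t) = ∑ t ∈ Finset.range n, padicValNat r (g t) := by
  have hr : r.Prime := Fact.out
  rw [← Nat.factorization_def _ hr, Nat.factorization_prod (fun t _ => hg t)]
  rw [Finset.sum_apply']
  apply Finset.sum_congr rfl
  intro t _
  exact Nat.factorization_def _ hr

theorem pow_sub_ne_zero (q : ℕ) (hq : 2 ≤ q) (n : ℕ) (hn : 1 ≤ n) : q ^ n - 1 ≠ 0 := by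
  have h1 : 2 ^ n ≤ q ^ n := Nat.pow_le_pow_left hq n
  have h2 : 2 ≤ 2 ^ n := by
    calc 2 = 2 ^ 1 := by norm_num
      _ ≤ 2 ^ n := Nat.pow_le_pow_right (by norm_num) hn
  omega

theorem val_pow (q r : ℕ) [Fact r.Prime] (hrq : ¬ r ∣ q) (n : ℕ) :
    padicValNat r (q ^ n) = 0 := by
  apply padicValNat.eq_zero_of_not_dvd
  intro h
  exact hrq ((Fact.out : r.Prime).dvd_of_dvd_pow h)

theorem val_two (r : ℕ) [Fact r.Prime] (hr2 : r ≠ 2) : padicValNat r 2 = 0 := by
  apply padicValNat.eq_zero_of_not_dvd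
  intro h
  exact hr2 ((Nat.prime_dvd_prime_iff_eq (Fact.out : r.Prime) Nat.prime_two).mp h)

theorem val_cardO (q r : ℕ) [Fact r.Prime] (hr2 : r ≠ 2) (hq : 2 ≤ q) (hrq : ¬ r ∣ q)
    (D : ℕ) (hD : 1 ≤ D) (plus : Bool) :
    padicValNat r (cardO q D plus) =
      padicValNat r (if plus = true then q ^ D - 1 else q ^ D + 1) +
        ∑ k ∈ Finset.range (D - 1), padicValNat r (q ^ (2 * (k + 1)) - 1) := by
  have hq0 : q ≠ 0 := by omega
  have hmid : (if plus = true then q ^ D - 1 else q ^ D + 1) ≠ 0 := by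
    split_ifs
    · exact pow_sub_ne_zero q hq D hD
    · exact Nat.succ_ne_zero _
  have hprod : ∏ k ∈ Finset.range (D - 1), (q ^ (2 * (k + 1)) - 1) ≠ 0 := by
    rw [Finset.prod_ne_zero_iff]
    intro t _
    exact pow_sub_ne_zero q hq _ (by omega)
  unfold cardO
  rw [padicValNat.mul (mul_ne_zero (mul_ne_zero two_ne_zero (pow_ne_zero _ hq0)) hmid) hprod,
    padicValNat.mul (mul_ne_zero two_ne_zero (pow_ne_zero _ hq0)) hmid,
    padicValNat.mul two_ne_zero (pow_ne_zero _ hq0), val_two r hr2, val_pow q r hrq, zero_add,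
    zero_add, padicValNat_prod r (D - 1) (fun k => q ^ (2 * (k + 1)) - 1)
      (fun t => pow_sub_ne_zero q hq _ (by omega))]

theorem val_cardOodd (q r : ℕ) [Fact r.Prime] (hr2 : r ≠ 2) (hq : 2 ≤ q) (hrq : ¬ r ∣ q)
    (M : ℕ) :
    padicValNat r (cardOodd q M) =
      ∑ k ∈ Finset.range M, padicValNat r (q ^ (2 * (k + 1)) - 1) := by
  have hq0 : q ≠ 0 := by omega
  have hprod : ∏ k ∈ Finset.range M, (q ^ (2 * (k + 1)) - 1) ≠ 0 := by
    rw [Finset.prod_ne_zero_iff]
    intro t _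
    exact pow_sub_ne_zero q hq _ (by omega)
  unfold cardOodd
  rw [padicValNat.mul (mul_ne_zero two_ne_zero (pow_ne_zero _ hq0)) hprod,
    padicValNat.mul two_ne_zero (pow_ne_zero _ hq0), val_two r hr2, val_pow q r hrq, zero_add,
    zero_add, padicValNat_prod r M (fun k => q ^ (2 * (k + 1)) - 1)
      (fun t => pow_sub_ne_zero q hq _ (by omega))]

theorem pow_eq_one_of_dvd (q r n : ℕ) (hq : 2 ≤ q) (h : r ∣ q ^ n - 1) :
    ((q : ℕ) : ZMod r) ^ n = 1 := by
  have h2 : ((q ^ n - 1 : ℕ) : ZMod r) = 0 := (ZMod.natCast_eq_zero_iff _ _).mpr h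
  have h3 : 1 ≤ q ^ n := Nat.one_le_pow _ _ (by omega)
  rw [Nat.cast_sub h3, Nat.cast_pow, Nat.cast_one, sub_eq_zero] at h2
  exact h2

theorem pow_eq_neg_one_of_dvd (q r n : ℕ) (h : r ∣ q ^ n + 1) :
    ((q : ℕ) : ZMod r) ^ n = -1 := by
  have h2 : ((q ^ n + 1 : ℕ) : ZMod r) = 0 := (ZMod.natCast_eq_zero_iff _ _).mpr h
  rw [Nat.cast_add, Nat.cast_pow, Nat.cast_one] at h2
  exact eq_neg_of_add_eq_zero_left h2

end NTS

open NTS in
/-- NTS -/
theorem val_cardOK_eq (q r d : ℕ) [Fact r.Prime] (hr2 : r ≠ 2) (hq : 2 ≤ q)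
    (hrq : ¬ r ∣ q) (hd : 1 ≤ d) (plus : Bool) (j : ℕ) (hj1 : 1 ≤ j) (hj : Even j)
    (hord : orderOf ((q : ℕ) : ZMod r) = 2 * j) :
    padicValNat r (cardO q d plus) = padicValNat r (cardOK q d plus) := by
  have hr : r.Prime := Fact.out
  have hq2 : 2 ≤ q ^ 2 := by nlinarith
  have hrq2 : ¬ r ∣ q ^ 2 := fun h => hrq (hr.dvd_of_dvd_pow h)
  have h2j : 2 ∣ j := hj.two_dvd
  -- `r ∣ q ^ (2 M) - 1` forces `M` even
  have hkey : ∀ M : ℕ, r ∣ q ^ (2 * M) - 1 → 2 ∣ M := by
    intro M hdvd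
    have hpow := pow_eq_one_of_dvd q r (2 * M) hq hdvd
    have hdiv : orderOf ((q : ℕ) : ZMod r) ∣ 2 * M := orderOf_dvd_of_pow_eq_one hpow
    rw [hord] at hdiv
    have hjM : j ∣ M := (Nat.mul_dvd_mul_iff_left (by norm_num)).mp hdiv
    exact dvd_trans h2j hjM
  let f : ℕ → ℕ := fun M => padicValNat r (q ^ (2 * M) - 1)
  have hf : ∀ M, ¬ 2 ∣ M → f M = 0 := by
    intro M hM
    apply padicValNat.eq_zero_of_not_dvd
    intro h
    exact hM (hkey M h)
  have hfq2 : ∀ k : ℕ, padicValNat r ((q ^ 2) ^ (2 * (k + 1)) - 1) = f (2 * (k + 1)) := by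
    intro k
    show _ = padicValNat r (q ^ (2 * (2 * (k + 1))) - 1)
    rw [← pow_mul]
  rw [val_cardO q r hr2 hq hrq d hd plus]
  have hL : ∑ k ∈ Finset.range (d - 1), padicValNat r (q ^ (2 * (k + 1)) - 1) =
      ∑ k ∈ Finset.range (d - 1), f (k + 1) := rfl
  rw [hL]
  unfold cardOK
  by_cases hde : Even d
  · rw [if_pos hde]
    obtain ⟨m, hm⟩ := hde
    have hm1 : 1 ≤ m := by omega
    have hdm : d / 2 = m := by omega
    rw [hdm, val_cardO (q ^ 2) r hr2 hq2 hrq2 m hm1 plus]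
    have hpowd : (q ^ 2) ^ m = q ^ d := by
      rw [← pow_mul]
      congr 1
      omega
    rw [hpowd]
    congr 1
    -- the sums
    have hd1 : d - 1 = 2 * (m - 1) + 1 := by omega
    rw [hd1, Finset.sum_range_succ, sum_multiples f 2 (by norm_num) hf (m - 1)]
    have hodd : f (2 * (m - 1) + 1) = 0 := hf _ (by omega)
    rw [hodd, add_zero]
    apply Finset.sum_congr rfl
    intro k _
    exact (hfq2 k).symm
  · rw [if_neg hde]
    have hdo : Odd d := Nat.not_even_iff_odd.mp hde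
    obtain ⟨m, hm⟩ := hdo
    have hdm : d / 2 = m := by omega
    rw [hdm, val_cardOodd (q ^ 2) r hr2 hq2 hrq2 m]
    -- the middle factor is prime to `r`
    have hmid : padicValNat r (if plus = true then q ^ d - 1 else q ^ d + 1) = 0 := by
      apply padicValNat.eq_zero_of_not_dvd
      intro hdvd
      by_cases hp : plus = true
      · rw [if_pos hp] at hdvd
        have hpow := pow_eq_one_of_dvd q r d hq hdvd
        have hdiv : orderOf ((q : ℕ) : ZMod r) ∣ d := orderOf_dvd_of_pow_eq_one hpow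
        rw [hord] at hdiv
        have : 2 ∣ d := dvd_trans (dvd_mul_right 2 j) hdiv
        omega
      · rw [if_neg hp] at hdvd
        have hpow := pow_eq_neg_one_of_dvd q r d hdvd
        have hpow2 : ((q : ℕ) : ZMod r) ^ (2 * d) = 1 := by
          rw [mul_comm, pow_mul, hpow]
          ring
        have hdiv : orderOf ((q : ℕ) : ZMod r) ∣ 2 * d := orderOf_dvd_of_pow_eq_one hpow2
        rw [hord] at hdiv
        have hjd : j ∣ d := (Nat.mul_dvd_mul_iff_left (by norm_num)).mp hdiv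
        have : 2 ∣ d := dvd_trans h2j hjd
        omega
    rw [hmid, zero_add]
    have hd1 : d - 1 = 2 * m := by omega
    rw [hd1, sum_multiples f 2 (by norm_num) hf m]
    apply Finset.sum_congr rfl
    intro k _
    exact (hfq2 k).symm

end Cfsg.Agent.S5977P
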