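import Mathlib
import Cfsg.Prelude.Def_GeometricClasses
import Cfsg.Prelude.Def_ClassicalGeometry
import Cfsg.Agent.Helper29.S5977Defs
import Cfsg.Agent.Helper28.Spin6
import Cfsg.Agent.Helper28.OrthSum
import Cfsg.Agent.Helper7.OrthUni3

set_option autoImplicit false
open scoped MatrixGroups

/-! S5977 / S5978 piece SYLS: generic Sylow / Lagrange bookkeeping. -/

namespace Cfsg.Agent.S5977P

open Polynomial
open Cfsg.Agent.Helper7.OrthUni (gram qf)
open Cfsg.Agent.Helper28.OrthSum (Qs)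
open Cfsg.Agent.Helper28.Spin (QfPlus)

/-- SYLS -/
theorem val_lt_of_dvd_relIndex {G : Type*} [Group G] [Finite G] (O Ω N C : Subgroup G)
    (r : ℕ) [Fact r.Prime] (hΩO : Ω ≤ O) (hC : C ≤ O ⊓ N)
    (hodd : ∀ g ∈ O, (∃ k : ℕ, g ^ (r ^ k) = 1) → g ∈ Ω) (hdvd : r ∣ N.relIndex Ω) :
    padicValNat r (Nat.card C) + 1 ≤ padicValNat r (Nat.card O) := by
  have hr : r.Prime := Fact.out
  -- a Sylow `r`-subgroup of `C`
  obtain ⟨P⟩ : Nonempty (Sylow r C) := inferInstance
  have hPcard : Nat.card P = r ^ (Nat.card C).factorization r := P.card_eq_multiplicity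
  have hfac : (Nat.card C).factorization r = padicValNat r (Nat.card C) :=
    Nat.factorization_def _ hr
  -- its image in `G` lies in `N ⊓ Ω`
  have hle : (P : Subgroup C).map C.subtype ≤ N ⊓ Ω := by
    rintro x ⟨g, hg, rfl⟩
    have hgO : (g : G) ∈ O := (hC g.2).1
    have hgN : (g : G) ∈ N := (hC g.2).2
    refine ⟨hgN, hodd _ hgO ?_⟩
    obtain ⟨k, hk⟩ := P.isPGroup' ⟨g, hg⟩
    refine ⟨k, ?_⟩
    have h1 : (g ^ r ^ k : C) = 1 := by
      have := congrArg Subtype.val hk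
      exact this
    have h2 := congrArg Subtype.val h1
    exact h2
  have hcardmap : Nat.card ((P : Subgroup C).map C.subtype) = Nat.card P :=
    Subgroup.card_map_of_injective C.subtype_injective
  have hdvd1 : r ^ padicValNat r (Nat.card C) ∣ Nat.card ↥(N ⊓ Ω) := by
    rw [← hfac, ← hPcard, ← hcardmap]
    exact Subgroup.card_dvd_of_le hle
  -- `|Ω| = |N ⊓ Ω| * relIndex`
  have hmul : Nat.card ↥(N ⊓ Ω) * N.relIndex Ω = Nat.card Ω := by
    have h := Subgroup.relIndex_mul_relIndex (⊥ : Subgroup G) (N ⊓ Ω) Ω bot_le inf_le_right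
    rw [Subgroup.relIndex_bot_left, Subgroup.relIndex_bot_left, Subgroup.inf_relIndex_right] at h
    exact h
  have hdvd2 : r ^ (padicValNat r (Nat.card C) + 1) ∣ Nat.card O := by
    have h3 : r ^ (padicValNat r (Nat.card C) + 1) ∣ Nat.card Ω := by
      rw [← hmul, pow_succ]
      exact Nat.mul_dvd_mul hdvd1 hdvd
    exact dvd_trans h3 (Subgroup.card_dvd_of_le hΩO)
  have hO0 : Nat.card O ≠ 0 := Nat.card_pos.ne'
  exact (padicValNat_dvd_iff_le hO0).mp hdvd2

end Cfsg.Agent.S5977P
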