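import Mathlib
import Cfsg.Prelude.Def_GeometricClasses

set_option autoImplicit false
open scoped MatrixGroups Kronecker TensorProduct

/-! S5979, piece DETINV: the determinant of `f` with `f ^ 2 = μ ^ 2`. -/

namespace Cfsg.Agent.S5979P

/-- DETINV: the determinant of `f` with `f ^ 2 = μ ^ 2` -/
theorem det_involution {F V : Type*} [Field F] [AddCommGroup V] [Module F V]
    [FiniteDimensional F V] (h2 : (2 : F) ≠ 0) (f : Module.End F V) (μ : F) (hμ : μ ≠ 0)
    (hf : f ^ 2 = (μ ^ 2) • (1 : Module.End F V)) :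
    LinearMap.det f = μ ^ Module.finrank F V *
      (-1) ^ Module.finrank F (LinearMap.ker (f + μ • (1 : Module.End F V))) := by
  classical
  have hff : ∀ v, f (f v) = (μ ^ 2) • v := by
    intro v
    have := LinearMap.congr_fun hf v
    rwa [pow_two, Module.End.mul_apply, LinearMap.smul_apply, Module.End.one_apply] at this
  have h2μ : (2 * μ : F) ≠ 0 := mul_ne_zero h2 hμ
  obtain ⟨p, hp⟩ : ∃ p : Submodule F V, p = LinearMap.ker (f - μ • (1 : Module.End F V)) :=
    ⟨_, rfl⟩
  obtain ⟨q, hq⟩ : ∃ q : Submodule F V, q = LinearMap.ker (f + μ • (1 : Module.End F V)) :=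
    ⟨_, rfl⟩
  have hpm : ∀ v, v ∈ p ↔ f v = μ • v := by
    intro v
    rw [hp, LinearMap.mem_ker, LinearMap.sub_apply, LinearMap.smul_apply, Module.End.one_apply,
      sub_eq_zero]
  have hqm : ∀ v, v ∈ q ↔ f v = -(μ • v) := by
    intro v
    rw [hq, LinearMap.mem_ker, LinearMap.add_apply, LinearMap.smul_apply, Module.End.one_apply,
      add_eq_zero_iff_eq_neg]
  have hcompl : IsCompl p q := by
    constructor
    · rw [Submodule.disjoint_def]
      intro v hvp hvq
      rw [hpm] at hvp
      rw [hqm] at hvq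
      have h3 : (2 * μ) • v = 0 := by
        have : μ • v = -(μ • v) := hvp.symm.trans hvq
        rw [mul_smul, two_smul]
        nth_rewrite 1 [this]
        exact neg_add_cancel _
      exact (smul_eq_zero.mp h3).resolve_left h2μ
    · rw [codisjoint_iff, eq_top_iff]
      intro v _
      have h3 : v = (2 * μ)⁻¹ • (f v + μ • v) + (-(2 * μ)⁻¹) • (f v - μ • v) := by
        rw [neg_smul, ← sub_eq_add_neg, ← smul_sub]
        have : f v + μ • v - (f v - μ • v) = (2 * μ) • v := by
          rw [mul_smul, two_smul]; abel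
        rw [this, smul_smul, inv_mul_cancel₀ h2μ, one_smul]
      rw [h3]
      apply Submodule.add_mem_sup
      · apply p.smul_mem
        rw [hpm, map_add, map_smul, hff, smul_add, smul_smul, ← pow_two, add_comm]
      · apply q.smul_mem
        rw [hqm, map_sub, map_smul, hff, smul_sub, smul_smul, ← pow_two, neg_sub]
  obtain ⟨e, he⟩ : ∃ e : (p × q) ≃ₗ[F] V, ∀ a : p, ∀ b : q, e (a, b) = (a : V) + (b : V) :=
    ⟨Submodule.prodEquivOfIsCompl p q hcompl, fun a b => rfl⟩
  have hconj : f = (e : (p × q) →ₗ[F] V) ∘ₗ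
      (LinearMap.prodMap (μ • (1 : Module.End F p)) ((-μ) • (1 : Module.End F q))) ∘ₗ
      (e.symm : V →ₗ[F] (p × q)) := by
    apply LinearMap.ext
    intro v
    obtain ⟨⟨a, b⟩, rfl⟩ := e.surjective v
    simp only [LinearMap.comp_apply, LinearEquiv.coe_coe, LinearEquiv.symm_apply_apply,
      LinearMap.prodMap_apply, LinearMap.smul_apply, Module.End.one_apply]
    rw [he, he, map_add, (hpm a).mp a.2, (hqm b).mp b.2]
    simp
  have hdim : Module.finrank F p + Module.finrank F q = Module.finrank F V :=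
    Submodule.finrank_add_eq_of_isCompl hcompl
  have hdet : LinearMap.det f = μ ^ Module.finrank F p * (-μ) ^ Module.finrank F q := by
    rw [hconj, LinearMap.det_conj, LinearMap.det_prodMap, LinearMap.det_smul, LinearMap.det_smul]
    simp only [map_one, mul_one]
  rw [hdet, ← hdim, ← hq, neg_pow, pow_add]
  ring

example {F V : Type*} [Field F] [AddCommGroup V] [Module F V]
    [FiniteDimensional F V] (h2 : (2 : F) ≠ 0) (f : Module.End F V) (μ : F) (hμ : μ ≠ 0)
    (hf : f ^ 2 = (μ ^ 2) • (1 : Module.End F V)) :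
    LinearMap.det f = μ ^ Module.finrank F V *
      (-1) ^ Module.finrank F (LinearMap.ker (f + μ • (1 : Module.End F V))) :=
  det_involution h2 f μ hμ hf

end Cfsg.Agent.S5979P

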