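import Mathlib
import Cfsg.Prelude.Def_GeometricClasses
import Cfsg.Prelude.Def_Classical
import Cfsg.Prelude.Def_LieClassical

set_option autoImplicit false
open scoped MatrixGroups Matrix

/-! S5982, piece DETDIAG: the determinant in an eigenbasis. -/

namespace Cfsg.Agent.S5982P

/-- DETDIAG: the determinant in an eigenbasis -/
theorem det_of_eigenbasis {F V : Type*} [Field F] [AddCommGroup V] [Module F V] {n : ℕ}
    (b : Module.Basis (Fin n) F V) (T : Module.End F V) (d : Fin n → F)
    (hb : ∀ j, T (b j) = d j • b j) : LinearMap.det T = ∏ j, d j := by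
  classical
  have hM : LinearMap.toMatrix b b T = Matrix.diagonal d := by
    ext i j
    rw [LinearMap.toMatrix_apply, hb, map_smul, Finsupp.smul_apply, Module.Basis.repr_self,
      Finsupp.single_apply, Matrix.diagonal_apply]
    by_cases h : i = j
    · subst h
      simp
    · rw [if_neg (Ne.symm h), if_neg h]
      simp
  rw [← LinearMap.det_toMatrix b, hM, Matrix.det_diagonal]

example {F V : Type*} [Field F] [AddCommGroup V] [Module F V] {n : ℕ}
    (b : Module.Basis (Fin n) F V) (T : Module.End F V) (d : Fin n → F)
    (hb : ∀ j, T (b j) = d j • b j) : LinearMap.det T = ∏ j, d j :=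
  det_of_eigenbasis b T d hb

end Cfsg.Agent.S5982P

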