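import Mathlib
import Cfsg.Prelude.Def_GeometricClasses
import Cfsg.Prelude.Def_Classical
import Cfsg.Prelude.Def_LieClassical

set_option autoImplicit false
open scoped MatrixGroups Matrix

/-! S5982, piece SIMPOW: the factor of a similitude `x` with `x ^ r = z`. -/

namespace Cfsg.Agent.S5982P

/-- SIMPOW: the factor of a similitude `x` with `x ^ r = z` -/
theorem factor_pow {F : Type*} [Field F] [Fintype F] {q₀ : ℕ} (hF : Fintype.card F = q₀ ^ 2)
    (n : ℕ) (hn : 1 ≤ n) (f' : (Fin n → F) → (Fin n → F) → F)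
    (hf' : Cfsg.Geo.IsUnitaryFormPow q₀ f') (x : GL (Fin n) F) (c : F)
    (hc : ∀ u v, f' ((x : Matrix (Fin n) (Fin n) F) *ᵥ u) ((x : Matrix (Fin n) (Fin n) F) *ᵥ v) =
      c * f' u v) (r : ℕ) (z : F)
    (hz : ((x ^ r : GL (Fin n) F) : Matrix (Fin n) (Fin n) F) = z • (1 : Matrix (Fin n) (Fin n) F)) :
    c ^ q₀ = c ∧ c ^ r = z ^ (q₀ + 1) := by
  classical
  -- a pair with nonzero form value
  obtain ⟨u, v, huv⟩ : ∃ u v, f' u v ≠ 0 := by
    obtain ⟨i⟩ : Nonempty (Fin n) := ⟨⟨0, hn⟩⟩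
    have hne : (Pi.single i (1 : F) : Fin n → F) ≠ 0 := by
      intro h
      have := congrFun h i
      simp at this
    obtain ⟨⟨w, hw⟩, -⟩ := hf'.nondegenerate _ hne
    exact ⟨w, _, hw⟩
  constructor
  · have h1 : f' ((x : Matrix (Fin n) (Fin n) F) *ᵥ u) ((x : Matrix (Fin n) (Fin n) F) *ᵥ v) =
        c ^ q₀ * f' u v := by
      rw [hf'.herm, hc, mul_pow, ← hf'.herm]
    rw [hc] at h1
    exact (mul_right_cancel₀ huv h1).symm
  · have hpow : ∀ k : ℕ, ∀ u v, f' (((x ^ k : GL (Fin n) F) : Matrix (Fin n) (Fin n) F) *ᵥ u)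
        (((x ^ k : GL (Fin n) F) : Matrix (Fin n) (Fin n) F) *ᵥ v) = c ^ k * f' u v := by
      intro k
      induction k with
      | zero =>
        intro u v
        simp
      | succ k ih =>
        intro u v
        rw [pow_succ', Units.val_mul, ← Matrix.mulVec_mulVec, ← Matrix.mulVec_mulVec, hc, ih,
          pow_succ']
        ring
    have h1 := hpow r u v
    rw [hz] at h1
    have h2 : ∀ w : Fin n → F, (z • (1 : Matrix (Fin n) (Fin n) F)) *ᵥ w = z • w := by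
      intro w
      rw [Matrix.smul_mulVec, Matrix.one_mulVec]
    rw [h2, h2, hf'.smul_left, hf'.herm u (z • v), hf'.smul_left, mul_pow, ← hf'.herm] at h1
    have h3 : z ^ (q₀ + 1) * f' u v = c ^ r * f' u v := by
      rw [← h1, pow_succ]
      ring
    exact (mul_right_cancel₀ huv h3).symm

example {F : Type*} [Field F] [Fintype F] {q₀ : ℕ} (hF : Fintype.card F = q₀ ^ 2)
    (n : ℕ) (hn : 1 ≤ n) (f' : (Fin n → F) → (Fin n → F) → F)
    (hf' : Cfsg.Geo.IsUnitaryFormPow q₀ f') (x : GL (Fin n) F) (c : F)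
    (hc : ∀ u v, f' ((x : Matrix (Fin n) (Fin n) F) *ᵥ u) ((x : Matrix (Fin n) (Fin n) F) *ᵥ v) =
      c * f' u v) (r : ℕ) (z : F)
    (hz : ((x ^ r : GL (Fin n) F) : Matrix (Fin n) (Fin n) F) = z • (1 : Matrix (Fin n) (Fin n) F)) :
    c ^ q₀ = c ∧ c ^ r = z ^ (q₀ + 1) :=
  factor_pow hF n hn f' hf' x c hc r z hz

end Cfsg.Agent.S5982P

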