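import Mathlib
import Cfsg.Prelude.Def_GeometricClasses
import Cfsg.Prelude.Def_Classical
import Cfsg.Prelude.Def_LieClassical

set_option autoImplicit false
open scoped MatrixGroups Matrix

/-! S5982, piece SUMZERO: the determinant condition forces `∑ e = 0` when `(q - 1)_r = r`. -/

namespace Cfsg.Agent.S5982P

/-- SUMZERO: the determinant condition forces `∑ e = 0` when `(q - 1)_r = r` -/
theorem sum_eq_zero_of_det {F : Type*} [Field F] [Fintype F] (r : ℕ) [Fact r.Prime]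
    (hv : padicValNat r (Fintype.card F - 1) = 1) (ξ : F) (hξ : orderOf ξ = r) (μ : F)
    (e : Fin r → ZMod r) (hdet : μ ^ r * ∏ j, ξ ^ (e j).val = 1) : ∑ j, e j = 0 := by
  classical
  have hr : r.Prime := Fact.out
  haveI : NeZero r := ⟨hr.ne_zero⟩
  obtain ⟨S, hS⟩ : ∃ S : ℕ, S = ∑ j, (e j).val := ⟨_, rfl⟩
  have hprod : ∏ j, ξ ^ (e j).val = ξ ^ S := by
    rw [hS, Finset.prod_pow_eq_pow_sum]
  rw [hprod] at hdet
  have hμ0 : μ ≠ 0 := by
    intro h
    rw [h, zero_pow hr.ne_zero, zero_mul] at hdet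
    exact zero_ne_one hdet
  obtain ⟨N, hN⟩ : ∃ N : ℕ, N = Fintype.card F - 1 := ⟨_, rfl⟩
  rw [← hN] at hv
  have hN0 : N ≠ 0 := by
    intro h
    rw [h] at hv
    simp at hv
  have hrN : r ∣ N := dvd_of_one_le_padicValNat (by omega)
  obtain ⟨m, hm⟩ := hrN
  have hm0 : m ≠ 0 := by
    intro h
    rw [h, mul_zero] at hm
    exact hN0 hm
  have hrm : ¬ r ∣ m := by
    intro h
    have h1 : padicValNat r N = padicValNat r r + padicValNat r m := by
      rw [hm]
      exact padicValNat.mul hr.ne_zero hm0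
    rw [padicValNat_self] at h1
    have h2 : 1 ≤ padicValNat r m := one_le_padicValNat_of_dvd hm0 h
    omega
  have hξr : ξ ^ r = 1 := by rw [← hξ]; exact pow_orderOf_eq_one ξ
  have ht : ξ ^ S = (μ⁻¹) ^ r := by
    rw [inv_pow]
    exact eq_inv_of_mul_eq_one_right hdet
  have h1 : (ξ ^ S) ^ r = 1 := by
    rw [← pow_mul, mul_comm, pow_mul, hξr, one_pow]
  have h2 : (ξ ^ S) ^ m = 1 := by
    rw [ht, ← pow_mul, ← hm, hN]
    exact FiniteField.pow_card_sub_one_eq_one _ (inv_ne_zero hμ0)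
  have h3 : ξ ^ S = 1 := by
    have hcop : Nat.Coprime r m := (Nat.Prime.coprime_iff_not_dvd hr).mpr hrm
    have hd1 : orderOf (ξ ^ S) ∣ r := orderOf_dvd_of_pow_eq_one h1
    have hd2 : orderOf (ξ ^ S) ∣ m := orderOf_dvd_of_pow_eq_one h2
    have hd : orderOf (ξ ^ S) ∣ 1 := by
      have := Nat.dvd_gcd hd1 hd2
      rwa [hcop] at this
    exact orderOf_eq_one_iff.mp (Nat.dvd_one.mp hd)
  have hrS : r ∣ S := by
    rw [← hξ]
    exact orderOf_dvd_of_pow_eq_one h3
  have hsum : ∑ j, e j = ((S : ℕ) : ZMod r) := by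
    rw [hS, Nat.cast_sum]
    apply Finset.sum_congr rfl
    intro j _
    rw [ZMod.natCast_zmod_val]
  rw [hsum]
  exact (ZMod.natCast_eq_zero_iff _ _).mpr hrS

example {F : Type*} [Field F] [Fintype F] (r : ℕ) [Fact r.Prime]
    (hv : padicValNat r (Fintype.card F - 1) = 1) (ξ : F) (hξ : orderOf ξ = r) (μ : F)
    (e : Fin r → ZMod r) (hdet : μ ^ r * ∏ j, ξ ^ (e j).val = 1) : ∑ j, e j = 0 :=
  sum_eq_zero_of_det r hv ξ hξ μ e hdet

end Cfsg.Agent.S5982P

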