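import Mathlib
import Cfsg.Prelude.Def_GeometricClasses
import Cfsg.Prelude.Def_ClassicalGeometry
import Cfsg.Agent.Helper4.S6002Defs
import Cfsg.Agent.Helper3.ES2

set_option autoImplicit false
open scoped MatrixGroups Matrix

/-! S6002 piece ORB5: the free action of `⟨y⟩ × {±1}` on the 30 non-central elements of `R`. -/

namespace Cfsg.Agent.S6002P

namespace ORB5

variable {F : Type*} [Field F]

/-- conjugation by `y ^ k` -/
def cj (y : GL I4 F) (k : ℕ) (a : GL I4 F) : GL I4 F := y ^ k * a * (y ^ k)⁻¹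

theorem cj_zero (y a : GL I4 F) : cj y 0 a = a := by simp [cj]

theorem cj_add (y : GL I4 F) (k l : ℕ) (a : GL I4 F) : cj y (k + l) a = cj y k (cj y l a) := by
  unfold cj
  rw [pow_add]
  group

theorem cj_neg (y : GL I4 F) (k : ℕ) (a : GL I4 F) : cj y k (-a) = -cj y k a := by
  unfold cj
  rw [mul_neg, neg_mul]

theorem cj_inj (y : GL I4 F) (k : ℕ) {a b : GL I4 F} (h : cj y k a = cj y k b) : a = b := by
  unfold cj at h
  exact mul_left_cancel (mul_right_cancel h)

theorem cj_one (y : GL I4 F) (k : ℕ) : cj y k 1 = 1 := by simp [cj]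

theorem cj_five_mul (y : GL I4 F) (hc : ∀ g : GL I4 F, y ^ 5 * g = g * y ^ 5) (t : ℕ)
    (a : GL I4 F) : cj y (5 * t) a = a := by
  unfold cj
  have h1 : Commute (y ^ (5 * t)) a := by
    rw [pow_mul]
    exact Commute.pow_left (hc a) t
  rw [h1.eq, mul_assoc, mul_inv_cancel, mul_one]

theorem cj_mod (y : GL I4 F) (hc : ∀ g : GL I4 F, y ^ 5 * g = g * y ^ 5) (k : ℕ) (a : GL I4 F) :
    cj y k a = cj y (k % 5) a := by
  conv_lhs => rw [← Nat.mod_add_div k 5]
  rw [cj_add, cj_five_mul y hc]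

theorem cj_mem {R : Subgroup (GL I4 F)} (y : GL I4 F)
    (hy : y ∈ Cfsg.Geo.subgroupNormalizer R) (k : ℕ) {a : GL I4 F} (ha : a ∈ R) :
    cj y k a ∈ R := by
  induction k with
  | zero => rw [cj_zero]; exact ha
  | succ k ih =>
    have h1 : cj y (k + 1) a = y * cj y k a * y⁻¹ := by
      rw [add_comm, cj_add]
      unfold cj
      rw [pow_one]
    rw [h1]
    exact ((mem_normalizer_iff' R y).mp hy _).mp ih

/-- freeness of the action -/
theorem free {R : Subgroup (GL I4 F)} (y : GL I4 F)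
    (hc : ∀ g : GL I4 F, y ^ 5 * g = g * y ^ 5)
    (hcent : ∀ a ∈ R, y * a = a * y → a = 1 ∨ a = -1) (b : GL I4 F) (hb : b ∈ R) (d : ℕ)
    (hd0 : 0 < d) (hd5 : d < 5) (h : cj y d b = b ∨ cj y d b = -b) : b = 1 ∨ b = -1 := by
  have h2 : cj y (d + d) b = b := by
    rw [cj_add]
    rcases h with h | h
    · rw [h, h]
    · rw [h, cj_neg, h, neg_neg]
  have h3 : y ^ (2 * d) * b = b * y ^ (2 * d) := by
    unfold cj at h2
    rw [← two_mul] at h2
    exact mul_inv_eq_iff_eq_mul.mp h2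
  apply hcent b hb
  have hcop : Nat.Coprime (2 * d) 5 := by
    interval_cases d <;> decide
  have h4 : (y : GL I4 F) = (y ^ (2 * d)) ^ (Nat.gcdA (2 * d) 5) * (y ^ 5) ^ (Nat.gcdB (2 * d) 5) := by
    rw [← zpow_natCast, ← zpow_natCast, ← zpow_mul, ← zpow_mul, ← zpow_add,
      ← Nat.gcd_eq_gcd_ab, hcop.gcd_eq_one]
    simp
  have h5 : Commute (y ^ (2 * d)) b := h3
  have h6 : Commute (y ^ 5) b := hc b
  have h7 : Commute ((y ^ (2 * d)) ^ (Nat.gcdA (2 * d) 5) * (y ^ 5) ^ (Nat.gcdB (2 * d) 5)) b :=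
    (h5.zpow_left _).mul_left (h6.zpow_left _)
  rw [← h4] at h7
  exact h7.eq

/-- the non-central elements of `R` -/
abbrev S (R : Subgroup (GL I4 F)) : Type _ :=
  {a : ↥R // (a : GL I4 F) ≠ 1 ∧ (a : GL I4 F) ≠ -1}

theorem card_S {R : Subgroup (GL I4 F)} (h : HypR0 R) : Nat.card (S R) = 30 := by
  classical
  haveI : Finite ↥R := Nat.finite_of_card_ne_zero (by rw [h.card]; norm_num)
  haveI : Fintype ↥R := Fintype.ofFinite _
  rw [Nat.card_eq_fintype_card, Fintype.card_subtype]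
  have hfil : (Finset.univ.filter (fun a : ↥R => (a : GL I4 F) ≠ 1 ∧ (a : GL I4 F) ≠ -1)) =
      Finset.univ \ {1, ⟨-1, h.neg_mem⟩} := by
    ext a
    simp only [Finset.mem_filter, Finset.mem_univ, true_and, Finset.mem_sdiff, Finset.mem_insert,
      Finset.mem_singleton, not_or]
    constructor
    · rintro ⟨h1, h2⟩
      exact ⟨fun e => h1 (by rw [e]; rfl), fun e => h2 (by rw [e])⟩
    · rintro ⟨h1, h2⟩
      exact ⟨fun e => h1 (Subtype.ext e), fun e => h2 (Subtype.ext e)⟩
  have hne : (1 : ↥R) ≠ ⟨-1, h.neg_mem⟩ := by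
    intro e
    have := congrArg Subtype.val e
    exact neg_one_ne_one h.two_ne this.symm
  rw [hfil, Finset.card_sdiff_of_subset (Finset.subset_univ _), Finset.card_univ,
    Finset.card_pair hne, ← Nat.card_eq_fintype_card, h.card]

/-- the orbit relation -/
def rel (y : GL I4 F) {R : Subgroup (GL I4 F)} (a b : S R) : Prop :=
  ∃ k : ℕ, (a.1 : GL I4 F) = cj y k b.1 ∨ (a.1 : GL I4 F) = -cj y k b.1

theorem rel_refl (y : GL I4 F) {R : Subgroup (GL I4 F)} (a : S R) : rel y a a :=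
  ⟨0, Or.inl (cj_zero y _).symm⟩

theorem rel_symm (y : GL I4 F) (hc : ∀ g : GL I4 F, y ^ 5 * g = g * y ^ 5)
    {R : Subgroup (GL I4 F)} {a b : S R} (hab : rel y a b) : rel y b a := by
  obtain ⟨k, hk⟩ := hab
  refine ⟨4 * k, ?_⟩
  have h5 : cj y (4 * k) (cj y k b.1) = b.1 := by
    rw [← cj_add]
    have : 4 * k + k = 5 * k := by ring
    rw [this, cj_five_mul y hc]
  rcases hk with hk | hk
  · left
    rw [hk, h5]
  · right
    rw [hk, cj_neg, h5, neg_neg]

theorem rel_trans (y : GL I4 F) {R : Subgroup (GL I4 F)} {a b c : S R} (hab : rel y a b)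
    (hbc : rel y b c) : rel y a c := by
  obtain ⟨k, hk⟩ := hab
  obtain ⟨l, hl⟩ := hbc
  refine ⟨k + l, ?_⟩
  rw [cj_add]
  rcases hk with hk | hk <;> rcases hl with hl | hl
  · left; rw [hk, hl]
  · right; rw [hk, hl, cj_neg]
  · right; rw [hk, hl]
  · left; rw [hk, hl, cj_neg, neg_neg]

/-- the orbit setoid -/
def orb (y : GL I4 F) (hc : ∀ g : GL I4 F, y ^ 5 * g = g * y ^ 5) (R : Subgroup (GL I4 F)) :
    Setoid (S R) where
  r := rel y
  iseqv := ⟨rel_refl y, rel_symm y hc, rel_trans y⟩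

/-- membership of the orbit elements in `S R` -/
theorem orb_mem {R : Subgroup (GL I4 F)} (h : HypR0 R) (y : GL I4 F)
    (hy : y ∈ Cfsg.Geo.subgroupNormalizer R) (b : S R) (k : ℕ) :
    cj y k b.1 ∈ R ∧ cj y k b.1 ≠ 1 ∧ cj y k b.1 ≠ -1 ∧
    -cj y k b.1 ∈ R ∧ -cj y k b.1 ≠ 1 ∧ -cj y k b.1 ≠ -1 := by
  have h1 : cj y k b.1 ∈ R := cj_mem y hy k b.1.2
  have h2 : cj y k b.1 ≠ 1 := by
    intro e
    have e' : cj y k b.1 = cj y k 1 := by rw [cj_one]; exact e
    exact b.2.1 (cj_inj y k e')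
  have h3 : cj y k b.1 ≠ -1 := by
    intro e
    have e' : cj y k b.1 = cj y k (-1) := by rw [cj_neg, cj_one]; exact e
    exact b.2.2 (cj_inj y k e')
  refine ⟨h1, h2, h3, ?_, ?_, ?_⟩
  · rw [← neg_one_mul]
    exact R.mul_mem h.neg_mem h1
  · intro e
    exact h3 (neg_eq_iff_eq_neg.mp e)
  · intro e
    exact h2 (neg_inj.mp e)

/-- the parametrisation of an orbit -/
noncomputable def param {R : Subgroup (GL I4 F)} (h : HypR0 R) (y : GL I4 F)
    (hy : y ∈ Cfsg.Geo.subgroupNormalizer R) (b : S R) (x : Fin 5 × Bool) : S R :=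
  if x.2 then ⟨⟨-cj y x.1 b.1, (orb_mem h y hy b x.1).2.2.2.1⟩, (orb_mem h y hy b x.1).2.2.2.2⟩
  else ⟨⟨cj y x.1 b.1, (orb_mem h y hy b x.1).1⟩, (orb_mem h y hy b x.1).2.1, (orb_mem h y hy b x.1).2.2.1⟩

theorem param_val {R : Subgroup (GL I4 F)} (h : HypR0 R) (y : GL I4 F)
    (hy : y ∈ Cfsg.Geo.subgroupNormalizer R) (b : S R) (x : Fin 5 × Bool) :
    ((param h y hy b x).1 : GL I4 F) = if x.2 then -cj y x.1 b.1 else cj y x.1 b.1 := by
  unfold param
  split_ifs <;> rfl

theorem param_inj {R : Subgroup (GL I4 F)} (h : HypR0 R) (y : GL I4 F)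
    (hy : y ∈ Cfsg.Geo.subgroupNormalizer R)
    (hc : ∀ g : GL I4 F, y ^ 5 * g = g * y ^ 5)
    (hcent : ∀ a ∈ R, y * a = a * y → a = 1 ∨ a = -1) (b : S R) :
    Function.Injective (param h y hy b) := by
  -- the key: different exponents are impossible
  have key : ∀ (k k' : ℕ) (e e' : Bool), k < 5 → k' < 5 → k < k' →
      (if e then -cj y k b.1 else cj y k b.1) = (if e' then -cj y k' b.1 else cj y k' b.1) →
      False := by
    intro k k' e e' hk hk' hlt heq
    obtain ⟨d, hd⟩ : ∃ d, k' = k + d := ⟨k' - k, by omega⟩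
    have hd0 : 0 < d := by omega
    have hd5 : d < 5 := by omega
    rw [hd, cj_add] at heq
    have h1 : cj y d b.1 = b.1 ∨ cj y d b.1 = -b.1 := by
      cases e <;> cases e'
      · left
        simp only [Bool.false_eq_true, if_false] at heq
        exact (cj_inj y k heq).symm
      · right
        simp only [Bool.false_eq_true, if_false, if_true] at heq
        rw [← cj_neg] at heq
        have h8 := cj_inj y k heq
        have h9 := congrArg Neg.neg h8
        rw [neg_neg] at h9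
        exact h9.symm
      · right
        simp only [Bool.false_eq_true, if_false, if_true] at heq
        rw [← cj_neg] at heq
        exact (cj_inj y k heq).symm
      · left
        simp only [if_true] at heq
        exact (cj_inj y k (neg_inj.mp heq)).symm
    rcases free y hc hcent b.1 b.1.2 d hd0 hd5 h1 with h2 | h2
    · exact b.2.1 h2
    · exact b.2.2 h2
  rintro ⟨k, e⟩ ⟨k', e'⟩ hxx
  have hval := congrArg (fun s : S R => (s.1 : GL I4 F)) hxx
  simp only [param_val] at hval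
  rcases lt_trichotomy k.1 k'.1 with hlt | heq | hgt
  · exact (key k.1 k'.1 e e' k.2 k'.2 hlt hval).elim
  · have hkk : k = k' := Fin.ext heq
    subst hkk
    have hee : e = e' := by
      cases e <;> cases e'
      · rfl
      · exfalso
        simp only [Bool.false_eq_true, if_false, if_true] at hval
        exact neg_ne_self h.two_ne _ hval.symm
      · exfalso
        simp only [Bool.false_eq_true, if_false, if_true] at hval
        exact neg_ne_self h.two_ne _ hval
      · rfl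
    rw [hee]
  · exact (key k'.1 k.1 e' e k'.2 k.2 hgt hval.symm).elim

theorem card_class {R : Subgroup (GL I4 F)} (h : HypR0 R) (y : GL I4 F)
    (hy : y ∈ Cfsg.Geo.subgroupNormalizer R)
    (hc : ∀ g : GL I4 F, y ^ 5 * g = g * y ^ 5)
    (hcent : ∀ a ∈ R, y * a = a * y → a = 1 ∨ a = -1) (b : S R) :
    Nat.card {a : S R // rel y a b} = 10 := by
  classical
  let f : Fin 5 × Bool → {a : S R // rel y a b} := fun x =>
    ⟨param h y hy b x, by
      refine ⟨x.1, ?_⟩
      rw [param_val]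
      split_ifs
      · right; rfl
      · left; rfl⟩
  have hf : Function.Bijective f := by
    constructor
    · intro x x' hxx
      exact param_inj h y hy hc hcent b (congrArg Subtype.val hxx)
    · rintro ⟨a, k, hk⟩
      have hk5 : k % 5 < 5 := Nat.mod_lt _ (by norm_num)
      rcases hk with hk | hk
      · refine ⟨(⟨k % 5, hk5⟩, false), ?_⟩
        apply Subtype.ext
        apply Subtype.ext
        apply Subtype.ext
        show ((param h y hy b (⟨k % 5, hk5⟩, false)).1 : GL I4 F) = a.1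
        rw [param_val, hk, cj_mod y hc k]
        simp
      · refine ⟨(⟨k % 5, hk5⟩, true), ?_⟩
        apply Subtype.ext
        apply Subtype.ext
        apply Subtype.ext
        show ((param h y hy b (⟨k % 5, hk5⟩, true)).1 : GL I4 F) = a.1
        rw [param_val, hk, cj_mod y hc k]
        simp
  rw [← Nat.card_congr (Equiv.ofBijective f hf), Nat.card_prod, Nat.card_eq_fintype_card,
    Nat.card_eq_fintype_card, Fintype.card_fin, Fintype.card_bool]

theorem card_quot {R : Subgroup (GL I4 F)} (h : HypR0 R) (y : GL I4 F)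
    (hy : y ∈ Cfsg.Geo.subgroupNormalizer R)
    (hc : ∀ g : GL I4 F, y ^ 5 * g = g * y ^ 5)
    (hcent : ∀ a ∈ R, y * a = a * y → a = 1 ∨ a = -1) :
    Nat.card (Quotient (orb y hc R)) = 3 := by
  classical
  haveI : Finite ↥R := Nat.finite_of_card_ne_zero (by rw [h.card]; norm_num)
  haveI : Fintype (Quotient (orb y hc R)) := Fintype.ofFinite _
  have h1 := Nat.card_congr (Equiv.sigmaFiberEquiv (Quotient.mk (orb y hc R)))
  rw [Nat.card_sigma, card_S h] at h1
  have h2 : ∀ c : Quotient (orb y hc R),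
      Nat.card {a : S R // Quotient.mk (orb y hc R) a = c} = 10 := by
    intro c
    obtain ⟨b, rfl⟩ := Quotient.exists_rep c
    rw [← card_class h y hy hc hcent b]
    apply Nat.card_congr
    apply Equiv.subtypeEquivRight
    intro a
    exact Quotient.eq (r := orb y hc R)
  rw [Finset.sum_congr rfl (fun c _ => h2 c), Finset.sum_const, Finset.card_univ, smul_eq_mul,
    ← Nat.card_eq_fintype_card] at h1
  omega

end ORB5

open ORB5 in
/-- ORB5 -/
theorem exists_orbit_reps {F : Type*} [Field F] {R : Subgroup (GL I4 F)} (h : HypR0 R)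
    (y : GL I4 F) (hy : y ∈ Cfsg.Geo.subgroupNormalizer R)
    (hy5 : ∃ z : F, ((y ^ 5 : GL I4 F) : M4 F) = z • (1 : M4 F))
    (hcent : ∀ a ∈ R, y * a = a * y → a = 1 ∨ a = -1) :
    ∃ b : Fin 3 → GL I4 F, (∀ j, b j ∈ R) ∧ ∀ a ∈ R, a = 1 ∨ a = -1 ∨
      ∃ (j : Fin 3) (k : ℕ), a = y ^ k * b j * (y ^ k)⁻¹ ∨ a = -(y ^ k * b j * (y ^ k)⁻¹) := by
  classical
  obtain ⟨z, hz⟩ := hy5
  have hc : ∀ g : GL I4 F, y ^ 5 * g = g * y ^ 5 := fun g => gl_comm_of_scalar hz g
  haveI : Finite ↥R := Nat.finite_of_card_ne_zero (by rw [h.card]; norm_num)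
  haveI : Fintype (Quotient (orb y hc R)) := Fintype.ofFinite _
  have hcard : Fintype.card (Quotient (orb y hc R)) = 3 := by
    rw [← Nat.card_eq_fintype_card]
    exact card_quot h y hy hc hcent
  let e : Quotient (orb y hc R) ≃ Fin 3 := Fintype.equivFinOfCardEq hcard
  refine ⟨fun j => ((Quotient.out (e.symm j)).1 : GL I4 F), fun j => (Quotient.out (e.symm j)).1.2, ?_⟩
  intro a ha
  by_cases h1 : a = 1
  · exact Or.inl h1
  by_cases h2 : a = -1
  · exact Or.inr (Or.inl h2)
  right; right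
  let a' : S R := ⟨⟨a, ha⟩, h1, h2⟩
  refine ⟨e (Quotient.mk (orb y hc R) a'), ?_⟩
  have h3 : (orb y hc R).r a' (Quotient.out (e.symm (e (Quotient.mk (orb y hc R) a')))) := by
    rw [Equiv.symm_apply_apply]
    exact Quotient.exact (Quotient.out_eq _).symm
  obtain ⟨k, hk⟩ := h3
  exact ⟨k, hk⟩

end Cfsg.Agent.S6002P
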