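import Mathlib
import Cfsg.Agent.Helper24.RealChar
import Cfsg.Agent.Helper24.RealOrbits
import Cfsg.Agent.Helper24.Gallagher
import Cfsg.Agent.Helper24.OrbitSum
import Cfsg.Agent.Helper24.Clifford
import Cfsg.Agent.Helper24.InducedNormal
import Cfsg.Agent.Helper24.SylowExtension
import Cfsg.Agent.Helper24.CyclicExtension
import Cfsg.Agent.Helper8.GaloisChar
import Cfsg.Agent.Helper8.CharComp
import Cfsg.Agent.Helper8.CliffordAb
import Cfsg.Agent.Helper24.LinUnits
import Cfsg.Agent.Helper24.GlaubP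

/-!
Characters fixed by a Galois automorphism of `2`-power order inverting the odd-order roots of
unity, above a normal subgroup of odd index (no use of the odd order theorem).
-/

set_option autoImplicit false

namespace Cfsg.Agent.Helper24

open Cfsg

universe u

/-- The hypotheses on the exponent `k`: the power map `g ↦ g ^ k` induces a Galois automorphism
of `2`-power order that inverts the roots of unity of odd order. -/
structure PowHyp (H : Type*) [Group H] (k e : ℕ) : Prop where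
  cop : k.Coprime (Nat.card H)
  two : k ^ (2 ^ e) ≡ 1 [MOD Nat.card H]
  inv : ∀ h : H, Odd (orderOf h) → h ^ k = h⁻¹

/-- Invariance of a function under the power map. -/
def SigFix {H : Type*} [Group H] (k : ℕ) (χ : H → ℂ) : Prop := ∀ h : H, χ (h ^ k) = χ h

section Basic

variable {H : Type u} [Group H] {k e : ℕ}

theorem PowHyp.subgroup (hH : PowHyp H k e) (M : Subgroup H) : PowHyp M k e where
  cop := Nat.Coprime.coprime_dvd_right (Subgroup.card_subgroup_dvd_card M) hH.cop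
  two := Nat.ModEq.of_dvd (Subgroup.card_subgroup_dvd_card M) hH.two
  inv := by
    intro m hm
    apply Subtype.ext
    rw [Subgroup.coe_pow, Subgroup.coe_inv]
    apply hH.inv
    rwa [Subgroup.orderOf_coe]

theorem PowHyp.pow_pow_eq [Finite H] (hH : PowHyp H k e) (h : H) : h ^ (k ^ (2 ^ e)) = h := by
  have h1 : k ^ (2 ^ e) ≡ 1 [MOD orderOf h] := Nat.ModEq.of_dvd (orderOf_dvd_natCard h) hH.two
  have := pow_eq_pow_iff_modEq.mpr h1
  rwa [pow_one] at this

/-- Every element satisfies `h ^ (k + 1) ∈ N` when `N` has odd index. -/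
theorem PowHyp.pow_succ_mem [Finite H] (hH : PowHyp H k e) (N : Subgroup H) [hN : N.Normal]
    (hodd : Odd N.index) (h : H) : h ^ (k + 1) ∈ N := by
  have hpos : orderOf h ≠ 0 := (orderOf_pos h).ne'
  obtain ⟨a, m, hm, hord⟩ := Nat.exists_eq_two_pow_mul_odd hpos
  have h2a : (2 : ℕ) ^ a ≠ 0 := pow_ne_zero _ two_ne_zero
  have h1 : orderOf (h ^ (2 ^ a)) = m := by
    rw [orderOf_pow_of_dvd h2a ⟨m, hord⟩, hord, Nat.mul_div_cancel_left _ (Nat.pos_of_ne_zero h2a)]
  have h2 := hH.inv (h ^ (2 ^ a)) (by rw [h1]; exact hm)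
  have h3 : h ^ (2 ^ a * (k + 1)) = 1 := by
    rw [pow_mul, pow_succ, h2, inv_mul_cancel]
  rw [← QuotientGroup.eq_one_iff, QuotientGroup.mk_pow]
  have h4 : ((h : H ⧸ N)) ^ (2 ^ a * (k + 1)) = 1 := by
    rw [← QuotientGroup.mk_pow, h3, QuotientGroup.mk_one]
  have h5 : orderOf (h : H ⧸ N) ∣ 2 ^ a * (k + 1) := orderOf_dvd_of_pow_eq_one h4
  have h6 : orderOf (h : H ⧸ N) ∣ N.index := by
    rw [Subgroup.index_eq_card]
    exact orderOf_dvd_natCard _
  have h7 : (orderOf (h : H ⧸ N)).Coprime (2 ^ a) := by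
    apply Nat.Coprime.pow_right
    apply Nat.Coprime.coprime_dvd_left h6
    exact Nat.coprime_two_right.mpr hodd
  have h8 := h7.dvd_of_dvd_mul_left h5
  exact orderOf_dvd_iff_pow_eq_one.mp h8

/-- The power map acts as complex conjugation on the characters of `H ⧸ N`. -/
theorem PowHyp.irr_quotient_pow [Finite H] (hH : PowHyp H k e) (N : Subgroup H) [hN : N.Normal]
    (hodd : Odd N.index) (β : IrrCharacter (H ⧸ N)) (h : H) :
    (β : H ⧸ N → ℂ) ((h ^ k : H) : H ⧸ N) = (starRingEnd ℂ) ((β : H ⧸ N → ℂ) (h : H ⧸ N)) := by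
  have h1 := hH.pow_succ_mem N hodd h
  rw [← QuotientGroup.eq_one_iff, QuotientGroup.mk_pow, pow_succ] at h1
  rw [QuotientGroup.mk_pow, eq_inv_of_mul_eq_one_left h1, irr_inv]

omit [Group H] in
theorem card_mul_relIndex_of_le {G : Type*} [Group G] {A B : Subgroup G} (h : A ≤ B) :
    Nat.card A * A.relIndex B = Nat.card B := by
  have h1 := Subgroup.card_mul_index (A.subgroupOf B)
  rwa [Nat.card_congr (Subgroup.subgroupOfEquivOfLe h).toEquiv] at h1

/-- The inner product is invariant under the power map. -/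
theorem classInner_comp_pow [Fintype H] (hk : k.Coprime (Nat.card H)) (f g : H → ℂ) :
    classInner (fun h => f (h ^ k)) (fun h => g (h ^ k)) = classInner f g := by
  unfold classInner
  congr 1
  exact Fintype.sum_equiv (powCoprime hk.symm) _ _ (fun h => rfl)

end Basic

section Parity

variable {H : Type u} [Group H] [Fintype H] {k e : ℕ}

/-- The parity lemma: for irreducible characters fixed by the power map, the inner product of
their restrictions to a normal subgroup of odd index is congruent mod 2 to their inner product. -/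
theorem parity_restrict (hH : PowHyp H k e) (N : Subgroup H) [hN : N.Normal] [Fintype N]
    (hodd : Odd N.index) (χ₁ χ₂ : IrrCharacter H) (h₁ : SigFix k (χ₁ : H → ℂ))
    (h₂ : SigFix k (χ₂ : H → ℂ)) :
    ∃ a : ℕ, classInner (fun n : N => (χ₁ : H → ℂ) n) (fun n : N => (χ₂ : H → ℂ) n) = (a : ℂ) ∧
      a % 2 = if χ₁ = χ₂ then 1 else 0 := by
  classical
  haveI : Fintype (IrrCharacter (H ⧸ N)) := Fintype.ofFinite _
  haveI : Fintype (IrrCharacter H) := Fintype.ofFinite _
  haveI : Fintype (H ⧸ N) := Fintype.ofFinite _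
  obtain ⟨F, hFdef⟩ : ∃ F : H → ℂ,
      F = fun h => (χ₁ : H → ℂ) h * (starRingEnd ℂ) ((χ₂ : H → ℂ) h) := ⟨_, rfl⟩
  have hFchar : IsCharacter H F := by
    rw [hFdef]
    exact IsCharacter.mul (IsIrrCharacter.isCharacter χ₁.2)
      (isCharacter_star (IsIrrCharacter.isCharacter χ₂.2))
  have hFfix : (fun h => F (h ^ k)) = F := by
    funext h
    rw [hFdef]
    simp only
    rw [h₁ h, h₂ h]
  -- the multiplicities
  have hn : ∀ β : IrrCharacter (H ⧸ N), ∃ n : ℕ,
      classInner ((irrInflate N β : IrrCharacter H) : H → ℂ) F = (n : ℂ) := fun β =>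
    IsCharacter.classInner_nat (IsIrrCharacter.isCharacter (irrInflate N β).2) hFchar
  choose n hn using hn
  have hnstar : ∀ β : IrrCharacter (H ⧸ N), n (irrStar β) = n β := by
    intro β
    have h1 : ((irrInflate N (irrStar β) : IrrCharacter H) : H → ℂ) =
        fun h => ((irrInflate N β : IrrCharacter H) : H → ℂ) (h ^ k) := by
      funext h
      exact (hH.irr_quotient_pow N hodd β h).symm
    have h2 := hn (irrStar β)
    rw [h1, ← hFfix, classInner_comp_pow hH.cop, hn β] at h2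
    exact_mod_cast h2.symm
  -- the inner product of the restrictions
  have hmain : classInner (fun n : N => (χ₁ : H → ℂ) n) (fun n : N => (χ₂ : H → ℂ) n) =
      ((∑ β : IrrCharacter (H ⧸ N), irrDeg β * n β : ℕ) : ℂ) := by
    have h1 : classInner (fun n : N => (χ₁ : H → ℂ) n) (fun n : N => (χ₂ : H → ℂ) n) =
        classInner (fun n : N => F n) (fun _ : N => (1 : ℂ)) := by
      unfold classInner
      congr 1
      apply Finset.sum_congr rfl
      intro x _
      rw [hFdef]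
      simp
    have h2 : classInner (indFun N (fun _ : N => (1 : ℂ))) F =
        classInner (fun _ : N => (1 : ℂ)) (fun n : N => F n) :=
      Helper8.frobenius_reciprocity N _ F (IsCharacter.isClassFunction hFchar)
    rw [h1, ← classInner_conj_symm, ← h2, indFun_one_eq_sum_inflate, classInner_sum_left]
    simp_rw [classInner_smul_left, hn, irrDeg_spec]
    rw [map_sum]
    push_cast
    apply Finset.sum_congr rfl
    intro β _
    rw [map_mul, Complex.conj_natCast, Complex.conj_natCast]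
  refine ⟨_, hmain, ?_⟩
  -- parity
  have hoddq : Odd (Nat.card (H ⧸ N)) := by
    rw [← Subgroup.index_eq_card]
    exact hodd
  letI : LinearOrder (IrrCharacter (H ⧸ N)) :=
    LinearOrder.lift' (Fintype.equivFin (IrrCharacter (H ⧸ N))) (Equiv.injective _)
  rw [← Finset.add_sum_erase Finset.univ _ (Finset.mem_univ (trivIrr (H ⧸ N)))]
  have h1 := sum_eq_two_nsmul_of_involution (Finset.univ.erase (trivIrr (H ⧸ N))) irrStar
    (by
      intro β hβ
      rw [Finset.mem_erase] at hβ ⊢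
      refine ⟨?_, Finset.mem_univ _⟩
      intro h0
      apply hβ.1
      rw [← irrStar_irrStar β, h0]
      apply Subtype.ext
      funext x
      show (starRingEnd ℂ) (1 : ℂ) = 1
      simp)
    (fun β _ => irrStar_irrStar β)
    (by
      intro β hβ h0
      exact (Finset.ne_of_mem_erase hβ)
        (irr_eq_trivIrr_of_real_of_odd hoddq β ((irrStar_eq_iff β).mp h0)))
    (fun β => irrDeg β * n β)
    (fun β _ => by rw [irrDeg_irrStar, hnstar])
  rw [h1]
  have h2 : irrDeg (trivIrr (H ⧸ N)) = 1 := by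
    have := irrDeg_spec (trivIrr (H ⧸ N))
    have h3 : ((trivIrr (H ⧸ N) : IrrCharacter (H ⧸ N)) : H ⧸ N → ℂ) 1 = 1 := rfl
    rw [h3] at this
    exact_mod_cast this.symm
  have h3 : n (trivIrr (H ⧸ N)) = if χ₁ = χ₂ then 1 else 0 := by
    have h4 := hn (trivIrr (H ⧸ N))
    have h5 : classInner ((irrInflate N (trivIrr (H ⧸ N)) : IrrCharacter H) : H → ℂ) F =
        classInner (χ₂ : H → ℂ) (χ₁ : H → ℂ) := by
      unfold classInner
      congr 1
      apply Finset.sum_congr rfl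
      intro x _
      rw [hFdef]
      show (1 : ℂ) * _ = _
      rw [one_mul, map_mul, Complex.conj_conj, mul_comm]
    rw [h5, classInner_of_isIrrCharacter χ₂.2 χ₁.2] at h4
    by_cases h : χ₁ = χ₂
    · rw [if_pos h]
      rw [if_pos (congrArg Subtype.val h.symm)] at h4
      exact_mod_cast h4.symm
    · rw [if_neg h]
      rw [if_neg (fun h' => h (Subtype.ext h'.symm))] at h4
      exact_mod_cast h4.symm
  rw [h2, h3, one_mul, smul_eq_mul, Nat.add_mul_mod_self_left]
  split_ifs <;> rfl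

/-- Uniqueness: at most one irreducible character fixed by the power map lies over a given
irreducible character of a normal subgroup of odd index. -/
theorem sigFix_unique_over (hH : PowHyp H k e) (N : Subgroup H) [hN : N.Normal] [Fintype N]
    (hodd : Odd N.index) (θ : IrrCharacter N) (χ₁ χ₂ : IrrCharacter H)
    (h₁ : SigFix k (χ₁ : H → ℂ)) (h₂ : SigFix k (χ₂ : H → ℂ))
    (hc₁ : classInner (fun n : N => (χ₁ : H → ℂ) n) (θ : N → ℂ) ≠ 0)
    (hc₂ : classInner (fun n : N => (χ₂ : H → ℂ) n) (θ : N → ℂ) ≠ 0) : χ₁ = χ₂ := by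
  classical
  haveI : Fintype (IrrCharacter N) := Fintype.ofFinite _
  by_contra hne
  obtain ⟨a₁₁, ha₁₁, hp₁₁⟩ := parity_restrict hH N hodd χ₁ χ₁ h₁ h₁
  obtain ⟨a₂₂, ha₂₂, hp₂₂⟩ := parity_restrict hH N hodd χ₂ χ₂ h₂ h₂
  obtain ⟨a₁₂, ha₁₂, hp₁₂⟩ := parity_restrict hH N hodd χ₁ χ₂ h₁ h₂
  rw [if_pos rfl] at hp₁₁ hp₂₂
  rw [if_neg hne] at hp₁₂
  obtain ⟨m₁, hm₁⟩ := IsCharacter.classInner_irr_nat
    (Helper8.isCharacter_restrict N (IsIrrCharacter.isCharacter χ₁.2)) θ
  obtain ⟨m₂, hm₂⟩ := IsCharacter.classInner_irr_nat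
    (Helper8.isCharacter_restrict N (IsIrrCharacter.isCharacter χ₂.2)) θ
  have hr₁ := clifford_finset N χ₁.2 θ.2 hc₁
  have hr₂ := clifford_finset N χ₂.2 θ.2 hc₂
  rw [hm₁] at hr₁
  rw [hm₂] at hr₂
  obtain ⟨Φ, hΦ⟩ : ∃ Φ : N → ℂ, Φ = ∑ ψ ∈ Finset.univ.image (conjFun N (θ : N → ℂ)), ψ :=
    ⟨_, rfl⟩
  rw [← hΦ] at hr₁ hr₂
  rw [hr₁] at ha₁₁
  rw [hr₂] at ha₂₂
  rw [hr₁, hr₂] at ha₁₂
  rw [classInner_smul_left, classInner_smul_right, Complex.conj_natCast] at ha₁₁ ha₂₂ ha₁₂
  have hprod : ((a₁₁ * a₂₂ : ℕ) : ℂ) = ((a₁₂ * a₁₂ : ℕ) : ℂ) := by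
    push_cast
    rw [← ha₁₁, ← ha₂₂, ← ha₁₂]
    ring
  have hprod' : a₁₁ * a₂₂ = a₁₂ * a₁₂ := by exact_mod_cast hprod
  have h1 : (a₁₁ * a₂₂) % 2 = 1 := by rw [Nat.mul_mod, hp₁₁, hp₂₂]
  have h2 : (a₁₂ * a₁₂) % 2 = 0 := by rw [Nat.mul_mod, hp₁₂]
  omega

end Parity

section Existence

variable {H : Type u} [Group H] [Fintype H] {k e : ℕ}

/-- The power map on irreducible characters. -/
noncomputable def sigIrr (hk : k.Coprime (Nat.card H)) (χ : IrrCharacter H) : IrrCharacter H :=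
  ⟨fun h => (χ : H → ℂ) (h ^ k), Helper8.isIrrCharacter_pow_of_coprime k hk χ.2⟩

theorem sigIrr_apply (hk : k.Coprime (Nat.card H)) (χ : IrrCharacter H) (h : H) :
    (sigIrr hk χ : H → ℂ) h = (χ : H → ℂ) (h ^ k) := rfl

theorem sigIrr_injective (hk : k.Coprime (Nat.card H)) : Function.Injective (sigIrr (H := H) hk) := by
  intro χ ψ h
  apply Subtype.ext
  funext g
  obtain ⟨g', rfl⟩ := (powCoprime hk.symm).surjective g
  exact congrFun (congrArg Subtype.val h) g'

theorem sigIrr_eq_iff (hk : k.Coprime (Nat.card H)) (χ : IrrCharacter H) :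
    sigIrr hk χ = χ ↔ SigFix k (χ : H → ℂ) := by
  constructor
  · intro h g
    exact congrFun (congrArg Subtype.val h) g
  · intro h
    apply Subtype.ext
    funext g
    exact h g

/-- Existence: over an irreducible character of a normal subgroup of odd index fixed by the power
map lies an irreducible character fixed by the power map. -/
theorem exists_sigFix_over (hH : PowHyp H k e) (N : Subgroup H) [hN : N.Normal] [Fintype N]
    (hodd : Odd N.index) (θ : IrrCharacter N) (hθ : SigFix k (θ : N → ℂ)) :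
    ∃ χ : IrrCharacter H, SigFix k (χ : H → ℂ) ∧
      classInner (fun n : N => (χ : H → ℂ) n) (θ : N → ℂ) ≠ 0 := by
  classical
  haveI : Fintype (IrrCharacter H) := Fintype.ofFinite _
  haveI : Fintype (IrrCharacter N) := Fintype.ofFinite _
  -- multiplicities
  have hm : ∀ χ : IrrCharacter H, ∃ m : ℕ,
      classInner (fun n : N => (χ : H → ℂ) n) (θ : N → ℂ) = (m : ℂ) := fun χ =>
    IsCharacter.classInner_irr_nat
      (Helper8.isCharacter_restrict N (IsIrrCharacter.isCharacter χ.2)) θ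
  choose m hm using hm
  -- the permutation
  let τ : Equiv.Perm (IrrCharacter H) := Equiv.ofBijective (sigIrr hH.cop)
    (Finite.injective_iff_bijective.mp (sigIrr_injective hH.cop))
  have hτ : ∀ χ, τ χ = sigIrr hH.cop χ := fun χ => rfl
  have hτpow : ∀ (j : ℕ) (χ : IrrCharacter H) (h : H),
      ((τ ^ j) χ : H → ℂ) h = (χ : H → ℂ) (h ^ (k ^ j)) := by
    intro j
    induction j with
    | zero => intro χ h; simp
    | succ j ih =>
      intro χ h
      rw [pow_succ, Equiv.Perm.mul_apply, ih, hτ, sigIrr_apply, ← pow_mul, pow_succ, mul_comm]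
  have hτord : τ ^ (2 ^ e) = 1 := by
    ext χ : 1
    apply Subtype.ext
    funext h
    rw [hτpow, hH.pow_pow_eq]
    rfl
  have hmτ : ∀ χ, m (τ χ) = m χ := by
    intro χ
    have h1 := hm (τ χ)
    have h2 : (fun n : N => ((τ χ : IrrCharacter H) : H → ℂ) n) =
        fun n : N => (fun n' : N => (χ : H → ℂ) n') (n ^ k) := by
      funext n
      rw [hτ, sigIrr_apply]
      rfl
    have h4 := classInner_comp_pow (hH.subgroup N).cop (fun n' : N => (χ : H → ℂ) n')
      (θ : N → ℂ)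
    have h5 : (fun n : N => (θ : N → ℂ) (n ^ k)) = (θ : N → ℂ) := funext hθ
    rw [h5] at h4
    rw [h2, h4, hm χ] at h1
    exact_mod_cast h1.symm
  -- the sum of squares of multiplicities
  have hsum : ((∑ χ : IrrCharacter H, m χ ^ 2 : ℕ) : ℂ) =
      ((N.relIndex (inertiaSubgroup N (θ : N → ℂ)) : ℕ) : ℂ) := by
    have hΘ : IsCharacter H (indFun N (θ : N → ℂ)) :=
      isCharacter_indFun N (IsIrrCharacter.isCharacter θ.2)
    have hcoef : ∀ χ : IrrCharacter H,
        classInner (indFun N (θ : N → ℂ)) (χ : H → ℂ) = (m χ : ℂ) := by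
      intro χ
      rw [Helper8.frobenius_reciprocity N _ _ (isClassFunction_irr χ), ← classInner_conj_symm,
        hm χ, Complex.conj_natCast]
    have h1 : classInner (indFun N (θ : N → ℂ)) (indFun N (θ : N → ℂ)) =
        ∑ χ : IrrCharacter H, ((m χ : ℂ)) ^ 2 := by
      conv_lhs => rw [IsCharacter.eq_sum_classInner hΘ]
      rw [classInner_sum_left]
      apply Finset.sum_congr rfl
      intro χ _
      rw [classInner_smul_left, hcoef χ, ← IsCharacter.eq_sum_classInner hΘ,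
        ← classInner_conj_symm, hcoef χ, Complex.conj_natCast, sq]
    have h2 := card_mul_classInner_indFun_self N (θ : N → ℂ) θ.2
    have h3 : Nat.card {g : H // ∀ h : N, (θ : N → ℂ) ⟨g * h * g⁻¹, hN.conj_mem h h.2 g⟩ =
        (θ : N → ℂ) h} = Nat.card (inertiaSubgroup N (θ : N → ℂ)) := by
      apply Nat.card_congr
      exact Equiv.subtypeEquivRight (fun g => (mem_inertiaSubgroup N _ g).symm)
    have hNT : N ≤ inertiaSubgroup N (θ : N → ℂ) :=
      le_inertiaSubgroup N _ (isClassFunction_irr θ)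
    have h4 : Nat.card (inertiaSubgroup N (θ : N → ℂ)) =
        N.relIndex (inertiaSubgroup N (θ : N → ℂ)) * Nat.card N := by
      rw [mul_comm]
      exact (card_mul_relIndex_of_le hNT).symm
    rw [h3, h4, h1] at h2
    have hNc : (Nat.card N : ℂ) ≠ 0 := by exact_mod_cast (Nat.card_pos (α := N)).ne'
    push_cast at h2 ⊢
    have h5 : (Nat.card N : ℂ) * ∑ χ : IrrCharacter H, ((m χ : ℂ)) ^ 2 =
        (Nat.card N : ℂ) * (N.relIndex (inertiaSubgroup N (θ : N → ℂ)) : ℂ) := by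
      rw [h2]; ring
    exact mul_left_cancel₀ hNc h5
  have hsum' : ∑ χ : IrrCharacter H, m χ ^ 2 = N.relIndex (inertiaSubgroup N (θ : N → ℂ)) := by
    exact_mod_cast hsum
  have hoddsum : Odd (∑ χ : IrrCharacter H, m χ ^ 2) := by
    rw [hsum']
    exact Odd.of_dvd_nat hodd (Subgroup.relIndex_dvd_index_of_normal N _)
  -- orbit counting
  haveI : Fact (Nat.Prime 2) := ⟨Nat.prime_two⟩
  have hQ : ∀ q : Subgroup.zpowers τ, ∃ a : ℕ, ∀ x : IrrCharacter H, q ^ (2 ^ a) • x = x := by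
    intro q
    refine ⟨e, fun x => ?_⟩
    obtain ⟨z, hz⟩ := Subgroup.mem_zpowers_iff.mp q.2
    have h1 : q ^ (2 ^ e) = 1 := by
      apply Subtype.ext
      rw [Subgroup.coe_pow, ← hz, ← zpow_natCast, ← zpow_mul, mul_comm, zpow_mul, zpow_natCast,
        hτord, one_zpow]
      rfl
    rw [h1, one_smul]
  have hf : ∀ (q : Subgroup.zpowers τ) (x : IrrCharacter H),
      ((m (q • x) : ℤ)) ^ 2 = ((m x : ℤ)) ^ 2 := by
    intro q x
    obtain ⟨z, hz⟩ := Subgroup.mem_zpowers_iff.mp q.2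
    have h1 : ∀ (j : ℕ) (y : IrrCharacter H), m ((τ ^ j) y) = m y := by
      intro j
      induction j with
      | zero => intro y; simp
      | succ j ih =>
        intro y
        rw [pow_succ, Equiv.Perm.mul_apply, ih, hmτ]
    have h2 : ∀ (z : ℤ) (y : IrrCharacter H), m ((τ ^ z) y) = m y := by
      intro z y
      cases z with
      | ofNat j => simpa using h1 j y
      | negSucc j =>
        have := h1 (j + 1) ((τ ^ (Int.negSucc j)) y)
        rw [← Equiv.Perm.mul_apply, ← zpow_natCast, ← zpow_add] at this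
        have h0 : ((j + 1 : ℕ) : ℤ) + Int.negSucc j = 0 := by
          rw [Int.negSucc_eq]; push_cast; ring
        rw [h0, zpow_zero, Equiv.Perm.one_apply] at this
        exact this.symm
    have h3 : q • x = (τ ^ z) x := by
      show (q : Equiv.Perm (IrrCharacter H)) x = _
      rw [← hz]
    rw [h3, h2]
  have hcong := sum_modEq_sum_fixed' (Q := Subgroup.zpowers τ) (X := IrrCharacter H) (p := 2) hQ
    (fun x => ((m x : ℤ)) ^ 2) hf
  by_contra hno
  push Not at hno
  have hzero : ∑ x ∈ Finset.univ.filter (fun x : IrrCharacter H =>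
      ∀ q : Subgroup.zpowers τ, q • x = x), ((m x : ℤ)) ^ 2 = 0 := by
    apply Finset.sum_eq_zero
    intro x hx
    rw [Finset.mem_filter] at hx
    have hfix : τ x = x := hx.2 ⟨τ, Subgroup.mem_zpowers τ⟩
    have h1 : SigFix k (x : H → ℂ) := (sigIrr_eq_iff hH.cop x).mp hfix
    have h2 := hno x h1
    rw [hm x] at h2
    have h3 : m x = 0 := by exact_mod_cast h2
    rw [h3]
    simp
  rw [hzero] at hcong
  have h1 : ((∑ χ : IrrCharacter H, m χ ^ 2 : ℕ) : ℤ) ≡ 0 [ZMOD 2] := by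
    push_cast
    exact hcong
  have h2 : (2 : ℤ) ∣ ((∑ χ : IrrCharacter H, m χ ^ 2 : ℕ) : ℤ) := Int.modEq_zero_iff_dvd.mp h1
  have h3 : 2 ∣ ∑ χ : IrrCharacter H, m χ ^ 2 := by exact_mod_cast h2
  exact (Nat.not_even_iff_odd.mpr hoddsum) (even_iff_two_dvd.mpr h3)

end Existence

section Twist

variable {H : Type u} [Group H] [Fintype H] {k e : ℕ}

/-- If `θ` is fixed by the power map and extends to `H`, then it has an extension fixed by the
power map. -/
theorem exists_sigFix_extension (hH : PowHyp H k e) (N : Subgroup H) [hN : N.Normal] [Fintype N]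
    (hodd : Odd N.index) (θ : IrrCharacter N) (hθ : SigFix k (θ : N → ℂ))
    (χ' : IrrCharacter H) (hext : ∀ n : N, (χ' : H → ℂ) n = (θ : N → ℂ) n) :
    ∃ χ : IrrCharacter H, SigFix k (χ : H → ℂ) ∧ ∀ n : N, (χ : H → ℂ) n = (θ : N → ℂ) n := by
  classical
  have hπK : IsIrrCharacter N (fun n : N => (χ' : H → ℂ) n) := by
    convert θ.2 using 1
    funext n
    exact hext n
  have heq : ∀ n : N, (sigIrr hH.cop χ' : H → ℂ) n = (χ' : H → ℂ) n := by
    intro n
    rw [sigIrr_apply]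
    have h1 : ((n : H)) ^ k = ((n ^ k : N) : H) := (Subgroup.coe_pow N n k).symm
    rw [h1, hext, hθ n, hext]
  obtain ⟨ν, hνN, hν⟩ := exists_linear_twist N (χ' : H → ℂ) (sigIrr hH.cop χ' : H → ℂ) χ'.2
    (sigIrr hH.cop χ').2 hπK heq
  obtain ⟨j, hj⟩ := hodd
  -- `N.index = 2 * j + 1`
  let μ : H →* ℂˣ := (powMonoidHom (j + 1)).comp ν
  have hμ : ∀ g : H, μ g = ν g ^ (j + 1) := fun g => rfl
  have hνm : ∀ g : H, ν g ^ (2 * j + 1) = 1 := by
    intro g
    rw [← hj]
    exact pow_index_eq_one_of_trivial N ν hνN g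
  have hνk : ∀ g : H, ν g ^ (k + 1) = 1 := by
    intro g
    rw [← map_pow]
    exact hνN ⟨_, hH.pow_succ_mem N (by rw [hj]; exact ⟨j, rfl⟩) g⟩
  have hkey : ∀ g : H, μ g ^ k * ν g = μ g := by
    intro g
    rw [hμ]
    have h1 : ν g ^ k = (ν g)⁻¹ := by
      have := hνk g
      rw [pow_succ] at this
      exact eq_inv_of_mul_eq_one_left this
    have h2 : (ν g ^ (j + 1)) ^ k = (ν g ^ (j + 1))⁻¹ := by
      rw [← pow_mul, mul_comm, pow_mul, h1, inv_pow]
    rw [h2, inv_mul_eq_iff_eq_mul, ← pow_add]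
    have h3 : j + 1 + (j + 1) = (2 * j + 1) + 1 := by ring
    rw [h3, pow_succ, hνm g, one_mul]
  refine ⟨⟨fun g => ((μ g : ℂˣ) : ℂ) * (χ' : H → ℂ) g,
    Helper8.isIrrCharacter_linear_mul μ χ'.2⟩, ?_, ?_⟩
  · intro g
    show ((μ (g ^ k) : ℂˣ) : ℂ) * (χ' : H → ℂ) (g ^ k) = ((μ g : ℂˣ) : ℂ) * (χ' : H → ℂ) g
    have h1 := hν g
    rw [sigIrr_apply] at h1
    rw [h1, map_pow, ← mul_assoc, ← Units.val_mul, hkey g]
  · intro n
    show ((μ (n : H) : ℂˣ) : ℂ) * (χ' : H → ℂ) n = _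
    rw [hμ, hνN n, one_pow, Units.val_one, one_mul, hext]

end Twist

section Step

variable {H : Type u} [Group H] [Fintype H] {k e : ℕ}

/-- One step up a normal series: prime odd index. -/
theorem sigFix_step (hH : PowHyp H k e) (N M : Subgroup H) [hN : N.Normal] [hM : M.Normal]
    (hNM : N ≤ M) (hp : (N.relIndex M).Prime) (hodd : Odd (N.relIndex M))
    (θ : IrrCharacter N) (hθ : SigFix k (θ : N → ℂ))
    (hinv : ∀ (g : H) (n : N), (θ : N → ℂ) ⟨g * n * g⁻¹, hN.conj_mem n n.2 g⟩ = (θ : N → ℂ) n) :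
    ∃ χ₁ : IrrCharacter M, SigFix k (χ₁ : M → ℂ) ∧
      (∀ n : N, (χ₁ : M → ℂ) ⟨n, hNM n.2⟩ = (θ : N → ℂ) n) ∧
      ∀ (g : H) (m : M), (χ₁ : M → ℂ) ⟨g * m * g⁻¹, hM.conj_mem m m.2 g⟩ = (χ₁ : M → ℂ) m := by
  classical
  haveI : Fintype M := Fintype.ofFinite _
  haveI : Fintype N := Fintype.ofFinite _
  haveI hN'n : (N.subgroupOf M).Normal := Subgroup.normal_subgroupOf
  haveI : Fintype (N.subgroupOf M) := Fintype.ofFinite _
  haveI : Fact (N.relIndex M).Prime := ⟨hp⟩
  have hM' : PowHyp M k e := hH.subgroup M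
  obtain ⟨θ', hθ'def⟩ : ∃ θ' : IrrCharacter (N.subgroupOf M),
      θ' = pullIrr (Subgroup.subgroupOfEquivOfLe hNM) θ := ⟨_, rfl⟩
  have hθ' : ∀ x : N.subgroupOf M, (θ' : N.subgroupOf M → ℂ) x =
      (θ : N → ℂ) ⟨((x : M) : H), x.2⟩ := by
    intro x
    rw [hθ'def, pullIrr_apply]
    rfl
  have hθ'fix : SigFix k (θ' : N.subgroupOf M → ℂ) := by
    intro x
    rw [hθ', hθ']
    exact hθ ⟨((x : M) : H), x.2⟩
  have hθ'inv : ∀ (g : M) (n : N.subgroupOf M), (θ' : N.subgroupOf M → ℂ)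
      ⟨g * n * g⁻¹, hN'n.conj_mem n n.2 g⟩ = (θ' : N.subgroupOf M → ℂ) n := by
    intro g n
    rw [hθ', hθ']
    exact hinv (g : H) ⟨((n : M) : H), n.2⟩
  have hcyc : IsCyclic (M ⧸ N.subgroupOf M) := by
    apply isCyclic_of_prime_card (p := N.relIndex M)
    rw [← Subgroup.index_eq_card]
    rfl
  obtain ⟨χ₀, hχ₀irr, hχ₀ext⟩ := exists_extension_of_cyclic_quotient (N.subgroupOf M) hcyc
    (θ' : N.subgroupOf M → ℂ) θ'.2 hθ'inv
  obtain ⟨χ₁, hχ₁fix, hχ₁ext⟩ := exists_sigFix_extension hM' (N.subgroupOf M) hodd θ' hθ'fix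
    ⟨χ₀, hχ₀irr⟩ hχ₀ext
  refine ⟨χ₁, hχ₁fix, ?_, ?_⟩
  · intro n
    have h1 := hχ₁ext ⟨⟨n, hNM n.2⟩, n.2⟩
    rw [hθ'] at h1
    exact h1
  · intro g
    -- the conjugate character
    have hconjirr := Helper8.isIrrCharacter_conj M (χ₁ : M → ℂ) χ₁.2 g
    have hover : ∀ ψ : IrrCharacter M, (∀ n : N.subgroupOf M,
        (ψ : M → ℂ) n = (θ' : N.subgroupOf M → ℂ) n) →
        classInner (fun n : N.subgroupOf M => (ψ : M → ℂ) n) (θ' : N.subgroupOf M → ℂ) ≠ 0 := by
      intro ψ hψ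
      have : (fun n : N.subgroupOf M => (ψ : M → ℂ) n) = (θ' : N.subgroupOf M → ℂ) := funext hψ
      rw [this, classInner_irr_self]
      exact one_ne_zero
    have heq : (⟨_, hconjirr⟩ : IrrCharacter M) = χ₁ := by
      apply sigFix_unique_over hM' (N.subgroupOf M) hodd θ' _ _ _ hχ₁fix _ (hover χ₁ hχ₁ext)
      · intro m
        show (χ₁ : M → ℂ) ⟨g * ((m ^ k : M) : H) * g⁻¹, _⟩ = (χ₁ : M → ℂ) ⟨g * (m : H) * g⁻¹, _⟩
        have h1 : (⟨g * ((m ^ k : M) : H) * g⁻¹, hM.conj_mem _ (m ^ k).2 g⟩ : M) =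
            (⟨g * (m : H) * g⁻¹, hM.conj_mem _ m.2 g⟩ : M) ^ k := by
          apply Subtype.ext
          show g * ((m ^ k : M) : H) * g⁻¹ =
            (((⟨g * (m : H) * g⁻¹, hM.conj_mem _ m.2 g⟩ : M) ^ k : M) : H)
          rw [Subgroup.coe_pow, Subgroup.coe_pow]
          exact conj_pow.symm
        rw [h1, hχ₁fix]
      · apply hover
        intro n
        show (χ₁ : M → ℂ) ⟨g * ((n : M) : H) * g⁻¹, _⟩ = _
        have hmem : g * ((n : M) : H) * g⁻¹ ∈ N := hN.conj_mem _ n.2 g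
        have h1 := hχ₁ext ⟨⟨g * ((n : M) : H) * g⁻¹, hM.conj_mem _ (n : M).2 g⟩, hmem⟩
        rw [hθ'] at h1
        rw [hθ']
        simp only at h1
        rw [h1]
        exact hinv g ⟨((n : M) : H), n.2⟩
    intro m
    exact congrFun (congrArg Subtype.val heq) m

/-- Extension through a `p`-group quotient of odd order. -/
theorem exists_sigFix_extension_of_pgroup (hH : PowHyp H k e) (p : ℕ) [hp : Fact p.Prime] :
    ∀ (n : ℕ) (N : Subgroup H) [hN : N.Normal], N.index = p ^ n → Odd N.index →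
      ∀ θ : IrrCharacter N, SigFix k (θ : N → ℂ) →
      (∀ (g : H) (x : N), (θ : N → ℂ) ⟨g * x * g⁻¹, hN.conj_mem x x.2 g⟩ = (θ : N → ℂ) x) →
      ∃ χ : IrrCharacter H, SigFix k (χ : H → ℂ) ∧ ∀ x : N, (χ : H → ℂ) x = (θ : N → ℂ) x := by
  classical
  intro n
  induction n with
  | zero =>
    intro N hN hidx _ θ hθ _
    rw [pow_zero, Subgroup.index_eq_one] at hidx
    subst hidx
    refine ⟨⟨fun h => (θ : (⊤ : Subgroup H) → ℂ) ⟨h, Subgroup.mem_top h⟩,
      Helper8.isIrrCharacter_comp_surjective (Subgroup.topEquiv (G := H)).symm.toMonoidHom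
        (Subgroup.topEquiv (G := H)).symm.surjective θ.2⟩, ?_, fun x => rfl⟩
    intro h
    exact hθ ⟨h, Subgroup.mem_top h⟩
  | succ n ih =>
    intro N hN hidx hodd θ hθ hinv
    have hQcard : Nat.card (H ⧸ N) = p ^ (n + 1) := by
      rw [← Subgroup.index_eq_card]
      exact hidx
    have hQp : IsPGroup p (H ⧸ N) := IsPGroup.of_card hQcard
    haveI : Nontrivial (H ⧸ N) := by
      rw [← Finite.one_lt_card_iff_nontrivial, hQcard]
      exact Nat.one_lt_pow (Nat.succ_ne_zero n) hp.out.one_lt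
    haveI hZnt : Nontrivial (Subgroup.center (H ⧸ N)) := hQp.center_nontrivial
    have hZp : IsPGroup p (Subgroup.center (H ⧸ N)) := hQp.to_subgroup _
    have hdvd : p ∣ Nat.card (Subgroup.center (H ⧸ N)) := by
      refine (hZp.card_eq_or_dvd).resolve_left ?_
      intro h1
      have := Finite.one_lt_card_iff_nontrivial.mpr hZnt
      omega
    obtain ⟨z, hz⟩ := exists_prime_orderOf_dvd_card' p hdvd
    obtain ⟨Z₁, hZ₁⟩ : ∃ Z₁ : Subgroup (H ⧸ N), Z₁ = Subgroup.zpowers (z : H ⧸ N) := ⟨_, rfl⟩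
    haveI hZ₁n : Z₁.Normal := by
      constructor
      intro x hx g
      have hxc : x ∈ Subgroup.center (H ⧸ N) := by
        rw [hZ₁] at hx
        obtain ⟨j, rfl⟩ := Subgroup.mem_zpowers_iff.mp hx
        exact Subgroup.zpow_mem _ z.2 j
      rw [Subgroup.mem_center_iff.mp hxc g, mul_inv_cancel_right]
      exact hx
    have hZ₁card : Nat.card Z₁ = p := by
      rw [hZ₁, Nat.card_zpowers, Subgroup.orderOf_coe, hz]
    have hppos : 0 < p := hp.out.pos
    have hZ₁idx : Z₁.index = p ^ n := by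
      have h1 := Subgroup.index_mul_card Z₁
      rw [hZ₁card, hQcard, pow_succ] at h1
      exact Nat.eq_of_mul_eq_mul_right hppos h1
    obtain ⟨M, hMdef⟩ : ∃ M : Subgroup H, M = Z₁.comap (QuotientGroup.mk' N) := ⟨_, rfl⟩
    haveI hMn : M.Normal := hMdef ▸ hZ₁n.comap _
    have hMidx : M.index = p ^ n := by
      rw [hMdef, Subgroup.index_comap_of_surjective _ (QuotientGroup.mk'_surjective N), hZ₁idx]
    have hNM : N ≤ M := by
      intro x hx
      rw [hMdef, Subgroup.mem_comap, QuotientGroup.mk'_apply, (QuotientGroup.eq_one_iff x).mpr hx]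
      exact Z₁.one_mem
    have hrel : N.relIndex M = p := by
      have h1 := Subgroup.relIndex_mul_index hNM
      rw [hMidx, hidx, pow_succ, mul_comm (p ^ n) p] at h1
      exact Nat.eq_of_mul_eq_mul_right (pow_pos hppos n) h1
    have hpodd : Odd p := Odd.of_dvd_nat hodd (by rw [hidx]; exact dvd_pow_self p (Nat.succ_ne_zero n))
    obtain ⟨χ₁, hχ₁fix, hχ₁ext, hχ₁inv⟩ := sigFix_step hH N M hNM (by rw [hrel]; exact hp.out)
      (by rw [hrel]; exact hpodd) θ hθ hinv
    obtain ⟨χ, hχfix, hχext⟩ := ih M hMidx (by rw [hMidx]; exact hpodd.pow) χ₁ hχ₁fix hχ₁inv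
    refine ⟨χ, hχfix, ?_⟩
    intro x
    rw [← hχ₁ext x]
    exact hχext ⟨x, hNM x.2⟩

/-- An invariant irreducible character of a normal subgroup of odd index fixed by the power map
has an extension fixed by the power map. -/
theorem exists_sigFix_extension_of_invariant (hH : PowHyp H k e) (N : Subgroup H)
    [hN : N.Normal] [Fintype N] (hodd : Odd N.index) (θ : IrrCharacter N)
    (hθ : SigFix k (θ : N → ℂ))
    (hinv : ∀ (g : H) (x : N), (θ : N → ℂ) ⟨g * x * g⁻¹, hN.conj_mem x x.2 g⟩ = (θ : N → ℂ) x) :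
    ∃ χ : IrrCharacter H, SigFix k (χ : H → ℂ) ∧ ∀ x : N, (χ : H → ℂ) x = (θ : N → ℂ) x := by
  classical
  have hsyl : ∀ q : ℕ, q.Prime → ∃ (P : Subgroup H) (hNP : N ≤ P) (η : P → ℂ),
      Nat.Coprime P.index q ∧ IsIrrCharacter P η ∧
        ∀ n : N, η ⟨(n : H), hNP n.2⟩ = (θ : N → ℂ) n := by
    intro q hq
    haveI : Fact q.Prime := ⟨hq⟩
    obtain ⟨Qb⟩ := Sylow.nonempty (p := q) (G := H ⧸ N)
    obtain ⟨P, hPdef⟩ : ∃ P : Subgroup H,
        P = (Qb : Subgroup (H ⧸ N)).comap (QuotientGroup.mk' N) := ⟨_, rfl⟩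
    have hNP : N ≤ P := by
      intro x hx
      rw [hPdef, Subgroup.mem_comap, QuotientGroup.mk'_apply, (QuotientGroup.eq_one_iff x).mpr hx]
      exact Subgroup.one_mem _
    have hPidx : P.index = (Qb : Subgroup (H ⧸ N)).index := by
      rw [hPdef, Subgroup.index_comap_of_surjective _ (QuotientGroup.mk'_surjective N)]
    have hcopq : Nat.Coprime P.index q := by
      rw [hPidx]
      exact Nat.Coprime.symm ((Nat.Prime.coprime_iff_not_dvd hq).mpr (Sylow.not_dvd_index Qb))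
    haveI : Fintype P := Fintype.ofFinite _
    have hP' : PowHyp P k e := hH.subgroup P
    haveI hN'n : (N.subgroupOf P).Normal := Subgroup.normal_subgroupOf
    haveI : Fintype (N.subgroupOf P) := Fintype.ofFinite _
    have hrel : N.relIndex P = Nat.card (Qb : Subgroup (H ⧸ N)) := by
      have h1 := Subgroup.relIndex_mul_index hNP
      have h2 := Subgroup.index_mul_card (Qb : Subgroup (H ⧸ N))
      rw [← Subgroup.index_eq_card, ← h1, hPidx, mul_comm] at h2
      exact (Nat.eq_of_mul_eq_mul_right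
        (Nat.pos_of_ne_zero Subgroup.index_ne_zero_of_finite) h2).symm
    obtain ⟨a, ha⟩ := (Qb.isPGroup').exists_card_eq
    have hidx' : (N.subgroupOf P).index = q ^ a := by
      show N.relIndex P = q ^ a
      rw [hrel, ha]
    have hodd' : Odd (N.subgroupOf P).index :=
      Odd.of_dvd_nat hodd (Subgroup.relIndex_dvd_index_of_normal N P)
    obtain ⟨θ', hθ'def⟩ : ∃ θ' : IrrCharacter (N.subgroupOf P),
        θ' = pullIrr (Subgroup.subgroupOfEquivOfLe hNP) θ := ⟨_, rfl⟩
    have hθ' : ∀ x : N.subgroupOf P, (θ' : N.subgroupOf P → ℂ) x =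
        (θ : N → ℂ) ⟨((x : P) : H), x.2⟩ := by
      intro x
      rw [hθ'def, pullIrr_apply]
      rfl
    have hθ'fix : SigFix k (θ' : N.subgroupOf P → ℂ) := by
      intro x
      rw [hθ', hθ']
      exact hθ ⟨((x : P) : H), x.2⟩
    have hθ'inv : ∀ (g : P) (n : N.subgroupOf P), (θ' : N.subgroupOf P → ℂ)
        ⟨g * n * g⁻¹, hN'n.conj_mem n n.2 g⟩ = (θ' : N.subgroupOf P → ℂ) n := by
      intro g n
      rw [hθ', hθ']
      exact hinv (g : H) ⟨((n : P) : H), n.2⟩
    obtain ⟨η, -, hηext⟩ := exists_sigFix_extension_of_pgroup hP' q a (N.subgroupOf P) hidx'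
      hodd' θ' hθ'fix hθ'inv
    refine ⟨P, hNP, (η : P → ℂ), hcopq, η.2, ?_⟩
    intro n
    have h1 := hηext ⟨⟨(n : H), hNP n.2⟩, n.2⟩
    rw [hθ'] at h1
    exact h1
  obtain ⟨χ', hχ'irr, hχ'ext⟩ := extends_of_sylow_extensions N (θ : N → ℂ) θ.2 hinv hsyl
  exact exists_sigFix_extension hH N hodd θ hθ ⟨χ', hχ'irr⟩ hχ'ext

/-- The main theorem: over an irreducible character of a normal subgroup of odd index fixed by
the power map lies exactly one irreducible character fixed by the power map, and it is an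
extension in the invariant case. -/
theorem exists_unique_sigFix_over (hH : PowHyp H k e) (N : Subgroup H) [hN : N.Normal]
    [Fintype N] (hodd : Odd N.index) (θ : IrrCharacter N) (hθ : SigFix k (θ : N → ℂ)) :
    ∃ χ : IrrCharacter H,
      (classInner (fun n : N => (χ : H → ℂ) n) (θ : N → ℂ) ≠ 0 ∧ SigFix k (χ : H → ℂ) ∧
        ((∀ (g : H) (n : N), (θ : N → ℂ) ⟨g * n * g⁻¹, hN.conj_mem n n.2 g⟩ = (θ : N → ℂ) n) →
          ∀ n : N, (χ : H → ℂ) n = (θ : N → ℂ) n)) ∧
      ∀ χ' : IrrCharacter H, classInner (fun n : N => (χ' : H → ℂ) n) (θ : N → ℂ) ≠ 0 →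
        SigFix k (χ' : H → ℂ) → χ' = χ := by
  obtain ⟨χ, hχfix, hχover⟩ := exists_sigFix_over hH N hodd θ hθ
  refine ⟨χ, ⟨hχover, hχfix, ?_⟩, ?_⟩
  · intro hinv
    obtain ⟨χ₂, hχ₂fix, hχ₂ext⟩ := exists_sigFix_extension_of_invariant hH N hodd θ hθ hinv
    have hover₂ : classInner (fun n : N => (χ₂ : H → ℂ) n) (θ : N → ℂ) ≠ 0 := by
      have : (fun n : N => (χ₂ : H → ℂ) n) = (θ : N → ℂ) := funext hχ₂ext
      rw [this, classInner_irr_self]
      exact one_ne_zero
    have := sigFix_unique_over hH N hodd θ χ χ₂ hχfix hχ₂fix hχover hover₂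
    rw [this]
    exact hχ₂ext
  · intro χ' hover' hfix'
    exact sigFix_unique_over hH N hodd θ χ' χ hfix' hχfix hover' hχover

end Step

end Cfsg.Agent.Helper24
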