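import Mathlib
import Cfsg.Agent.Helper24.SigmaOdd
import Cfsg.Agent.Helper5.PrincipalNormal
import Cfsg.Agent.Helper5.RegularCount
import Cfsg.Agent.Helper8.PrincipalParity

/-!
Principal `2`-blocks and characters fixed by a Galois automorphism of `2`-power order inverting
odd-order roots of unity, above a normal subgroup of odd index.
-/

set_option autoImplicit false

namespace Cfsg.Agent.Helper24

open Cfsg Cfsg.Agent.Helper5 Cfsg.Agent.Helper5.Loc Cfsg.Agent.Helper5.CC

universe u

section OrbitCount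

variable {H : Type u} [Group H] [Fintype H] {k e : ℕ}

/-- A weight on `Irr(H)` invariant under the power map with odd total has a fixed point of
non-zero weight. -/
theorem exists_sigFix_of_odd_sum (hH : PowHyp H k e) [Fintype (IrrCharacter H)]
    (f : IrrCharacter H → ℤ) (hf : ∀ χ, f (sigIrr hH.cop χ) = f χ)
    (hodd : Odd (∑ χ : IrrCharacter H, f χ)) :
    ∃ χ : IrrCharacter H, SigFix k (χ : H → ℂ) ∧ f χ ≠ 0 := by
  classical
  let τ : Equiv.Perm (IrrCharacter H) := Equiv.ofBijective (sigIrr hH.cop)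
    (Finite.injective_iff_bijective.mp (sigIrr_injective hH.cop))
  have hτ : ∀ χ, τ χ = sigIrr hH.cop χ := fun χ => rfl
  have hτpow : ∀ (j : ℕ) (χ : IrrCharacter H) (h : H),
      ((τ ^ j) χ : H → ℂ) h = (χ : H → ℂ) (h ^ (k ^ j)) := by
    intro j
    induction j with
    | zero => intro χ h; simp
    | succ j ih =>
      intro χ h
      rw [pow_succ, Equiv.Perm.mul_apply, ih, hτ, sigIrr_apply, ← pow_mul, pow_succ, mul_comm]
  have hτord : τ ^ (2 ^ e) = 1 := by
    ext χ : 1
    apply Subtype.ext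
    funext h
    rw [hτpow, hH.pow_pow_eq]
    rfl
  haveI : Fact (Nat.Prime 2) := ⟨Nat.prime_two⟩
  have hQ : ∀ q : Subgroup.zpowers τ, ∃ a : ℕ, ∀ x : IrrCharacter H, q ^ (2 ^ a) • x = x := by
    intro q
    refine ⟨e, fun x => ?_⟩
    obtain ⟨z, hz⟩ := Subgroup.mem_zpowers_iff.mp q.2
    have h1 : q ^ (2 ^ e) = 1 := by
      apply Subtype.ext
      rw [Subgroup.coe_pow, ← hz, ← zpow_natCast, ← zpow_mul, mul_comm, zpow_mul, zpow_natCast,
        hτord, one_zpow]
      rfl
    rw [h1, one_smul]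
  have hfq : ∀ (q : Subgroup.zpowers τ) (x : IrrCharacter H), f (q • x) = f x := by
    intro q x
    obtain ⟨z, hz⟩ := Subgroup.mem_zpowers_iff.mp q.2
    have h1 : ∀ (j : ℕ) (y : IrrCharacter H), f ((τ ^ j) y) = f y := by
      intro j
      induction j with
      | zero => intro y; simp
      | succ j ih =>
        intro y
        rw [pow_succ, Equiv.Perm.mul_apply, ih, hτ, hf]
    have h2 : ∀ (z : ℤ) (y : IrrCharacter H), f ((τ ^ z) y) = f y := by
      intro z y
      cases z with
      | ofNat j => simpa using h1 j y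
      | negSucc j =>
        have := h1 (j + 1) ((τ ^ (Int.negSucc j)) y)
        rw [← Equiv.Perm.mul_apply, ← zpow_natCast, ← zpow_add] at this
        have h0 : ((j + 1 : ℕ) : ℤ) + Int.negSucc j = 0 := by
          rw [Int.negSucc_eq]; push_cast; ring
        rw [h0, zpow_zero, Equiv.Perm.one_apply] at this
        exact this.symm
    have h3 : q • x = (τ ^ z) x := by
      show (q : Equiv.Perm (IrrCharacter H)) x = _
      rw [← hz]
    rw [h3, h2]
  have hcong := sum_modEq_sum_fixed' (Q := Subgroup.zpowers τ) (X := IrrCharacter H) (p := 2) hQ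
    f hfq
  by_contra hno
  push Not at hno
  have hzero : ∑ x ∈ Finset.univ.filter (fun x : IrrCharacter H =>
      ∀ q : Subgroup.zpowers τ, q • x = x), f x = 0 := by
    apply Finset.sum_eq_zero
    intro x hx
    rw [Finset.mem_filter] at hx
    have hfix : τ x = x := hx.2 ⟨τ, Subgroup.mem_zpowers τ⟩
    exact hno x ((sigIrr_eq_iff hH.cop x).mp hfix)
  rw [hzero] at hcong
  have h2 : (2 : ℤ) ∣ ∑ χ : IrrCharacter H, f χ := Int.modEq_zero_iff_dvd.mp hcong
  exact (Int.not_even_iff_odd.mpr hodd) (even_iff_two_dvd.mpr h2)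

end OrbitCount

section Block

variable {G : Type u} [Group G] [Fintype G] {k e : ℕ} {M : Ideal AlgInt}

omit [Fintype G] in
theorem regInd_star (p : ℕ) (t : G) : (starRingEnd ℂ) (regInd p t) = regInd p t := by
  unfold regInd
  split_ifs <;> simp

/-- Over a member of the principal `2`-block of a normal subgroup of odd index fixed by the power
map lies a member of the principal `2`-block fixed by the power map. -/
theorem exists_sigFix_principal_over (hM : IsPModular 2 M) (hG : PowHyp G k e) (N : Subgroup G)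
    [hN : N.Normal] [Fintype N] (hodd : Odd N.index) (θ : IrrCharacter N)
    (hθ : SigFix k (θ : N → ℂ)) (hθB : θ ∈ principalBlock M N) :
    ∃ χ : IrrCharacter G, χ ∈ principalBlock M G ∧ SigFix k (χ : G → ℂ) ∧
      classInner (fun n : N => (χ : G → ℂ) n) (θ : N → ℂ) ≠ 0 := by
  classical
  haveI : Fact (Nat.Prime 2) := ⟨Nat.prime_two⟩
  have hMp := isPrime_of_isPModular hM
  haveI : Fintype (IrrCharacter G) := Fintype.ofFinite _
  haveI : Fintype (IrrCharacter N) := Fintype.ofFinite _
  have hθ1 : (θ : N → ℂ) 1 ≠ 0 := irr_one_ne_zero θ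
  -- multiplicities
  have hm : ∀ χ : IrrCharacter G, ∃ m : ℕ,
      classInner (fun n : N => (χ : G → ℂ) n) (θ : N → ℂ) = (m : ℂ) := fun χ =>
    IsCharacter.classInner_irr_nat
      (Helper8.isCharacter_restrict N (IsIrrCharacter.isCharacter χ.2)) θ
  choose m hm using hm
  obtain ⟨c, hc⟩ : ∃ c : ℕ, c = (Finset.univ.image (conjFun N (θ : N → ℂ))).card := ⟨_, rfl⟩
  -- degrees
  have hdeg : ∀ χ : IrrCharacter G, m χ ≠ 0 →
      (χ : G → ℂ) 1 = (m χ : ℂ) * (c : ℂ) * (θ : N → ℂ) 1 := by
    intro χ hχ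
    have hcon : classInner (fun n : N => (χ : G → ℂ) n) (θ : N → ℂ) ≠ 0 := by
      rw [hm χ]
      exact_mod_cast hχ
    have h1 := congrFun (clifford_finset N χ.2 θ.2 hcon) 1
    rw [hm χ] at h1
    simp only [Pi.smul_apply, Finset.sum_apply, smul_eq_mul] at h1
    have h2 : ∀ ψ ∈ Finset.univ.image (conjFun N (θ : N → ℂ)), ψ 1 = (θ : N → ℂ) 1 := by
      intro ψ hψ
      obtain ⟨g, -, rfl⟩ := Finset.mem_image.mp hψ
      rw [conjFun_apply]
      have h3 : (⟨g * ((1 : N) : G) * g⁻¹, hN.conj_mem _ (1 : N).2 g⟩ : N) = 1 := by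
        apply Subtype.ext
        simp
      rw [h3]
    rw [Finset.sum_congr rfl h2, Finset.sum_const, nsmul_eq_mul, ← hc] at h1
    rw [Subgroup.coe_one] at h1
    rw [h1]
    ring
  -- sums over the 2-regular elements
  have hS0 : ∀ χ : IrrCharacter G, χ ∉ principalBlock M G →
      ∑ t : G, regInd 2 t * (χ : G → ℂ) t = 0 := by
    intro χ hχ
    have h0 := act_regInd_eq_zero_of_not_mem hM χ hχ
    rw [act] at h0
    rcases div_eq_zero_iff.mp h0 with h | h
    · exact h
    · exact absurd h (irr_one_ne_zero χ)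
  have hS1 : ∀ χ : IrrCharacter G, ∑ t : G, regInd 2 t * (χ : G → ℂ) t =
      act (regInd 2) χ * (χ : G → ℂ) 1 := by
    intro χ
    rw [act, div_mul_cancel₀ _ (irr_one_ne_zero χ)]
  have hSN : ∑ n : N, regInd 2 n * (θ : N → ℂ) n = act (regInd 2) θ * (θ : N → ℂ) 1 := by
    rw [act, div_mul_cancel₀ _ hθ1]
  -- Frobenius reciprocity
  have hfrob : ∑ χ : IrrCharacter G, (m χ : ℂ) * ∑ t : G, regInd 2 t * (χ : G → ℂ) t =
      (N.index : ℂ) * ∑ n : N, regInd 2 n * (θ : N → ℂ) n := by
    have hΘ : IsCharacter G (indFun N (θ : N → ℂ)) :=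
      isCharacter_indFun N (IsIrrCharacter.isCharacter θ.2)
    have hcoef : ∀ χ : IrrCharacter G,
        classInner (indFun N (θ : N → ℂ)) (χ : G → ℂ) = (m χ : ℂ) := by
      intro χ
      rw [Helper8.frobenius_reciprocity N _ _ (isClassFunction_irr χ), ← classInner_conj_symm,
        hm χ, Complex.conj_natCast]
    have h1 := Helper8.frobenius_reciprocity N (θ : N → ℂ) (regInd 2)
      (isClassFunction_regInd (G := G) 2)
    have h2 : classInner (indFun N (θ : N → ℂ)) (regInd 2) =
        (Nat.card G : ℂ)⁻¹ * ∑ χ : IrrCharacter G, (m χ : ℂ) *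
          ∑ t : G, regInd 2 t * (χ : G → ℂ) t := by
      conv_lhs => rw [IsCharacter.eq_sum_classInner hΘ]
      rw [classInner_sum_left, Finset.mul_sum]
      apply Finset.sum_congr rfl
      intro χ _
      rw [classInner_smul_left, hcoef χ]
      unfold classInner
      rw [← mul_assoc, mul_comm (m χ : ℂ), mul_assoc]
      congr 2
      apply Finset.sum_congr rfl
      intro t _
      rw [regInd_star, mul_comm]
    have h3 : classInner (θ : N → ℂ) (fun n : N => regInd 2 (n : G)) =
        (Nat.card N : ℂ)⁻¹ * ∑ n : N, regInd 2 n * (θ : N → ℂ) n := by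
      unfold classInner
      congr 1
      apply Finset.sum_congr rfl
      intro n _
      rw [regInd_star, regInd_coe, mul_comm]
    rw [h2, h3] at h1
    have hGc : (Nat.card G : ℂ) ≠ 0 := by exact_mod_cast (Nat.card_pos (α := G)).ne'
    have hNc : (Nat.card N : ℂ) ≠ 0 := by exact_mod_cast (Nat.card_pos (α := N)).ne'
    have hidx : (Nat.card G : ℂ) = (N.index : ℂ) * (Nat.card N : ℂ) := by
      have := Subgroup.index_mul_card N
      exact_mod_cast this.symm
    field_simp at h1
    rw [hidx] at h1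
    have h4 : (Nat.card N : ℂ) * ∑ χ : IrrCharacter G, (m χ : ℂ) *
        ∑ t : G, regInd 2 t * (χ : G → ℂ) t =
        (Nat.card N : ℂ) * ((N.index : ℂ) * ∑ n : N, regInd 2 n * (θ : N → ℂ) n) := by
      linear_combination h1
    exact mul_left_cancel₀ hNc h4
  -- the main identity
  have hterm : ∀ χ : IrrCharacter G, (m χ : ℂ) * ∑ t : G, regInd 2 t * (χ : G → ℂ) t =
      (θ : N → ℂ) 1 * ((c : ℂ) * (if χ ∈ principalBlock M G then
        ((m χ : ℂ)) ^ 2 * act (regInd 2) χ else 0)) := by
    intro χ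
    by_cases hχ : χ ∈ principalBlock M G
    · rw [if_pos hχ, hS1 χ]
      by_cases h0 : m χ = 0
      · rw [h0]; simp
      · rw [hdeg χ h0]; ring
    · rw [if_neg hχ, hS0 χ hχ]; simp
  have hmain : (c : ℂ) * ∑ χ : IrrCharacter G, (if χ ∈ principalBlock M G then
        ((m χ : ℂ)) ^ 2 * act (regInd 2) χ else 0) = (N.index : ℂ) * act (regInd 2) θ := by
    have h1 := hfrob
    rw [Finset.sum_congr rfl (fun χ _ => hterm χ), ← Finset.mul_sum, ← Finset.mul_sum, hSN] at h1
    have h2 : (θ : N → ℂ) 1 * ((c : ℂ) * ∑ χ : IrrCharacter G,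
        (if χ ∈ principalBlock M G then ((m χ : ℂ)) ^ 2 * act (regInd 2) χ else 0)) =
        (θ : N → ℂ) 1 * ((N.index : ℂ) * act (regInd 2) θ) := by
      rw [h1]; ring
    exact mul_left_cancel₀ hθ1 h2
  -- congruences
  obtain ⟨rG, hrG⟩ : ∃ rG : ℕ, ∑ t : G, regInd 2 t = (rG : ℂ) := ⟨_, sum_regInd 2⟩
  obtain ⟨rN, hrN⟩ : ∃ rN : ℕ, ∑ t : N, regInd 2 t = (rN : ℂ) := ⟨_, sum_regInd 2⟩
  have hrGodd : ¬ 2 ∣ rG := by
    intro h
    apply not_memLocalIdeal_sum_regInd (G := G) hM
    rw [hrG]
    exact (memLocalIdeal_natCast_iff hM rG).mpr h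
  have hrNodd : ¬ 2 ∣ rN := by
    intro h
    apply not_memLocalIdeal_sum_regInd (G := N) hM
    rw [hrN]
    exact (memLocalIdeal_natCast_iff hM rN).mpr h
  have hu : ∀ χ : IrrCharacter G, χ ∈ principalBlock M G →
      MemLocalIdeal M ((rG : ℂ) - act (regInd 2) χ) := by
    intro χ hχ
    have h2 := act_sub_act_memLocalIdeal hMp (isClassFunction_regInd (G := G) 2)
      (fun t => lr_regInd hMp 2 t) (χ := trivIrr G) (ψ := χ) hχ
    rwa [act_regInd_trivIrr, hrG] at h2
  have huN : MemLocalIdeal M ((rN : ℂ) - act (regInd 2) θ) := by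
    have h2 := act_sub_act_memLocalIdeal hMp (isClassFunction_regInd (G := N) 2)
      (fun t => lr_regInd hMp 2 t) (χ := trivIrr N) (ψ := θ) hθB
    rwa [act_regInd_trivIrr, hrN] at h2
  obtain ⟨Sg, hSg⟩ : ∃ Sg : ℕ, Sg = ∑ χ : IrrCharacter G,
      (if χ ∈ principalBlock M G then (m χ) ^ 2 else 0) := ⟨_, rfl⟩
  have hdiff : MemLocalIdeal M (((c * Sg * rG : ℕ) : ℂ) - ((N.index * rN : ℕ) : ℂ)) := by
    have h1 : ((c * Sg * rG : ℕ) : ℂ) - ((N.index * rN : ℕ) : ℂ) =
        (c : ℂ) * ∑ χ : IrrCharacter G, (if χ ∈ principalBlock M G then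
          ((m χ : ℂ)) ^ 2 * ((rG : ℂ) - act (regInd 2) χ) else 0) -
        (N.index : ℂ) * ((rN : ℂ) - act (regInd 2) θ) := by
      have h2 : ∑ χ : IrrCharacter G, (if χ ∈ principalBlock M G then
          ((m χ : ℂ)) ^ 2 * ((rG : ℂ) - act (regInd 2) χ) else 0) =
          (Sg : ℂ) * (rG : ℂ) - ∑ χ : IrrCharacter G, (if χ ∈ principalBlock M G then
            ((m χ : ℂ)) ^ 2 * act (regInd 2) χ else 0) := by
        rw [hSg]
        push_cast
        rw [Finset.sum_mul, ← Finset.sum_sub_distrib]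
        apply Finset.sum_congr rfl
        intro χ _
        split_ifs <;> ring
      rw [h2, mul_sub, hmain]
      push_cast
      ring
    rw [h1]
    apply li_sub hMp
    · apply li_mul_left hMp (memLocalRing_natCast hMp c)
      apply li_sum hMp
      intro χ _
      split_ifs with hχ
      · have := li_mul_left hMp (memLocalRing_natCast hMp ((m χ) ^ 2)) (hu χ hχ)
        push_cast at this
        exact this
      · exact memLocalIdeal_zero hMp
    · exact li_mul_left hMp (memLocalRing_natCast hMp N.index) huN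
  have hsumdvd : 2 ∣ c * Sg * rG + N.index * rN := by
    rw [← memLocalIdeal_natCast_iff hM]
    have h2 : MemLocalIdeal M ((2 * (N.index * rN) : ℕ) : ℂ) :=
      (memLocalIdeal_natCast_iff hM _).mpr ⟨_, rfl⟩
    have h3 := li_add hMp hdiff h2
    convert h3 using 1
    push_cast
    ring
  have hSgodd : Odd Sg := by
    obtain ⟨j, hj⟩ := hodd
    have h1 : rG % 2 = 1 := by omega
    have h2 : rN % 2 = 1 := by omega
    have h3 : (N.index * rN) % 2 = 1 := by rw [Nat.mul_mod, hj, h2]; omega
    have h4 : (c * Sg * rG) % 2 = 1 := by omega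
    have h5 : (c * Sg) % 2 = 1 := by
      rw [Nat.mul_mod, h1] at h4
      omega
    have h6 : Sg % 2 = 1 := by
      rw [Nat.mul_mod] at h5
      rcases Nat.mod_two_eq_zero_or_one Sg with h | h
      · rw [h] at h5; omega
      · exact h
    exact Nat.odd_iff.mpr h6
  -- the principal block is stable
  have hfwd : ∀ χ : IrrCharacter G, χ ∈ principalBlock M G →
      sigIrr hG.cop χ ∈ principalBlock M G := by
    intro χ hχ
    exact Helper8.powIrr_mem_principalBlock M k (2 ^ e) (pow_pos two_pos e) hG.cop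
      (fun g => hG.pow_pow_eq g) hχ
  have hbwd : ∀ χ : IrrCharacter G, sigIrr hG.cop χ ∈ principalBlock M G →
      χ ∈ principalBlock M G := by
    intro χ hχ
    let g : principalBlock M G → principalBlock M G := fun x => ⟨sigIrr hG.cop x.1, hfwd x.1 x.2⟩
    have hginj : Function.Injective g := by
      intro x y hxy
      apply Subtype.ext
      exact sigIrr_injective hG.cop (congrArg Subtype.val hxy)
    obtain ⟨x, hx⟩ := (Finite.injective_iff_surjective.mp hginj) ⟨_, hχ⟩
    have : x.1 = χ := sigIrr_injective hG.cop (congrArg Subtype.val hx)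
    rw [← this]
    exact x.2
  have hmσ : ∀ χ : IrrCharacter G, m (sigIrr hG.cop χ) = m χ := by
    intro χ
    have h1 := hm (sigIrr hG.cop χ)
    have h2 : (fun n : N => ((sigIrr hG.cop χ : IrrCharacter G) : G → ℂ) n) =
        fun n : N => (fun n' : N => (χ : G → ℂ) n') (n ^ k) := by
      funext n
      rw [sigIrr_apply]
      rfl
    have h4 := classInner_comp_pow (hG.subgroup N).cop (fun n' : N => (χ : G → ℂ) n')
      (θ : N → ℂ)
    have h5 : (fun n : N => (θ : N → ℂ) (n ^ k)) = (θ : N → ℂ) := funext hθ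
    rw [h5] at h4
    rw [h2, h4, hm χ] at h1
    exact_mod_cast h1.symm
  obtain ⟨χ, hχfix, hχne⟩ := exists_sigFix_of_odd_sum hG
    (fun χ => if χ ∈ principalBlock M G then ((m χ : ℤ)) ^ 2 else 0)
    (by
      intro χ
      by_cases hχ : χ ∈ principalBlock M G
      · rw [if_pos hχ, if_pos (hfwd χ hχ), hmσ]
      · rw [if_neg hχ, if_neg (fun h => hχ (hbwd χ h))])
    (by
      have h1 : ∑ χ : IrrCharacter G, (if χ ∈ principalBlock M G then ((m χ : ℤ)) ^ 2 else 0) =
          (Sg : ℤ) := by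
        rw [hSg]
        push_cast
        apply Finset.sum_congr rfl
        intro χ _
        split_ifs <;> simp
      rw [h1]
      exact_mod_cast hSgodd)
  by_cases hχB : χ ∈ principalBlock M G
  · refine ⟨χ, hχB, hχfix, ?_⟩
    rw [if_pos hχB] at hχne
    rw [hm χ]
    intro h0
    apply hχne
    have : m χ = 0 := by exact_mod_cast h0
    rw [this]
    simp
  · rw [if_neg hχB] at hχne
    exact absurd rfl hχne

end Block

end Cfsg.Agent.Helper24
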