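import Mathlib
import Cfsg.Prelude.Def_Characters
import Cfsg.Agent.Helper24.PositiveChar
import Cfsg.Agent.Helper24.CosetAverage
import Cfsg.Agent.Helper24.Induced
import Cfsg.Agent.Helper24.Linear

/-!
For `N ⊲ G` and `χ ∈ Irr(G)`: `χ_N` is reducible iff `χ` vanishes on a coset of `N`.
-/

set_option autoImplicit false

namespace Cfsg.Agent.Helper24

open Cfsg

universe u

section

variable {G : Type u} [Group G] [Finite G] (N : Subgroup G) [hN : N.Normal]

/-- Statement S4996. -/
theorem restrict_reducible_iff_vanish_coset (χ : IrrCharacter G) :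
    ¬ IsIrrCharacter N (fun n : N => (χ : G → ℂ) n) ↔
      ∃ x : G, ∀ n : N, (χ : G → ℂ) ((n : G) * x) = 0 := by
  classical
  haveI : Fintype G := Fintype.ofFinite G
  haveI : Fintype N := Fintype.ofFinite N
  haveI : Fintype (G ⧸ N) := Fintype.ofFinite _
  haveI : Fintype (IrrCharacter (G ⧸ N)) := Fintype.ofFinite _
  haveI : Fintype (IrrCharacter N) := Fintype.ofFinite _
  haveI : Fintype (IrrCharacter G) := Fintype.ofFinite _
  have hNc : (Nat.card N : ℂ) ≠ 0 := by exact_mod_cast Nat.card_pos.ne'
  constructor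
  · intro hred
    by_contra hcon
    push Not at hcon
    apply hred
    have hcf := isClassFunction_irr χ
    -- the character `η` of `G ⧸ N`
    have hηchar : IsCharacter (G ⧸ N) (cosetAvgBar N (χ : G → ℂ) (χ : G → ℂ)) := by
      refine isCharacter_of_classInner_nat (isClassFunction_cosetAvgBar N _ _ hcf hcf) ?_
      intro β
      rw [classInner_cosetAvgBar N (χ : G → ℂ) χ β]
      exact IsCharacter.classInner_nat (IsIrrCharacter.isCharacter χ.2)
        (isCharacter_gallagherTwist N χ β)
    obtain ⟨m, ρ, hρ⟩ := hηchar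
    have hval : ∀ g : G, ρ.character (g : G ⧸ N) =
        (((Nat.card N : ℝ)⁻¹ * ∑ n : N, Complex.normSq ((χ : G → ℂ) ((n : G) * g)) : ℝ) : ℂ) := by
      intro g
      rw [hρ, cosetAvgBar_mk]
      unfold cosetAvg
      push_cast
      congr 1
      refine Finset.sum_congr rfl fun n _ => ?_
      rw [Complex.mul_conj]
    have hpos : ∀ q : G ⧸ N, ∃ r : ℝ, 0 < r ∧ ρ.character q = r := by
      intro q
      obtain ⟨g, rfl⟩ := QuotientGroup.mk_surjective q
      refine ⟨_, ?_, hval g⟩
      apply mul_pos
      · apply inv_pos.mpr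
        exact_mod_cast Nat.card_pos
      · obtain ⟨n, hn⟩ := hcon g
        apply Finset.sum_pos'
        · intro i _
          exact Complex.normSq_nonneg _
        · exact ⟨n, Finset.mem_univ _, Complex.normSq_pos.mpr hn⟩
    have hsum : ∑ q : G ⧸ N, ρ.character q = (Nat.card (G ⧸ N) : ℂ) := by
      have h1 := classInner_cosetAvgBar N (χ : G → ℂ) χ (trivIrr (G ⧸ N))
      have h2 : gallagherTwist N χ (trivIrr (G ⧸ N)) = (χ : G → ℂ) := by
        funext g
        unfold gallagherTwist
        rw [trivIrr_apply, one_mul]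
      rw [h2, classInner_of_isIrrCharacter χ.2 χ.2, if_pos rfl] at h1
      unfold classInner at h1
      have hQc : (Nat.card (G ⧸ N) : ℂ) ≠ 0 := by exact_mod_cast Nat.card_pos.ne'
      rw [inv_mul_eq_iff_eq_mul₀ hQc, mul_one] at h1
      rw [hρ, ← h1]
      refine Finset.sum_congr rfl fun q _ => ?_
      rw [trivIrr_apply, map_one, mul_one]
    have hle := finrank_le_one_of_pos_values ρ hpos hsum
    rw [Module.finrank_fin_fun] at hle
    -- the norm of the restriction
    have hnorm : classInner (fun n : N => (χ : G → ℂ) n) (fun n : N => (χ : G → ℂ) n) =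
        ρ.character 1 := by
      rw [hρ]
      have h1 : cosetAvgBar N (χ : G → ℂ) (χ : G → ℂ) ((1 : G) : G ⧸ N) =
          cosetAvg N (χ : G → ℂ) (χ : G → ℂ) 1 := cosetAvgBar_mk N _ _ 1
      rw [show (1 : G ⧸ N) = ((1 : G) : G ⧸ N) from rfl, h1]
      unfold cosetAvg classInner
      simp only [mul_one]
    have hm : ρ.character 1 = (m : ℂ) := by
      rw [Representation.char_one, Module.finrank_fin_fun]
    have hm0 : m ≠ 0 := by
      intro h0
      obtain ⟨r, hr, hr'⟩ := hpos 1
      rw [hm, h0] at hr'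
      have : r = 0 := by exact_mod_cast hr'.symm
      exact hr.ne' this
    have hm1 : m = 1 := by omega
    refine IsCharacter.isIrrCharacter_of_classInner_self
      (Helper8.isCharacter_restrict N (IsIrrCharacter.isCharacter χ.2)) ?_
    rw [hnorm, hm, hm1, Nat.cast_one]
  · rintro ⟨x, hx⟩ hirr
    have key := (coset_average_theorem N (χ : G → ℂ) χ.2 hirr (χ : G → ℂ) χ.2 _ rfl).2.2 rfl
    have h1 := congrFun key x
    simp only [hx, zero_mul, Finset.sum_const_zero, mul_zero] at h1
    exact zero_ne_one h1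

end

end Cfsg.Agent.Helper24
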