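import Mathlib
import Cfsg.Prelude.Def_Characters
import Cfsg.Agent.Helper1.W2pDefs
import Cfsg.Agent.Helper20.PermCharG
import Cfsg.Agent.Helper24.TwoTransitive
import Cfsg.Agent.Helper24.Restrict
import Cfsg.Agent.Helper8.CharComp
import Cfsg.Agent.Helper8.UniformDegree

set_option autoImplicit false

/-!
# S0720 piece LIFTb: lifting the decomposition `1 + χ + η` of the permutation character from a subgroup

General splitting lemmas for characters and their restrictions, and `lift_three`.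
-/

namespace Cfsg.Agent.Helper24.W2p

open Cfsg Cfsg.Agent.Helper24 MulAction

universe u v w

section Split

variable {G : Type u} [Group G] [Fintype G]

/-- Peel off an irreducible constituent of a character. -/
theorem exists_sub_irr {θ : G → ℂ} (hθ : IsCharacter G θ) (ξ : IrrCharacter G)
    (h : classInner θ (ξ : G → ℂ) ≠ 0) :
    ∃ R : G → ℂ, IsCharacter G R ∧ θ = (ξ : G → ℂ) + R := by
  classical
  haveI : Fintype (IrrCharacter G) := Fintype.ofFinite _
  obtain ⟨n, hn⟩ := IsCharacter.exists_nat_coeff hθ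
  have hcoef : classInner θ (ξ : G → ℂ) = n ξ := by
    rw [hn]; exact classInner_sum_irr _ ξ
  have hnξ : n ξ ≠ 0 := by
    intro h0
    rw [hcoef, h0] at h
    exact h (by simp)
  refine ⟨((n ξ - 1 : ℕ) : ℂ) • (ξ : G → ℂ) +
    ∑ ψ ∈ Finset.univ.erase ξ, (n ψ : ℂ) • (ψ : G → ℂ), ?_, ?_⟩
  · refine IsCharacter.add ?_ ?_
    · have := IsCharacter.nsmul (IsIrrCharacter.isCharacter ξ.2) (n ξ - 1)
      convert this using 1
      funext g
      simp
    · refine isCharacter_sum _ _ ?_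
      intro ψ _
      have := IsCharacter.nsmul (IsIrrCharacter.isCharacter ψ.2) (n ψ)
      convert this using 1
      funext g
      simp
  · conv_lhs => rw [hn, ← Finset.add_sum_erase _ _ (Finset.mem_univ ξ)]
    rw [← add_assoc]
    congr 1
    have h1 : 1 ≤ n ξ := Nat.pos_of_ne_zero hnξ
    funext g
    simp only [Pi.add_apply, Pi.smul_apply, smul_eq_mul]
    rw [Nat.cast_sub h1]
    push_cast
    ring

/-- Two characters whose sum vanishes both vanish. -/
theorem eq_zero_of_add_eq_zero {A B : G → ℂ} (hA : IsCharacter G A) (hB : IsCharacter G B)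
    (h : A + B = 0) : A = 0 ∧ B = 0 := by
  obtain ⟨a, ha⟩ := isCharacter_one hA
  obtain ⟨b, hb⟩ := isCharacter_one hB
  have h1 := congrFun h 1
  simp only [Pi.add_apply, Pi.zero_apply, ha, hb] at h1
  have h2 : a + b = 0 := by exact_mod_cast h1
  have ha0 : a = 0 := by omega
  have hb0 : b = 0 := by omega
  rw [ha0] at ha
  rw [hb0] at hb
  exact ⟨Cfsg.Agent.Helper8.isCharacter_eq_zero_of_apply_one hA (by simpa using ha),
    Cfsg.Agent.Helper8.isCharacter_eq_zero_of_apply_one hB (by simpa using hb)⟩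

/-- A sum of two characters equal to an irreducible character: one of them vanishes. -/
theorem add_eq_irr {A B : G → ℂ} (hA : IsCharacter G A) (hB : IsCharacter G B)
    (ξ : IrrCharacter G) (h : A + B = (ξ : G → ℂ)) :
    (A = 0 ∧ B = (ξ : G → ℂ)) ∨ (A = (ξ : G → ℂ) ∧ B = 0) := by
  classical
  haveI : Fintype (IrrCharacter G) := Fintype.ofFinite _
  obtain ⟨a, ha⟩ := IsCharacter.classInner_irr_nat hA ξ
  obtain ⟨b, hb⟩ := IsCharacter.classInner_irr_nat hB ξ
  have h1 : classInner (A + B) (ξ : G → ℂ) = 1 := by rw [h, classInner_irr_self]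
  rw [classInner_add_left, ha, hb] at h1
  have h2 : a + b = 1 := by exact_mod_cast h1
  by_cases ha0 : a = 0
  · left
    have hb1 : classInner B (ξ : G → ℂ) ≠ 0 := by
      rw [hb]
      have : b = 1 := by omega
      rw [this]; simp
    obtain ⟨R, hR, hBR⟩ := exists_sub_irr hB ξ hb1
    have h3 : A + R = 0 := by
      funext g
      have e1 := congrFun h g
      have e2 := congrFun hBR g
      simp only [Pi.add_apply, Pi.zero_apply] at e1 e2 ⊢
      linear_combination e1 - e2
    obtain ⟨hA0, hR0⟩ := eq_zero_of_add_eq_zero hA hR h3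
    refine ⟨hA0, ?_⟩
    rw [hBR, hR0, add_zero]
  · right
    have ha1 : classInner A (ξ : G → ℂ) ≠ 0 := by
      rw [ha]
      exact_mod_cast ha0
    obtain ⟨R, hR, hAR⟩ := exists_sub_irr hA ξ ha1
    have h3 : R + B = 0 := by
      funext g
      have e1 := congrFun h g
      have e2 := congrFun hAR g
      simp only [Pi.add_apply, Pi.zero_apply] at e1 e2 ⊢
      linear_combination e1 - e2
    obtain ⟨hR0, hB0⟩ := eq_zero_of_add_eq_zero hR hB h3
    refine ⟨?_, hB0⟩
    rw [hAR, hR0, add_zero]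

/-- A sum of two characters equal to the sum of two distinct irreducible characters. -/
theorem add_eq_irr_add_irr {A B : G → ℂ} (hA : IsCharacter G A) (hB : IsCharacter G B)
    (ξ₁ ξ₂ : IrrCharacter G) (hne : ξ₁ ≠ ξ₂) (h : A + B = (ξ₁ : G → ℂ) + (ξ₂ : G → ℂ)) :
    (A = 0 ∧ B = (ξ₁ : G → ℂ) + (ξ₂ : G → ℂ)) ∨ (A = (ξ₁ : G → ℂ) ∧ B = (ξ₂ : G → ℂ)) ∨
    (A = (ξ₂ : G → ℂ) ∧ B = (ξ₁ : G → ℂ)) ∨ (A = (ξ₁ : G → ℂ) + (ξ₂ : G → ℂ) ∧ B = 0) := by
  classical
  haveI : Fintype (IrrCharacter G) := Fintype.ofFinite _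
  obtain ⟨a, ha⟩ := IsCharacter.classInner_irr_nat hA ξ₁
  obtain ⟨b, hb⟩ := IsCharacter.classInner_irr_nat hB ξ₁
  have h1 : classInner (A + B) (ξ₁ : G → ℂ) = 1 := by
    rw [h, classInner_add_left, classInner_irr_self, classInner_irr_ne hne.symm, add_zero]
  rw [classInner_add_left, ha, hb] at h1
  have h2 : a + b = 1 := by exact_mod_cast h1
  by_cases ha0 : a = 0
  · have hb1 : classInner B (ξ₁ : G → ℂ) ≠ 0 := by
      rw [hb]
      have : b = 1 := by omega
      rw [this]; simp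
    obtain ⟨R, hR, hBR⟩ := exists_sub_irr hB ξ₁ hb1
    have h3 : A + R = (ξ₂ : G → ℂ) := by
      funext g
      have e1 := congrFun h g
      have e2 := congrFun hBR g
      simp only [Pi.add_apply] at e1 e2 ⊢
      linear_combination e1 - e2
    rcases add_eq_irr hA hR ξ₂ h3 with ⟨hA0, hR2⟩ | ⟨hA2, hR0⟩
    · left
      refine ⟨hA0, ?_⟩
      rw [hBR, hR2]
    · right; right; left
      refine ⟨hA2, ?_⟩
      rw [hBR, hR0, add_zero]
  · have ha1 : classInner A (ξ₁ : G → ℂ) ≠ 0 := by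
      rw [ha]
      exact_mod_cast ha0
    obtain ⟨R, hR, hAR⟩ := exists_sub_irr hA ξ₁ ha1
    have h3 : R + B = (ξ₂ : G → ℂ) := by
      funext g
      have e1 := congrFun h g
      have e2 := congrFun hAR g
      simp only [Pi.add_apply] at e1 e2 ⊢
      linear_combination e1 - e2
    rcases add_eq_irr hR hB ξ₂ h3 with ⟨hR0, hB2⟩ | ⟨hR2, hB0⟩
    · right; left
      refine ⟨?_, hB2⟩
      rw [hAR, hR0, add_zero]
    · right; right; right
      refine ⟨?_, hB0⟩
      rw [hAR, hR2]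

/-- A non-zero character is irreducible, or the sum of an irreducible character and a non-zero
character. -/
theorem irr_or_split {θ : G → ℂ} (hθ : IsCharacter G θ) (h0 : θ ≠ 0) :
    IsIrrCharacter G θ ∨
      ∃ (Ψ : IrrCharacter G) (R : G → ℂ), IsCharacter G R ∧ R ≠ 0 ∧ θ = (Ψ : G → ℂ) + R := by
  classical
  haveI : Fintype (IrrCharacter G) := Fintype.ofFinite _
  obtain ⟨Ψ, hΨ⟩ := IsCharacter.exists_irr_constituent hθ h0
  obtain ⟨R, hR, hθR⟩ := exists_sub_irr hθ Ψ hΨ
  by_cases hR0 : R = 0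
  · left
    rw [hθR, hR0, add_zero]
    exact Ψ.2
  · right
    exact ⟨Ψ, R, hR, hR0, hθR⟩

end Split

section Over

variable {G : Type u} [Group G] [Fintype G] {H : Type w} [Group H] [Fintype H]

/-- A constituent of `θ` whose pull-back along `f` contains `ξ`. -/
theorem exists_constituent_over (f : H →* G) {θ : G → ℂ} (hθ : IsCharacter G θ)
    (ξ : IrrCharacter H) (h : classInner (fun x : H => θ (f x)) (ξ : H → ℂ) ≠ 0) :
    ∃ (Ψ : IrrCharacter G) (R : G → ℂ), IsCharacter G R ∧ θ = (Ψ : G → ℂ) + R ∧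
      classInner (fun x : H => (Ψ : G → ℂ) (f x)) (ξ : H → ℂ) ≠ 0 := by
  classical
  haveI : Fintype (IrrCharacter G) := Fintype.ofFinite _
  obtain ⟨n, hn⟩ := IsCharacter.exists_nat_coeff hθ
  have hcoef : ∀ Ψ : IrrCharacter G, classInner θ (Ψ : G → ℂ) = n Ψ := by
    intro Ψ
    rw [hn]; exact classInner_sum_irr _ Ψ
  have hres : (fun x : H => θ (f x)) =
      ∑ Ψ : IrrCharacter G, (n Ψ : ℂ) • (fun x : H => (Ψ : G → ℂ) (f x)) := by
    funext x
    rw [hn]
    simp only [Finset.sum_apply, Pi.smul_apply, smul_eq_mul]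
  rw [hres, classInner_sum_left] at h
  obtain ⟨Ψ, _, hΨ⟩ := Finset.exists_ne_zero_of_sum_ne_zero h
  rw [classInner_smul_left] at hΨ
  have hn0 : (n Ψ : ℂ) ≠ 0 := left_ne_zero_of_mul hΨ
  have hin : classInner (fun x : H => (Ψ : G → ℂ) (f x)) (ξ : H → ℂ) ≠ 0 :=
    right_ne_zero_of_mul hΨ
  obtain ⟨R, hR, hθR⟩ := exists_sub_irr hθ Ψ (by rw [hcoef]; exact hn0)
  exact ⟨Ψ, R, hR, hθR, hin⟩

end Over

section Perm

variable {G : Type u} [Group G] [Fintype G] {Ω : Type v} [Fintype Ω] [MulAction G Ω]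

/-- For a transitive action, `π = 1 + R` with `R` a character not containing the trivial
character. -/
theorem exists_permChar_sub_one [IsPretransitive G Ω] (a₀ : Ω) :
    ∃ R : G → ℂ, IsCharacter G R ∧
      (∀ g : G, (Nat.card (fixedBy Ω g) : ℂ) = 1 + R g) ∧
      classInner R (trivIrr G : G → ℂ) = 0 := by
  classical
  haveI : Fintype (IrrCharacter G) := Fintype.ofFinite _
  haveI : Nonempty Ω := ⟨a₀⟩
  have hπc : IsCharacter G (fun g : G => (Nat.card (fixedBy Ω g) : ℂ)) :=
    isCharacter_permChar (G := G) Ω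
  obtain ⟨n, hn1, hn2, -, -⟩ := Cfsg.Agent.Helper20.PermChar.exists_decomp (G := G) (Ω := Ω) a₀
  have htriv : classInner (fun g : G => (Nat.card (fixedBy Ω g) : ℂ)) (trivIrr G : G → ℂ) = 1 := by
    rw [hn1, hn2]; simp
  obtain ⟨R, hR, hπR⟩ := exists_sub_irr hπc (trivIrr G) (by rw [htriv]; exact one_ne_zero)
  refine ⟨R, hR, ?_, ?_⟩
  · intro g
    have := congrFun hπR g
    simpa using this
  · rw [hπR, classInner_add_left, classInner_irr_self] at htriv
    linear_combination htriv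

/-- Rank 3 from a decomposition `π = 1 + Θ + Ψ` with `Θ ≠ Ψ` non-trivial. -/
theorem rank_eq_three [IsPretransitive G Ω] (a₀ : Ω) (Θ Ψ : IrrCharacter G) (hne : Θ ≠ Ψ)
    (hΘ : Θ ≠ trivIrr G) (hΨ : Ψ ≠ trivIrr G)
    (h : ∀ g : G, (Nat.card (fixedBy Ω g) : ℂ) = 1 + (Θ : G → ℂ) g + (Ψ : G → ℂ) g) :
    Nat.card (orbitRel.Quotient (stabilizer G a₀) Ω) = 3 := by
  classical
  have h1 := Cfsg.Agent.Helper20.PermChar.classInner_permChar_self (G := G) (Ω := Ω) a₀
  have h2 : (fun g : G => (Nat.card (fixedBy Ω g) : ℂ)) =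
      (trivIrr G : G → ℂ) + (Θ : G → ℂ) + (Ψ : G → ℂ) := by
    funext g
    rw [h g]
    simp
  rw [h2] at h1
  simp only [classInner_add_left, classInner_add_right, classInner_irr_self,
    classInner_irr_ne hne, classInner_irr_ne hne.symm, classInner_irr_ne hΘ,
    classInner_irr_ne hΘ.symm, classInner_irr_ne hΨ, classInner_irr_ne hΨ.symm] at h1
  have h3 : (Nat.card (orbitRel.Quotient (stabilizer G a₀) Ω) : ℂ) = 3 := by
    rw [← h1]; norm_num
  exact_mod_cast h3

end Perm

section Lift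

variable {G : Type u} [Group G] [Fintype G] {Ω : Type v} [Fintype Ω] [MulAction G Ω]

theorem lift_three [IsPretransitive G Ω] (G₁ : Subgroup G) (m : ℕ) (hm : 2 ≤ m)
    (hΩ : Fintype.card Ω = 2 * m)
    (χ η : IrrCharacter G₁) (hχ : irrDeg χ = m - 1) (hη : irrDeg η = m)
    (hπ : ∀ g : G₁, (Nat.card (fixedBy Ω (g : G)) : ℂ) = 1 + (χ : G₁ → ℂ) g + (η : G₁ → ℂ) g)
    (a₀ : Ω) :
    IsMultiplyPretransitive G Ω 2 ∨
    (Nat.card (orbitRel.Quotient (stabilizer G a₀) Ω) = 3 ∧
      ∃ χ₁ χ₂ : G → ℂ, IsIrrCharacter G χ₁ ∧ IsIrrCharacter G χ₂ ∧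
        ((fun g : G => (Nat.card (fixedBy Ω g) : ℂ)) = fun g => 1 + χ₁ g + χ₂ g) ∧
        χ₁ 1 = (m : ℂ) - 1 ∧ χ₂ 1 = m) := by
  classical
  haveI : Fintype G₁ := Fintype.ofFinite G₁
  obtain ⟨R, hR, hπR, hRtriv⟩ := exists_permChar_sub_one (G := G) (Ω := Ω) a₀
  have hRres : (fun x : G₁ => R (G₁.subtype x)) = (χ : G₁ → ℂ) + (η : G₁ → ℂ) := by
    funext g
    have e1 := hπR (g : G)
    have e2 := hπ g
    simp only [Pi.add_apply, Subgroup.coe_subtype]
    linear_combination e2 - e1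
  have hχη : χ ≠ η := by
    intro h
    rw [h] at hχ
    omega
  have h1 : classInner (fun x : G₁ => R (G₁.subtype x)) (η : G₁ → ℂ) ≠ 0 := by
    rw [hRres, classInner_add_left, classInner_irr_ne hχη, classInner_irr_self]
    simp
  obtain ⟨Ψ, θ', hθ', hRΨ, hΨη⟩ := exists_constituent_over G₁.subtype hR η h1
  have hΨres : IsCharacter G₁ (fun x : G₁ => (Ψ : G → ℂ) (G₁.subtype x)) :=
    Cfsg.Agent.Helper8.isCharacter_comp G₁.subtype (IsIrrCharacter.isCharacter Ψ.2)
  have hθres : IsCharacter G₁ (fun x : G₁ => θ' (G₁.subtype x)) :=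
    Cfsg.Agent.Helper8.isCharacter_comp G₁.subtype hθ'
  obtain ⟨S, hS, hΨS⟩ := exists_sub_irr hΨres η hΨη
  have hsum : S + (fun x : G₁ => θ' (G₁.subtype x)) = (χ : G₁ → ℂ) := by
    funext g
    have e1 := congrFun hRres g
    have e2 := congrFun hRΨ (g : G)
    have e3 := congrFun hΨS g
    simp only [Pi.add_apply, Subgroup.coe_subtype] at e1 e2 e3 ⊢
    linear_combination e1 - e3 - e2
  have hcard : 2 ≤ Nat.card Ω := by
    rw [Nat.card_eq_fintype_card, hΩ]; omega
  rcases add_eq_irr hS hθres χ hsum with ⟨hS0, hθχ⟩ | ⟨hSχ, hθ0⟩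
  · right
    -- θ' is irreducible
    have hθne : θ' ≠ 0 := by
      intro h0
      have := congrFun hθχ 1
      rw [h0] at this
      simp only [Pi.zero_apply] at this
      exact irr_one_ne_zero χ this.symm
    have hθirr : IsIrrCharacter G θ' := by
      rcases irr_or_split hθ' hθne with h | ⟨Ψ₂, R₂, hR₂, hR₂0, hθR₂⟩
      · exact h
      · exfalso
        have hΨ₂res : IsCharacter G₁ (fun x : G₁ => (Ψ₂ : G → ℂ) (G₁.subtype x)) :=
          Cfsg.Agent.Helper8.isCharacter_comp G₁.subtype (IsIrrCharacter.isCharacter Ψ₂.2)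
        have hR₂res : IsCharacter G₁ (fun x : G₁ => R₂ (G₁.subtype x)) :=
          Cfsg.Agent.Helper8.isCharacter_comp G₁.subtype hR₂
        have hs : (fun x : G₁ => (Ψ₂ : G → ℂ) (G₁.subtype x)) +
            (fun x : G₁ => R₂ (G₁.subtype x)) = (χ : G₁ → ℂ) := by
          rw [← hθχ]
          funext g
          have := congrFun hθR₂ (g : G)
          simp only [Pi.add_apply, Subgroup.coe_subtype] at this ⊢
          rw [this]
        rcases add_eq_irr hΨ₂res hR₂res χ hs with ⟨h0, -⟩ | ⟨-, h0⟩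
        · have := congrFun h0 1
          simp only [Pi.zero_apply, map_one] at this
          exact irr_one_ne_zero Ψ₂ this
        · have := congrFun h0 1
          simp only [Pi.zero_apply, map_one] at this
          exact hR₂0 (Cfsg.Agent.Helper8.isCharacter_eq_zero_of_apply_one hR₂ this)
    -- degrees
    have hθ1 : θ' 1 = (m : ℂ) - 1 := by
      have := congrFun hθχ 1
      simp only [map_one] at this
      rw [this, irrDeg_spec, hχ, Nat.cast_sub (by omega)]
      simp
    have hΨ1 : (Ψ : G → ℂ) 1 = m := by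
      have := congrFun hΨS 1
      simp only [map_one, Pi.add_apply, hS0, Pi.zero_apply, add_zero] at this
      rw [this, irrDeg_spec, hη]
    have hπeq : ∀ g : G, (Nat.card (fixedBy Ω g) : ℂ) = 1 + θ' g + (Ψ : G → ℂ) g := by
      intro g
      rw [hπR g]
      have := congrFun hRΨ g
      simp only [Pi.add_apply] at this
      rw [this]; ring
    set Θ : IrrCharacter G := ⟨θ', hθirr⟩ with hΘdef
    have hΘΨ : Θ ≠ Ψ := by
      intro h
      have : θ' 1 = (Ψ : G → ℂ) 1 := by rw [← h]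
      rw [hθ1, hΨ1] at this
      have h2 : (1 : ℂ) = 0 := by linear_combination - this
      exact one_ne_zero h2
    -- non-triviality from ⟨R, 1⟩ = 0
    have hRt : classInner (Θ : G → ℂ) (trivIrr G : G → ℂ) +
        classInner (Ψ : G → ℂ) (trivIrr G : G → ℂ) = 0 := by
      rw [← classInner_add_left, ← hRtriv, hRΨ, add_comm]
    have hΘt : Θ ≠ trivIrr G := by
      intro h
      rw [h, classInner_irr_self, classInner_irr] at hRt
      split_ifs at hRt
      · norm_num at hRt
      · norm_num at hRt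
    have hΨt : Ψ ≠ trivIrr G := by
      intro h
      rw [h, classInner_irr_self, classInner_irr] at hRt
      split_ifs at hRt
      · norm_num at hRt
      · norm_num at hRt
    refine ⟨rank_eq_three a₀ Θ Ψ hΘΨ hΘt hΨt hπeq, θ', (Ψ : G → ℂ), hθirr, Ψ.2, ?_, hθ1, hΨ1⟩
    funext g
    exact hπeq g
  · left
    have hθ'0 : θ' = 0 := by
      have := congrFun hθ0 1
      simp only [Pi.zero_apply, map_one] at this
      exact Cfsg.Agent.Helper8.isCharacter_eq_zero_of_apply_one hθ' this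
    rw [← isIrrCharacter_permChar_sub_one_iff Ω hcard]
    have : (fun g : G => (Nat.card (fixedBy Ω g) : ℂ) - 1) = (Ψ : G → ℂ) := by
      funext g
      rw [hπR g, hRΨ, hθ'0]
      simp
    rw [this]
    exact Ψ.2

end Lift

end Cfsg.Agent.Helper24.W2p
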