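import Mathlib
import Cfsg.Prelude.Def_Characters
import Cfsg.Agent.Helper24.W2pLIFTb

set_option autoImplicit false

/-!
# S0720 piece LIFTc: lifting the decomposition `1 + ψ₁ + ψ₂ + η` of the permutation character
-/

namespace Cfsg.Agent.Helper24.W2p

open Cfsg Cfsg.Agent.Helper24 MulAction

universe u v

section Lift

variable {G : Type u} [Group G] [Fintype G] {Ω : Type v} [Fintype Ω] [MulAction G Ω]

theorem lift_four [IsPretransitive G Ω] (G₁ : Subgroup G) (m : ℕ) (hm : 2 ≤ m)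
    (hΩ : Fintype.card Ω = 2 * m)
    (ψ₁ ψ₂ η : IrrCharacter G₁) (hne : ψ₁ ≠ ψ₂) (hψ₁ : 2 * irrDeg ψ₁ = m - 1)
    (hψ₂ : 2 * irrDeg ψ₂ = m - 1) (hη : irrDeg η = m)
    (hπ : ∀ g : G₁, (Nat.card (fixedBy Ω (g : G)) : ℂ) =
      1 + (ψ₁ : G₁ → ℂ) g + (ψ₂ : G₁ → ℂ) g + (η : G₁ → ℂ) g)
    (a₀ : Ω) :
    IsMultiplyPretransitive G Ω 2 ∨
    (Nat.card (orbitRel.Quotient (stabilizer G a₀) Ω) = 3 ∧
      ∃ χ₁ χ₂ : G → ℂ, IsIrrCharacter G χ₁ ∧ IsIrrCharacter G χ₂ ∧
        ((fun g : G => (Nat.card (fixedBy Ω g) : ℂ)) = fun g => 1 + χ₁ g + χ₂ g) ∧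
        χ₁ 1 = (m : ℂ) - 1 ∧ χ₂ 1 = m) ∨
    (∃ Ψ : IrrCharacter G,
      classInner (fun g : G => (Nat.card (fixedBy Ω g) : ℂ)) (Ψ : G → ℂ) ≠ 0 ∧
      ((∀ g : G₁, (Ψ : G → ℂ) (g : G) = (ψ₁ : G₁ → ℂ) g) ∨
       (∀ g : G₁, (Ψ : G → ℂ) (g : G) = (ψ₂ : G₁ → ℂ) g))) := by
  classical
  haveI : Fintype G₁ := Fintype.ofFinite G₁
  haveI : Fintype (IrrCharacter G) := Fintype.ofFinite _
  obtain ⟨R, hR, hπR, hRtriv⟩ := exists_permChar_sub_one (G := G) (Ω := Ω) a₀
  have hRres : (fun x : G₁ => R (G₁.subtype x)) =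
      (ψ₁ : G₁ → ℂ) + (ψ₂ : G₁ → ℂ) + (η : G₁ → ℂ) := by
    funext g
    have e1 := hπR (g : G)
    have e2 := hπ g
    simp only [Pi.add_apply, Subgroup.coe_subtype]
    linear_combination e2 - e1
  have h1η : ψ₁ ≠ η := by
    intro h
    rw [h] at hψ₁
    omega
  have h2η : ψ₂ ≠ η := by
    intro h
    rw [h] at hψ₂
    omega
  have h1 : classInner (fun x : G₁ => R (G₁.subtype x)) (η : G₁ → ℂ) ≠ 0 := by
    rw [hRres, classInner_add_left, classInner_add_left, classInner_irr_ne h1η,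
      classInner_irr_ne h2η, classInner_irr_self]
    simp
  obtain ⟨Ψ, θ', hθ', hRΨ, hΨη⟩ := exists_constituent_over G₁.subtype hR η h1
  have hΨres : IsCharacter G₁ (fun x : G₁ => (Ψ : G → ℂ) (G₁.subtype x)) :=
    Cfsg.Agent.Helper8.isCharacter_comp G₁.subtype (IsIrrCharacter.isCharacter Ψ.2)
  have hθres : IsCharacter G₁ (fun x : G₁ => θ' (G₁.subtype x)) :=
    Cfsg.Agent.Helper8.isCharacter_comp G₁.subtype hθ'
  obtain ⟨S, hS, hΨS⟩ := exists_sub_irr hΨres η hΨη
  have hsum : S + (fun x : G₁ => θ' (G₁.subtype x)) = (ψ₁ : G₁ → ℂ) + (ψ₂ : G₁ → ℂ) := by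
    funext g
    have e1 := congrFun hRres g
    have e2 := congrFun hRΨ (g : G)
    have e3 := congrFun hΨS g
    simp only [Pi.add_apply, Subgroup.coe_subtype] at e1 e2 e3 ⊢
    linear_combination e1 - e3 - e2
  have hcard : 2 ≤ Nat.card Ω := by
    rw [Nat.card_eq_fintype_card, hΩ]; omega
  have hπeq : ∀ g : G, (Nat.card (fixedBy Ω g) : ℂ) = 1 + θ' g + (Ψ : G → ℂ) g := by
    intro g
    rw [hπR g]
    have := congrFun hRΨ g
    simp only [Pi.add_apply] at this
    rw [this]; ring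
  -- an irreducible summand of `θ'` is a constituent of `π`
  have hconst : ∀ (Φ : IrrCharacter G) (T : G → ℂ), IsCharacter G T → θ' = (Φ : G → ℂ) + T →
      classInner (fun g : G => (Nat.card (fixedBy Ω g) : ℂ)) (Φ : G → ℂ) ≠ 0 := by
    intro Φ T hT hθT
    have hfun : (fun g : G => (Nat.card (fixedBy Ω g) : ℂ)) =
        (Φ : G → ℂ) + ((trivIrr G : G → ℂ) + T + (Ψ : G → ℂ)) := by
      funext g
      rw [hπeq g, hθT]
      simp only [Pi.add_apply, trivIrr_apply]
      ring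
    have hchar : IsCharacter G ((trivIrr G : G → ℂ) + T + (Ψ : G → ℂ)) :=
      IsCharacter.add (IsCharacter.add (IsIrrCharacter.isCharacter (trivIrr G).2) hT)
        (IsIrrCharacter.isCharacter Ψ.2)
    obtain ⟨k, hk⟩ := IsCharacter.classInner_irr_nat hchar Φ
    rw [hfun, classInner_add_left, classInner_irr_self, hk]
    have : ((1 + k : ℕ) : ℂ) ≠ 0 := by
      exact_mod_cast (Nat.succ_ne_zero k ∘ (by omega))
    exact_mod_cast this
  rcases add_eq_irr_add_irr hS hθres ψ₁ ψ₂ hne hsum with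
    ⟨hS0, hθ12⟩ | ⟨hS1, hθ2⟩ | ⟨hS2, hθ1⟩ | ⟨hS12, hθ0⟩
  · -- `Ψ` restricts to `η`, `θ'` restricts to `ψ₁ + ψ₂`
    have hθne : θ' ≠ 0 := by
      intro h0
      have := congrFun hθ12 1
      rw [h0] at this
      simp only [Pi.zero_apply, Pi.add_apply, irrDeg_spec] at this
      have h2 : (0 : ℕ) = irrDeg ψ₁ + irrDeg ψ₂ := by exact_mod_cast this
      have := irrDeg_pos ψ₁
      omega
    rcases irr_or_split hθ' hθne with hθirr | ⟨Ψ₂, R₂, hR₂, hR₂0, hθR₂⟩
    · right; left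
      have hθ1 : θ' 1 = (m : ℂ) - 1 := by
        have := congrFun hθ12 1
        simp only [map_one, Pi.add_apply, irrDeg_spec] at this
        rw [this]
        have h2 : irrDeg ψ₁ + irrDeg ψ₂ = m - 1 := by omega
        have h3 : ((irrDeg ψ₁ + irrDeg ψ₂ : ℕ) : ℂ) = ((m - 1 : ℕ) : ℂ) := by rw [h2]
        rw [Nat.cast_sub (by omega)] at h3
        push_cast at h3
        rw [h3]
      have hΨ1 : (Ψ : G → ℂ) 1 = m := by
        have := congrFun hΨS 1
        simp only [map_one, Pi.add_apply, hS0, Pi.zero_apply, add_zero] at this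
        rw [this, irrDeg_spec, hη]
      set Θ : IrrCharacter G := ⟨θ', hθirr⟩ with hΘdef
      have hΘΨ : Θ ≠ Ψ := by
        intro h
        have : θ' 1 = (Ψ : G → ℂ) 1 := by rw [← h]
        rw [hθ1, hΨ1] at this
        have h2 : (1 : ℂ) = 0 := by linear_combination - this
        exact one_ne_zero h2
      have hRt : classInner (Θ : G → ℂ) (trivIrr G : G → ℂ) +
          classInner (Ψ : G → ℂ) (trivIrr G : G → ℂ) = 0 := by
        rw [← classInner_add_left, ← hRtriv, hRΨ, add_comm]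
      have hΘt : Θ ≠ trivIrr G := by
        intro h
        rw [h, classInner_irr_self, classInner_irr] at hRt
        split_ifs at hRt
        · norm_num at hRt
        · norm_num at hRt
      have hΨt : Ψ ≠ trivIrr G := by
        intro h
        rw [h, classInner_irr_self, classInner_irr] at hRt
        split_ifs at hRt
        · norm_num at hRt
        · norm_num at hRt
      refine ⟨rank_eq_three a₀ Θ Ψ hΘΨ hΘt hΨt hπeq, θ', (Ψ : G → ℂ), hθirr, Ψ.2, ?_, hθ1, hΨ1⟩
      funext g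
      exact hπeq g
    · right; right
      have hΨ₂res : IsCharacter G₁ (fun x : G₁ => (Ψ₂ : G → ℂ) (G₁.subtype x)) :=
        Cfsg.Agent.Helper8.isCharacter_comp G₁.subtype (IsIrrCharacter.isCharacter Ψ₂.2)
      have hR₂res : IsCharacter G₁ (fun x : G₁ => R₂ (G₁.subtype x)) :=
        Cfsg.Agent.Helper8.isCharacter_comp G₁.subtype hR₂
      have hs : (fun x : G₁ => (Ψ₂ : G → ℂ) (G₁.subtype x)) +
          (fun x : G₁ => R₂ (G₁.subtype x)) = (ψ₁ : G₁ → ℂ) + (ψ₂ : G₁ → ℂ) := by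
        rw [← hθ12]
        funext g
        have := congrFun hθR₂ (g : G)
        simp only [Pi.add_apply, Subgroup.coe_subtype] at this ⊢
        rw [this]
      refine ⟨Ψ₂, hconst Ψ₂ R₂ hR₂ hθR₂, ?_⟩
      rcases add_eq_irr_add_irr hΨ₂res hR₂res ψ₁ ψ₂ hne hs with
        ⟨h0, -⟩ | ⟨h1, -⟩ | ⟨h2, -⟩ | ⟨-, h0⟩
      · exfalso
        have := congrFun h0 1
        simp only [Pi.zero_apply, map_one] at this
        exact irr_one_ne_zero Ψ₂ this
      · left
        intro g
        exact congrFun h1 g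
      · right
        intro g
        exact congrFun h2 g
      · exfalso
        have := congrFun h0 1
        simp only [Pi.zero_apply, map_one] at this
        exact hR₂0 (Cfsg.Agent.Helper8.isCharacter_eq_zero_of_apply_one hR₂ this)
  · -- `θ'` restricts to `ψ₂`
    right; right
    have hθne : θ' ≠ 0 := by
      intro h0
      have := congrFun hθ2 1
      rw [h0] at this
      simp only [Pi.zero_apply] at this
      exact irr_one_ne_zero ψ₂ this.symm
    rcases irr_or_split hθ' hθne with hθirr | ⟨Ψ₂, R₂, hR₂, hR₂0, hθR₂⟩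
    · refine ⟨⟨θ', hθirr⟩, hconst ⟨θ', hθirr⟩ 0 isCharacter_zero (by simp), Or.inr ?_⟩
      intro g
      exact congrFun hθ2 g
    · exfalso
      have hΨ₂res : IsCharacter G₁ (fun x : G₁ => (Ψ₂ : G → ℂ) (G₁.subtype x)) :=
        Cfsg.Agent.Helper8.isCharacter_comp G₁.subtype (IsIrrCharacter.isCharacter Ψ₂.2)
      have hR₂res : IsCharacter G₁ (fun x : G₁ => R₂ (G₁.subtype x)) :=
        Cfsg.Agent.Helper8.isCharacter_comp G₁.subtype hR₂
      have hs : (fun x : G₁ => (Ψ₂ : G → ℂ) (G₁.subtype x)) +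
          (fun x : G₁ => R₂ (G₁.subtype x)) = (ψ₂ : G₁ → ℂ) := by
        rw [← hθ2]
        funext g
        have := congrFun hθR₂ (g : G)
        simp only [Pi.add_apply, Subgroup.coe_subtype] at this ⊢
        rw [this]
      rcases add_eq_irr hΨ₂res hR₂res ψ₂ hs with ⟨h0, -⟩ | ⟨-, h0⟩
      · have := congrFun h0 1
        simp only [Pi.zero_apply, map_one] at this
        exact irr_one_ne_zero Ψ₂ this
      · have := congrFun h0 1
        simp only [Pi.zero_apply, map_one] at this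
        exact hR₂0 (Cfsg.Agent.Helper8.isCharacter_eq_zero_of_apply_one hR₂ this)
  · -- `θ'` restricts to `ψ₁`
    right; right
    have hθne : θ' ≠ 0 := by
      intro h0
      have := congrFun hθ1 1
      rw [h0] at this
      simp only [Pi.zero_apply] at this
      exact irr_one_ne_zero ψ₁ this.symm
    rcases irr_or_split hθ' hθne with hθirr | ⟨Ψ₂, R₂, hR₂, hR₂0, hθR₂⟩
    · refine ⟨⟨θ', hθirr⟩, hconst ⟨θ', hθirr⟩ 0 isCharacter_zero (by simp), Or.inl ?_⟩
      intro g
      exact congrFun hθ1 g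
    · exfalso
      have hΨ₂res : IsCharacter G₁ (fun x : G₁ => (Ψ₂ : G → ℂ) (G₁.subtype x)) :=
        Cfsg.Agent.Helper8.isCharacter_comp G₁.subtype (IsIrrCharacter.isCharacter Ψ₂.2)
      have hR₂res : IsCharacter G₁ (fun x : G₁ => R₂ (G₁.subtype x)) :=
        Cfsg.Agent.Helper8.isCharacter_comp G₁.subtype hR₂
      have hs : (fun x : G₁ => (Ψ₂ : G → ℂ) (G₁.subtype x)) +
          (fun x : G₁ => R₂ (G₁.subtype x)) = (ψ₁ : G₁ → ℂ) := by
        rw [← hθ1]
        funext g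
        have := congrFun hθR₂ (g : G)
        simp only [Pi.add_apply, Subgroup.coe_subtype] at this ⊢
        rw [this]
      rcases add_eq_irr hΨ₂res hR₂res ψ₁ hs with ⟨h0, -⟩ | ⟨-, h0⟩
      · have := congrFun h0 1
        simp only [Pi.zero_apply, map_one] at this
        exact irr_one_ne_zero Ψ₂ this
      · have := congrFun h0 1
        simp only [Pi.zero_apply, map_one] at this
        exact hR₂0 (Cfsg.Agent.Helper8.isCharacter_eq_zero_of_apply_one hR₂ this)
  · -- `θ' = 0`: 2-transitive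
    left
    have hθ'0 : θ' = 0 := by
      have := congrFun hθ0 1
      simp only [Pi.zero_apply, map_one] at this
      exact Cfsg.Agent.Helper8.isCharacter_eq_zero_of_apply_one hθ' this
    rw [← isIrrCharacter_permChar_sub_one_iff Ω hcard]
    have : (fun g : G => (Nat.card (fixedBy Ω g) : ℂ) - 1) = (Ψ : G → ℂ) := by
      funext g
      rw [hπR g, hRΨ, hθ'0]
      simp
    rw [this]
    exact Ψ.2

end Lift

end Cfsg.Agent.Helper24.W2p
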