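import Mathlib
import Cfsg.Agent.Helper29.WinterDefs
import Cfsg.Agent.Helper24.CliffordCorr

/-!
# S4467 (Winter), piece C1A: a faithful irreducible character of a group with a non-central
abelian normal subgroup is induced from a proper subgroup (an inertia group).
-/

set_option autoImplicit false

namespace Cfsg.Agent.S4467P

open Cfsg Cfsg.Agent.Helper24
open scoped commutatorElement

universe u

theorem exists_proper_induced {G : Type u} [Group G] [Fintype G] (χ : IrrCharacter G)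
    (hfaith : ∀ g : G, (χ : G → ℂ) g = (χ : G → ℂ) 1 → g = 1)
    (A : Subgroup G) [A.Normal] (hA : ∀ a ∈ A, ∀ b ∈ A, a * b = b * a)
    (hAZ : ¬ A ≤ Subgroup.center G) :
    ∃ (T : Subgroup G) (ψ : IrrCharacter T), T ≠ ⊤ ∧ indFun T (ψ : T → ℂ) = (χ : G → ℂ) := by
  classical
  obtain ⟨n, ρ, hρ, hχ⟩ := χ.2
  haveI := hρ
  haveI : Fintype A := Fintype.ofFinite _
  haveI : Fintype (IrrCharacter A) := Fintype.ofFinite _
  have hχc : IsCharacter G (χ : G → ℂ) := IsIrrCharacter.isCharacter χ.2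
  have hres : IsCharacter A (fun a : A => (χ : G → ℂ) a) := Helper8.isCharacter_restrict A hχc
  have hne0 : (fun a : A => (χ : G → ℂ) a) ≠ 0 := by
    intro h
    have h1 : (χ : G → ℂ) 1 = 0 := by simpa using congrFun h 1
    rw [irrDeg_spec] at h1
    exact (irrDeg_pos χ).ne' (by exact_mod_cast h1)
  obtain ⟨lam, hlam⟩ := IsCharacter.exists_irr_constituent hres hne0
  have hlam1 : (lam : A → ℂ) 1 = 1 :=
    (comm_iff_forall_irr_one (G := A)).mp (fun a b => Subtype.ext (hA a a.2 b b.2)) lam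
  by_cases htop : inertiaSubgroup A (lam : A → ℂ) = ⊤
  · exfalso
    have hsc := scalar_of_inertia_eq_top ρ A (lam : A → ℂ) lam.2 hlam1
      (by rw [hχ]; exact hlam) htop
    apply hAZ
    intro a ha
    rw [Subgroup.mem_center_iff]
    intro g
    obtain ⟨c, hc⟩ := hsc a ha
    have hconj : ρ g * ρ a * ρ g⁻¹ = ρ a := by
      rw [hc, ← Module.End.one_eq_id, mul_smul_comm, smul_mul_assoc, mul_one, ← map_mul,
        mul_inv_cancel, map_one]
    have h1 : ρ (g * a * g⁻¹ * a⁻¹) = 1 := by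
      rw [map_mul, map_mul, map_mul, hconj, ← map_mul, mul_inv_cancel, map_one]
    have h2 : (χ : G → ℂ) (g * a * g⁻¹ * a⁻¹) = (χ : G → ℂ) 1 := by
      rw [← hχ]
      unfold Representation.character
      rw [h1, map_one ρ]
    have h3 := hfaith _ h2
    calc g * a = (g * a * g⁻¹ * a⁻¹) * (a * g) := by group
      _ = a * g := by rw [h3, one_mul]
  · haveI : Fintype (inertiaSubgroup A (lam : A → ℂ)) := Fintype.ofFinite _
    obtain ⟨ψ, hψ, hind⟩ :=
      exists_irr_inertia_indFun_eq A (χ : G → ℂ) χ.2 (lam : A → ℂ) lam.2 hlam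
    exact ⟨_, ⟨ψ, hψ⟩, htop, hind⟩

end Cfsg.Agent.S4467P
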