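import Mathlib
import Cfsg.Agent.Helper29.WinterDefs

/-!
# S4467 (Winter), piece PERM (generic form): if a Sylow `p`-subgroup of the solvable group `G` is
not contained in the core of `T`, then `|G : T|` is `Good` -- by induction, reducing to the
primitive case (piece PRIM, here a hypothesis `PrimStmt`).
-/

set_option autoImplicit false

namespace Cfsg.Agent.S4467P

open Cfsg Cfsg.Agent.Helper24
open scoped commutatorElement Pointwise

universe u

namespace PERM

/-- the statement of piece PRIM -/
def PrimStmt : Prop :=
  ∀ (G : Type u) [Group G] [Finite G] (_ : Group.IsSolvable G)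
    (M : Subgroup G) (_ : IsCoatom M) (_ : M.normalCore = ⊥) (p : ℕ) (_ : p.Prime)
    (_ : p ∣ Nat.card G), Good p M.index

theorem coatom_map {G : Type u} [Group G] (M : Subgroup G) (hM : IsCoatom M) (C : Subgroup G)
    [C.Normal] (hCM : C ≤ M) : IsCoatom (M.map (QuotientGroup.mk' C)) := by
  have hker : (QuotientGroup.mk' C).ker ≤ M := by rw [QuotientGroup.ker_mk']; exact hCM
  have hsurj := QuotientGroup.mk'_surjective C
  refine ⟨?_, ?_⟩
  · intro h
    have h1 : Subgroup.comap (QuotientGroup.mk' C) (M.map (QuotientGroup.mk' C)) =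
        Subgroup.comap (QuotientGroup.mk' C) ⊤ := by rw [h]
    rw [Subgroup.comap_map_eq_self hker, Subgroup.comap_top] at h1
    exact hM.1 h1
  · intro K hK
    have h1 : M ≤ Subgroup.comap (QuotientGroup.mk' C) K := by
      rw [← Subgroup.comap_map_eq_self hker]
      exact Subgroup.comap_mono hK.le
    have h2 : M ≠ Subgroup.comap (QuotientGroup.mk' C) K := by
      intro h
      have h3 : M.map (QuotientGroup.mk' C) = K := by
        rw [h, Subgroup.map_comap_eq_self_of_surjective hsurj]
      exact hK.ne h3
    have h4 := hM.2 _ (lt_of_le_of_ne h1 h2)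
    rw [← Subgroup.map_comap_eq_self_of_surjective hsurj K, h4,
      Subgroup.map_top_of_surjective _ hsurj]

theorem core_map_eq_bot {G : Type u} [Group G] (M : Subgroup G) :
    haveI := Subgroup.normalCore_normal M
    (M.map (QuotientGroup.mk' M.normalCore)).normalCore = ⊥ := by
  haveI := Subgroup.normalCore_normal M
  have hker : (QuotientGroup.mk' M.normalCore).ker ≤ M := by
    rw [QuotientGroup.ker_mk']; exact Subgroup.normalCore_le M
  rw [eq_bot_iff]
  intro x hx
  obtain ⟨g, rfl⟩ := QuotientGroup.mk'_surjective M.normalCore x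
  rw [Subgroup.mem_bot, QuotientGroup.mk'_apply, QuotientGroup.eq_one_iff]
  intro b
  have h1 : QuotientGroup.mk' M.normalCore b * QuotientGroup.mk' M.normalCore g *
      (QuotientGroup.mk' M.normalCore b)⁻¹ ∈ M.map (QuotientGroup.mk' M.normalCore) := hx _
  rw [← map_inv, ← map_mul, ← map_mul, ← Subgroup.mem_comap,
    Subgroup.comap_map_eq_self hker] at h1
  exact h1

theorem dvd_card_quotient {G : Type u} [Group G] [Finite G] (C : Subgroup G) [C.Normal]
    (p : ℕ) (hp : p.Prime) (P : Sylow p G) (hPC : ¬ (P : Subgroup G) ≤ C) :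
    p ∣ Nat.card (G ⧸ C) := by
  haveI : Fact p.Prime := ⟨hp⟩
  by_contra hnd
  apply hPC
  have h1 : IsPGroup p ((P : Subgroup G).map (QuotientGroup.mk' C)) := P.2.map _
  obtain ⟨k, hk⟩ := IsPGroup.iff_card.mp h1
  have h2 : p ^ k ∣ Nat.card (G ⧸ C) := by
    rw [← hk]; exact Subgroup.card_subgroup_dvd_card _
  have hk0 : k = 0 := by
    by_contra hk0
    exact hnd ((dvd_pow_self p hk0).trans h2)
  rw [hk0, pow_zero, Subgroup.card_eq_one, Subgroup.map_eq_bot_iff, QuotientGroup.ker_mk'] at hk
  exact hk

theorem main (hprim : PrimStmt.{u}) (p : ℕ) (hp : p.Prime) :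
    ∀ (n : ℕ) (G : Type u) [Group G] [Finite G], Nat.card G = n → Group.IsSolvable G →
      ∀ (T : Subgroup G) (P : Sylow p G), ¬ (P : Subgroup G) ≤ T.normalCore →
        Good p T.index := by
  intro n
  induction n using Nat.strong_induction_on with
  | _ n ih =>
    intro G _ _ hn hsolv T P hP
    haveI : Fact p.Prime := ⟨hp⟩
    have hT : T ≠ ⊤ := by
      rintro rfl
      apply hP
      rw [Subgroup.normalCore_eq_self ⊤]
      exact le_top
    obtain ⟨M, hM, hTM⟩ := (eq_top_or_exists_le_coatom T).resolve_left hT
    haveI : (M.normalCore).Normal := Subgroup.normalCore_normal M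
    have hCM : M.normalCore ≤ M := Subgroup.normalCore_le M
    by_cases hPC : (P : Subgroup G) ≤ M.normalCore
    · -- the Sylow subgroup lies in `M`: induction
      have hPM : (P : Subgroup G) ≤ M := hPC.trans hCM
      have hlt : Nat.card M < n := by
        rw [← hn]
        exact lt_of_le_of_ne (Subgroup.card_le_card_group M)
          (fun h => hM.1 ((Subgroup.card_eq_iff_eq_top M).mp h))
      have key : ¬ ((P.subtype hPM : Sylow p M) : Subgroup M) ≤ (T.subgroupOf M).normalCore := by
        intro hcon
        apply hP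
        intro x hx g
        have hgx : g * x * g⁻¹ ∈ ((g • P : Sylow p G) : Subgroup G) := by
          rw [Sylow.coe_subgroup_smul]
          exact Subgroup.smul_mem_pointwise_smul x (MulAut.conj g) _ hx
        have hQM : ((g • P : Sylow p G) : Subgroup G) ≤ M := by
          intro y hy
          rw [Sylow.coe_subgroup_smul, Subgroup.mem_pointwise_smul_iff_inv_smul_mem] at hy
          have h1 : (MulAut.conj g)⁻¹ • y ∈ M.normalCore := hPC hy
          have h2 := (Subgroup.normalCore_normal M).conj_mem _ h1 g
          have h3 : g * ((MulAut.conj g)⁻¹ • y) * g⁻¹ = y := by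
            rw [← map_inv, MulAut.smul_def, MulAut.conj_apply]; group
          rw [h3] at h2
          exact hCM h2
        obtain ⟨m, hm⟩ := MulAction.exists_smul_eq M (P.subtype hPM) ((g • P).subtype hQM)
        have hy : (⟨g * x * g⁻¹, hQM hgx⟩ : M) ∈
            (((g • P).subtype hQM : Sylow p M) : Subgroup M) := by
          rw [Sylow.coe_subtype, Subgroup.mem_subgroupOf]
          exact hgx
        rw [← hm, Sylow.coe_subgroup_smul, Subgroup.mem_pointwise_smul_iff_inv_smul_mem] at hy
        have h4 := hcon hy m
        have h5 : m * ((MulAut.conj m)⁻¹ • (⟨g * x * g⁻¹, hQM hgx⟩ : M)) * m⁻¹ =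
            ⟨g * x * g⁻¹, hQM hgx⟩ := by
          rw [← map_inv, MulAut.smul_def, MulAut.conj_apply]; group
        rw [h5, Subgroup.mem_subgroupOf] at h4
        exact h4
      have h6 := ih (Nat.card M) hlt M rfl inferInstance (T.subgroupOf M) (P.subtype hPM) key
      have h7 : (T.subgroupOf M).index = T.relIndex M := rfl
      rw [h7] at h6
      exact h6.of_dvd (Subgroup.relIndex_dvd_index_of_le hTM)
    · -- the primitive quotient `G ⧸ core M`
      have hker : (QuotientGroup.mk' M.normalCore).ker ≤ M := by
        rw [QuotientGroup.ker_mk']; exact hCM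
      have h1 := hprim (G ⧸ M.normalCore) inferInstance
        (M.map (QuotientGroup.mk' M.normalCore)) (coatom_map M hM _ hCM) (core_map_eq_bot M) p hp
        (dvd_card_quotient _ p hp P hPC)
      rw [Subgroup.index_map_eq M (QuotientGroup.mk'_surjective _) hker] at h1
      exact h1.of_dvd (Subgroup.index_dvd_of_le hTM)

end PERM

end Cfsg.Agent.S4467P
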