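import Mathlib
import Cfsg.Agent.Helper29.WinterDefs
import Cfsg.Agent.Helper24.WinterPERMAux
import Cfsg.Agent.Helper19.WinterPRIM

/-!
# S4467 (Winter), piece PERM: if a Sylow `p`-subgroup of the solvable group `G` is not contained
in the core of `T`, then `|G : T|` is `Good`.
-/

set_option autoImplicit false

namespace Cfsg.Agent.S4467P

open Cfsg Cfsg.Agent.Helper24
open scoped commutatorElement

universe u

theorem good_index_of_not_le_core {G : Type u} [Group G] [Finite G] (hsolv : Group.IsSolvable G)
    (T : Subgroup G) (p : ℕ) (hp : p.Prime) (P : Sylow p G)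
    (hP : ¬ (P : Subgroup G) ≤ T.normalCore) : Good p T.index :=
  PERM.main (fun H _ _ hs M hM hc q hq hqH => good_index_of_primitive hs M hM hc q hq hqH)
    p hp (Nat.card G) G rfl hsolv T P hP

end Cfsg.Agent.S4467P
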