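import Mathlib
import Cfsg.Agent.Helper29.WinterDefs
import Cfsg.Agent.Helper1.MinNormal

/-!
# S4467 (Winter), piece PRIM: in a solvable primitive group the index of the point stabiliser is a
prime power `r^k`, and either `r = p` or `r^(k-c) ≡ 1 (mod p)` for some `c < k`.
-/

set_option autoImplicit false

namespace Cfsg.Agent.Helper24.WinterAlt
open Cfsg.Agent.S4467P

open Cfsg Cfsg.Agent.Helper24
open scoped commutatorElement Pointwise

universe u

namespace PRIM

/-- conjugation by `x` on the normal subgroup `V` -/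
def conjEnd {G : Type u} [Group G] (V : Subgroup G) [hV : V.Normal] (x : G) : Function.End V :=
  fun w => ⟨x * w * x⁻¹, hV.conj_mem w w.2 x⟩

theorem conjEnd_apply {G : Type u} [Group G] (V : Subgroup G) [hV : V.Normal] (x : G) (w : V) :
    ((conjEnd V x w : V) : G) = x * w * x⁻¹ := rfl

theorem conj_pow {G : Type u} [Group G] (V : Subgroup G) [hV : V.Normal] (x : G) (n : ℕ)
    (v : V) : ((((conjEnd V x) ^ n) v : V) : G) = x ^ n * v * (x ^ n)⁻¹ := by
  induction n generalizing v with
  | zero => rw [pow_zero, Function.End.one_def, id_eq, pow_zero, one_mul, inv_one, mul_one]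
  | succ n ih =>
    have h1 : ((conjEnd V x) ^ (n + 1)) v = ((conjEnd V x) ^ n) (conjEnd V x v) := by
      rw [pow_succ]; rfl
    rw [h1, ih, conjEnd_apply, pow_succ]
    group

/-- a subgroup normalised by `M` and by `V` is normal when `V ⊔ M = ⊤` -/
theorem normal_of_sup {G : Type u} [Group G] (V M K : Subgroup G) (hsup : V ⊔ M = ⊤)
    (hKM : ∀ m ∈ M, ∀ k ∈ K, m * k * m⁻¹ ∈ K) (hKV : ∀ v ∈ V, ∀ k ∈ K, v * k * v⁻¹ ∈ K) :
    K.Normal := by
  rw [← Subgroup.normalizer_eq_top_iff, eq_top_iff, ← hsup, sup_le_iff]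
  have key : ∀ (H : Subgroup G), (∀ m ∈ H, ∀ k ∈ K, m * k * m⁻¹ ∈ K) →
      H ≤ Subgroup.normalizer (K : Set G) := by
    intro H hH m hm
    rw [Subgroup.mem_normalizer_iff]
    intro h
    constructor
    · exact hH m hm h
    · intro h1
      have h2 := hH m⁻¹ (H.inv_mem hm) _ h1
      have h3 : m⁻¹ * (m * h * m⁻¹) * m⁻¹⁻¹ = h := by group
      rw [h3] at h2
      exact h2
  exact ⟨key V hKV, key M hKM⟩

end PRIM

theorem good_index_of_primitive {G : Type u} [Group G] [Finite G] (hsolv : Group.IsSolvable G)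
    (M : Subgroup G) (hM : IsCoatom M) (hcore : M.normalCore = ⊥) (p : ℕ) (hp : p.Prime)
    (hpG : p ∣ Nat.card G) : Good p M.index := by
  classical
  haveI : Fact p.Prime := ⟨hp⟩
  haveI := hsolv
  haveI : Nontrivial G := by
    rw [← Finite.one_lt_card_iff_nontrivial]
    exact lt_of_lt_of_le hp.one_lt (Nat.le_of_dvd Nat.card_pos hpG)
  obtain ⟨r, V, hr, hVn, hVne, hVr, hVc, -⟩ := Helper1.exists_normal_pgroup_of_solvable (G := G)
  haveI := hVn
  haveI : Fact r.Prime := ⟨hr⟩
  have hcomm : ∀ a ∈ V, ∀ b ∈ V, a * b = b * a := fun a ha b hb =>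
    congrArg Subtype.val (hVc.is_comm.comm ⟨a, ha⟩ ⟨b, hb⟩)
  have hVM : ¬ V ≤ M := by
    intro h
    apply hVne
    have h1 : V ≤ M.normalCore := Subgroup.normal_le_normalCore.mpr h
    rw [hcore] at h1
    exact le_bot_iff.mp h1
  have hsup : V ⊔ M = ⊤ :=
    hM.2 _ (lt_of_le_of_ne le_sup_right (fun h => hVM (le_sup_left.trans h.ge)))
  -- `V ⊓ M = ⊥`
  have hK1 : V ⊓ M = ⊥ := by
    have hn : (V ⊓ M).Normal := by
      apply PRIM.normal_of_sup V M (V ⊓ M) hsup
      · intro m hm k hk
        exact ⟨hVn.conj_mem k hk.1 m, M.mul_mem (M.mul_mem hm hk.2) (M.inv_mem hm)⟩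
      · intro v hv k hk
        have : v * k * v⁻¹ = k := by rw [hcomm v hv k hk.1, mul_inv_cancel_right]
        rw [this]; exact hk
    have h1 : V ⊓ M ≤ M.normalCore := Subgroup.normal_le_normalCore.mpr inf_le_right
    rw [hcore] at h1
    exact le_bot_iff.mp h1
  have hmul : ((V : Set G) * (M : Set G)) = Set.univ := by
    rw [← Subgroup.normal_mul, hsup, Subgroup.coe_top]
  have hcompl : V.IsComplement' M :=
    Subgroup.isComplement'_of_disjoint_and_mul_eq_univ (disjoint_iff.mpr hK1) hmul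
  have hidx : M.index = Nat.card V := hcompl.index_eq_card
  obtain ⟨k, hk⟩ := IsPGroup.iff_card.mp hVr
  have hk0 : k ≠ 0 := by
    rintro rfl
    rw [pow_zero, Subgroup.card_eq_one] at hk
    exact hVne hk
  by_cases hrp : r = p
  · rw [hidx, hk]
    refine Good.of_modEq (hr.isPrimePow.pow hk0) dvd_rfl (Or.inl ?_)
    rw [Nat.modEq_zero_iff_dvd, hrp]
    exact dvd_pow_self p hk0
  -- the centraliser of `V` is `V`
  have hC : ∀ c : G, (∀ v ∈ V, v * c = c * v) → c ∈ V := by
    intro c hc
    have hK2 : (Subgroup.centralizer (V : Set G)) ⊓ M = ⊥ := by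
      have hn : ((Subgroup.centralizer (V : Set G)) ⊓ M).Normal := by
        apply PRIM.normal_of_sup V M _ hsup
        · intro m hm k hk
          refine Subgroup.mem_inf.mpr ⟨?_, M.mul_mem (M.mul_mem hm hk.2) (M.inv_mem hm)⟩
          rw [Subgroup.mem_centralizer_iff]
          intro v hv
          have h1 := (Subgroup.mem_centralizer_iff.mp hk.1) (m⁻¹ * v * m⁻¹⁻¹)
            (hVn.conj_mem v hv m⁻¹)
          calc v * (m * k * m⁻¹) = m * ((m⁻¹ * v * m⁻¹⁻¹) * k) * m⁻¹ := by group
            _ = m * (k * (m⁻¹ * v * m⁻¹⁻¹)) * m⁻¹ := by rw [h1]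
            _ = m * k * m⁻¹ * v := by group
        · intro v hv k hk
          have h1 := (Subgroup.mem_centralizer_iff.mp hk.1) v hv
          have : v * k * v⁻¹ = k := by rw [h1, mul_inv_cancel_right]
          rw [this]; exact hk
      have h1 : (Subgroup.centralizer (V : Set G)) ⊓ M ≤ M.normalCore :=
        Subgroup.normal_le_normalCore.mpr inf_le_right
      rw [hcore] at h1
      exact le_bot_iff.mp h1
    have hcu : c ∈ (V : Set G) * (M : Set G) := by rw [hmul]; exact Set.mem_univ c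
    obtain ⟨v, hv, m, hm, hvm⟩ := Set.mem_mul.mp hcu
    have hmc : m ∈ Subgroup.centralizer (V : Set G) := by
      rw [Subgroup.mem_centralizer_iff]
      intro w hw
      have e1 : m = v⁻¹ * c := by rw [← hvm]; group
      rw [e1]
      calc w * (v⁻¹ * c) = v⁻¹ * (w * c) := by
            rw [← mul_assoc, hcomm w hw v⁻¹ (V.inv_mem hv), mul_assoc]
        _ = v⁻¹ * (c * w) := by rw [hc w hw]
        _ = v⁻¹ * c * w := by rw [mul_assoc]
    have hm1 : m ∈ (Subgroup.centralizer (V : Set G)) ⊓ M := ⟨hmc, hm⟩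
    rw [hK2, Subgroup.mem_bot] at hm1
    rw [hm1, mul_one] at hvm
    rw [← hvm]; exact hv
  -- an element of order `p`
  obtain ⟨x, hx⟩ := exists_prime_orderOf_dvd_card' p hpG
  have hxV : x ∉ V := by
    intro h
    have h1 : p ∣ r ^ k := by
      rw [← hk, ← hx]; exact Subgroup.orderOf_dvd_natCard V h
    exact hrp ((Nat.prime_dvd_prime_iff_eq hp hr).mp (hp.dvd_of_dvd_pow h1)).symm
  haveI : Fintype V := Fintype.ofFinite _
  have hf : (PRIM.conjEnd V x) ^ p ^ 1 = 1 := by
    rw [pow_one]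
    funext v
    apply Subtype.ext
    rw [PRIM.conj_pow V x p v, ← hx, pow_orderOf_eq_one, one_mul, inv_one, mul_one]
    rfl
  have hmod0 := Equiv.Perm.card_fixedPoints_modEq (p := p) (n := 1) hf
  rw [Fintype.card_eq_nat_card, Fintype.card_eq_nat_card] at hmod0
  obtain ⟨f, hfdef⟩ : ∃ f : V → V, f = PRIM.conjEnd V x := ⟨_, rfl⟩
  have hmod : Nat.card V ≡ Nat.card (Function.fixedPoints f) [MOD p] := by
    rw [hfdef]; exact hmod0
  have hfix : Function.fixedPoints f =
      (((Subgroup.centralizer {x}).subgroupOf V : Subgroup V) : Set V) := by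
    ext v
    rw [SetLike.mem_coe, Subgroup.mem_subgroupOf, Subgroup.mem_centralizer_iff]
    constructor
    · intro h y hy
      rw [Set.mem_singleton_iff] at hy
      subst hy
      have h0 : f v = v := h
      have h1 : y * v * y⁻¹ = v := by
        rw [hfdef] at h0
        exact congrArg Subtype.val h0
      calc y * v = (y * v * y⁻¹) * y := by group
        _ = v * y := by rw [h1]
    · intro h
      show f v = v
      rw [hfdef]
      apply Subtype.ext
      rw [PRIM.conjEnd_apply, h x rfl, mul_inv_cancel_right]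
  have hcardW : Nat.card (Function.fixedPoints f) =
      Nat.card ((Subgroup.centralizer {x}).subgroupOf V : Subgroup V) := by
    rw [hfix]; rfl
  rw [hcardW, hk] at hmod
  have hdvd : Nat.card ((Subgroup.centralizer {x}).subgroupOf V : Subgroup V) ∣ r ^ k := by
    rw [← hk]; exact Subgroup.card_subgroup_dvd_card _
  obtain ⟨c, hck, hc⟩ := (Nat.dvd_prime_pow hr).mp hdvd
  have hck' : c ≠ k := by
    rintro rfl
    apply hxV
    apply hC
    intro v hv
    have h1 : ((Subgroup.centralizer {x}).subgroupOf V : Subgroup V) = ⊤ := by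
      rw [← Subgroup.card_eq_iff_eq_top, hc, hk]
    have h2 : (⟨v, hv⟩ : V) ∈ ((Subgroup.centralizer {x}).subgroupOf V : Subgroup V) := by
      rw [h1]; exact Subgroup.mem_top _
    rw [Subgroup.mem_subgroupOf, Subgroup.mem_centralizer_iff] at h2
    exact (h2 x rfl).symm
  have hlt : c < k := lt_of_le_of_ne hck hck'
  rw [hc] at hmod
  have hsplit : r ^ k = r ^ c * r ^ (k - c) := by
    rw [← pow_add]; congr 1; omega
  rw [hsplit] at hmod
  have hmod' : r ^ c * r ^ (k - c) ≡ r ^ c * 1 [MOD p] := by rw [mul_one]; exact hmod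
  have hcop : p.gcd (r ^ c) = 1 :=
    Nat.Coprime.pow_right c ((Nat.coprime_primes hp hr).mpr (fun h => hrp h.symm))
  have hfin := Nat.ModEq.cancel_left_of_coprime hcop hmod'
  rw [hidx, hk]
  refine Good.of_modEq (hr.isPrimePow.pow (by omega : k - c ≠ 0)) ?_ (Or.inr hfin)
  exact pow_dvd_pow r (Nat.sub_le k c)

end Cfsg.Agent.Helper24.WinterAlt
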